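import Cfsg.Agent.Lib.helper42.FGDefs

/-!
S1915 piece AUT (helper17): automorphisms of a cyclic 2-group of order two modulo inner.
-/

set_option autoImplicit false

namespace Cfsg.Agent.Lib.helper42.FG

variable {G : Type*} [Group G] [Finite G]

/-- If `2^(n+1) ∣ (k-1)(k+1)` then `2^n ∣ k-1` or `2^n ∣ k+1`. -/
theorem h17_aut_sq_one_mod (n : ℕ) (k : ℤ) (h : (2:ℤ) ^ (n+1) ∣ (k-1)*(k+1)) :
    (2:ℤ) ^ n ∣ k - 1 ∨ (2:ℤ) ^ n ∣ k + 1 := by
  rcases Nat.eq_zero_or_pos n with rfl | hn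
  · left; simp
  · have h2 : (2:ℤ) ∣ (k-1)*(k+1) := Dvd.dvd.trans (dvd_pow_self 2 (by omega)) h
    have hodd : k % 2 = 1 := by
      rcases Int.emod_two_eq_zero_or_one k with h0 | h1
      · exfalso
        obtain ⟨c, hc⟩ := h2
        obtain ⟨q, hq⟩ : ∃ q, k = 2 * q := ⟨k / 2, by omega⟩
        have e : (k-1)*(k+1) = 2 * (2 * q * q) - 1 := by rw [hq]; ring
        omega
      · exact h1
    have h4 : k % 4 = 1 ∨ k % 4 = 3 := by omega
    rcases h4 with h4 | h4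
    · left
      obtain ⟨m, hm⟩ : ∃ m, k + 1 = 2 * m := ⟨(k+1)/2, by omega⟩
      have hmodd : m % 2 = 1 := by omega
      have hcop : IsCoprime ((2:ℤ) ^ n) m := by
        apply IsCoprime.pow_left
        exact ⟨-(m/2), 1, by omega⟩
      have h3 : (2:ℤ) ^ n ∣ (k-1) * m := by
        have h' : (2:ℤ) ^ (n+1) ∣ 2 * ((k-1)*m) := by
          have e : (k-1)*(k+1) = 2 * ((k-1)*m) := by rw [hm]; ring
          rwa [e] at h
        rw [pow_succ, mul_comm] at h'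
        exact (mul_dvd_mul_iff_left (by norm_num)).mp h'
      exact hcop.dvd_of_dvd_mul_right h3
    · right
      obtain ⟨m, hm⟩ : ∃ m, k - 1 = 2 * m := ⟨(k-1)/2, by omega⟩
      have hmodd : m % 2 = 1 := by omega
      have hcop : IsCoprime ((2:ℤ) ^ n) m := by
        apply IsCoprime.pow_left
        exact ⟨-(m/2), 1, by omega⟩
      have h3 : (2:ℤ) ^ n ∣ (k+1) * m := by
        have h' : (2:ℤ) ^ (n+1) ∣ 2 * ((k+1)*m) := by
          have e : (k-1)*(k+1) = 2 * ((k+1)*m) := by rw [hm]; ring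
          rwa [e] at h
        rw [pow_succ, mul_comm] at h'
        exact (mul_dvd_mul_iff_left (by norm_num)).mp h'
      exact hcop.dvd_of_dvd_mul_right h3

/-- AUT -/
theorem aut_cyclic_two (b z t : G) (h2 : ∃ n : ℕ, orderOf b = 2 ^ n) (hzb : z ∈ Subgroup.zpowers b)
    (hz2 : orderOf z = 2) (htb : t * b * t⁻¹ ∈ Subgroup.zpowers b) (htt : (t * t) * b = b * (t * t)) :
    t * b * t⁻¹ = b ∨ t * b * t⁻¹ = b⁻¹ ∨ t * b * t⁻¹ = b * z ∨ t * b * t⁻¹ = b⁻¹ * z := by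
  obtain ⟨n, hn⟩ := h2
  obtain ⟨k, hk⟩ := Subgroup.mem_zpowers_iff.mp htb
  obtain ⟨j, hj⟩ := Subgroup.mem_zpowers_iff.mp hzb
  have hdvd : orderOf z ∣ orderOf b := orderOf_dvd_of_mem_zpowers hzb
  rw [hz2, hn] at hdvd
  have hn0 : n ≠ 0 := by
    rintro rfl
    simp at hdvd
  obtain ⟨m, rfl⟩ := Nat.exists_eq_succ_of_ne_zero hn0
  have hkk : b ^ (k * k) = b := by
    have h1 : t * (t * b * t⁻¹) * t⁻¹ = b := by
      have e : t * (t * b * t⁻¹) * t⁻¹ = (t * t) * b * (t⁻¹ * t⁻¹) := by group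
      rw [e, htt]; group
    calc b ^ (k * k) = (b ^ k) ^ k := zpow_mul b k k
      _ = (t * b * t⁻¹) ^ k := by rw [hk]
      _ = t * b ^ k * t⁻¹ := conj_zpow
      _ = t * (t * b * t⁻¹) * t⁻¹ := by rw [hk]
      _ = b := h1
  have hd : ((2:ℤ) ^ (m+1)) ∣ (k-1)*(k+1) := by
    have h1 : b ^ (k * k - 1) = 1 := by rw [zpow_sub, hkk, zpow_one, mul_inv_cancel]
    have h3 := orderOf_dvd_iff_zpow_eq_one.mpr h1
    rw [hn] at h3
    have e : (k-1)*(k+1) = k*k - 1 := by ring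
    rw [e]; exact_mod_cast h3
  have hz1 : z ^ (2:ℤ) = 1 := by
    have := pow_orderOf_eq_one z
    rw [hz2] at this
    rw [zpow_ofNat]; exact this
  have hzne : z ≠ 1 := by
    rintro rfl; simp at hz2
  have hc : b ^ ((2:ℤ) ^ m) = z := by
    have h1 : b ^ (j * 2) = 1 := by rw [zpow_mul, hj]; exact hz1
    have h3 := orderOf_dvd_iff_zpow_eq_one.mpr h1
    rw [hn] at h3
    have h4 : (2:ℤ) ^ m ∣ j := by
      have h5 : ((2:ℤ) ^ m) * 2 ∣ j * 2 := by rw [← pow_succ]; exact_mod_cast h3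
      exact (mul_dvd_mul_iff_right (by norm_num)).mp h5
    obtain ⟨i, rfl⟩ := h4
    have hci : (b ^ ((2:ℤ) ^ m)) ^ i = z := by rw [← zpow_mul]; exact hj
    have hc2 : (b ^ ((2:ℤ) ^ m)) ^ (2:ℤ) = 1 := by
      rw [← zpow_mul, ← pow_succ]
      have h6 := pow_orderOf_eq_one b
      rw [hn] at h6
      exact_mod_cast h6
    rcases Int.emod_two_eq_zero_or_one i with h0 | h1
    · exfalso; apply hzne
      obtain ⟨q, hq⟩ : ∃ q, i = 2 * q := ⟨i / 2, by omega⟩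
      rw [← hci, hq, zpow_mul, hc2, one_zpow]
    · obtain ⟨q, hq⟩ : ∃ q, i = 1 + 2 * q := ⟨i / 2, by omega⟩
      rw [← hci, hq, zpow_add, zpow_mul, hc2, one_zpow, zpow_one, mul_one]
  rcases h17_aut_sq_one_mod m k hd with ⟨i, hi⟩ | ⟨i, hi⟩
  · have hk' : k = 1 + 2 ^ m * i := by linarith
    have h7 : t * b * t⁻¹ = b * z ^ i := by
      rw [← hk, hk', zpow_add, zpow_one, zpow_mul, hc]
    rcases Int.emod_two_eq_zero_or_one i with h0 | h1
    · left
      obtain ⟨q, hq⟩ : ∃ q, i = 2 * q := ⟨i / 2, by omega⟩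
      rw [h7, hq, zpow_mul, hz1, one_zpow, mul_one]
    · right; right; left
      obtain ⟨q, hq⟩ : ∃ q, i = 1 + 2 * q := ⟨i / 2, by omega⟩
      rw [h7, hq, zpow_add, zpow_mul, hz1, one_zpow, mul_one, zpow_one]
  · have hk' : k = -1 + 2 ^ m * i := by linarith
    have h7 : t * b * t⁻¹ = b⁻¹ * z ^ i := by
      rw [← hk, hk', zpow_add, zpow_neg_one, zpow_mul, hc]
    rcases Int.emod_two_eq_zero_or_one i with h0 | h1
    · right; left
      obtain ⟨q, hq⟩ : ∃ q, i = 2 * q := ⟨i / 2, by omega⟩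
      rw [h7, hq, zpow_mul, hz1, one_zpow, mul_one]
    · right; right; right
      obtain ⟨q, hq⟩ : ∃ q, i = 1 + 2 * q := ⟨i / 2, by omega⟩
      rw [h7, hq, zpow_add, zpow_mul, hz1, one_zpow, mul_one, zpow_one]

end Cfsg.Agent.Lib.helper42.FG
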