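import Mathlib
import Cfsg.Agent.Lib.helper74.TBGroup
import Cfsg.Agent.Lib.helper74.TBBasic

set_option autoImplicit false

/-!
# S4441 / S0960, sub-project SP-B (helper17): helper lemmas on the trace map

The canonical module for piece BF (`tb_basic`, `tb_basic_F`, `tb_basic_N`) is
`Cfsg.Agent.Lib.helper74.TBBasic`, imported here.  This file only keeps the reusable helper lemmas
`tbbf_*` on sums of indicator functions over a subgroup.
-/

namespace Cfsg.Agent.Lib.helper74.TB

open Cfsg.Agent.Lib.helper84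

section tbbf

variable {G : Type*} [Group G] [Fintype G] {L : Type*} [AddCommGroup L]

theorem tbbf_tr_apply (ρ : Representation ℤ G L) (P : Subgroup G) (v : L) :
    d1Tr ρ P v = ∑ y : G, Set.indicator (P : Set G) (fun y => ρ y v) y := by
  classical
  unfold d1Tr
  rw [LinearMap.sum_apply]
  apply Finset.sum_congr rfl
  intro y _
  by_cases hy : y ∈ (P : Set G)
  · rw [Set.indicator_of_mem hy, Set.indicator_of_mem hy]
  · rw [Set.indicator_of_notMem hy, Set.indicator_of_notMem hy, LinearMap.zero_apply]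

/-- Reindexing an indicator sum along a bijection of `G` preserving `P`. -/
theorem tbbf_sum_reindex (P : Subgroup G) {M : Type*} [AddCommMonoid M] (e : G ≃ G)
    (he : ∀ y, e y ∈ P ↔ y ∈ P) (f : G → M) :
    ∑ y : G, Set.indicator (P : Set G) (fun y => f (e y)) y =
      ∑ y : G, Set.indicator (P : Set G) f y := by
  classical
  rw [← Equiv.sum_comp e (fun y => Set.indicator (P : Set G) f y)]
  apply Finset.sum_congr rfl
  intro y _
  by_cases hy : y ∈ (P : Set G)
  · rw [Set.indicator_of_mem hy,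
      Set.indicator_of_mem (show e y ∈ (P : Set G) from (he y).mpr hy)]
  · rw [Set.indicator_of_notMem hy,
      Set.indicator_of_notMem (show e y ∉ (P : Set G) from fun h => hy ((he y).mp h))]

theorem tbbf_ind_congr (P : Subgroup G) {M : Type*} [AddCommMonoid M] (f g : G → M)
    (h : ∀ y ∈ P, f y = g y) :
    ∑ y : G, Set.indicator (P : Set G) f y = ∑ y : G, Set.indicator (P : Set G) g y :=
  Finset.sum_congr rfl (fun y _ => by
    by_cases hy : y ∈ (P : Set G)
    · rw [Set.indicator_of_mem hy, Set.indicator_of_mem hy, h y hy]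
    · rw [Set.indicator_of_notMem hy, Set.indicator_of_notMem hy])

theorem tbbf_map_sum_ind (P : Subgroup G) {M M' : Type*} [AddCommGroup M] [AddCommGroup M']
    (T : M →ₗ[ℤ] M') (f : G → M) :
    T (∑ y : G, Set.indicator (P : Set G) f y) =
      ∑ y : G, Set.indicator (P : Set G) (fun y => T (f y)) y := by
  rw [map_sum]
  exact Finset.sum_congr rfl (fun y _ => by
    by_cases hy : y ∈ (P : Set G)
    · rw [Set.indicator_of_mem hy, Set.indicator_of_mem hy]
    · rw [Set.indicator_of_notMem hy, Set.indicator_of_notMem hy, map_zero])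

theorem tbbf_sum_ind_sub (P : Subgroup G) {M : Type*} [AddCommGroup M] (f g : G → M) :
    ∑ y : G, Set.indicator (P : Set G) (fun y => f y - g y) y =
      ∑ y : G, Set.indicator (P : Set G) f y - ∑ y : G, Set.indicator (P : Set G) g y := by
  rw [← Finset.sum_sub_distrib]
  exact Finset.sum_congr rfl (fun y _ => by
    by_cases hy : y ∈ (P : Set G)
    · rw [Set.indicator_of_mem hy, Set.indicator_of_mem hy, Set.indicator_of_mem hy]
    · rw [Set.indicator_of_notMem hy, Set.indicator_of_notMem hy, Set.indicator_of_notMem hy,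
        sub_zero])

theorem tbbf_sum_ind_const (P : Subgroup G) {M : Type*} [AddCommGroup M] (v : M) :
    ∑ y : G, Set.indicator (P : Set G) (fun _ => v) y = (Nat.card P : ℤ) • v := by
  classical
  simp only [Set.indicator_apply, SetLike.mem_coe]
  rw [Finset.sum_ite, Finset.sum_const, Finset.sum_const_zero, add_zero]
  have hc : (Finset.univ.filter (fun y : G => y ∈ P)).card = Nat.card P := by
    rw [Nat.card_eq_fintype_card]
    exact (Fintype.card_of_subtype _ (fun x => by simp)).symm
  rw [hc, natCast_zsmul]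

theorem tbbf_sum_ind_mem (P : Subgroup G) {M : Type*} [AddCommGroup M] (N : Submodule ℤ M)
    (f : G → M) (h : ∀ y ∈ P, f y ∈ N) :
    ∑ y : G, Set.indicator (P : Set G) f y ∈ N := by
  apply Submodule.sum_mem
  intro y _
  by_cases hy : y ∈ (P : Set G)
  · rw [Set.indicator_of_mem hy]; exact h y hy
  · rw [Set.indicator_of_notMem hy]; exact N.zero_mem

/-- `σ ∘ ρ y = σ` for `y ∈ P`. -/
theorem tbbf_tr_rho (ρ : Representation ℤ G L) (P : Subgroup G) (y : G) (hy : y ∈ P) (v : L) :
    d1Tr ρ P (ρ y v) = d1Tr ρ P v := by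
  rw [tbbf_tr_apply, tbbf_tr_apply]
  rw [← tbbf_sum_reindex P (Equiv.mulRight y) (fun z => Subgroup.mul_mem_cancel_right P hy)
    (fun w => ρ w v)]
  apply tbbf_ind_congr
  intro z _
  rw [Equiv.coe_mulRight, map_mul]
  rfl

/-- `ρ y ∘ σ = σ` for `y ∈ P`. -/
theorem tbbf_rho_tr (ρ : Representation ℤ G L) (P : Subgroup G) (y : G) (hy : y ∈ P) (v : L) :
    ρ y (d1Tr ρ P v) = d1Tr ρ P v := by
  rw [tbbf_tr_apply, tbbf_map_sum_ind]
  rw [← tbbf_sum_reindex P (Equiv.mulLeft y) (fun z => Subgroup.mul_mem_cancel_left P hy)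
    (fun w => ρ w v)]
  apply tbbf_ind_congr
  intro z _
  rw [Equiv.coe_mulLeft, map_mul]
  rfl

/-- A linear map commuting with `ρ y` for all `y ∈ P` commutes with the trace. -/
theorem tbbf_comm_tr (ρ : Representation ℤ G L) (P : Subgroup G) (F : L →ₗ[ℤ] L)
    (hF : ∀ y ∈ P, ∀ v : L, F (ρ y v) = ρ y (F v)) (v : L) :
    F (d1Tr ρ P v) = d1Tr ρ P (F v) := by
  rw [tbbf_tr_apply, tbbf_tr_apply, tbbf_map_sum_ind]
  apply tbbf_ind_congr
  intro z hz
  exact hF z hz v

/-- `ρ n ∘ σ = σ ∘ ρ n` for `n` normalizing `P`. -/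
theorem tbbf_norm_tr (ρ : Representation ℤ G L) (P : Subgroup G) (n : G)
    (hn : n ∈ Subgroup.normalizer (P : Set G)) (v : L) :
    ρ n (d1Tr ρ P v) = d1Tr ρ P (ρ n v) := by
  rw [tbbf_tr_apply, tbbf_tr_apply, tbbf_map_sum_ind]
  rw [← tbbf_sum_reindex P (MulAut.conj n).toEquiv
    (fun z => ((Subgroup.mem_normalizer_iff.mp hn) z).symm) (fun w => ρ w (ρ n v))]
  apply tbbf_ind_congr
  intro z _
  have h1 : (MulAut.conj n).toEquiv z = n * z * n⁻¹ := rfl
  rw [h1]
  change ρ n (ρ z v) = ρ (n * z * n⁻¹) (ρ n v)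
  rw [← Module.End.mul_apply, ← Module.End.mul_apply, ← map_mul, ← map_mul]
  congr 2
  group

end tbbf

end Cfsg.Agent.Lib.helper74.TB
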