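import Mathlib
import Cfsg.Agent.Lib.helper74.TBBasic
import Cfsg.Agent.Lib.helper80.TB_ORB
import Cfsg.Agent.Lib.helper17.TB_BF

set_option autoImplicit false

/-!
# S4441 / S0960, sub-project SP-B, piece MK2 (helper17): equivariant families over a `G`-set

`tb_equivariant_family` (exact skeleton statement).
-/

namespace Cfsg.Agent.Lib.helper74.TB

open Cfsg.Agent.Lib.helper84

section tbmk

variable {G : Type*} [Group G] [Fintype G] {L : Type*} [AddCommGroup L]

theorem tbmk_tr_subtype (ρ : Representation ℤ G L) (Q : Subgroup G) [Fintype ↥Q] (v : L) :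
    d1Tr ρ Q v = ∑ y : ↥Q, ρ (y : G) v := by
  classical
  rw [tbbf_tr_apply]
  simp only [Set.indicator_apply, SetLike.mem_coe]
  rw [Finset.sum_ite, Finset.sum_const_zero, add_zero]
  exact Finset.sum_subtype (Finset.univ.filter (fun y : G => y ∈ Q)) (fun x => by simp)
    (fun y => ρ y v)

theorem tbmk_bezout (N : Submodule ℤ L) (X : L) (m n : ℤ) (h : IsCoprime m n)
    (h1 : m • X ∈ N) (h2 : n • X ∈ N) : X ∈ N := by
  obtain ⟨a, b, hab⟩ := h
  have : X = a • (m • X) + b • (n • X) := by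
    rw [smul_smul, smul_smul, ← add_smul, hab, one_smul]
  rw [this]
  exact N.add_mem (N.smul_mem a h1) (N.smul_mem b h2)

/-- The trace of a fixed vector. -/
theorem tbmk_tr_fixed (ρ : Representation ℤ G L) (Q : Subgroup G) (X : L)
    (hX : ∀ k ∈ Q, ρ k X = X) : d1Tr ρ Q X = (Nat.card Q : ℤ) • X := by
  rw [tbbf_tr_apply, tbbf_ind_congr Q (fun y => ρ y X) (fun _ => X) hX, tbbf_sum_ind_const]

end tbmk

section setting

variable {G : Type*} [Group G] [Fintype G] (p : ℕ) [Fact p.Prime] (P : Sylow p G)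
  (hP : Nat.card P = p) {L : Type*} [AddCommGroup L] (ρ : Representation ℤ G L)

include hP

/-- PIECE MK2 (equivariant family over a `G`-set). -/
theorem tb_equivariant_family {Ω : Type*} [Fintype Ω] [MulAction G Ω] (H : Ω → (L →ₗ[ℤ] L))
    (hH : ∀ (g : G) (q : Ω), H (g • q) = ρ g ∘ₗ H q ∘ₗ ρ g⁻¹) (Fix : Finset Ω)
    (hFix : ∀ q, q ∈ Fix ↔ ∀ y ∈ (P : Subgroup G), y • q = q) :
    (∀ g : G, (∑ q, H q) ∘ₗ ρ g = ρ g ∘ₗ (∑ q, H q)) ∧
    (∀ v ∈ d1FixC ρ (P : Subgroup G),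
      (∑ q, H q) v - (∑ q ∈ Fix, H q) v ∈ tbSA p ρ (P : Subgroup G)) ∧
    (∀ v ∈ tbB p ρ (P : Subgroup G),
      (∑ q, H q) v - (∑ q ∈ Fix, H q) v ∈ d1Aug p ρ (P : Subgroup G)) := by
  classical
  have hp : p.Prime := Fact.out
  obtain ⟨K, hK, hKp, hPC, hdec⟩ := tb_centralizer_structure p P hP
  obtain ⟨b1, b2, b3, b4, b5, b6, b7, b8⟩ := tb_basic p P hP ρ
  haveI : Fintype ↥(P : Subgroup G) := Fintype.ofFinite _
  haveI : Fintype ↥K := Fintype.ofFinite _
  have hinv : ∀ (g : G) (v : L), ρ g⁻¹ (ρ g v) = v := by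
    intro g v
    rw [← Module.End.mul_apply, ← map_mul, inv_mul_cancel, map_one, Module.End.one_apply]
  have hH1 : ∀ (g : G) (q : Ω) (v : L), H (g • q) v = ρ g (H q (ρ g⁻¹ v)) := by
    intro g q v
    rw [hH g q]
    rfl
  have hH2 : ∀ (g : G) (q : Ω) (v : L), ρ g (H q v) = H (g • q) (ρ g v) := by
    intro g q v
    rw [hH1, hinv]
  obtain ⟨δ, hδ⟩ : ∃ δ : L →ₗ[ℤ] L, δ = ∑ q, H q := ⟨_, rfl⟩
  obtain ⟨φ, hφ⟩ : ∃ φ : L →ₗ[ℤ] L, φ = ∑ q ∈ Fix, H q := ⟨_, rfl⟩
  rw [← hδ, ← hφ]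
  have hδv : ∀ v, δ v = ∑ q, H q v := fun v => by rw [hδ, LinearMap.sum_apply]
  have hφv : ∀ v, φ v = ∑ q ∈ Fix, H q v := fun v => by rw [hφ, LinearMap.sum_apply]
  -- `δ` is `G`-linear
  have hδG : ∀ (g : G) (v : L), δ (ρ g v) = ρ g (δ v) := by
    intro g v
    have e1 : δ (ρ g v) = ∑ q, H q (ρ g v) := hδv _
    have e2 : ρ g (δ v) = ∑ q, ρ g (H q v) := by rw [hδv, map_sum]
    rw [e1, e2, ← Equiv.sum_comp (MulAction.toPerm g) (fun q => H q (ρ g v))]
    apply Finset.sum_congr rfl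
    intro q _
    exact (hH2 g q v).symm
  -- the centralizer of `P` preserves `Fix`
  have hFixC : ∀ c ∈ Subgroup.centralizer ((P : Subgroup G) : Set G), ∀ q,
      c • q ∈ Fix ↔ q ∈ Fix := by
    intro c hc q
    rw [hFix, hFix]
    constructor
    · intro h y hy
      have h1 := h y hy
      have hcomm : y * c = c * y := Subgroup.mem_centralizer_iff.mp hc y hy
      rw [← mul_smul, hcomm, mul_smul] at h1
      exact smul_left_cancel c h1
    · intro h y hy
      have hcomm : y * c = c * y := Subgroup.mem_centralizer_iff.mp hc y hy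
      rw [← mul_smul, hcomm, mul_smul, h y hy]
  have hφC : ∀ c ∈ Subgroup.centralizer ((P : Subgroup G) : Set G), ∀ v : L,
      ρ c (φ v) = φ (ρ c v) := by
    intro c hc v
    have e1 : ρ c (φ v) = ∑ q ∈ Fix, H (c • q) (ρ c v) := by
      rw [hφv, map_sum]
      exact Finset.sum_congr rfl (fun q _ => hH2 c q v)
    rw [e1, hφv]
    exact Finset.sum_equiv (MulAction.toPerm c) (fun q => (hFixC c hc q).symm) (fun q _ => rfl)
  have hXC : ∀ c ∈ Subgroup.centralizer ((P : Subgroup G) : Set G), ∀ v : L, ρ c v = v →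
      ρ c (δ v - φ v) = δ v - φ v := by
    intro c hc v hv
    rw [map_sub, ← hδG, hφC c hc, hv]
  -- orbit decomposition
  obtain ⟨Fix', R, hFix', hsum⟩ :=
    tb_orbit_sum (Q := ↥(P : Subgroup G)) (Ω := Ω) p hP (M := L)
  have hFixeq : Fix' = Fix := by
    ext q
    rw [hFix', hFix]
    constructor
    · intro h y hy; exact h ⟨y, hy⟩
    · intro h y; exact h y y.2
  rw [hFixeq] at hsum
  have hX : ∀ v : L, δ v - φ v = ∑ r ∈ R, ∑ y : ↥(P : Subgroup G), H ((y : G) • r) v := by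
    intro v
    rw [hδv, hφv, hsum (fun q => H q v), add_sub_cancel_left]
    rfl
  have hbez : IsCoprime (p : ℤ) (Nat.card K : ℤ) :=
    Nat.isCoprime_iff_coprime.mpr ((Nat.Prime.coprime_iff_not_dvd hp).mpr hKp)
  have hKmem : ∀ k ∈ K, k ∈ Subgroup.centralizer ((P : Subgroup G) : Set G) ∧ ¬ p ∣ orderOf k :=
    fun k hk => (hK k).mp hk
  have hσC : ∀ c ∈ Subgroup.centralizer ((P : Subgroup G) : Set G), ∀ w : L,
      ρ c (d1Tr ρ (P : Subgroup G) w) = d1Tr ρ (P : Subgroup G) (ρ c w) := by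
    intro c hc w
    exact tbbf_comm_tr ρ (P : Subgroup G) (ρ c) (fun y hy u => by
      have hcomm : y * c = c * y := Subgroup.mem_centralizer_iff.mp hc y hy
      rw [← Module.End.mul_apply, ← Module.End.mul_apply, ← map_mul, ← map_mul, hcomm]) w
  have hKσ : ∀ w : L, d1Tr ρ K (d1Tr ρ (P : Subgroup G) w) =
      d1Tr ρ (P : Subgroup G) (d1Tr ρ K w) := by
    intro w
    exact (tbbf_comm_tr ρ K (d1Tr ρ (P : Subgroup G))
      (fun k hk u => (hσC k (hKmem k hk).1 u).symm) w).symm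
  have hTrK_A : ∀ w : L, d1Tr ρ K w ∈ d1FixK p ρ (P : Subgroup G) := by
    intro w c hc hcp
    exact tbbf_rho_tr ρ K c ((hK c).mpr ⟨hc, hcp⟩) w
  refine ⟨fun g => LinearMap.ext (fun v => by
    rw [LinearMap.comp_apply, LinearMap.comp_apply, hδG]), ?_, ?_⟩
  · -- (a)
    intro v hv
    have hXfix : ∀ c ∈ Subgroup.centralizer ((P : Subgroup G) : Set G),
        ρ c (δ v - φ v) = δ v - φ v := fun c hc => hXC c hc v (hv c hc)
    have h1 : (p : ℤ) • (δ v - φ v) ∈ tbSA p ρ (P : Subgroup G) := b4 _ hXfix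
    have h2 : (Nat.card K : ℤ) • (δ v - φ v) ∈ tbSA p ρ (P : Subgroup G) := by
      rw [← tbmk_tr_fixed ρ K (δ v - φ v) (fun k hk => hXfix k (hKmem k hk).1)]
      have hXσ : δ v - φ v = d1Tr ρ (P : Subgroup G) (∑ r ∈ R, H r v) := by
        rw [hX, map_sum]
        apply Finset.sum_congr rfl
        intro r _
        rw [tbmk_tr_subtype]
        apply Finset.sum_congr rfl
        intro y _
        rw [hH1, hv _ (hPC (inv_mem y.2))]
      rw [hXσ, hKσ, mem_tbSA]
      exact ⟨_, hTrK_A _, rfl⟩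
    exact tbmk_bezout _ _ _ _ hbez h1 h2
  · -- (b)
    intro v hv
    rw [mem_tbB] at hv
    obtain ⟨hvA, hvσ⟩ := hv
    have hXA : δ v - φ v ∈ d1FixK p ρ (P : Subgroup G) :=
      fun c hc hcp => hXC c hc v (hvA c hc hcp)
    have hσX : d1Tr ρ (P : Subgroup G) (δ v - φ v) = 0 := by
      rw [map_sub, ← tbbf_comm_tr ρ (P : Subgroup G) δ (fun y _ u => hδG y u) v,
        ← tbbf_comm_tr ρ (P : Subgroup G) φ (fun y hy u => (hφC y (hPC hy) u).symm) v, hvσ,
        map_zero, map_zero, sub_zero]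
    have h1 : (p : ℤ) • (δ v - φ v) ∈ d1Aug p ρ (P : Subgroup G) :=
      b6 _ ((mem_tbB _ _ _ _).mpr ⟨hXA, hσX⟩)
    have h2 : (Nat.card K : ℤ) • (δ v - φ v) ∈ d1Aug p ρ (P : Subgroup G) := by
      rw [← tbmk_tr_fixed ρ K (δ v - φ v)
        (fun k hk => hXA k (hKmem k hk).1 (hKmem k hk).2)]
      rw [tbmk_tr_subtype, hX]
      simp only [map_sum]
      rw [Finset.sum_comm]
      apply Submodule.sum_mem
      intro r _
      rw [Finset.sum_comm]
      obtain ⟨H', hH'⟩ : ∃ H' : L →ₗ[ℤ] L, H' = ∑ k : ↥K, H ((k : G) • r) := ⟨_, rfl⟩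
      have hH'v : ∀ w, H' w = ∑ k : ↥K, H ((k : G) • r) w := fun w => by
        rw [hH', LinearMap.sum_apply]
      have hterm : ∀ y : ↥(P : Subgroup G), ∑ k : ↥K, ρ (k : G) (H ((y : G) • r) v) =
          ρ (y : G) (H' (ρ (y : G)⁻¹ v)) := by
        intro y
        rw [hH'v, map_sum]
        apply Finset.sum_congr rfl
        intro k _
        have hkC := (hKmem k k.2).1
        have hcomm : (y : G) * (k : G) = (k : G) * (y : G) :=
          Subgroup.mem_centralizer_iff.mp hkC y y.2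
        have e : (k : G) • (y : G) • r = (y : G) • (k : G) • r := by
          rw [← mul_smul, ← mul_smul, hcomm]
        calc ρ (k : G) (H ((y : G) • r) v) = H ((k : G) • (y : G) • r) (ρ (k : G) v) :=
              hH2 _ _ v
          _ = H ((k : G) • (y : G) • r) v := by rw [hvA k hkC (hKmem k k.2).2]
          _ = H ((y : G) • (k : G) • r) v := by rw [e]
          _ = ρ (y : G) (H ((k : G) • r) (ρ (y : G)⁻¹ v)) := hH1 _ _ v
      rw [Finset.sum_congr rfl (fun y _ => hterm y)]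
      have hH'A : ∀ a ∈ d1FixK p ρ (P : Subgroup G), H' a ∈ d1FixK p ρ (P : Subgroup G) := by
        intro a ha c hc hcp
        have hcK : c ∈ K := (hK c).mpr ⟨hc, hcp⟩
        have e1 : ρ c (H' a) = ∑ k : ↥K, H ((c * (k : G)) • r) a := by
          rw [hH'v, map_sum]
          apply Finset.sum_congr rfl
          intro k _
          rw [hH2, ha c hc hcp, mul_smul]
        rw [e1, hH'v]
        exact Equiv.sum_comp (Equiv.mulLeft (⟨c, hcK⟩ : ↥K)) (fun k : ↥K => H ((k : G) • r) a)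
      have hsplit : ∑ y : ↥(P : Subgroup G), ρ (y : G) (H' (ρ (y : G)⁻¹ v)) =
          ∑ y : ↥(P : Subgroup G), (ρ (y : G) (H' (ρ (y : G)⁻¹ v)) - H' (ρ (y : G)⁻¹ v)) +
          ∑ y : ↥(P : Subgroup G), H' (ρ (y : G)⁻¹ v) := by
        rw [← Finset.sum_add_distrib]
        exact Finset.sum_congr rfl (fun y _ => (sub_add_cancel _ _).symm)
      have hzero : ∑ y : ↥(P : Subgroup G), H' (ρ (y : G)⁻¹ v) = 0 := by
        rw [← map_sum]
        have e2 : ∑ y : ↥(P : Subgroup G), ρ (y : G)⁻¹ v = d1Tr ρ (P : Subgroup G) v := by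
          rw [tbmk_tr_subtype]
          exact Equiv.sum_comp (Equiv.inv ↥(P : Subgroup G))
            (fun y : ↥(P : Subgroup G) => ρ (y : G) v)
        rw [e2, hvσ, map_zero]
      rw [hsplit, hzero, add_zero]
      apply Submodule.sum_mem
      intro y _
      exact Submodule.subset_span ⟨y, y.2, _, hH'A _ (b7 _ (inv_mem y.2) v hvA), rfl⟩
    exact tbmk_bezout _ _ _ _ hbez h1 h2

end setting

end Cfsg.Agent.Lib.helper74.TB
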