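import Mathlib
import Cfsg.Prelude.Def_ClassicalGeometry
import Cfsg.Agent.Lib.helper17.Symp4

set_option autoImplicit false

namespace Cfsg.Agent.Lib.helper17

open Cfsg Matrix
open scoped LinearAlgebra.Projectivization Pointwise

section

variable {F : Type*} [Field F] (m : ℕ)

/-- Every symplectic matrix gives an element of `spGL`. -/
theorem exists_spGL {A : Matrix (Fin m ⊕ Fin m) (Fin m ⊕ Fin m) F}
    (hA : A ∈ Matrix.symplecticGroup (Fin m) F) :
    ∃ g : spGL m F, ((g : Matrix.GeneralLinearGroup (Fin m ⊕ Fin m) F) :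
      Matrix (Fin m ⊕ Fin m) (Fin m ⊕ Fin m) F) = A := by
  have hdet : A.det ≠ 0 := (SymplecticGroup.symplectic_det hA).ne_zero
  refine ⟨⟨Matrix.GeneralLinearGroup.mkOfDetNeZero A hdet, ?_⟩, rfl⟩
  intro u v
  exact sympForm_mulVec_of_mem m hA u v

/-- `spGL` is transitive on hyperbolic pairs. -/
theorem spGL_transitive_pairs (u v u' v' : Fin m ⊕ Fin m → F) (h : sympForm m F u v = 1)
    (h' : sympForm m F u' v' = 1) :
    ∃ g : spGL m F, ((g : Matrix.GeneralLinearGroup (Fin m ⊕ Fin m) F) :
      Matrix (Fin m ⊕ Fin m) (Fin m ⊕ Fin m) F) *ᵥ u = u' ∧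
      ((g : Matrix.GeneralLinearGroup (Fin m ⊕ Fin m) F) :
      Matrix (Fin m ⊕ Fin m) (Fin m ⊕ Fin m) F) *ᵥ v = v' := by
  obtain ⟨A, -, hAu, hAv⟩ := transv_transitive_pairs m u v u' v' h h'
  obtain ⟨g, hg⟩ := exists_spGL m A.2
  exact ⟨g, by rw [hg]; exact hAu, by rw [hg]; exact hAv⟩

/-- `spGL` is transitive on non-zero vectors. -/
theorem spGL_transitive_vectors (u u' : Fin m ⊕ Fin m → F) (hu : u ≠ 0) (hu' : u' ≠ 0) :
    ∃ g : spGL m F, ((g : Matrix.GeneralLinearGroup (Fin m ⊕ Fin m) F) :
      Matrix (Fin m ⊕ Fin m) (Fin m ⊕ Fin m) F) *ᵥ u = u' := by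
  obtain ⟨A, -, hAu⟩ := transv_transitive_vectors m u u' hu hu'
  obtain ⟨g, hg⟩ := exists_spGL m A.2
  exact ⟨g, by rw [hg]; exact hAu⟩

/-- The action of `spGL` on a projective point. -/
theorem spGL_smul_mk (g : spGL m F) (v : Fin m ⊕ Fin m → F) (hv : v ≠ 0)
    (hv' : ((g : Matrix.GeneralLinearGroup (Fin m ⊕ Fin m) F) :
      Matrix (Fin m ⊕ Fin m) (Fin m ⊕ Fin m) F) *ᵥ v ≠ 0) :
    g • Projectivization.mk F v hv = Projectivization.mk F
      (((g : Matrix.GeneralLinearGroup (Fin m ⊕ Fin m) F) :
      Matrix (Fin m ⊕ Fin m) (Fin m ⊕ Fin m) F) *ᵥ v) hv' :=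
  rfl

theorem mulVec_ne_zero_of_spGL (g : spGL m F) (v : Fin m ⊕ Fin m → F) (hv : v ≠ 0) :
    ((g : Matrix.GeneralLinearGroup (Fin m ⊕ Fin m) F) :
      Matrix (Fin m ⊕ Fin m) (Fin m ⊕ Fin m) F) *ᵥ v ≠ 0 := by
  intro h0
  apply hv
  have := congrArg (fun x => (((g : Matrix.GeneralLinearGroup (Fin m ⊕ Fin m) F)⁻¹ :
    Matrix.GeneralLinearGroup (Fin m ⊕ Fin m) F) :
      Matrix (Fin m ⊕ Fin m) (Fin m ⊕ Fin m) F) *ᵥ x) h0
  simp only [Matrix.mulVec_mulVec, Matrix.mulVec_zero] at this
  rw [← Units.val_mul, inv_mul_cancel, Units.val_one, Matrix.one_mulVec] at this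
  exact this

/-- Scaling a vector does not change the projective point. -/
theorem mk_smul_eq (a : F) (ha : a ≠ 0) (v : Fin m ⊕ Fin m → F) (hv : v ≠ 0)
    (hav : a • v ≠ 0) :
    Projectivization.mk F (a • v) hav = Projectivization.mk F v hv := by
  rw [Projectivization.mk_eq_mk_iff]
  exact ⟨Units.mk0 a ha, rfl⟩

/-- Key step: a block containing two non-orthogonal points contains all points non-orthogonal to
the first one. -/
theorem block_step (B : Set (ℙ F (Fin m ⊕ Fin m → F))) (hB : MulAction.IsBlock (spGL m F) B)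
    (u u' x : Fin m ⊕ Fin m → F) (hu : u ≠ 0) (hu' : u' ≠ 0) (hx : x ≠ 0)
    (huB : Projectivization.mk F u hu ∈ B) (hu'B : Projectivization.mk F u' hu' ∈ B)
    (huu' : sympForm m F u u' ≠ 0) (hux : sympForm m F u x ≠ 0) :
    Projectivization.mk F x hx ∈ B := by
  have h1 : sympForm m F u ((sympForm m F u u')⁻¹ • u') = 1 := by
    rw [sympForm_smul_right, inv_mul_cancel₀ huu']
  have h2 : sympForm m F u ((sympForm m F u x)⁻¹ • x) = 1 := by
    rw [sympForm_smul_right, inv_mul_cancel₀ hux]
  obtain ⟨g, hgu, hgu'⟩ := spGL_transitive_pairs m u _ u _ h1 h2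
  have hgB : g • B = B := by
    apply hB.smul_eq_of_mem huB
    rw [spGL_smul_mk m g u hu (mulVec_ne_zero_of_spGL m g u hu)]
    simp only [hgu]
    exact huB
  have hne1 : (sympForm m F u u')⁻¹ • u' ≠ 0 := smul_ne_zero (inv_ne_zero huu') hu'
  have hne2 : (sympForm m F u x)⁻¹ • x ≠ 0 := smul_ne_zero (inv_ne_zero hux) hx
  have hmem : Projectivization.mk F ((sympForm m F u u')⁻¹ • u') hne1 ∈ B := by
    rw [mk_smul_eq m _ (inv_ne_zero huu') u' hu']
    exact hu'B
  have hmem2 : g • Projectivization.mk F ((sympForm m F u u')⁻¹ • u') hne1 ∈ g • B :=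
    Set.smul_mem_smul_set hmem
  rw [hgB, spGL_smul_mk m g _ hne1 (mulVec_ne_zero_of_spGL m g _ hne1)] at hmem2
  simp only [hgu'] at hmem2
  rw [mk_smul_eq m _ (inv_ne_zero hux) x hx] at hmem2
  exact hmem2

/-- A block containing two non-orthogonal points is everything. -/
theorem block_eq_univ_of_nonorth (B : Set (ℙ F (Fin m ⊕ Fin m → F)))
    (hB : MulAction.IsBlock (spGL m F) B)
    (u u' : Fin m ⊕ Fin m → F) (hu : u ≠ 0) (hu' : u' ≠ 0)
    (huB : Projectivization.mk F u hu ∈ B) (hu'B : Projectivization.mk F u' hu' ∈ B)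
    (huu' : sympForm m F u u' ≠ 0) : B = Set.univ := by
  rw [Set.eq_univ_iff_forall]
  intro p
  induction p using Projectivization.ind with
  | h y hy =>
    by_cases huy : sympForm m F u y = 0
    · -- find `x` non-orthogonal to both `u` and `y`
      obtain ⟨x, hx1, hx2⟩ : ∃ x, sympForm m F u x ≠ 0 ∧ sympForm m F y x ≠ 0 := by
        obtain ⟨w₂, hw₂⟩ := exists_sympForm_ne_zero m y hy
        by_cases h1 : sympForm m F y u' = 0
        · by_cases h2 : sympForm m F u w₂ = 0
          · refine ⟨u' + w₂, ?_, ?_⟩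
            · rw [sympForm_add_right, h2, add_zero]; exact huu'
            · rw [sympForm_add_right, h1, zero_add]; exact hw₂
          · exact ⟨w₂, h2, hw₂⟩
        · exact ⟨u', huu', h1⟩
      have hx0 : x ≠ 0 := by
        rintro rfl
        rw [sympForm_zero_right] at hx1
        exact hx1 rfl
      have hxB := block_step m B hB u u' x hu hu' hx0 huB hu'B huu' hx1
      have hxu : sympForm m F x u ≠ 0 := by
        rw [sympForm_swap]; exact neg_ne_zero.mpr hx1
      have hxy : sympForm m F x y ≠ 0 := by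
        rw [sympForm_swap]; exact neg_ne_zero.mpr hx2
      exact block_step m B hB x u y hx0 hu hy hxB huB hxu hxy
    · exact block_step m B hB u u' y hu hu' hy huB hu'B huu' huy

/-- If `u` is not a multiple of `u'`, some vector is orthogonal to `u'` but not to `u`. -/
theorem exists_orth_not_orth (u u' : Fin m ⊕ Fin m → F) (hu : u ≠ 0) (hu' : u' ≠ 0)
    (hne : ∀ c : F, u ≠ c • u') :
    ∃ w, sympForm m F u' w = 0 ∧ sympForm m F u w ≠ 0 := by
  by_contra hcon
  push Not at hcon
  obtain ⟨s₀, hs₀⟩ := exists_sympForm_ne_zero m u' hu'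
  have hs : sympForm m F u' ((sympForm m F u' s₀)⁻¹ • s₀) = 1 := by
    rw [sympForm_smul_right, inv_mul_cancel₀ hs₀]
  set s := (sympForm m F u' s₀)⁻¹ • s₀ with hs_def
  have key : ∀ x, sympForm m F (u - sympForm m F u s • u') x = 0 := by
    intro x
    have h1 : sympForm m F u' (x - sympForm m F u' x • s) = 0 := by
      rw [sympForm_sub_right, sympForm_smul_right, hs, mul_one, sub_self]
    have h2 := hcon _ h1
    rw [sympForm_sub_right, sympForm_smul_right] at h2
    rw [sympForm_sub_left, sympForm_smul_left]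
    linear_combination h2
  have hzero : u - sympForm m F u s • u' = 0 := by
    by_contra hnz
    obtain ⟨w, hw⟩ := exists_sympForm_ne_zero m _ hnz
    exact hw (key w)
  exact hne _ (sub_eq_zero.mp hzero)

/-- The symplectic group acts primitively on projective space. -/
theorem spGL_isPreprimitive (hm : 1 ≤ m) :
    MulAction.IsPreprimitive (spGL m F) (ℙ F (Fin m ⊕ Fin m → F)) := by
  have htrans : MulAction.IsPretransitive (spGL m F) (ℙ F (Fin m ⊕ Fin m → F)) := by
    constructor
    intro p p'
    induction p using Projectivization.ind with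
    | h u hu =>
      induction p' using Projectivization.ind with
      | h u' hu' =>
        obtain ⟨g, hg⟩ := spGL_transitive_vectors m u u' hu hu'
        refine ⟨g, ?_⟩
        rw [spGL_smul_mk m g u hu (mulVec_ne_zero_of_spGL m g u hu)]
        simp only [hg]
  refine { toIsPretransitive := htrans, isTrivialBlock_of_isBlock := ?_ }
  intro B hB
  by_cases hsub : B.Subsingleton
  · exact Or.inl hsub
  · right
    rw [Set.not_subsingleton_iff] at hsub
    obtain ⟨p, hp, p', hp', hpp'⟩ := hsub
    induction p using Projectivization.ind with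
    | h u hu =>
      induction p' using Projectivization.ind with
      | h u' hu' =>
        by_cases huu' : sympForm m F u u' = 0
        · have hne : ∀ c : F, u ≠ c • u' := by
            intro c hc
            apply hpp'
            have hc0 : c ≠ 0 := by
              rintro rfl
              rw [zero_smul] at hc
              exact hu hc
            subst hc
            exact mk_smul_eq m c hc0 u' hu' hu
          obtain ⟨w, hw1, hw2⟩ := exists_orth_not_orth m u u' hu hu' hne
          obtain ⟨g, hg⟩ := exists_spGL m (sympTransvection_mem m w (1 : F))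
          have hgu' : ((g : Matrix.GeneralLinearGroup (Fin m ⊕ Fin m) F) :
              Matrix (Fin m ⊕ Fin m) (Fin m ⊕ Fin m) F) *ᵥ u' = u' := by
            rw [hg, sympTransvection_mulVec, hw1, mul_zero, zero_smul, add_zero]
          have hgu : ((g : Matrix.GeneralLinearGroup (Fin m ⊕ Fin m) F) :
              Matrix (Fin m ⊕ Fin m) (Fin m ⊕ Fin m) F) *ᵥ u = u + sympForm m F u w • w := by
            rw [hg, sympTransvection_mulVec, one_mul]
          have hgB : g • B = B := by
            apply hB.smul_eq_of_mem hp'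
            rw [spGL_smul_mk m g u' hu' (mulVec_ne_zero_of_spGL m g u' hu')]
            simp only [hgu']
            exact hp'
          have hmem : g • Projectivization.mk F u hu ∈ g • B := Set.smul_mem_smul_set hp
          rw [hgB, spGL_smul_mk m g u hu (mulVec_ne_zero_of_spGL m g u hu)] at hmem
          have hne0 : u + sympForm m F u w • w ≠ 0 := by
            rw [← hgu]; exact mulVec_ne_zero_of_spGL m g u hu
          have hmem' : Projectivization.mk F (u + sympForm m F u w • w) hne0 ∈ B := by
            simp only [hgu] at hmem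
            exact hmem
          have hform : sympForm m F (u + sympForm m F u w • w) u ≠ 0 := by
            rw [sympForm_add_left, sympForm_self, zero_add, sympForm_smul_left, sympForm_swap m u w]
            intro h0
            have : sympForm m F u w * sympForm m F u w = 0 := by linear_combination -h0
            exact hw2 (mul_self_eq_zero.mp this)
          exact block_eq_univ_of_nonorth m B hB _ u hne0 hu hmem' hp hform
        · exact block_eq_univ_of_nonorth m B hB u u' hu hu' hp hp' huu'

end

end Cfsg.Agent.Lib.helper17
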