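import Mathlib

/-!
# S3371 piece IDX (helper17): `ht_index_two`
-/

set_option autoImplicit false

namespace Cfsg.Agent.Lib.helper17

/-- the unique involution of a cyclic 2-group -/
theorem ht_unique_inv {G : Type*} [Group G] (x : G) (N : ℕ) (hN : 1 ≤ N)
    (hx : orderOf x = 2 ^ N) :
    ∀ c ∈ Subgroup.zpowers x, c ^ 2 = 1 → c ≠ 1 → c = x ^ (2 ^ (N - 1)) := by
  have hpowN : 2 ^ N = 2 ^ (N - 1) * 2 := by
    rw [← pow_succ]
    congr 1
    omega
  have hz2 : (x ^ (2 ^ (N - 1))) ^ 2 = 1 := by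
    rw [← pow_mul, ← hpowN, ← hx, pow_orderOf_eq_one]
  intro c hc hc2 hc1
  obtain ⟨k, rfl⟩ := Subgroup.mem_zpowers_iff.mp hc
  have h1 : x ^ (k * 2) = 1 := by
    rw [zpow_mul, zpow_two, ← pow_two]
    exact hc2
  have h2 : ((2 ^ N : ℕ) : ℤ) ∣ k * 2 := by
    rw [← hx]
    exact orderOf_dvd_iff_zpow_eq_one.mpr h1
  have h3 : ((2 ^ (N - 1) : ℕ) : ℤ) ∣ k := by
    rw [hpowN] at h2
    push_cast at h2
    exact Int.dvd_of_mul_dvd_mul_right (by norm_num) h2
  obtain ⟨m, rfl⟩ := h3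
  have h4 : x ^ (((2 ^ (N - 1) : ℕ) : ℤ) * m) = (x ^ (2 ^ (N - 1))) ^ m := by
    rw [zpow_mul, zpow_natCast]
  rw [h4] at hc1 ⊢
  rcases Int.even_or_odd' m with ⟨j, rfl | rfl⟩
  · exfalso
    apply hc1
    rw [zpow_mul, zpow_two, ← pow_two, hz2, one_zpow]
  · rw [zpow_add, zpow_one, zpow_mul, zpow_two, ← pow_two, hz2, one_zpow, one_mul]

/-- PIECE IDX -/
theorem ht_index_two {q : ℕ} [Fact q.Prime] {V : Type*} [AddCommGroup V] [Module (ZMod q) V] [Finite V]
    {G : Type*} [Group G] [Finite G] (ρ : G →* (V ≃ₗ[ZMod q] V))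
    (hC : ∀ z ∈ Subgroup.center G, z ≠ 1 → ∀ v : V, ρ z v = v → v = 0)
    (hst : ∀ v w : V, v ≠ 0 → w ≠ 0 → Nat.card {g : G // ρ g v = v} = Nat.card {g : G // ρ g w = w})
    (hns : ∃ v : V, v ≠ 0 ∧ ∃ g : G, g ≠ 1 ∧ ρ g v = v)
    (x : G) (N : ℕ) (hN : 1 ≤ N) (hx : orderOf x = 2 ^ N) (hcard : Nat.card G = 2 ^ (N + 1)) :
    (∀ v : V, ρ (x ^ (2 ^ (N - 1))) v = -v) ∧
      (∀ v : V, v ≠ 0 → Nat.card {g : G // ρ g v = v} = 2) := by
  classical
  obtain ⟨z, hz⟩ : ∃ z : G, z = x ^ (2 ^ (N - 1)) := ⟨_, rfl⟩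
  rw [← hz]
  have hpowN : 2 ^ N = 2 ^ (N - 1) * 2 := by
    rw [← pow_succ]
    congr 1
    omega
  have hz2 : z ^ 2 = 1 := by
    rw [hz, ← pow_mul, ← hpowN, ← hx, pow_orderOf_eq_one]
  have hz1 : z ≠ 1 := by
    intro h
    rw [hz] at h
    have h1 : orderOf x ∣ 2 ^ (N - 1) := orderOf_dvd_of_pow_eq_one h
    rw [hx] at h1
    have h2 := Nat.le_of_dvd (by positivity) h1
    have h3 : 2 ^ (N - 1) < 2 ^ N := Nat.pow_lt_pow_right (by norm_num) (by omega)
    omega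
  have hCcard : Nat.card (Subgroup.zpowers x) = 2 ^ N := by
    rw [Nat.card_zpowers, hx]
  have hCidx : (Subgroup.zpowers x).index = 2 := by
    have h := (Subgroup.zpowers x).card_mul_index
    rw [hCcard, hcard, pow_succ] at h
    exact Nat.eq_of_mul_eq_mul_left (by positivity) h
  have hCn : (Subgroup.zpowers x).Normal := Subgroup.normal_of_index_eq_two hCidx
  have hzC : z ∈ Subgroup.zpowers x := by
    rw [hz]
    exact Subgroup.pow_mem _ (Subgroup.mem_zpowers x) _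
  have huniq : ∀ c ∈ Subgroup.zpowers x, c ^ 2 = 1 → c ≠ 1 → c = z := by
    intro c hc hc2 hc1
    rw [hz]
    exact ht_unique_inv x N hN hx c hc hc2 hc1
  have hzcen : z ∈ Subgroup.center G := by
    rw [Subgroup.mem_center_iff]
    intro g
    have h1 : g * z * g⁻¹ ∈ Subgroup.zpowers x := hCn.conj_mem z hzC g
    have h2 : (g * z * g⁻¹) ^ 2 = 1 := by
      rw [conj_pow, hz2]
      group
    have h3 : g * z * g⁻¹ ≠ 1 := by
      intro h
      apply hz1
      have e : z = g⁻¹ * (g * z * g⁻¹) * g := by group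
      rw [e, h]
      group
    have h4 := huniq _ h1 h2 h3
    exact mul_inv_eq_iff_eq_mul.mp h4
  have hzfpf := hC z hzcen hz1
  have hneg : ∀ v : V, ρ z v = -v := by
    intro v
    have h2 : ρ z (ρ z v) = v := by
      have e : ρ (z * z) v = ρ z (ρ z v) := by
        rw [map_mul]
        rfl
      rw [← e, ← pow_two, hz2, map_one]
      rfl
    have h1 : ρ z (ρ z v + v) = ρ z v + v := by
      rw [map_add, h2, add_comm]
    have h3 := hzfpf _ h1
    exact eq_neg_of_add_eq_zero_left h3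
  have hCfpf : ∀ c ∈ Subgroup.zpowers x, c ≠ 1 → ∀ v : V, ρ c v = v → v = 0 := by
    intro c hc hc1 v hv
    have h1 : orderOf c ∣ 2 ^ N := by
      rw [← hx]
      exact orderOf_dvd_of_mem_zpowers hc
    obtain ⟨j, hj, hoc⟩ := (Nat.dvd_prime_pow Nat.prime_two).mp h1
    have hj1 : 1 ≤ j := by
      by_contra hcon
      have hj0 : j = 0 := by omega
      rw [hj0, pow_zero] at hoc
      exact hc1 (orderOf_eq_one_iff.mp hoc)
    have hpj : 2 ^ j = 2 ^ (j - 1) * 2 := by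
      rw [← pow_succ]
      congr 1
      omega
    have h2 : (c ^ (2 ^ (j - 1))) ^ 2 = 1 := by
      rw [← pow_mul, ← hpj, ← hoc, pow_orderOf_eq_one]
    have h3 : c ^ (2 ^ (j - 1)) ≠ 1 := by
      intro h
      have h4 : orderOf c ∣ 2 ^ (j - 1) := orderOf_dvd_of_pow_eq_one h
      rw [hoc] at h4
      have h5 := Nat.le_of_dvd (by positivity) h4
      have h6 : 2 ^ (j - 1) < 2 ^ j := Nat.pow_lt_pow_right (by norm_num) (by omega)
      omega
    have h4 := huniq _ (Subgroup.pow_mem _ hc _) h2 h3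
    apply hzfpf v
    rw [← h4]
    have hpow : ∀ n : ℕ, ρ (c ^ n) v = v := by
      intro n
      induction n with
      | zero =>
        rw [pow_zero, map_one]
        rfl
      | succ n ih =>
        rw [pow_succ, map_mul]
        change ρ (c ^ n) (ρ c v) = v
        rw [hv, ih]
    exact hpow _
  have hstab : ∀ v : V, v ≠ 0 → ∀ g h : G, g ≠ 1 → h ≠ 1 → ρ g v = v → ρ h v = v → g = h := by
    intro v hv g h hg hh hgv hhv
    have hgC : g ∉ Subgroup.zpowers x := fun hc => hv (hCfpf g hc hg v hgv)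
    have hhC : h ∉ Subgroup.zpowers x := fun hc => hv (hCfpf h hc hh v hhv)
    have h1 : g⁻¹ * h ∈ Subgroup.zpowers x := by
      rw [Subgroup.mul_mem_iff_of_index_two hCidx, inv_mem_iff]
      exact ⟨fun h' => absurd h' hgC, fun h' => absurd h' hhC⟩
    have h2 : ρ (g⁻¹ * h) v = v := by
      rw [map_mul]
      change ρ g⁻¹ (ρ h v) = v
      rw [hhv]
      have e : ρ (g⁻¹ * g) v = ρ g⁻¹ (ρ g v) := by
        rw [map_mul]
        rfl
      rw [hgv, inv_mul_cancel, map_one] at e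
      exact e.symm
    by_contra hne
    apply hv
    apply hCfpf (g⁻¹ * h) h1 _ v h2
    intro h3
    apply hne
    exact inv_mul_eq_one.mp h3
  refine ⟨hneg, ?_⟩
  obtain ⟨v0, hv0, g0, hg0, hg0v⟩ := hns
  have h1v : ρ (1 : G) v0 = v0 := by
    rw [map_one]
    rfl
  have hc2 : Nat.card {g : G // ρ g v0 = v0} = 2 := by
    rw [Nat.card_eq_two_iff]
    refine ⟨⟨1, h1v⟩, ⟨g0, hg0v⟩, ?_, ?_⟩
    · intro h
      apply hg0
      exact (congrArg Subtype.val h).symm
    · rw [Set.eq_univ_iff_forall]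
      rintro ⟨g, hg⟩
      by_cases hg1 : g = 1
      · exact Or.inl (Subtype.ext hg1)
      · exact Or.inr (Subtype.ext (hstab v0 hv0 g g0 hg1 hg0 hg hg0v))
  intro v hv
  rw [hst v v0 hv hv0]
  exact hc2

end Cfsg.Agent.Lib.helper17
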