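import Mathlib
import Cfsg.Prelude.Def_CaseTheorems
import Cfsg.Agent.Lib.helper17.HTIDX

/-!
# S3371 piece QD (helper17): `ht_qd`
-/

set_option autoImplicit false

namespace Cfsg.Agent.Lib.helper17

/-- PIECE QD -/
theorem ht_qd {G : Type*} [Group G] [Finite G] (h : Cfsg.IsQuasiDihedral G) :
    ∃ (N : ℕ) (x : G), 3 ≤ N ∧ Nat.card G = 2 ^ (N + 1) ∧ orderOf x = 2 ^ N ∧
      (∀ t : G, t ^ 2 = 1 → t ≠ 1 → t ≠ x ^ (2 ^ (N - 1)) →
        ∃ u : G, t * u * t⁻¹ = u * x ^ (2 ^ (N - 1))) ∧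
      Nat.card {t : G // t ^ 2 = 1 ∧ t ≠ 1 ∧ t ≠ x ^ (2 ^ (N - 1))} = 2 ^ (N - 1) := by
  classical
  obtain ⟨n, hn, hcard, x, y, hx, hy, hxy⟩ := h
  obtain ⟨a, ha⟩ : ∃ a : ℕ, a = 2 ^ (n - 3) := ⟨_, rfl⟩
  have ha0 : 0 < a := by rw [ha]; positivity
  have hp0 : 2 ^ n = 8 * a := by
    rw [ha, show (8 : ℕ) = 2 ^ 3 by norm_num, ← pow_add]
    congr 1
    omega
  have hp1 : 2 ^ (n - 1) = 4 * a := by
    rw [ha, show (4 : ℕ) = 2 ^ 2 by norm_num, ← pow_add]
    congr 1
    omega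
  obtain ⟨m, hm⟩ : ∃ m : ℕ, m = 2 ^ (n - 1) - 1 := ⟨_, rfl⟩
  have hm1 : m + 1 = 4 * a := by
    rw [hm, ← hp1]
    have : 0 < 2 ^ (n - 1) := by positivity
    omega
  rw [← hm] at hxy
  have hxn := hx
  rw [hp0] at hx
  have hx8 : x ^ (8 * a) = 1 := by
    rw [← hx]
    exact pow_orderOf_eq_one x
  have hy2 : y * y = 1 := by
    have := pow_orderOf_eq_one y
    rw [hy, pow_two] at this
    exact this
  have hyinv : y⁻¹ = y := inv_eq_of_mul_eq_one_left hy2
  have hCcard : Nat.card (Subgroup.zpowers x) = 8 * a := by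
    rw [Nat.card_zpowers, hx]
  have hCidx : (Subgroup.zpowers x).index = 2 := by
    have h := (Subgroup.zpowers x).card_mul_index
    rw [hCcard, hcard, pow_succ, hp0] at h
    exact Nat.eq_of_mul_eq_mul_left (by positivity) h
  have hconj : ∀ c ∈ Subgroup.zpowers x, y * c * y⁻¹ = c ^ m := by
    intro c hc
    obtain ⟨k, rfl⟩ := Subgroup.mem_zpowers_iff.mp hc
    rw [← conj_zpow, hxy, ← zpow_natCast, ← zpow_natCast, ← zpow_mul, ← zpow_mul, mul_comm]
  have hyC : y ∉ Subgroup.zpowers x := by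
    intro hyC
    obtain ⟨k, hk⟩ := Subgroup.mem_zpowers_iff.mp hyC
    have h1 : y * x * y⁻¹ = x := by
      rw [← hk]
      have : Commute (x ^ k) x := (Commute.refl x).zpow_left k
      rw [this.eq, mul_inv_cancel_right]
    rw [hxy] at h1
    have h2 : x ^ (m - 1) = 1 := by
      have h3 : x ^ (m - 1) * x = x ^ m := by
        rw [← pow_succ]
        congr 1
        omega
      rw [h1] at h3
      exact mul_eq_right.mp h3
    have h4 : orderOf x ∣ m - 1 := orderOf_dvd_of_pow_eq_one h2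
    rw [hx] at h4
    have := Nat.le_of_dvd (by omega) h4
    omega
  have hsq : ∀ c ∈ Subgroup.zpowers x, (c * y) ^ 2 = c ^ (4 * a) := by
    intro c hc
    have h1 := hconj c hc
    rw [hyinv] at h1
    rw [pow_two, ← hm1, pow_succ]
    calc c * y * (c * y) = c * (y * c * y) := by group
      _ = c * c ^ m := by rw [h1]
      _ = c ^ m * c := ((Commute.refl c).pow_right m).eq
  have hdecomp : ∀ t : G, t ^ 2 = 1 → t ≠ 1 → t ≠ x ^ (4 * a) →
      ∃ c ∈ Subgroup.zpowers x, t = c * y := by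
    intro t ht2 ht1 htz
    have htC : t ∉ Subgroup.zpowers x := by
      intro htC
      apply htz
      have := ht_unique_inv x n (by omega) hxn t htC ht2 ht1
      rw [hp1] at this
      exact this
    have h1 : t * y ∈ Subgroup.zpowers x := by
      rw [Subgroup.mul_mem_iff_of_index_two hCidx]
      exact ⟨fun h => absurd h htC, fun h => absurd h hyC⟩
    refine ⟨t * y, h1, ?_⟩
    rw [mul_assoc, hy2, mul_one]
  refine ⟨n, x, hn, hcard, hxn, ?_, ?_⟩
  · rw [hp1]
    intro t ht2 ht1 htz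
    obtain ⟨c, hc, rfl⟩ := hdecomp t ht2 ht1 htz
    refine ⟨x ^ (2 * a), ?_⟩
    have huC : x ^ (2 * a) ∈ Subgroup.zpowers x :=
      Subgroup.pow_mem _ (Subgroup.mem_zpowers x) _
    have h1 := hconj _ huC
    have h2 : (x ^ (2 * a)) ^ m * x ^ (2 * a) = 1 := by
      rw [← pow_succ, hm1, ← pow_mul, show 2 * a * (4 * a) = 8 * a * a by ring, pow_mul, hx8,
        one_pow]
    have h3 : x ^ (2 * a) * x ^ (4 * a) * x ^ (2 * a) = 1 := by
      rw [← pow_add, ← pow_add, show 2 * a + 4 * a + 2 * a = 8 * a by ring, hx8]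
    have h4 : (x ^ (2 * a)) ^ m = x ^ (2 * a) * x ^ (4 * a) :=
      (eq_inv_of_mul_eq_one_left h2).trans (eq_inv_of_mul_eq_one_left h3).symm
    have hcomm : Commute c (x ^ (2 * a) * x ^ (4 * a)) := by
      obtain ⟨k, rfl⟩ := Subgroup.mem_zpowers_iff.mp hc
      exact (((Commute.refl x).zpow_left k).pow_right _).mul_right
        (((Commute.refl x).zpow_left k).pow_right _)
    calc c * y * x ^ (2 * a) * (c * y)⁻¹ = c * (y * x ^ (2 * a) * y⁻¹) * c⁻¹ := by group
      _ = c * (x ^ (2 * a) * x ^ (4 * a)) * c⁻¹ := by rw [h1, h4]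
      _ = x ^ (2 * a) * x ^ (4 * a) := by rw [hcomm.eq, mul_inv_cancel_right]
  · rw [hp1]
    have hDcard : Nat.card (Subgroup.zpowers (x ^ 2)) = 4 * a := by
      rw [Nat.card_zpowers, orderOf_pow_of_dvd (by norm_num) (by rw [hx]; exact ⟨4 * a, by ring⟩),
        hx]
      omega
    have hDC : ∀ d ∈ Subgroup.zpowers (x ^ 2), d ∈ Subgroup.zpowers x := by
      intro d hd
      obtain ⟨j, rfl⟩ := Subgroup.mem_zpowers_iff.mp hd
      exact Subgroup.zpow_mem _ (Subgroup.pow_mem _ (Subgroup.mem_zpowers x) _) _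
    have hD4 : ∀ d ∈ Subgroup.zpowers (x ^ 2), d ^ (4 * a) = 1 := by
      intro d hd
      obtain ⟨j, rfl⟩ := Subgroup.mem_zpowers_iff.mp hd
      rw [← zpow_natCast, ← zpow_mul, mul_comm, zpow_mul, zpow_natCast, ← pow_mul,
        show 2 * (4 * a) = 8 * a by ring, hx8, one_zpow]
    have hT : ∀ d : Subgroup.zpowers (x ^ 2),
        ((d : G) * y) ^ 2 = 1 ∧ (d : G) * y ≠ 1 ∧ (d : G) * y ≠ x ^ (4 * a) := by
      intro d
      refine ⟨?_, ?_, ?_⟩
      · rw [hsq _ (hDC _ d.2)]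
        exact hD4 _ d.2
      · intro h
        apply hyC
        have : y = (d : G)⁻¹ := eq_inv_of_mul_eq_one_right h
        rw [this]
        exact Subgroup.inv_mem _ (hDC _ d.2)
      · intro h
        apply hyC
        have : y = (d : G)⁻¹ * x ^ (4 * a) := by
          rw [← h]
          group
        rw [this]
        exact Subgroup.mul_mem _ (Subgroup.inv_mem _ (hDC _ d.2))
          (Subgroup.pow_mem _ (Subgroup.mem_zpowers x) _)
    refine ((Nat.card_congr (Equiv.ofBijective (fun d : Subgroup.zpowers (x ^ 2) =>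
      (⟨(d : G) * y, hT d⟩ : {t : G // t ^ 2 = 1 ∧ t ≠ 1 ∧ t ≠ x ^ (4 * a)}))
        ⟨?_, ?_⟩)).symm.trans hDcard)
    · intro d d' h
      have h1 : (d : G) * y = (d' : G) * y := congrArg Subtype.val h
      exact Subtype.ext (mul_right_cancel h1)
    · rintro ⟨t, ht2, ht1, htz⟩
      obtain ⟨c, hc, rfl⟩ := hdecomp t ht2 ht1 htz
      have h1 := hsq c hc
      rw [ht2] at h1
      obtain ⟨k, rfl⟩ := Subgroup.mem_zpowers_iff.mp hc
      have h2 : x ^ (k * ((4 * a : ℕ) : ℤ)) = 1 := by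
        rw [zpow_mul, zpow_natCast]
        exact h1.symm
      have h3 : ((8 * a : ℕ) : ℤ) ∣ k * ((4 * a : ℕ) : ℤ) := by
        rw [← hx]
        exact orderOf_dvd_iff_zpow_eq_one.mpr h2
      have h4 : (2 : ℤ) ∣ k := by
        have h5 : ((8 * a : ℕ) : ℤ) = 2 * ((4 * a : ℕ) : ℤ) := by
          push_cast
          ring
        rw [h5] at h3
        have h6 : ((4 * a : ℕ) : ℤ) ≠ 0 := by
          have : 0 < 4 * a := by omega
          exact_mod_cast this.ne'
        exact Int.dvd_of_mul_dvd_mul_right h6 h3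
      obtain ⟨j, rfl⟩ := h4
      refine ⟨⟨x ^ (2 * j), ?_⟩, rfl⟩
      rw [Subgroup.mem_zpowers_iff]
      exact ⟨j, by rw [← zpow_natCast, ← zpow_mul]; norm_num⟩

end Cfsg.Agent.Lib.helper17
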