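import Mathlib
import Cfsg.Prelude.Def_Transfer
import Cfsg.Agent.Lib.helper15.ZassDefs
import Cfsg.Agent.Lib.helper40.PNil

/-!
S0690 (Zassenhaus) piece G, `pfrob` (helper17): a finite group whose `2`-subgroups are cyclic or
generalized quaternion and which has no normal `2`-complement contains a quaternion group of order
`8` together with an element of `3`-power order permuting its three cyclic subgroups of order `4`
cyclically.
-/

set_option autoImplicit false

namespace Cfsg.Agent.Lib.helper17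

open Cfsg.Agent.Lib.helper15.Zass

/-- An automorphism with `θ ^ o = 1` fixing a point under a power prime to `o` fixes the point. -/
theorem zg_fix_of_pow_fix {Q : Type*} [Group Q] (θ : MulAut Q) (o i : ℕ) (hco : Nat.Coprime i o)
    (hθ : θ ^ o = 1) (y : Q) (hy : (θ ^ i) y = y) : θ y = y := by
  have hdvd : orderOf θ ∣ o := orderOf_dvd_of_pow_eq_one hθ
  have hco' : Nat.Coprime i (orderOf θ) := Nat.Coprime.coprime_dvd_right hdvd hco
  obtain ⟨m, hm⟩ := exists_pow_eq_self_of_coprime hco'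
  have key : ∀ m : ℕ, ((θ ^ i) ^ m) y = y := by
    intro m
    induction m with
    | zero => simp
    | succ m ih => rw [pow_succ, MulAut.mul_apply, hy, ih]
  have := key m
  rwa [hm] at this

/-- An automorphism of odd order does not invert an element which is not an involution. -/
theorem zg_not_invert {Q : Type*} [Group Q] (θ : MulAut Q) (o : ℕ) (ho : Odd o)
    (hθ : θ ^ o = 1) (y : Q) (hy : y ^ 2 ≠ 1) : θ y ≠ y⁻¹ := by
  intro h
  have h2 : (θ ^ 2) y = y := by
    rw [pow_two, MulAut.mul_apply, h, map_inv, h, inv_inv]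
  have h1 : θ y = y := zg_fix_of_pow_fix θ o 2 (Nat.coprime_two_left.2 ho) hθ y h2
  rw [h1] at h
  apply hy
  rw [pow_two]
  nth_rewrite 1 [h]
  exact inv_mul_cancel y

theorem zg_q8_pow4 : ∀ y : QuaternionGroup 2, y ^ 4 = 1 := by decide

theorem zg_q8_a : (QuaternionGroup.a 1 : QuaternionGroup 2) ^ 2 ≠ 1 := by decide

theorem zg_q8_sq : ∀ y y' : QuaternionGroup 2, y ^ 2 ≠ 1 → y' ^ 2 ≠ 1 →
    y' ^ 2 = y ^ 2 ∧ (y' ≠ y → y' ≠ y⁻¹ → y' * y * y'⁻¹ = y⁻¹) := by decide

theorem zg_q8_list0 : ∀ y y' : QuaternionGroup 2, y ^ 2 = 1 ∨ y' ^ 2 = 1 ∨ y' = y ∨ y' = y⁻¹ ∨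
    ∀ w : QuaternionGroup 2,
      w ^ 2 = 1 ∨ w = y ∨ w = y⁻¹ ∨ w = y' ∨ w = y'⁻¹ ∨ w = y * y' ∨ w = y' * y := by
  decide

theorem zg_q8_list : ∀ y y' w : QuaternionGroup 2, y ^ 2 ≠ 1 → y' ^ 2 ≠ 1 → y' ≠ y → y' ≠ y⁻¹ →
    w ^ 2 ≠ 1 → w = y ∨ w = y⁻¹ ∨ w = y' ∨ w = y'⁻¹ ∨ w = y * y' ∨ w = y' * y := by
  intro y y' w h1 h2 h3 h4 h5
  rcases zg_q8_list0 y y' with h | h | h | h | h
  · exact absurd h h1
  · exact absurd h h2
  · exact absurd h h3
  · exact absurd h h4
  · rcases h w with h | h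
    · exact absurd h h5
    · exact h

theorem zg_q8_inv : ∀ y w : QuaternionGroup 2, y ^ 2 ≠ 1 → w ^ 2 = 1 → w = 1 ∨ w = y ^ 2 := by
  decide

/-- Automorphisms of odd order of the quaternion group of order `8`. -/
theorem zg_q8_aut {Q : Type*} [Group Q] (e : Q ≃* QuaternionGroup 2) (ψ : MulAut Q) (o : ℕ)
    (ho : Odd o) (hψ : ψ ^ o = 1) (hne : ψ ≠ 1) :
    ∃ u v : Q, u ^ 2 ≠ 1 ∧ u ^ 4 = 1 ∧ v ^ 2 = u ^ 2 ∧ v * u * v⁻¹ = u⁻¹ ∧
      (∀ y : Q, ψ (ψ (ψ y)) = y) ∧
      ((ψ u = v ∧ ψ v = u * v) ∨ (ψ.symm u = v ∧ ψ.symm v = u * v)) := by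
  have F1 : ∀ y : Q, y ^ 4 = 1 := by
    intro y
    have := zg_q8_pow4 (e y)
    rwa [← map_pow, MulEquiv.map_eq_one_iff] at this
  have F2 : ∀ y y' : Q, y ^ 2 ≠ 1 → y' ^ 2 ≠ 1 →
      y' ^ 2 = y ^ 2 ∧ (y' ≠ y → y' ≠ y⁻¹ → y' * y * y'⁻¹ = y⁻¹) := by
    intro y y'
    have := zg_q8_sq (e y) (e y')
    simpa only [← map_pow, ← map_mul, ← map_inv, EmbeddingLike.apply_eq_iff_eq,
      MulEquiv.map_eq_one_iff, ne_eq] using this
  have F3 : ∀ y y' w : Q, y ^ 2 ≠ 1 → y' ^ 2 ≠ 1 → y' ≠ y → y' ≠ y⁻¹ →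
      w ^ 2 ≠ 1 → w = y ∨ w = y⁻¹ ∨ w = y' ∨ w = y'⁻¹ ∨ w = y * y' ∨ w = y' * y := by
    intro y y' w
    have := zg_q8_list (e y) (e y') (e w)
    simpa only [← map_pow, ← map_mul, ← map_inv, EmbeddingLike.apply_eq_iff_eq,
      MulEquiv.map_eq_one_iff, ne_eq] using this
  have F4 : ∀ y w : Q, y ^ 2 ≠ 1 → w ^ 2 = 1 → w = 1 ∨ w = y ^ 2 := by
    intro y w
    have := zg_q8_inv (e y) (e w)
    simpa only [← map_pow, ← map_mul, ← map_inv, EmbeddingLike.apply_eq_iff_eq,
      MulEquiv.map_eq_one_iff, ne_eq] using this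
  -- an element of order four
  obtain ⟨y₀, hy₀⟩ : ∃ y₀ : Q, y₀ ^ 2 ≠ 1 := by
    refine ⟨e.symm (QuaternionGroup.a 1), ?_⟩
    intro h
    apply zg_q8_a
    have := congrArg e h
    rwa [map_pow, e.apply_symm_apply, map_one] at this
  -- an element of order four moved by ψ
  obtain ⟨u, hu2, hu⟩ : ∃ u : Q, u ^ 2 ≠ 1 ∧ ψ u ≠ u := by
    by_contra hcon
    push Not at hcon
    apply hne
    ext y
    rw [MulAut.one_apply]
    by_cases hy : y ^ 2 = 1
    · rcases F4 y₀ y hy₀ hy with h | h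
      · rw [h, map_one]
      · rw [h, map_pow, hcon y₀ hy₀]
    · exact hcon y hy
  set v := ψ u with hv
  have hv2 : v ^ 2 ≠ 1 := by
    rw [hv, ← map_pow]
    intro h
    exact hu2 ((MulEquiv.map_eq_one_iff ψ).1 h)
  have hvu : v ≠ u := hu
  have hvu' : v ≠ u⁻¹ := zg_not_invert ψ o ho hψ u hu2
  obtain ⟨hvsq, hvconj⟩ := F2 u v hu2 hv2
  have hconj : v * u * v⁻¹ = u⁻¹ := hvconj hvu hvu'
  set w := ψ v with hw
  have hw2 : w ^ 2 ≠ 1 := by
    rw [hw, ← map_pow]
    intro h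
    exact hv2 ((MulEquiv.map_eq_one_iff ψ).1 h)
  have hu4 : u ^ 4 = 1 := F1 u
  -- consequences of the relations
  have huvu : u * v * u = v := by
    have : v * u = u⁻¹ * v := by
      rw [← hconj]; group
    calc u * v * u = u * (v * u) := by group
      _ = u * (u⁻¹ * v) := by rw [this]
      _ = v := by group
  have hvuv : v * u * v = u := by
    calc v * u * v = (v * u * v⁻¹) * v ^ 2 := by group
      _ = u⁻¹ * u ^ 2 := by rw [hconj, hvsq]
      _ = u := by group
  have hcases : w = u * v ∨ w = v * u := by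
    rcases F3 u v w hu2 hv2 hvu hvu' hw2 with h | h | h | h | h | h
    · -- ψ² u = u
      exfalso
      apply hu
      apply zg_fix_of_pow_fix ψ o 2 (Nat.coprime_two_left.2 ho) hψ u
      rw [pow_two, MulAut.mul_apply, ← hv, ← hw, h]
    · exfalso
      apply hu
      have h4 : Nat.Coprime 4 o := by
        have : Nat.Coprime (2 ^ 2) o := Nat.Coprime.pow_left 2 (Nat.coprime_two_left.2 ho)
        simpa using this
      apply zg_fix_of_pow_fix ψ o 4 h4 hψ u
      have h2 : (ψ ^ 2) u = u⁻¹ := by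
        rw [pow_two, MulAut.mul_apply, ← hv, ← hw, h]
      have : ψ ^ 4 = ψ ^ 2 * ψ ^ 2 := by rw [← pow_add]
      rw [this, MulAut.mul_apply, h2, map_inv, h2, inv_inv]
    · exfalso
      apply hu
      have : ψ v = ψ u := by rw [← hw, h]
      have := ψ.injective this
      rw [← this]
    · exfalso
      exact zg_not_invert ψ o ho hψ v hv2 (by rw [← hw, h])
    · exact Or.inl h
    · exact Or.inr h
  have hψw : ψ w = u := by
    rcases hcases with h | h
    · rw [h, map_mul, ← hv, ← hw, h]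
      calc v * (u * v) = v * u * v := by group
        _ = u := hvuv
    · rw [h, map_mul, ← hv, ← hw, h]
      exact hvuv
  have hcube : ∀ y : Q, ψ (ψ (ψ y)) = y := by
    have hu3 : ψ (ψ (ψ u)) = u := by rw [← hv, ← hw, hψw]
    have hv3 : ψ (ψ (ψ v)) = v := by rw [← hw, hψw]
    intro y
    by_cases hy : y ^ 2 = 1
    · rcases F4 u y hu2 hy with h | h
      · rw [h, map_one, map_one, map_one]
      · rw [h, map_pow, map_pow, map_pow, hu3]
    · rcases F3 u v y hu2 hv2 hvu hvu' hy with h | h | h | h | h | h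
      · rw [h, hu3]
      · rw [h, map_inv, map_inv, map_inv, hu3]
      · rw [h, hv3]
      · rw [h, map_inv, map_inv, map_inv, hv3]
      · rw [h, map_mul, map_mul, map_mul]
        exact congrArg₂ (fun a b => a * b) hu3 hv3
      · rw [h, map_mul, map_mul, map_mul]
        exact congrArg₂ (fun a b => a * b) hv3 hu3
  rcases hcases with h | h
  · exact ⟨u, v, hu2, hu4, hvsq, hconj, hcube, Or.inl ⟨rfl, by rw [← hw, h]⟩⟩
  · refine ⟨u, w, hu2, hu4, ?_, ?_, hcube, Or.inr ⟨?_, ?_⟩⟩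
    · rw [h]
      calc (v * u) ^ 2 = v * (u * v * u) := by simp only [pow_two, mul_assoc]
        _ = v ^ 2 := by rw [huvu, pow_two]
        _ = u ^ 2 := hvsq
    · rw [h]
      calc v * u * u * (v * u)⁻¹ = v * u * v⁻¹ := by group
        _ = u⁻¹ := hconj
    · rw [MulEquiv.symm_apply_eq, hψw]
    · rw [MulEquiv.symm_apply_eq, h]
      calc v * u = ψ v := by rw [← hw, h]
        _ = ψ (u * (v * u)) := by
          congr 1
          calc v = u * v * u := huvu.symm
            _ = u * (v * u) := by group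

/-- An element of odd order normalizing a cyclic `2`-subgroup centralizes it. -/
theorem zg_cyc {X : Type*} [Group X] [Finite X] (Q₀ : Subgroup X) (hcyc : IsCyclic Q₀)
    (hQ : IsPGroup 2 Q₀) (g : X) (hg : g ∈ Subgroup.normalizer (Q₀ : Set X))
    (hodd : Odd (orderOf g)) : ∀ y ∈ Q₀, g * y = y * g := by
  have : Fact (Nat.Prime 2) := ⟨Nat.prime_two⟩
  obtain ⟨t, ht⟩ := IsPGroup.iff_card.1 hQ
  set φ := Q₀.normalizerMonoidHom ⟨g, hg⟩ with hφ
  have h1 : orderOf φ ∣ orderOf g := by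
    have := orderOf_map_dvd Q₀.normalizerMonoidHom
      (⟨g, hg⟩ : Subgroup.normalizer (Q₀ : Set X))
    rwa [Subgroup.orderOf_mk] at this
  have h2 : orderOf φ ∣ Nat.totient (2 ^ t) := by
    rw [← ht, ← IsCyclic.card_mulAut]
    exact orderOf_dvd_natCard φ
  have h3 : orderOf φ = 1 := by
    rcases Nat.eq_zero_or_pos t with h0 | h0
    · rw [h0, pow_zero, Nat.totient_one] at h2
      exact Nat.dvd_one.1 h2
    · rw [Nat.totient_prime_pow Nat.prime_two h0] at h2
      have hco : Nat.Coprime (orderOf g) (2 ^ (t - 1) * (2 - 1)) := by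
        have : Nat.Coprime (orderOf g) 2 := Nat.coprime_two_right.2 hodd
        simpa using Nat.Coprime.pow_right (t - 1) this
      exact Nat.eq_one_of_dvd_coprimes hco h1 h2
  have h4 : φ = 1 := orderOf_eq_one_iff.1 h3
  have h5 : (⟨g, hg⟩ : Subgroup.normalizer (Q₀ : Set X)) ∈ Q₀.normalizerMonoidHom.ker := h4
  rw [Subgroup.normalizerMonoidHom_ker, Subgroup.mem_subgroupOf] at h5
  intro y hy
  exact (Subgroup.mem_centralizer_iff.1 h5 y hy).symm

/-- An element of odd order normalizing a generalized quaternion `2`-subgroup of order at least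
`16` centralizes it. -/
theorem zg_gq {X : Type*} [Group X] [Finite X] (Q₀ : Subgroup X) (hQ : IsPGroup 2 Q₀)
    (N : ℕ) [NeZero N] (hN : N ≠ 2) (e : Q₀ ≃* QuaternionGroup N) (g : X)
    (hg : g ∈ Subgroup.normalizer (Q₀ : Set X)) (hodd : Odd (orderOf g)) :
    ∀ y ∈ Q₀, g * y = y * g := by
  set α : Q₀ := e.symm (QuaternionGroup.a 1) with hα
  set β : Q₀ := e.symm (QuaternionGroup.xa 0) with hβ
  have hmem : ∀ y : Q₀, (∃ i : ℕ, y = α ^ i) ∨ (∃ i : ℕ, y = β * α ^ i) := by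
    intro y
    rcases h : e y with i | i
    · left
      refine ⟨i.val, ?_⟩
      apply e.injective
      rw [map_pow, hα, e.apply_symm_apply, QuaternionGroup.a_one_pow, h]
      simp
    · right
      refine ⟨i.val, ?_⟩
      apply e.injective
      rw [map_mul, map_pow, hα, hβ, e.apply_symm_apply, e.apply_symm_apply,
        QuaternionGroup.a_one_pow, QuaternionGroup.xa_mul_a, h]
      simp
  have hg' := Subgroup.mem_normalizer_iff.1 hg
  -- `g` normalizes `⟨α⟩`
  have hcα : g * (α : X) * g⁻¹ ∈ Q₀ := (hg' α).1 α.2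
  have hoα : orderOf (⟨g * (α : X) * g⁻¹, hcα⟩ : Q₀) = 2 * N := by
    rw [← Subgroup.orderOf_coe]
    show orderOf (g * (α : X) * g⁻¹) = 2 * N
    have h1 : orderOf (g * (α : X) * g⁻¹) = orderOf (α : X) := by
      have := (MulAut.conj g).orderOf_eq (α : X)
      rwa [MulAut.conj_apply] at this
    rw [h1, Subgroup.orderOf_coe, hα, MulEquiv.orderOf_eq, QuaternionGroup.orderOf_a_one]
  have hα1 : ∃ i : ℕ, g * (α : X) * g⁻¹ = (α : X) ^ i := by
    rcases hmem ⟨g * (α : X) * g⁻¹, hcα⟩ with ⟨i, hi⟩ | ⟨i, hi⟩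
    · exact ⟨i, by simpa using congrArg (Subtype.val) hi⟩
    · exfalso
      have h1 : orderOf (e ⟨g * (α : X) * g⁻¹, hcα⟩) = 2 * N := by
        rw [MulEquiv.orderOf_eq, hoα]
      rw [hi, map_mul, map_pow, hα, hβ, e.apply_symm_apply, e.apply_symm_apply,
        QuaternionGroup.a_one_pow, QuaternionGroup.xa_mul_a, QuaternionGroup.orderOf_xa] at h1
      omega
  obtain ⟨i₀, hi₀⟩ := hα1
  have hnα : g ∈ Subgroup.normalizer ((Subgroup.zpowers (α : X) : Subgroup X) : Set X) := by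
    apply Subgroup.mem_normalizer_fintype
    intro n hn
    obtain ⟨k, rfl⟩ := Subgroup.mem_zpowers_iff.1 hn
    show g * (α : X) ^ k * g⁻¹ ∈ Subgroup.zpowers (α : X)
    rw [← conj_zpow, hi₀]
    exact Subgroup.zpow_mem _ (Subgroup.pow_mem _ (Subgroup.mem_zpowers _) _) _
  have hαle : Subgroup.zpowers (α : X) ≤ Q₀ := by
    rw [Subgroup.zpowers_le]
    exact α.2
  have hPα : IsPGroup 2 (Subgroup.zpowers (α : X)) := hQ.to_le hαle
  have hgα : g * (α : X) = (α : X) * g :=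
    zg_cyc (Subgroup.zpowers (α : X)) (Subgroup.isCyclic_zpowers _) hPα g hnα hodd _
      (Subgroup.mem_zpowers _)
  have hgαi : ∀ i : ℕ, g * (α : X) ^ i = (α : X) ^ i * g := fun i =>
    (Commute.pow_right (show Commute g (α : X) from hgα) i).eq
  -- `g` fixes `β`
  have hcβ : g * (β : X) * g⁻¹ ∈ Q₀ := (hg' β).1 β.2
  have hgβ : g * (β : X) = (β : X) * g := by
    rcases hmem ⟨g * (β : X) * g⁻¹, hcβ⟩ with ⟨i, hi⟩ | ⟨i, hi⟩
    · exfalso
      have h1 : g * (β : X) * g⁻¹ = (α : X) ^ i := by simpa using congrArg (Subtype.val) hi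
      have h2 : (β : X) = (α : X) ^ i := by
        have : (β : X) = g⁻¹ * (g * (β : X) * g⁻¹) * g := by group
        rw [this, h1, mul_assoc, ← hgαi i, ← mul_assoc, inv_mul_cancel, one_mul]
      have h3 : β = α ^ i := Subtype.ext (by simpa using h2)
      have h4 := congrArg e h3
      rw [map_pow, hα, hβ, e.apply_symm_apply, e.apply_symm_apply,
        QuaternionGroup.a_one_pow] at h4
      exact absurd h4 (by simp)
    · have h1 : g * (β : X) * g⁻¹ = (β : X) * (α : X) ^ i := by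
        simpa using congrArg (Subtype.val) hi
      set c : X := (α : X) ^ i with hc
      have hgc : g * c = c * g := hgαi i
      have hpow : ∀ j : ℕ, g ^ j * (β : X) * (g ^ j)⁻¹ = (β : X) * c ^ j := by
        intro j
        induction j with
        | zero => simp
        | succ j ih =>
          have hgcj : g * c ^ j = c ^ j * g :=
            (Commute.pow_right (show Commute g c from hgc) j).eq
          calc g ^ (j + 1) * (β : X) * (g ^ (j + 1))⁻¹
              = g * (g ^ j * (β : X) * (g ^ j)⁻¹) * g⁻¹ := by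
                rw [pow_succ']; group
            _ = g * ((β : X) * c ^ j) * g⁻¹ := by rw [ih]
            _ = (g * (β : X) * g⁻¹) * (g * c ^ j) * g⁻¹ := by group
            _ = ((β : X) * c) * (c ^ j * g) * g⁻¹ := by rw [h1, hgcj]
            _ = (β : X) * c ^ (j + 1) := by rw [pow_succ']; group
      have h2 := hpow (orderOf g)
      rw [pow_orderOf_eq_one, one_mul, inv_one, mul_one] at h2
      have h3 : c ^ orderOf g = 1 := by
        have : (β : X) * 1 = (β : X) * c ^ orderOf g := by rw [mul_one]; exact h2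
        exact (mul_left_cancel this).symm
      have hcQ : c ∈ Q₀ := Subgroup.pow_mem _ α.2 _
      obtain ⟨k, hk⟩ := hQ ⟨c, hcQ⟩
      have hk' : c ^ 2 ^ k = 1 := by simpa using congrArg (Subtype.val) hk
      have h4 : orderOf c ∣ orderOf g := orderOf_dvd_of_pow_eq_one h3
      have h5 : orderOf c ∣ 2 ^ k := orderOf_dvd_of_pow_eq_one hk'
      have hco : Nat.Coprime (orderOf g) (2 ^ k) :=
        Nat.Coprime.pow_right k (Nat.coprime_two_right.2 hodd)
      have h6 : orderOf c = 1 := Nat.eq_one_of_dvd_coprimes hco h4 h5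
      have h7 : c = 1 := orderOf_eq_one_iff.1 h6
      rw [h7, mul_one] at h1
      calc g * (β : X) = (g * (β : X) * g⁻¹) * g := by group
        _ = (β : X) * g := by rw [h1]
  intro y hy
  rcases hmem ⟨y, hy⟩ with ⟨i, hi⟩ | ⟨i, hi⟩
  · have h1 : y = (α : X) ^ i := by simpa using congrArg (Subtype.val) hi
    rw [h1]
    exact hgαi i
  · have h1 : y = (β : X) * (α : X) ^ i := by simpa using congrArg (Subtype.val) hi
    rw [h1, ← mul_assoc, hgβ, mul_assoc, hgαi i, mul_assoc]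

/-- The quaternion case of order `8`. -/
theorem zg_q8 {X : Type*} [Group X] [Finite X] (Q₀ : Subgroup X)
    (e : Q₀ ≃* QuaternionGroup 2) (g : X) (hg : g ∈ Subgroup.normalizer (Q₀ : Set X))
    (hodd : Odd (orderOf g)) (hnc : ¬ ∀ y ∈ Q₀, g * y = y * g) :
    ∃ u v g' : X, PreStd u v g' ∧ ∃ k : ℕ, orderOf g' = 3 ^ k := by
  set gN : Subgroup.normalizer (Q₀ : Set X) := ⟨g, hg⟩ with hgN
  set ψ := Q₀.normalizerMonoidHom gN with hψ
  have hψo : ψ ^ orderOf g = 1 := by
    rw [hψ, ← map_pow]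
    have : gN ^ orderOf g = 1 := by
      apply Subtype.ext
      simp [hgN, pow_orderOf_eq_one]
    rw [this, map_one]
  have hψne : ψ ≠ 1 := by
    intro h1
    apply hnc
    intro y hy
    have h2 : ψ ⟨y, hy⟩ = ⟨y, hy⟩ := by rw [h1]; rfl
    have h3 : g * y * g⁻¹ = y := congrArg Subtype.val h2
    calc g * y = (g * y * g⁻¹) * g := by group
      _ = y * g := by rw [h3]
  obtain ⟨u, v, hu2, hu4, hv2, hvu, hcube, hor⟩ := zg_q8_aut e ψ (orderOf g) hodd hψo hψne
  have hcube' : ψ ^ 3 = 1 := by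
    ext y
    have := hcube y
    simpa [pow_succ] using congrArg Subtype.val this
  -- the `3`-part of `g`
  have hopos : orderOf g ≠ 0 := (orderOf_pos g).ne'
  obtain ⟨k, m, hm3, hkm⟩ := Nat.exists_eq_pow_mul_and_not_dvd hopos 3 (by norm_num)
  have hm1 : m ^ 2 % 3 = 1 := by
    have h1 : m % 3 = 1 ∨ m % 3 = 2 := by omega
    rcases h1 with h | h
    · rw [Nat.pow_mod, h]
    · rw [Nat.pow_mod, h]
  set h := g ^ (m ^ 2) with hh
  have hho : ∃ j : ℕ, orderOf h = 3 ^ j := by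
    have h1 : h ^ (3 ^ k) = 1 := by
      rw [hh, ← pow_mul]
      have : m ^ 2 * 3 ^ k = orderOf g * m := by rw [hkm]; ring
      rw [this, pow_mul, pow_orderOf_eq_one, one_pow]
    obtain ⟨j, -, hj⟩ := (Nat.dvd_prime_pow Nat.prime_three).1 (orderOf_dvd_of_pow_eq_one h1)
    exact ⟨j, hj⟩
  -- `h` acts as `ψ`
  have hψh : Q₀.normalizerMonoidHom (gN ^ (m ^ 2)) = ψ := by
    rw [map_pow, ← hψ]
    have : m ^ 2 = 3 * (m ^ 2 / 3) + 1 := by omega
    rw [this, pow_add, pow_mul, hcube', one_pow, one_mul, pow_one]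
  have hact : ∀ y : Q₀, h * (y : X) * h⁻¹ = ((ψ y : Q₀) : X) := by
    intro y
    rw [← hψh]
    rfl
  have hact' : ∀ y : Q₀, h⁻¹ * (y : X) * h = ((ψ.symm y : Q₀) : X) := by
    intro y
    have := hact (ψ.symm y)
    rw [ψ.apply_symm_apply] at this
    rw [← this]
    group
  have hu2' : (u : X) ^ 2 ≠ 1 := by
    intro hcon
    apply hu2
    exact Subtype.ext (by simpa using hcon)
  have hu4' : (u : X) ^ 4 = 1 := by simpa using congrArg Subtype.val hu4
  have hv2' : (v : X) ^ 2 = (u : X) ^ 2 := by simpa using congrArg Subtype.val hv2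
  have hvu' : (v : X) * (u : X) * (v : X)⁻¹ = (u : X)⁻¹ := by
    simpa using congrArg Subtype.val hvu
  rcases hor with ⟨h1, h2⟩ | ⟨h1, h2⟩
  · refine ⟨u, v, h, ⟨hu2', hu4', hv2', hvu', ?_, ?_⟩, hho⟩
    · rw [hact u, h1]
    · rw [hact v, h2]
      rfl
  · obtain ⟨j, hj⟩ := hho
    refine ⟨u, v, h⁻¹, ⟨hu2', hu4', hv2', hvu', ?_, ?_⟩, ⟨j, by rw [orderOf_inv, hj]⟩⟩
    · rw [inv_inv, hact' u, h1]
    · rw [inv_inv, hact' v, h2]
      rfl

/-- **Piece G** of the Zassenhaus project. -/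
theorem pfrob {X : Type*} [Group X] [Finite X]
    (hp : ∀ P : Subgroup X, IsPGroup 2 P →
      IsCyclic P ∨ ∃ n : ℕ, Nonempty (P ≃* QuaternionGroup (2 ^ n)))
    (hnc : ¬ Cfsg.HasNormalPComplement 2 X) :
    ∃ u v g : X, PreStd u v g ∧ ∃ k : ℕ, orderOf g = 3 ^ k := by
  haveI : Fact (Nat.Prime 2) := ⟨Nat.prime_two⟩
  rw [Cfsg.Agent.Lib.helper40.hasNPC_iff_frobCond] at hnc
  unfold Cfsg.Agent.Lib.helper67.FrobCond at hnc
  push Not at hnc
  obtain ⟨Q₀, hQ, g, hg, hcop, hgc⟩ := hnc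
  have hodd : Odd (orderOf g) := Nat.coprime_two_right.1 hcop
  have hnc' : ¬ ∀ y ∈ Q₀, g * y = y * g := fun h =>
    hgc (Subgroup.mem_centralizer_iff.2 fun y hy => (h y hy).symm)
  rcases hp Q₀ hQ with hcyc | ⟨n, ⟨e⟩⟩
  · exact absurd (zg_cyc Q₀ hcyc hQ g hg hodd) hnc'
  · rcases n with _ | _ | n
    · have e' : Q₀ ≃* QuaternionGroup 1 := e
      have hcyc : IsCyclic Q₀ := by
        haveI := QuaternionGroup.quaternionGroup_one_isCyclic
        exact isCyclic_of_surjective e'.symm e'.symm.surjective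
      exact absurd (zg_cyc Q₀ hcyc hQ g hg hodd) hnc'
    · have e' : Q₀ ≃* QuaternionGroup 2 := e
      exact zg_q8 Q₀ e' g hg hodd hnc'
    · haveI : NeZero (2 ^ (n + 1 + 1)) := ⟨by positivity⟩
      have hN : 2 ^ (n + 1 + 1) ≠ 2 := by
        have : 2 ^ (n + 1 + 1) = 4 * 2 ^ n := by ring
        have h1 : 0 < 2 ^ n := by positivity
        omega
      exact absurd (zg_gq Q₀ hQ (2 ^ (n + 1 + 1)) hN e g hg hodd) hnc'

end Cfsg.Agent.Lib.helper17
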