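import Mathlib
import Cfsg.Prelude.Def_Perm
import Cfsg.Agent.Lib.helper61.BR_GT4a
import Cfsg.Agent.Lib.helper61.BR_GT4b
import Cfsg.Agent.Lib.helper61.BR_GT4c
import Cfsg.Agent.Lib.helper11.SmallSimple

/-!
# S0999 piece GT4, core (helper17): `case_n_one_core` (S0732 as a hypothesis)
-/

set_option autoImplicit false

namespace Cfsg.Agent.Lib.helper17

open Cfsg.Agent.Lib.helper21.BR in
/-- GT4 with the conclusion of S0732 as a hypothesis -/
theorem case_n_one_core {G : Type*} [Group G] [Finite G] [IsSimpleGroup G] (hG : ¬ IsCyclic G)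
    (p : ℕ) [Fact p.Prime] (d : ℕ) (hS : Nat.card (Sylow p G) = p + 1)
    (hcard : Nat.card G = (p + 1) * p * d) (hd : d < p)
    (h732 : ∀ (H : Subgroup (Equiv.Perm (Sylow p G))), MulAction.IsPretransitive H (Sylow p G) →
        Nat.card H = (p + 1) * p * d →
        (d = p - 1 ∧ Nonempty (H ≃* Matrix.ProjGenLinGroup (Fin 2) (ZMod p))) ∨
        (2 * d = p - 1 ∧
          Nonempty (H ≃* Matrix.ProjectiveSpecialLinearGroup (Fin 2) (ZMod p))) ∨
        (∃ q : ℕ, q.Prime ∧ p + 1 = 2 ^ q ∧ (d = 1 ∨ d = q) ∧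
          ∃ e : Sylow p G ≃ GaloisField 2 q, ∀ g : H,
            (e.symm.trans (((g : Equiv.Perm (Sylow p G))).trans e)) ∈
              Cfsg.semiaffineGroup (GaloisField 2 q))) :
    3 < p ∧ Nonempty (G ≃* Matrix.ProjectiveSpecialLinearGroup (Fin 2) (ZMod p)) := by
  classical
  have hp : p.Prime := Fact.out
  have hp5 : 3 < p := by
    by_contra hcon
    have hp3 : p ≤ 3 := by omega
    have hle : Nat.card G ≤ 100 := by
      rw [hcard]
      have hd2 : d ≤ 2 := by omega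
      calc (p + 1) * p * d ≤ (3 + 1) * 3 * 2 :=
            Nat.mul_le_mul (Nat.mul_le_mul (by omega) hp3) hd2
        _ ≤ 100 := by norm_num
    have h60 := Cfsg.Agent.Lib.helper11.card_eq_sixty_of_le_hundred hG hle
    rw [hcard] at h60
    have h23 : p = 2 ∨ p = 3 := by
      have := hp.two_le
      omega
    rcases h23 with rfl | rfl <;> omega
  obtain ⟨H, ⟨E⟩, hH⟩ := perm_rep_sylow (G := G) p (by rw [hS]; omega)
  have hHcard : Nat.card H = (p + 1) * p * d := by
    rw [← hcard]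
    exact (Nat.card_congr E.toEquiv).symm
  rcases h732 H hH hHcard with ⟨-, ⟨E2⟩⟩ | ⟨-, ⟨E2⟩⟩ | ⟨q, -, -, -, e, he⟩
  · exact absurd ⟨E.trans E2⟩ (pgl_not_simple hG p (by omega))
  · exact ⟨hp5, ⟨E.trans E2⟩⟩
  · exact (semiaffine_not_simple hG H ⟨E⟩ e he).elim

end Cfsg.Agent.Lib.helper17
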