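import Mathlib
import Cfsg.Agent.Lib.helper21.BRDefs
import Cfsg.Prelude.Def_Perm
import Cfsg.Agent.Lib.helper17.BR_GT4Core
import Cfsg.Agent.S0732

/-!
# S0999 piece GT4 (helper17): `case_n_one`
-/

set_option autoImplicit false

namespace Cfsg.Agent.Lib.helper21.BR

open Cfsg Cfsg.Agent.Lib.helper21

universe u

/-- GT4 -/
theorem case_n_one {G : Type*} [Group G] [Finite G] [IsSimpleGroup G] (hG : ¬ IsCyclic G)
    (p : ℕ) [Fact p.Prime] (d : ℕ) (hS : Nat.card (Sylow p G) = p + 1)
    (hcard : Nat.card G = (p + 1) * p * d) (hd : d < p) :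
    3 < p ∧ Nonempty (G ≃* Matrix.ProjectiveSpecialLinearGroup (Fin 2) (ZMod p)) :=
  Cfsg.Agent.Lib.helper17.case_n_one_core hG p d hS hcard hd (fun H hH hHc => by
    classical
    have hfin : Fintype (Sylow p G) := Fintype.ofFinite _
    have hα : Fintype.card (Sylow p G) = p + 1 := by
      rw [← Nat.card_eq_fintype_card, hS]
    exact Cfsg.Agent.S0732.result (α := Sylow p G) (Fact.out : p.Prime) hα H hHc hd)

end Cfsg.Agent.Lib.helper21.BR
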