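import Mathlib
import Cfsg.Agent.Lib.helper78.BR_GT6

/-!
# S0999 piece GT7, core (helper17): `final_group_core` (S1230 as a hypothesis)
-/

set_option autoImplicit false

namespace Cfsg.Agent.Lib.helper17

/-- Orbit counting: if the fibres of `f : G → α` are the left cosets of `S`, then
`|G| = |range f| * |S|`. -/
theorem h17_card_range_mul {G α : Type*} [Group G] (S : Subgroup G) (f : G → α)
    (hf : ∀ g g', f g = f g' ↔ g⁻¹ * g' ∈ S) : Nat.card G = Nat.card (Set.range f) * Nat.card S := by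
  rw [Subgroup.card_eq_card_quotient_mul_card_subgroup S]
  congr 1
  let φ : G ⧸ S → Set.range f := fun x => Quotient.liftOn' x (fun g => (⟨f g, g, rfl⟩ : Set.range f))
    (by
      intro a b hab
      apply Subtype.ext
      exact (hf a b).mpr (QuotientGroup.leftRel_apply.mp hab))
  apply Nat.card_congr
  refine Equiv.ofBijective φ ⟨?_, ?_⟩
  · intro a b
    induction a using QuotientGroup.induction_on with
    | H a =>
      induction b using QuotientGroup.induction_on with
      | H b =>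
        intro h
        rw [QuotientGroup.eq]
        exact (hf a b).mp (congrArg Subtype.val h)
  · rintro ⟨_, g, rfl⟩
    exact ⟨QuotientGroup.mk g, rfl⟩

open Cfsg.Agent.Lib.helper21.BR in
/-- GT7 with the conclusion of S1230 as a hypothesis -/
theorem final_group_core {G : Type*} [Group G] [Finite G] [IsSimpleGroup G]
    (p : ℕ) [Fact p.Prime] (hp5 : 5 ≤ p) (hcard : Nat.card G = p * (p - 1) * (p - 2))
    (hA : Nat.card {g : G // g ≠ 1 ∧ orderOf g ∣ p - 1} = p * (p - 2))
    (hord : ∀ g : G, p ∣ orderOf g → orderOf g = p)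
    (hmix : ∀ g : G, ¬ p ∣ orderOf g → ∀ r r' : ℕ, r.Prime → r'.Prime → r ∣ p - 1 →
      r' ∣ p - 2 → r ∣ orderOf g → r' ∣ orderOf g → False)
    (hS : ∀ T : Sylow 2 G, ¬ IsCyclic (T : Subgroup G) → ¬ (T : Subgroup G).Normal →
      (∀ t : G, orderOf t = 2 → IsMulCommutative (Subgroup.centralizer ({t} : Set G)) ∧
        ∀ c ∈ Subgroup.centralizer ({t} : Set G), c ^ 2 = 1) →
      ∃ (F : Type) (_ : Field F) (_ : Fintype F), Fintype.card F = Nat.card T ∧
        Nonempty (G ≃* Matrix.ProjectiveSpecialLinearGroup (Fin 2) F)) :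
    ∃ (m : ℕ) (F : Type) (_ : Field F) (_ : Fintype F), Fintype.card F = 2 ^ m ∧
      p = 2 ^ m + 1 ∧ 3 < p ∧
      Nonempty (G ≃* Matrix.ProjectiveSpecialLinearGroup (Fin 2) F) := by
  classical
  have hp : p.Prime := Fact.out
  have hpodd : Odd p := hp.odd_of_ne_two (by omega)
  have hev : Even (p - 1) := by
    obtain ⟨k, hk⟩ := hpodd
    exact ⟨k, by omega⟩
  have hc1 : Nat.Coprime p (p - 1) := by
    rw [Nat.Prime.coprime_iff_not_dvd hp]
    intro h
    have := Nat.le_of_dvd (by omega) h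
    omega
  have hc2 : Nat.Coprime p (p - 2) := by
    rw [Nat.Prime.coprime_iff_not_dvd hp]
    intro h
    have := Nat.le_of_dvd (by omega) h
    omega
  have hc3 : Nat.Coprime (p - 1) (p - 2) := by
    have h : p - 1 = (p - 2) + 1 := by omega
    rw [h]
    simp
  have hcentdvd : ∀ s : G, orderOf s = 2 →
      Nat.card (Subgroup.centralizer ({s} : Set G)) ∣ p - 1 :=
    fun s hs => invol_centralizer_dvd p (p - 1) (p - 2) hcard hc1 hc2 hc3 hev hord hmix s hs
  have h2dvd : 2 ∣ Nat.card G := by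
    rw [hcard]
    exact Dvd.dvd.mul_right (Dvd.dvd.mul_left hev.two_dvd _) _
  have hf2 : Fact (Nat.Prime 2) := ⟨Nat.prime_two⟩
  obtain ⟨s, hs⟩ := exists_prime_orderOf_dvd_card' 2 h2dvd
  -- the class of `s`
  have hfib : ∀ g g' : G, g * s * g⁻¹ = g' * s * g'⁻¹ ↔
      g⁻¹ * g' ∈ Subgroup.centralizer ({s} : Set G) := by
    intro g g'
    rw [Subgroup.mem_centralizer_iff]
    constructor
    · intro h x hx
      rw [Set.mem_singleton_iff] at hx
      subst hx
      have h1 : x * (g⁻¹ * g') = g⁻¹ * (g * x * g⁻¹) * g' := by group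
      rw [h1, h]
      group
    · intro h
      have h1 := h s rfl
      have h2 : g' * s * g'⁻¹ = g * (g⁻¹ * g' * s) * g'⁻¹ := by group
      rw [h2, ← h1]
      group
  have hconj : ∀ g x : G, orderOf (g * x * g⁻¹) = orderOf x := by
    intro g x
    exact orderOf_injective (MulAut.conj g).toMonoidHom (MulAut.conj g).injective x
  have hcount := h17_card_range_mul (Subgroup.centralizer ({s} : Set G))
    (fun g : G => g * s * g⁻¹) hfib
  have hrange : ∀ y ∈ Set.range (fun g : G => g * s * g⁻¹), y ≠ 1 ∧ orderOf y ∣ p - 1 := by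
    rintro _ ⟨g, rfl⟩
    have h1 : orderOf (g * s * g⁻¹) = 2 := by
      rw [hconj]
      exact hs
    refine ⟨?_, ?_⟩
    · intro h
      have h' : g * s * g⁻¹ = 1 := h
      rw [h', orderOf_one] at h1
      omega
    · rw [h1]
      exact hev.two_dvd
  have hle : Nat.card (Set.range (fun g : G => g * s * g⁻¹)) ≤ p * (p - 2) := by
    rw [← hA]
    exact Nat.card_le_card_of_injective
      (fun y : Set.range (fun g : G => g * s * g⁻¹) =>
        (⟨y.1, hrange y.1 y.2⟩ : {g : G // g ≠ 1 ∧ orderOf g ∣ p - 1}))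
      (fun y y' h => Subtype.ext
        (congrArg (fun z : {g : G // g ≠ 1 ∧ orderOf g ∣ p - 1} => (z : G)) h))
  have hCle : Nat.card (Subgroup.centralizer ({s} : Set G)) ≤ p - 1 :=
    Nat.le_of_dvd (by omega) (hcentdvd s hs)
  have hp2pos : 0 < p * (p - 2) := Nat.mul_pos (by omega) (by omega)
  have hrangeEq : Nat.card (Set.range (fun g : G => g * s * g⁻¹)) = p * (p - 2) := by
    rw [hcard] at hcount
    by_contra hne
    have hlt : Nat.card (Set.range (fun g : G => g * s * g⁻¹)) < p * (p - 2) :=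
      lt_of_le_of_ne hle hne
    have h3 : Nat.card (Set.range (fun g : G => g * s * g⁻¹)) *
        Nat.card (Subgroup.centralizer ({s} : Set G)) < p * (p - 2) * (p - 1) :=
      Nat.mul_lt_mul_of_lt_of_le hlt hCle (by omega)
    have h4 : p * (p - 1) * (p - 2) = p * (p - 2) * (p - 1) := by ring
    omega
  -- every element of `A` is an involution
  have hAinv : ∀ g : G, g ≠ 1 → orderOf g ∣ p - 1 → orderOf g = 2 := by
    intro g hg1 hgd
    have hsurj : Function.Surjective
        (fun y : Set.range (fun g : G => g * s * g⁻¹) =>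
          (⟨y.1, hrange y.1 y.2⟩ : {g : G // g ≠ 1 ∧ orderOf g ∣ p - 1})) := by
      have hinj : Function.Injective
          (fun y : Set.range (fun g : G => g * s * g⁻¹) =>
            (⟨y.1, hrange y.1 y.2⟩ : {g : G // g ≠ 1 ∧ orderOf g ∣ p - 1})) :=
        fun y y' h => Subtype.ext
          (congrArg (fun z : {g : G // g ≠ 1 ∧ orderOf g ∣ p - 1} => (z : G)) h)
      have hbij := (Nat.bijective_iff_injective_and_card _).mpr ⟨hinj, by rw [hrangeEq, hA]⟩
      exact hbij.2
    obtain ⟨⟨y, x, rfl⟩, hy⟩ := hsurj ⟨g, hg1, hgd⟩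
    have h1 : x * s * x⁻¹ = g :=
      congrArg (fun z : {g : G // g ≠ 1 ∧ orderOf g ∣ p - 1} => (z : G)) hy
    rw [← h1, hconj]
    exact hs
  have hsq : ∀ c : G, orderOf c ∣ p - 1 → c ^ 2 = 1 := by
    intro c hc
    by_cases hc1 : c = 1
    · rw [hc1, one_pow]
    · rw [← hAinv c hc1 hc]
      exact pow_orderOf_eq_one c
  -- `p - 1` is a power of two
  have hpow : ∀ {r : ℕ}, r.Prime → r ∣ p - 1 → r = 2 := by
    intro r hr hrd
    have hrG : r ∣ Nat.card G := by
      rw [hcard]
      exact Dvd.dvd.mul_right (Dvd.dvd.mul_left hrd _) _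
    have hfr : Fact r.Prime := ⟨hr⟩
    obtain ⟨g, hg⟩ := exists_prime_orderOf_dvd_card' r hrG
    have hg1 : g ≠ 1 := by
      intro h
      rw [h, orderOf_one] at hg
      exact hr.one_lt.ne hg
    rw [← hg]
    exact hAinv g hg1 (by rw [hg]; exact hrd)
  obtain ⟨m, hm⟩ : ∃ m : ℕ, p - 1 = 2 ^ m :=
    ⟨_, Nat.eq_prime_pow_of_unique_prime_dvd (by omega) hpow⟩
  have hm4 : 4 ≤ 2 ^ m := by
    rw [← hm]
    omega
  -- the Sylow 2-subgroup
  obtain ⟨T⟩ : Nonempty (Sylow 2 G) := inferInstance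
  have hodd2 : ¬ 2 ∣ p * (p - 2) := by
    intro h
    rcases (Nat.Prime.dvd_mul Nat.prime_two).mp h with h | h
    · obtain ⟨k, hk⟩ := hpodd
      omega
    · obtain ⟨k, hk⟩ := hpodd
      omega
  have hT : Nat.card (T : Subgroup G) = 2 ^ m := by
    rw [Sylow.card_eq_multiplicity, hcard]
    congr 1
    have h1 : p * (p - 1) * (p - 2) = 2 ^ m * (p * (p - 2)) := by
      rw [hm]
      ring
    rw [h1, Nat.factorization_mul (by positivity) hp2pos.ne', Nat.factorization_pow]
    simp [Nat.factorization_eq_zero_of_not_dvd hodd2, Nat.Prime.factorization_self Nat.prime_two]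
  have hTc : ¬ IsCyclic (T : Subgroup G) := by
    intro hcyc
    obtain ⟨g, hg⟩ := IsCyclic.exists_ofOrder_eq_natCard (α := (T : Subgroup G))
    rw [hT] at hg
    have h1 : orderOf (g : G) = 2 ^ m := by
      rw [Subgroup.orderOf_coe]
      exact hg
    have h2 : (g : G) ^ 2 = 1 := hsq _ (by rw [h1, hm])
    have h3 := orderOf_dvd_of_pow_eq_one h2
    rw [h1] at h3
    have := Nat.le_of_dvd (by norm_num) h3
    omega
  have hTn : ¬ (T : Subgroup G).Normal := by
    intro hn
    rcases hn.eq_bot_or_eq_top with h | h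
    · rw [h, Subgroup.card_bot] at hT
      omega
    · rw [h, Subgroup.card_top, hcard, ← hm] at hT
      have hb : 3 ≤ p - 2 := by omega
      have h1 : p - 1 < p * (p - 1) * (p - 2) :=
        calc p - 1 < 5 * (p - 1) * 3 := by omega
          _ ≤ p * (p - 1) * (p - 2) := Nat.mul_le_mul (Nat.mul_le_mul hp5 le_rfl) hb
      omega
  have hC : ∀ t : G, orderOf t = 2 → IsMulCommutative (Subgroup.centralizer ({t} : Set G)) ∧
      ∀ c ∈ Subgroup.centralizer ({t} : Set G), c ^ 2 = 1 := by
    intro t ht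
    have hsqC : ∀ c ∈ Subgroup.centralizer ({t} : Set G), c ^ 2 = 1 := by
      intro c hc
      exact hsq c ((Subgroup.orderOf_dvd_natCard _ hc).trans (hcentdvd t ht))
    refine ⟨⟨⟨fun x y => Subtype.ext ?_⟩⟩, hsqC⟩
    have hx := hsqC x x.2
    have hy := hsqC y y.2
    have hxy := hsqC (x * y) (mul_mem x.2 y.2)
    show (x : G) * (y : G) = (y : G) * (x : G)
    have hxi : (x : G)⁻¹ = x := inv_eq_of_mul_eq_one_left (by rw [← pow_two]; exact hx)
    have hyi : (y : G)⁻¹ = y := inv_eq_of_mul_eq_one_left (by rw [← pow_two]; exact hy)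
    have hxyi : ((x : G) * (y : G))⁻¹ = (x : G) * (y : G) :=
      inv_eq_of_mul_eq_one_left (by rw [← pow_two]; exact hxy)
    calc (x : G) * (y : G) = ((x : G) * (y : G))⁻¹ := hxyi.symm
      _ = (y : G)⁻¹ * (x : G)⁻¹ := mul_inv_rev _ _
      _ = (y : G) * (x : G) := by rw [hxi, hyi]
  obtain ⟨F, hF1, hF2, hFc, hiso⟩ := hS T hTc hTn hC
  refine ⟨m, F, hF1, hF2, ?_, ?_, by omega, hiso⟩
  · rw [hFc, hT]
  · omega

end Cfsg.Agent.Lib.helper17
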