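import Mathlib
import Cfsg.Agent.Lib.helper21.BRDefs
import Cfsg.Prelude.Def_Perm
import Cfsg.Agent.Lib.helper17.BR_GT7Core
import Cfsg.Agent.S1230

/-!
# S0999 piece GT7 (helper17): `final_group`
-/

set_option autoImplicit false

namespace Cfsg.Agent.Lib.helper21.BR

open Cfsg Cfsg.Agent.Lib.helper21

universe u

/-- GT7 -/
theorem final_group {G : Type*} [Group G] [Finite G] [IsSimpleGroup G] (hG : ¬ IsCyclic G)
    (p : ℕ) [Fact p.Prime] (hp5 : 5 ≤ p) (hcard : Nat.card G = p * (p - 1) * (p - 2))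
    (hA : Nat.card {g : G // g ≠ 1 ∧ orderOf g ∣ p - 1} = p * (p - 2))
    (hord : ∀ g : G, p ∣ orderOf g → orderOf g = p)
    (hmix : ∀ g : G, ¬ p ∣ orderOf g → ∀ r r' : ℕ, r.Prime → r'.Prime → r ∣ p - 1 →
      r' ∣ p - 2 → r ∣ orderOf g → r' ∣ orderOf g → False) :
    ∃ (m : ℕ) (F : Type) (_ : Field F) (_ : Fintype F), Fintype.card F = 2 ^ m ∧
      p = 2 ^ m + 1 ∧ 3 < p ∧
      Nonempty (G ≃* Matrix.ProjectiveSpecialLinearGroup (Fin 2) F) :=
  Cfsg.Agent.Lib.helper17.final_group_core p hp5 hcard hA hord hmix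
    (fun T h1 h2 h3 => Cfsg.Agent.S1230.result T h1 h2 h3)

end Cfsg.Agent.Lib.helper21.BR
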