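import Mathlib
import Cfsg.Agent.Lib.helper84.Def1Defs
import Cfsg.Agent.Lib.helper20.CentralChar
import Cfsg.Agent.Lib.helper16.Idem
import Cfsg.Agent.Lib.helper81.CharOrtho

set_option autoImplicit false

/-!
# S4441 piece C2a, core (helper17): the action of `d1E S` on an irreducible representation

Everything here takes the identity of piece C1 (`d1Eps_cast`) as an explicit hypothesis `hC1`.
-/

namespace Cfsg.Agent.Lib.helper17

open Cfsg Cfsg.Agent.Lib.helper84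
open scoped ComplexConjugate

variable {G : Type*} [Group G] [Fintype G]

/-- The image of `d1E S` in the complex group algebra. -/
theorem d1Iota_d1E (S : Finset (IrrCharacter G)) :
    d1Iota (d1E S) = ∑ g : G, MonoidAlgebra.single g ((d1Eps S g : ℤ) : ℂ) := by
  unfold d1Iota d1E
  rw [map_sum]
  apply Finset.sum_congr rfl
  intro g _
  rw [MonoidAlgebra.mapRingHom_single]
  rfl

/-- `ρ(ι E) = |G| • Σ_{χ ∈ S} (central idempotent of χ)`. -/
theorem d1_rep_d1E_eq_sum (S : Finset (IrrCharacter G))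
    (hC1 : ∀ g : G, (d1Eps S g : ℂ) = ∑ χ ∈ S, (χ : G → ℂ) 1 * (χ : G → ℂ) g⁻¹)
    {V : Type*} [AddCommGroup V] [Module ℂ V] (ρ : Representation ℂ G V) :
    ρ.asAlgebraHom (d1Iota (d1E S)) =
      (Fintype.card G : ℂ) • ∑ χ ∈ S, Cfsg.Agent.Lib.helper16.isoIdem ρ (χ : G → ℂ) := by
  have hG : (Nat.card G : ℂ) ≠ 0 := by
    exact_mod_cast (Nat.card_pos (α := G)).ne'
  rw [d1Iota_d1E, map_sum, Finset.smul_sum]
  have h1 : ∀ g : G, ρ.asAlgebraHom (MonoidAlgebra.single g ((d1Eps S g : ℤ) : ℂ)) =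
      ∑ χ ∈ S, ((χ : G → ℂ) 1 * (χ : G → ℂ) g⁻¹) • ρ g := by
    intro g
    rw [Representation.asAlgebraHom_single, hC1 g, Finset.sum_smul]
  rw [Finset.sum_congr rfl (fun g _ => h1 g), Finset.sum_comm]
  apply Finset.sum_congr rfl
  intro χ _
  unfold Cfsg.Agent.Lib.helper16.isoIdem Cfsg.Agent.Lib.helper4.opSum
    Cfsg.Agent.Lib.helper16.idemFun
  rw [Finset.smul_sum]
  apply Finset.sum_congr rfl
  intro g _
  rw [smul_smul, Cfsg.Agent.Lib.helper81.irr_inv χ g, Nat.card_eq_fintype_card]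
  congr 1
  have hG' : (Fintype.card G : ℂ) ≠ 0 := by
    rw [← Nat.card_eq_fintype_card]; exact hG
  field_simp

/-- PIECE C2a with the identity of piece C1 as a hypothesis. -/
theorem d1_rep_d1E_of (S : Finset (IrrCharacter G))
    (hC1 : ∀ g : G, (d1Eps S g : ℂ) = ∑ χ ∈ S, (χ : G → ℂ) 1 * (χ : G → ℂ) g⁻¹) (n : ℕ)
    (ρ : Representation ℂ G (Fin n → ℂ)) (hρ : ρ.IsIrreducible) :
    ((∃ χ ∈ S, ρ.character = (χ : G → ℂ)) →
        ρ.asAlgebraHom (d1Iota (d1E S)) =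
          (Fintype.card G : ℂ) • (1 : (Fin n → ℂ) →ₗ[ℂ] (Fin n → ℂ))) ∧
      ((¬ ∃ χ ∈ S, ρ.character = (χ : G → ℂ)) → ρ.asAlgebraHom (d1Iota (d1E S)) = 0) := by
  classical
  have := hρ
  rw [d1_rep_d1E_eq_sum S hC1 ρ]
  have hterm : ∀ χ : IrrCharacter G, Cfsg.Agent.Lib.helper16.isoIdem ρ (χ : G → ℂ) =
      if ρ.character = (χ : G → ℂ) then 1 else 0 :=
    fun χ => Cfsg.Agent.Lib.helper16.isoIdem_of_irr ρ χ.2
  rw [Finset.sum_congr rfl (fun χ _ => hterm χ)]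
  constructor
  · rintro ⟨χ₀, hχ₀, hρχ⟩
    rw [Finset.sum_eq_single χ₀]
    · rw [if_pos hρχ]
    · intro χ _ hne
      rw [if_neg]
      intro h
      exact hne (Subtype.ext (h.symm.trans hρχ))
    · intro h
      exact absurd hχ₀ h
  · intro hno
    rw [Finset.sum_eq_zero, smul_zero]
    intro χ hχ
    rw [if_neg]
    intro h
    exact hno ⟨χ, hχ, h⟩

end Cfsg.Agent.Lib.helper17
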