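import Mathlib
import Cfsg.Agent.Lib.helper17.D1C2aCore
import Cfsg.Agent.Lib.helper19.D1C1

set_option autoImplicit false

/-!
# S4441 piece C2a (helper17): exact statement
-/

namespace Cfsg.Agent.Lib.helper17

open Cfsg Cfsg.Agent.Lib.helper84

variable {G : Type*} [Group G] [Fintype G]

/-- PIECE C2a. -/
theorem d1_rep_d1E (S : Finset (IrrCharacter G)) (hS : d1GalStable S) (n : ℕ)
    (ρ : Representation ℂ G (Fin n → ℂ)) (hρ : ρ.IsIrreducible) :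
    ((∃ χ ∈ S, ρ.character = (χ : G → ℂ)) →
        ρ.asAlgebraHom (d1Iota (d1E S)) = (Fintype.card G : ℂ) • (1 : (Fin n → ℂ) →ₗ[ℂ] (Fin n → ℂ))) ∧
      ((¬ ∃ χ ∈ S, ρ.character = (χ : G → ℂ)) → ρ.asAlgebraHom (d1Iota (d1E S)) = 0) :=
  d1_rep_d1E_of S (Cfsg.Agent.Lib.helper19.d1Eps_cast S hS) n ρ hρ

end Cfsg.Agent.Lib.helper17
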