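import Mathlib
import Cfsg.Agent.Lib.helper17.D1C2aCore
import Cfsg.Agent.Lib.helper4.Regular

set_option autoImplicit false

/-!
# S4441 piece C3, core (helper17)

`d1E S` is central, `d1E S * d1E S = |G| d1E S`, and an element of the lattice `d1L S` kills every
element of the complex group algebra that is killed by the irreducible representations with
character in `S`.  The identity of piece C1 (`d1Eps_cast`) is an explicit hypothesis `hC1`.
-/

namespace Cfsg.Agent.Lib.helper17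

open Cfsg Cfsg.Agent.Lib.helper84
open scoped ComplexConjugate

variable {G : Type*} [Group G] [Fintype G]

/-- The coefficients of `d1E S` form a class function. -/
theorem d1Eps_conj (S : Finset (IrrCharacter G)) (g h : G) :
    d1Eps S (h * g * h⁻¹) = d1Eps S g := by
  unfold d1Eps
  have h1 : ∀ χ : IrrCharacter G, (χ : G → ℂ) (h * g * h⁻¹)⁻¹ = (χ : G → ℂ) g⁻¹ := by
    intro χ
    have h2 : (h * g * h⁻¹)⁻¹ = h * g⁻¹ * h⁻¹ := by group
    rw [h2]
    exact Cfsg.Agent.Lib.helper4.isClassFunction_of_isIrrCharacter χ.2 g⁻¹ h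
  rw [Finset.sum_congr rfl (fun χ _ => by rw [h1 χ])]

theorem of_mul_d1E (S : Finset (IrrCharacter G)) (h : G) :
    MonoidAlgebra.of ℤ G h * d1E S = d1E S * MonoidAlgebra.of ℤ G h := by
  unfold d1E
  rw [Finset.mul_sum, Finset.sum_mul]
  refine Fintype.sum_equiv (MulAut.conj h).toEquiv _ _ (fun g => ?_)
  simp only [MulEquiv.toEquiv_eq_coe, MulEquiv.coe_toEquiv, MulAut.conj_apply,
    MonoidAlgebra.of_apply, MonoidAlgebra.single_mul_single, one_mul, mul_one]
  rw [d1Eps_conj, inv_mul_cancel_right]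

/-- PIECE C3 (second statement); no hypothesis is needed. -/
theorem d1E_comm_core (S : Finset (IrrCharacter G)) (a : MonoidAlgebra ℤ G) :
    a * d1E S = d1E S * a := by
  induction a using MonoidAlgebra.induction_on with
  | of m => exact of_mul_d1E S m
  | add x y hx hy => rw [add_mul, mul_add, hx, hy]
  | smul r x hx => rw [smul_mul_assoc, mul_smul_comm, hx]

theorem d1Iota_injective : Function.Injective (d1Iota (G := G)) := by
  intro a b hab
  apply MonoidAlgebra.ext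
  ext g
  have h := congrArg (fun x : MonoidAlgebra ℂ G => x.coeff g) hab
  simp only [d1Iota, MonoidAlgebra.coeff_mapRingHom] at h
  exact (Int.castRingHom ℂ).injective_int h

/-- The twisted character sums of an element killed by one irreducible representation for each
character. -/
theorem d1c3_sum_coeff_irr_eq_zero (b : MonoidAlgebra ℂ G) (χ : IrrCharacter G)
    (hb : ∃ (n : ℕ) (ρ : Representation ℂ G (Fin n → ℂ)),
      ρ.IsIrreducible ∧ ρ.character = (χ : G → ℂ) ∧ ρ.asAlgebraHom b = 0) (h : G) :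
    ∑ g : G, b.coeff g * (χ : G → ℂ) (h⁻¹ * g) = 0 := by
  classical
  obtain ⟨n, ρ, hρ, hχ, hb0⟩ := hb
  have h1 : ρ.asAlgebraHom (MonoidAlgebra.single h⁻¹ 1 * b) = 0 := by
    rw [map_mul, hb0, mul_zero]
  have h2 := Cfsg.Agent.Lib.helper20.trace_asAlgebraHom ρ (MonoidAlgebra.single h⁻¹ 1 * b)
  rw [h1, map_zero] at h2
  rw [← hχ]
  rw [h2]
  apply Finset.sum_equiv (Equiv.mulLeft h⁻¹)
  · intro g
    simp
  · intro g _
    rw [MonoidAlgebra.coeff_single_mul_apply, one_mul, inv_inv]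
    simp

/-- An element of the complex group algebra killed by one irreducible representation for each
irreducible character is zero (the statement of piece C2b'). -/
theorem d1c3_eq_zero_of_rep_zero (b : MonoidAlgebra ℂ G)
    (hb : ∀ χ : IrrCharacter G, ∃ (n : ℕ) (ρ : Representation ℂ G (Fin n → ℂ)),
      ρ.IsIrreducible ∧ ρ.character = (χ : G → ℂ) ∧ ρ.asAlgebraHom b = 0) : b = 0 := by
  classical
  have := Fintype.ofFinite (Cfsg.IrrCharacter G)
  apply MonoidAlgebra.ext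
  ext h
  rw [MonoidAlgebra.coeff_zero, Finsupp.zero_apply]
  have key : ∑ χ : IrrCharacter G, (χ : G → ℂ) 1 *
      ∑ g : G, b.coeff g * (χ : G → ℂ) (h⁻¹ * g) = 0 := by
    apply Finset.sum_eq_zero
    intro χ _
    rw [d1c3_sum_coeff_irr_eq_zero b χ (hb χ) h, mul_zero]
  have h1 : ∑ χ : IrrCharacter G, (χ : G → ℂ) 1 *
      ∑ g : G, b.coeff g * (χ : G → ℂ) (h⁻¹ * g) =
      ∑ g : G, b.coeff g * ∑ χ : IrrCharacter G, (χ : G → ℂ) 1 * (χ : G → ℂ) (h⁻¹ * g) := by
    simp_rw [Finset.mul_sum]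
    rw [Finset.sum_comm]
    apply Finset.sum_congr rfl
    intro g _
    apply Finset.sum_congr rfl
    intro χ _
    ring
  rw [h1] at key
  simp_rw [Cfsg.Agent.Lib.helper4.sum_irr_degree_mul] at key
  rw [Finset.sum_eq_single h] at key
  · rw [if_pos (inv_mul_cancel h)] at key
    have hG : (Nat.card G : ℂ) ≠ 0 := by
      exact_mod_cast (Nat.card_pos (α := G)).ne'
    exact (mul_eq_zero.mp key).resolve_right hG
  · intro g _ hg
    rw [if_neg, mul_zero]
    intro h2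
    apply hg
    exact (inv_mul_eq_one.mp h2).symm
  · intro h2
    exact absurd (Finset.mem_univ h) h2

/-- `ι E * b = 0` as soon as `b` is killed by one irreducible representation for each character
in `S`. -/
theorem d1Iota_d1E_mul_eq_zero (S : Finset (IrrCharacter G))
    (hC1 : ∀ g : G, (d1Eps S g : ℂ) = ∑ χ ∈ S, (χ : G → ℂ) 1 * (χ : G → ℂ) g⁻¹)
    (b : MonoidAlgebra ℂ G)
    (hb : ∀ χ ∈ S, ∃ (n : ℕ) (ρ : Representation ℂ G (Fin n → ℂ)),
      ρ.IsIrreducible ∧ ρ.character = (χ : G → ℂ) ∧ ρ.asAlgebraHom b = 0) :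
    d1Iota (d1E S) * b = 0 := by
  apply d1c3_eq_zero_of_rep_zero
  intro χ
  by_cases hχ : χ ∈ S
  · obtain ⟨n, ρ, hρ, hc, h0⟩ := hb χ hχ
    exact ⟨n, ρ, hρ, hc, by rw [map_mul, h0, mul_zero]⟩
  · obtain ⟨n, ρ, hρ, hc⟩ := χ.2
    refine ⟨n, ρ, hρ, hc, ?_⟩
    have hno : ¬ ∃ ψ ∈ S, ρ.character = (ψ : G → ℂ) := by
      rintro ⟨ψ, hψ, hψc⟩
      exact hχ ((Subtype.ext (hc.symm.trans hψc) : χ = ψ) ▸ hψ)
    rw [map_mul, (d1_rep_d1E_of S hC1 n ρ hρ).2 hno, zero_mul]

/-- PIECE C3 (first statement) with the identity of piece C1 as a hypothesis. -/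
theorem d1_mul_eq_zero_of_rep_zero_of (S : Finset (IrrCharacter G))
    (hC1 : ∀ g : G, (d1Eps S g : ℂ) = ∑ χ ∈ S, (χ : G → ℂ) 1 * (χ : G → ℂ) g⁻¹)
    (a : MonoidAlgebra ℤ G) (ha : a ∈ d1L S) (b : MonoidAlgebra ℂ G)
    (hb : ∀ χ ∈ S, ∃ (n : ℕ) (ρ : Representation ℂ G (Fin n → ℂ)),
      ρ.IsIrreducible ∧ ρ.character = (χ : G → ℂ) ∧ ρ.asAlgebraHom b = 0) :
    d1Iota a * b = 0 := by
  rw [mem_d1L] at ha
  have h1 : d1Iota a * (d1Iota (d1E S) * b) = (Fintype.card G : ℂ) • (d1Iota a * b) := by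
    rw [← mul_assoc, ← map_mul, ha, map_zsmul, smul_mul_assoc, ← Int.cast_smul_eq_zsmul ℂ]
    push_cast
    rfl
  rw [d1Iota_d1E_mul_eq_zero S hC1 b hb, mul_zero] at h1
  have hG : (Fintype.card G : ℂ) ≠ 0 := by
    exact_mod_cast (Fintype.card_pos (α := G)).ne'
  exact (smul_eq_zero.mp h1.symm).resolve_left hG

/-- PIECE C3 (third statement) with the identity of piece C1 as a hypothesis. -/
theorem d1E_mem_of (S : Finset (IrrCharacter G))
    (hC1 : ∀ g : G, (d1Eps S g : ℂ) = ∑ χ ∈ S, (χ : G → ℂ) 1 * (χ : G → ℂ) g⁻¹) :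
    d1E S ∈ d1L S := by
  rw [mem_d1L]
  apply d1Iota_injective
  rw [← sub_eq_zero]
  apply d1c3_eq_zero_of_rep_zero
  intro χ
  obtain ⟨n, ρ, hρ, hc⟩ := χ.2
  refine ⟨n, ρ, hρ, hc, ?_⟩
  have hE := d1_rep_d1E_of S hC1 n ρ hρ
  rw [map_sub, map_mul, map_mul, map_zsmul, map_zsmul]
  by_cases hex : ∃ ψ ∈ S, ρ.character = (ψ : G → ℂ)
  · rw [hE.1 hex, ← Int.cast_smul_eq_zsmul ℂ, smul_mul_smul_comm, mul_one, smul_smul]
    push_cast
    exact sub_self _
  · rw [hE.2 hex]
    simp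

end Cfsg.Agent.Lib.helper17
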