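import Mathlib
import Cfsg.Agent.Lib.helper17.D1C3Core
import Cfsg.Agent.Lib.helper19.D1C1

set_option autoImplicit false

/-!
# S4441 piece C3 (helper17): exact statements
-/

namespace Cfsg.Agent.Lib.helper17

open Cfsg Cfsg.Agent.Lib.helper84

variable {G : Type*} [Group G] [Fintype G]

/-- PIECE C3 (four statements; uses C1, C2a, C2b'). -/
theorem d1_mul_eq_zero_of_rep_zero' (S : Finset (IrrCharacter G)) (hS : d1GalStable S)
    (a : MonoidAlgebra ℤ G) (ha : a ∈ d1L S) (b : MonoidAlgebra ℂ G)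
    (hb : ∀ χ ∈ S, ∃ (n : ℕ) (ρ : Representation ℂ G (Fin n → ℂ)),
      ρ.IsIrreducible ∧ ρ.character = (χ : G → ℂ) ∧ ρ.asAlgebraHom b = 0) :
    d1Iota a * b = 0 :=
  d1_mul_eq_zero_of_rep_zero_of S (Cfsg.Agent.Lib.helper19.d1Eps_cast S hS) a ha b hb

theorem d1E_comm (S : Finset (IrrCharacter G)) (hS : d1GalStable S) (a : MonoidAlgebra ℤ G) :
    a * d1E S = d1E S * a :=
  d1E_comm_core S a

theorem d1E_mem (S : Finset (IrrCharacter G)) (hS : d1GalStable S) : d1E S ∈ d1L S :=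
  d1E_mem_of S (Cfsg.Agent.Lib.helper19.d1Eps_cast S hS)

theorem d1_mul_eq_zero_of_rep_zero (S : Finset (IrrCharacter G)) (hS : d1GalStable S)
    (a : MonoidAlgebra ℤ G) (ha : a ∈ d1L S) (b : MonoidAlgebra ℂ G)
    (hb : ∀ (n : ℕ) (ρ : Representation ℂ G (Fin n → ℂ)), ρ.IsIrreducible →
      (∃ χ ∈ S, ρ.character = (χ : G → ℂ)) → ρ.asAlgebraHom b = 0) :
    d1Iota a * b = 0 := by
  apply d1_mul_eq_zero_of_rep_zero' S hS a ha b
  intro χ hχ
  obtain ⟨n, ρ, hρ, hc⟩ := χ.2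
  exact ⟨n, ρ, hρ, hc, hb n ρ hρ ⟨χ, hχ, hc⟩⟩

end Cfsg.Agent.Lib.helper17
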