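import Cfsg.Agent.Lib.helper42.FGDefs
import Cfsg.Agent.Lib.helper28.FGT2B

/-!
S1915 piece T2C3 (helper17, racer copy): `h17_case_faithful_k1`.
-/

set_option autoImplicit false

namespace Cfsg.Agent.Lib.helper42.FG

variable {G : Type*} [Group G] [Finite G]

/-- two distinct commuting involutions of `S` centralized by `u ≠ 1` in `U` contradict `hb` -/
theorem h17_two_invol_false {A S U : Subgroup G} (h : Cfg A S U) {u : G} (hu : u ∈ U) (hu1 : u ≠ 1)
    {x y : G} (hx : x ∈ S) (hy : y ∈ S) (hx2 : x ^ 2 = 1) (hy2 : y ^ 2 = 1) (hx1 : x ≠ 1) (hy1 : y ≠ 1)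
    (hxy : x ≠ y) (hc : x * y = y * x) (hux : u * x = x * u) (huy : u * y = y * u) : False := by
  classical
  have hxE : x ∈ Subgroup.closure ({x, y} : Set G) := Subgroup.subset_closure (by simp)
  have hyE : y ∈ Subgroup.closure ({x, y} : Set G) := Subgroup.subset_closure (by simp)
  have hES : Subgroup.closure ({x, y} : Set G) ≤ S := by
    rw [Subgroup.closure_le]
    intro e he
    rcases he with rfl | rfl
    · exact hx
    · exact hy
  have hEu : ∀ e ∈ Subgroup.closure ({x, y} : Set G), u * e = e * u := by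
    have h1 : Subgroup.closure ({x, y} : Set G) ≤ Subgroup.centralizer {u} := by
      rw [Subgroup.closure_le]
      intro e he
      rw [SetLike.mem_coe, Subgroup.mem_centralizer_iff]
      intro g hg
      rw [Set.mem_singleton_iff] at hg
      rw [hg]
      rcases he with rfl | rfl
      · exact hux
      · exact huy
    intro e he
    exact Subgroup.mem_centralizer_iff.mp (h1 he) u (Set.mem_singleton u)
  have hExy : ∀ e ∈ Subgroup.closure ({x, y} : Set G), x * e = e * x ∧ y * e = e * y := by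
    have h1 : Subgroup.closure ({x, y} : Set G) ≤ Subgroup.centralizer {x, y} := by
      rw [Subgroup.closure_le]
      intro e he
      rw [SetLike.mem_coe, Subgroup.mem_centralizer_iff]
      intro g hg
      rcases he with rfl | rfl <;> rcases hg with rfl | rfl
      · rfl
      · exact hc.symm
      · exact hc
      · rfl
    intro e he
    have h2 := Subgroup.mem_centralizer_iff.mp (h1 he)
    exact ⟨h2 x (by simp), h2 y (by simp)⟩
  have hEcomm : ∀ a ∈ Subgroup.closure ({x, y} : Set G),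
      ∀ c ∈ Subgroup.closure ({x, y} : Set G), a * c = c * a := by
    intro a ha c hc'
    have h1 : Subgroup.closure ({x, y} : Set G) ≤ Subgroup.centralizer {a} := by
      rw [Subgroup.closure_le]
      intro e he
      rw [SetLike.mem_coe, Subgroup.mem_centralizer_iff]
      intro g hg
      rw [Set.mem_singleton_iff] at hg
      rw [hg]
      rcases he with rfl | rfl
      · exact ((hExy a ha).1).symm
      · exact ((hExy a ha).2).symm
    exact Subgroup.mem_centralizer_iff.mp (h1 hc') a (Set.mem_singleton a)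
  have hE2 : ∀ e ∈ Subgroup.closure ({x, y} : Set G), e ^ 2 = 1 := by
    intro e he
    induction he using Subgroup.closure_induction with
    | mem e he =>
      rcases he with rfl | rfl
      · exact hx2
      · exact hy2
    | one => simp
    | mul a c ha hc' iha ihc =>
      rw [pow_two] at iha ihc ⊢
      calc a * c * (a * c) = a * (c * a) * c := by group
        _ = a * (a * c) * c := by rw [hEcomm c hc' a ha]
        _ = (a * a) * (c * c) := by group
        _ = 1 := by rw [iha, ihc, one_mul]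
    | inv a ha iha =>
      rw [inv_pow, iha, inv_one]
  have hcard := h.hb u hu hu1 (Subgroup.closure ({x, y} : Set G)) hES hEu ⟨hEcomm, hE2⟩
  haveI : Fintype ↥(Subgroup.closure ({x, y} : Set G)) := Fintype.ofFinite _
  have h3 : ({⟨1, Subgroup.one_mem _⟩, ⟨x, hxE⟩, ⟨y, hyE⟩} :
      Finset ↥(Subgroup.closure ({x, y} : Set G))).card = 3 := by
    refine Finset.card_eq_three.2 ⟨_, _, _, ?_, ?_, ?_, rfl⟩
    · intro h0; exact hx1 (congrArg Subtype.val h0).symm
    · intro h0; exact hy1 (congrArg Subtype.val h0).symm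
    · intro h0; exact hxy (congrArg Subtype.val h0)
  have h4 := Finset.card_le_univ ({⟨1, Subgroup.one_mem _⟩, ⟨x, hxE⟩, ⟨y, hyE⟩} :
      Finset ↥(Subgroup.closure ({x, y} : Set G)))
  rw [h3, ← Nat.card_eq_fintype_card] at h4
  omega

/-- T2C3 (racer copy of `case_faithful_k1`) -/
theorem h17_case_faithful_k1 {A S U : Subgroup G} (h : Cfg A S U) {B : Subgroup G} (hB : BData S U B)
    {z : G} (hzB : z ∈ B) (hz : ZData S z) (b : G) (hb : Subgroup.zpowers b = B) (hbz : b * b ≠ z)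
    (u₀ : G) (hu₀ : u₀ ∈ U) (hu₀b : u₀ * b * u₀⁻¹ = b * z) :
    (∀ s ∈ S, s ∉ B → s ^ 2 = 1 → u₀ * s * u₀⁻¹ = s * z) ∧ K1 S z := by
  classical
  have hz1 : z ≠ 1 := by
    intro h0
    have := hz.hz2
    rw [h0, orderOf_one] at this
    omega
  have hz2 : z ^ 2 = 1 := by
    have := pow_orderOf_eq_one z
    rwa [hz.hz2] at this
  have hzz : z * z = 1 := by rw [← pow_two]; exact hz2
  have hzinv : z⁻¹ = z := inv_eq_of_mul_eq_one_left hzz
  have hz2' : z ^ (2:ℤ) = 1 := by rw [zpow_ofNat]; exact hz2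
  have hcomm : ∀ x ∈ B, ∀ y ∈ B, x * y = y * x := fun x hx y hy =>
    helper28_cyc_comm hB.hcyc hx hy
  have hinv : ∀ x ∈ B, x ^ 2 = 1 → x = 1 ∨ x = z := fun x hx hx2 =>
    helper28_cyc_inv hB.hcyc hzB hz1 hz2 hx hx2
  have hidx : (B.subgroupOf S).index = 2 := hB.hidx
  have hmul : ∀ a ∈ S, ∀ c ∈ S, (a * c ∈ B ↔ (a ∈ B ↔ c ∈ B)) := by
    intro a ha c hc
    have := Subgroup.mul_mem_iff_of_index_two hidx (a := ⟨a, ha⟩) (b := ⟨c, hc⟩)
    simpa [Subgroup.mem_subgroupOf] using this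
  have hu2 : u₀ * u₀ = 1 := by
    haveI := h.hU
    have h1 : (⟨u₀, hu₀⟩ : ↥U) ^ 2 = 1 := by
      have := Monoid.pow_exponent_eq_one (⟨u₀, hu₀⟩ : ↥U)
      rwa [IsKleinFour.exponent_two] at this
    have h2 := congrArg Subtype.val h1
    simpa [pow_two] using h2
  have huinv : u₀⁻¹ = u₀ := inv_eq_of_mul_eq_one_left hu2
  have huS : ∀ y, y ∈ S ↔ u₀ * y * u₀⁻¹ ∈ S := Subgroup.mem_normalizer_iff.mp (h.hUS hu₀)
  have huBn : ∀ y, y ∈ B ↔ u₀ * y * u₀⁻¹ ∈ B := Subgroup.mem_normalizer_iff.mp (hB.hUB hu₀)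
  have hbB : b ∈ B := by rw [← hb]; exact Subgroup.mem_zpowers b
  have hbS : b ∈ S := hB.hBS hbB
  have hzS : z ∈ S := hz.hzS
  have hbzc : Commute b z := hcomm b hbB z hzB
  have hu1 : u₀ ≠ 1 := by
    intro h0
    rw [h0] at hu₀b
    apply hz1
    have h1 : b * z = b * 1 := by
      rw [mul_one]
      simpa using hu₀b.symm
    exact mul_left_cancel h1
  have huz : u₀ * z * u₀⁻¹ = z := by
    have h1 : u₀ * z * u₀⁻¹ ∈ B := (huBn z).mp hzB
    have h2 : (u₀ * z * u₀⁻¹) ^ 2 = 1 := by rw [conj_pow, hz2]; group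
    rcases hinv _ h1 h2 with h0 | h0
    · exfalso; apply hz1
      have e : z = u₀⁻¹ * (u₀ * z * u₀⁻¹) * u₀ := by group
      rw [e, h0]; group
    · exact h0
  have huz' : u₀ * z = z * u₀ := mul_inv_eq_iff_eq_mul.mp huz
  have hb2pow : ∃ m : ℕ, orderOf b = 2 ^ m := by
    have h1 : orderOf b ∣ Nat.card S := Subgroup.orderOf_dvd_natCard S hbS
    rw [h.hSyl] at h1
    obtain ⟨m, -, hm⟩ := (Nat.dvd_prime_pow Nat.prime_two).mp h1
    exact ⟨m, hm⟩
  have hdich : ∀ x ∈ S, u₀ * x * u₀⁻¹ = x ∨ u₀ * x * u₀⁻¹ = x * z := by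
    intro x hx
    have hux : u₀ * x * u₀⁻¹ ∈ S := (huS x).mp hx
    obtain ⟨b₁, hb₁B, hus⟩ : ∃ b₁ ∈ B, u₀ * x * u₀⁻¹ = x * b₁ := by
      refine ⟨x⁻¹ * (u₀ * x * u₀⁻¹), ?_, by group⟩
      rw [hmul _ (S.inv_mem hx) _ hux, B.inv_mem_iff]
      exact huBn x
    obtain ⟨j, hj⟩ : ∃ j : ℤ, b ^ j = b₁ := by
      rw [← hb] at hb₁B; exact Subgroup.mem_zpowers_iff.mp hb₁B
    have hub₁ : u₀ * b₁ * u₀⁻¹ = b₁ * z ^ j := by
      rw [← hj, ← conj_zpow, hu₀b]
      exact hbzc.mul_zpow j
    have hkey : b₁ * (b₁ * z ^ j) = 1 := by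
      have h1 : u₀ * (u₀ * x * u₀⁻¹) * u₀⁻¹ = x := by
        rw [huinv]
        calc u₀ * (u₀ * x * u₀) * u₀ = (u₀ * u₀) * x * (u₀ * u₀) := by group
          _ = x := by rw [hu2, one_mul, mul_one]
      have h2 : u₀ * (x * b₁) * u₀⁻¹ = x * b₁ * (b₁ * z ^ j) := by
        calc u₀ * (x * b₁) * u₀⁻¹ = (u₀ * x * u₀⁻¹) * (u₀ * b₁ * u₀⁻¹) := by group
          _ = x * b₁ * (b₁ * z ^ j) := by rw [hus, hub₁]
      rw [hus, h2] at h1
      have h3 : x * (b₁ * (b₁ * z ^ j)) = x * 1 := by rw [mul_one, ← mul_assoc]; exact h1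
      exact mul_left_cancel h3
    rcases Int.emod_two_eq_zero_or_one j with h0 | h1
    · obtain ⟨q, hq⟩ : ∃ q, j = 2 * q := ⟨j / 2, by omega⟩
      have hzj : z ^ j = 1 := by rw [hq, zpow_mul, hz2', one_zpow]
      rw [hzj, mul_one] at hkey
      rcases hinv b₁ hb₁B (by rw [pow_two]; exact hkey) with h3 | h3
      · left; rw [hus, h3, mul_one]
      · right; rw [hus, h3]
    · exfalso
      obtain ⟨q, hq⟩ : ∃ q, j = 1 + 2 * q := ⟨j / 2, by omega⟩
      have hzj : z ^ j = z := by rw [hq, zpow_add, zpow_mul, hz2', one_zpow, mul_one, zpow_one]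
      rw [hzj] at hkey
      have h3 : b₁ * b₁ = z := by
        have h4 : b₁ * b₁ * z = 1 := by rw [mul_assoc]; exact hkey
        have h5 := eq_inv_of_mul_eq_one_left h4
        rw [h5, hzinv]
      have h5 : b ^ (2 * j) = z := by rw [two_mul, zpow_add, hj]; exact h3
      have h6 : b ^ (4 * j) = 1 := by
        have e : (4:ℤ) * j = 2 * j + 2 * j := by ring
        rw [e, zpow_add, h5]; exact hzz
      have h7 := orderOf_dvd_iff_zpow_eq_one.mpr h6
      obtain ⟨m, hm⟩ := hb2pow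
      rw [hm] at h7
      have hcop : IsCoprime ((2:ℤ) ^ m) j := by
        apply IsCoprime.pow_left
        exact ⟨-q, 1, by omega⟩
      have h8 : (2:ℤ) ^ m ∣ 4 := hcop.dvd_of_dvd_mul_right (by exact_mod_cast h7)
      have h9 : b ^ (4:ℤ) = 1 := by
        apply orderOf_dvd_iff_zpow_eq_one.mp
        rw [hm]; exact_mod_cast h8
      apply hbz
      have e2 : b * b = b ^ (2 * j) := by
        have e : 2 * j = 2 + 4 * q := by omega
        rw [e, zpow_add, zpow_mul, h9, one_zpow, mul_one, zpow_ofNat, pow_two]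
      rw [e2, h5]
  have hQ : ∀ x, x ∈ S → (x ∈ S ⊓ Subgroup.centralizer {u₀} ↔ u₀ * x * u₀⁻¹ = x) := by
    intro x hx
    rw [Subgroup.mem_inf, Subgroup.mem_centralizer_iff, mul_inv_eq_iff_eq_mul]
    simp [hx]
  refine ⟨?_, S ⊓ Subgroup.centralizer {u₀}, inf_le_left, ?_, ?_, ?_⟩
  · intro s hs hsB hs2
    rcases hdich s hs with h1 | h1
    · exfalso
      have hs1 : s ≠ 1 := by
        intro h0; rw [h0] at hsB; exact hsB B.one_mem
      have hzs : z ≠ s := by
        intro h0; rw [← h0] at hsB; exact hsB hzB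
      exact h17_two_invol_false h hu₀ hu1 hzS hs hz2 hs2 hz1 hs1 hzs (hz.hzc s hs).symm huz'
        (mul_inv_eq_iff_eq_mul.mp h1)
    · exact h1
  · show ((S ⊓ Subgroup.centralizer {u₀}).subgroupOf S).index = 2
    rw [Subgroup.index_eq_two_iff]
    refine ⟨⟨b, hbS⟩, ?_⟩
    rintro ⟨x, hx⟩
    rw [Subgroup.mem_subgroupOf, Subgroup.mem_subgroupOf]
    show Xor' (x * b ∈ S ⊓ Subgroup.centralizer {u₀}) (x ∈ S ⊓ Subgroup.centralizer {u₀})
    rw [hQ _ (S.mul_mem hx hbS), hQ _ hx]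
    have e : u₀ * (x * b) * u₀⁻¹ = (u₀ * x * u₀⁻¹) * (b * z) := by rw [← hu₀b]; group
    rcases hdich x hx with h1 | h1
    · right
      refine ⟨h1, ?_⟩
      rw [e, h1]
      intro h2
      apply hz1
      have h3 : x * b * z = x * b * 1 := by rw [mul_one, mul_assoc]; exact h2
      exact mul_left_cancel h3
    · left
      refine ⟨?_, ?_⟩
      · rw [e, h1]
        have hzb' : z * b = b * z := (hcomm b hbB z hzB).symm
        calc x * z * (b * z) = x * (z * b) * z := by group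
          _ = x * (b * z) * z := by rw [hzb']
          _ = x * b * (z * z) := by group
          _ = x * b := by rw [hzz, mul_one]
      · rw [h1]
        intro h2
        apply hz1
        have h3 : x * z = x * 1 := by rw [mul_one]; exact h2
        exact mul_left_cancel h3
  · exact (hQ z hzS).mpr huz
  · intro q hq hq2
    have hqS : q ∈ S := (Subgroup.mem_inf.mp hq).1
    have hqu : u₀ * q * u₀⁻¹ = q := (hQ q hqS).mp hq
    by_contra hcon
    push Not at hcon
    exact h17_two_invol_false h hu₀ hu1 hzS hqS hz2 hq2 hz1 hcon.1 (Ne.symm hcon.2)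
      (hz.hzc q hqS).symm huz' (mul_inv_eq_iff_eq_mul.mp hqu)

end Cfsg.Agent.Lib.helper42.FG
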