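import Mathlib
import Cfsg.Agent.Lib.helper17.G2U3Defs

/-!
Certificates for the data of `G₂(2)′ ≅ PSU₃(3)`, all by evaluation.
-/

set_option autoImplicit false
set_option maxRecDepth 1000000

namespace Cfsg.Agent.Lib.helper17

open Cfsg Matrix
open Cfsg.Agent.Lib.helper17.G9

theorem g2_cert2 : ∀ j : Fin 56, ∀ i : Fin 63,
    ∃ c : G9, c ≠ 0 ∧ g2T j *ᵥ g2P i = c • g2P (g2tauF j i) := by
  decide +kernel

theorem g2_P_irr : ∀ j l : Fin 63, ∀ c : G9, c ≠ 0 → g2P j = c • g2P l → j = l := by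
  decide +kernel

theorem g2_P_noniso : ∀ j : Fin 63, hermForm 3 G9 3 (g2P j) (g2P j) ≠ 0 := by
  decide +kernel

theorem g2_P_cover : ∀ a b c : G9, hermForm 3 G9 3 ![a, b, c] ![a, b, c] ≠ 0 →
    ∃ j : Fin 63, ∃ e : G9, e ≠ 0 ∧ (![a, b, c] : Fin 3 → G9) = e • g2P j := by
  decide +kernel

theorem g2_iso_cover : ∀ a b c : G9, hermForm 3 G9 3 ![a, b, c] ![a, b, c] = 0 →
    (![a, b, c] : Fin 3 → G9) = 0 ∨
    ∃ k : Fin 56, ∃ e : G9, e * e ^ 3 = 1 ∧ (![a, b, c] : Fin 3 → G9) = e • g2IsoV k := by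
  decide +kernel

theorem g2_iso_isotropic : ∀ k : Fin 56, hermForm 3 G9 3 (g2IsoV k) (g2IsoV k) = 0 := by
  decide +kernel

theorem g2_unitary_cases : ∀ a b c s : G9,
    hermForm 3 G9 3 ![a, b, c] ![a, b, c] = 0 →
    (∀ x : Fin 3,
      hermForm 3 G9 3 (unitaryTransvection 3 3 ![a, b, c] s *ᵥ Pi.single x 1)
        (unitaryTransvection 3 3 ![a, b, c] s *ᵥ Pi.single x 1) =
      hermForm 3 G9 3 (Pi.single x (1 : G9)) (Pi.single x 1)) →
    s = 0 ∨ s = g2w ∨ s = -g2w ∨ (![a, b, c] : Fin 3 → G9) = 0 := by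
  decide +kernel

theorem g2_tv_neg : ∀ k : Fin 56,
    unitaryTransvection 3 3 (g2IsoV k) (-g2w) = g2T (g2tinv k) := by
  decide +kernel

theorem g2_tau_inv : ∀ j : Fin 56, ∀ i : Fin 63,
    g2tauF (g2tinv j) (g2tauF j i) = i ∧ g2tauF j (g2tauF (g2tinv j) i) = i := by
  decide +kernel

theorem g2_sig_inv : ∀ r : Fin 12, ∀ i : Fin 63, g2sigF r (g2sigF r i) = i := by
  decide +kernel

theorem g2_xMat : ∀ r : Fin 12, ∀ t : ZMod 2, g2xm r t = if t = 0 then 1 else g2X r := by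
  decide +kernel

theorem g2_X_sq : ∀ r : Fin 12, g2X r * g2X r = 1 := by
  decide +kernel

theorem g2_cert1 : ∀ r : Fin 12, ∀ i : Fin 63, g2X r *ᵥ g2V i = g2V (g2sigF r i) := by
  decide +kernel

theorem g2_V_inj : ∀ i j : Fin 63, g2V i = g2V j → i = j := by
  decide +kernel

theorem g2_B_inv : (Matrix.of fun a b => g2V (g2C b) a : Matrix (Fin 2 ⊕ Fin 12) (Fin 2 ⊕ Fin 12)
    (ZMod 2)) * g2Binv = 1 := by
  decide +kernel

theorem g2_conj : ∀ r : Fin 12, ∀ j : Fin 56, ∀ i : Fin 63,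
    g2sigF r (g2tauF j (g2sigF r i)) = g2tauF (g2piF r j) i := by
  decide +kernel

theorem g2_reach : ∀ j : Fin 56, (g2path j).foldr (fun r acc => g2piF r acc) 26 = j := by
  decide +kernel

theorem g2_base : ∀ i : Fin 63, g2sigF 2 (g2sigF 9 (g2sigF 2 (g2sigF 9 i))) = g2tauF 26 i := by
  decide +kernel

theorem g2_comm : ∀ a b : Fin 12, ∀ i : Fin 63,
    g2sigF a (g2sigF b (g2sigF a (g2sigF b i))) =
      (g2W a b).foldr (fun j acc => g2tauF j acc) i := by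
  decide +kernel

theorem g2_w_cube : g2w ^ 3 + g2w = 0 := by decide

theorem g2_cube_one : ∀ e : G9, e * e * e = 1 → e = 1 := by decide

theorem g2_norm_one : ∀ e : G9, e ≠ 0 → (e * e ^ 3 = 1 ∨ e * e ^ 3 = -1) := by decide

end Cfsg.Agent.Lib.helper17
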