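import Mathlib
import Cfsg.Prelude.Def_ClassicalGeometry
import Cfsg.Agent.Lib.helper35.SpF4

/-!
Data for `PSU_4(2) ≅ PSp_4(3)`: the 40 non-isotropic points of the unitary space over the field
with four elements, the 40 points of the projective space over the field with three elements in a
matching order, the 45 isotropic points, and for each of them a symplectic matrix acting on the
second list as the unitary transvection acts on the first.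
-/

set_option autoImplicit false
set_option maxRecDepth 1000000

namespace Cfsg.Agent.Lib.helper17

open Cfsg Matrix
open Cfsg.Agent.Lib.helper35.SpF
open Cfsg.Agent.Lib.helper35.SpF.F4

/-- the 40 non-isotropic points -/
def u42P1 : Fin 40 → (Fin 4 → F4) :=
  ![![o, o, o, i],
    ![o, o, i, o],
    ![o, i, o, o],
    ![o, i, i, i],
    ![o, i, i, w],
    ![o, i, i, v],
    ![o, i, w, i],
    ![o, i, w, w],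
    ![o, i, w, v],
    ![o, i, v, i],
    ![o, i, v, w],
    ![o, i, v, v],
    ![i, o, o, o],
    ![i, o, i, i],
    ![i, o, i, w],
    ![i, o, i, v],
    ![i, o, w, i],
    ![i, o, w, w],
    ![i, o, w, v],
    ![i, o, v, i],
    ![i, o, v, w],
    ![i, o, v, v],
    ![i, i, o, i],
    ![i, i, o, w],
    ![i, i, o, v],
    ![i, i, i, o],
    ![i, i, w, o],
    ![i, i, v, o],
    ![i, w, o, i],
    ![i, w, o, w],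
    ![i, w, o, v],
    ![i, w, i, o],
    ![i, w, w, o],
    ![i, w, v, o],
    ![i, v, o, i],
    ![i, v, o, w],
    ![i, v, o, v],
    ![i, v, i, o],
    ![i, v, w, o],
    ![i, v, v, o]]

/-- the 40 points of the symplectic space -/
def u42P2 : Fin 40 → (Fin 2 ⊕ Fin 2 → ZMod 3) :=
  ![Sum.elim ![0, 0] ![0, 1],
    Sum.elim ![0, 0] ![1, 0],
    Sum.elim ![0, 0] ![1, 1],
    Sum.elim ![1, 1] ![0, 0],
    Sum.elim ![1, 1] ![0, 1],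
    Sum.elim ![1, 1] ![0, 2],
    Sum.elim ![1, 1] ![1, 0],
    Sum.elim ![1, 1] ![1, 1],
    Sum.elim ![1, 1] ![1, 2],
    Sum.elim ![1, 1] ![2, 0],
    Sum.elim ![1, 1] ![2, 1],
    Sum.elim ![1, 1] ![2, 2],
    Sum.elim ![0, 0] ![1, 2],
    Sum.elim ![1, 2] ![0, 0],
    Sum.elim ![1, 2] ![0, 2],
    Sum.elim ![1, 2] ![0, 1],
    Sum.elim ![1, 2] ![1, 0],
    Sum.elim ![1, 2] ![1, 2],
    Sum.elim ![1, 2] ![1, 1],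
    Sum.elim ![1, 2] ![2, 0],
    Sum.elim ![1, 2] ![2, 2],
    Sum.elim ![1, 2] ![2, 1],
    Sum.elim ![0, 1] ![0, 0],
    Sum.elim ![0, 1] ![0, 1],
    Sum.elim ![0, 1] ![0, 2],
    Sum.elim ![1, 0] ![0, 0],
    Sum.elim ![1, 0] ![1, 0],
    Sum.elim ![1, 0] ![2, 0],
    Sum.elim ![0, 1] ![1, 1],
    Sum.elim ![0, 1] ![1, 2],
    Sum.elim ![0, 1] ![1, 0],
    Sum.elim ![1, 0] ![1, 1],
    Sum.elim ![1, 0] ![2, 1],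
    Sum.elim ![1, 0] ![0, 1],
    Sum.elim ![0, 1] ![2, 2],
    Sum.elim ![0, 1] ![2, 0],
    Sum.elim ![0, 1] ![2, 1],
    Sum.elim ![1, 0] ![2, 2],
    Sum.elim ![1, 0] ![0, 2],
    Sum.elim ![1, 0] ![1, 2]]

/-- the 45 isotropic points -/
def u42Iso : Fin 45 → (Fin 4 → F4) :=
  ![![o, o, i, i],
    ![o, o, i, w],
    ![o, o, i, v],
    ![o, i, o, i],
    ![o, i, o, w],
    ![o, i, o, v],
    ![o, i, i, o],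
    ![o, i, w, o],
    ![o, i, v, o],
    ![i, o, o, i],
    ![i, o, o, w],
    ![i, o, o, v],
    ![i, o, i, o],
    ![i, o, w, o],
    ![i, o, v, o],
    ![i, i, o, o],
    ![i, i, i, i],
    ![i, i, i, w],
    ![i, i, i, v],
    ![i, i, w, i],
    ![i, i, w, w],
    ![i, i, w, v],
    ![i, i, v, i],
    ![i, i, v, w],
    ![i, i, v, v],
    ![i, w, o, o],
    ![i, w, i, i],
    ![i, w, i, w],
    ![i, w, i, v],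
    ![i, w, w, i],
    ![i, w, w, w],
    ![i, w, w, v],
    ![i, w, v, i],
    ![i, w, v, w],
    ![i, w, v, v],
    ![i, v, o, o],
    ![i, v, i, i],
    ![i, v, i, w],
    ![i, v, i, v],
    ![i, v, w, i],
    ![i, v, w, w],
    ![i, v, w, v],
    ![i, v, v, i],
    ![i, v, v, w],
    ![i, v, v, v]]

/-- the symplectic matrices -/
def u42Wit : Fin 45 → Matrix (Fin 2 ⊕ Fin 2) (Fin 2 ⊕ Fin 2) (ZMod 3) :=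
  ![Matrix.fromBlocks !![0, 1; 1, 0] !![0, 0; 0, 0] !![0, 0; 0, 0] !![0, 1; 1, 0],
    Matrix.fromBlocks !![0, 1; 1, 0] !![0, 0; 0, 0] !![0, 2; 1, 0] !![0, 1; 1, 0],
    Matrix.fromBlocks !![0, 1; 1, 0] !![0, 0; 0, 0] !![0, 1; 2, 0] !![0, 1; 1, 0],
    Matrix.fromBlocks !![1, 0; 2, 2] !![0, 0; 0, 0] !![0, 0; 0, 0] !![1, 2; 0, 2],
    Matrix.fromBlocks !![1, 0; 2, 2] !![0, 0; 0, 0] !![0, 1; 2, 0] !![1, 2; 0, 2],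
    Matrix.fromBlocks !![1, 0; 2, 2] !![0, 0; 0, 0] !![0, 2; 1, 0] !![1, 2; 0, 2],
    Matrix.fromBlocks !![1, 1; 0, 2] !![0, 0; 0, 0] !![0, 0; 0, 0] !![1, 0; 1, 2],
    Matrix.fromBlocks !![1, 1; 0, 2] !![0, 0; 0, 0] !![0, 1; 2, 0] !![1, 0; 1, 2],
    Matrix.fromBlocks !![1, 1; 0, 2] !![0, 0; 0, 0] !![0, 2; 1, 0] !![1, 0; 1, 2],
    Matrix.fromBlocks !![1, 0; 1, 2] !![0, 0; 0, 0] !![0, 0; 0, 0] !![1, 1; 0, 2],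
    Matrix.fromBlocks !![1, 0; 1, 2] !![0, 0; 0, 0] !![0, 2; 1, 0] !![1, 1; 0, 2],
    Matrix.fromBlocks !![1, 0; 1, 2] !![0, 0; 0, 0] !![0, 1; 2, 0] !![1, 1; 0, 2],
    Matrix.fromBlocks !![1, 2; 0, 2] !![0, 0; 0, 0] !![0, 0; 0, 0] !![1, 0; 2, 2],
    Matrix.fromBlocks !![1, 2; 0, 2] !![0, 0; 0, 0] !![0, 2; 1, 0] !![1, 0; 2, 2],
    Matrix.fromBlocks !![1, 2; 0, 2] !![0, 0; 0, 0] !![0, 1; 2, 0] !![1, 0; 2, 2],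
    Matrix.fromBlocks !![1, 0; 0, 2] !![0, 0; 0, 0] !![0, 0; 0, 0] !![1, 0; 0, 2],
    Matrix.fromBlocks !![0, 0; 0, 0] !![0, 1; 2, 0] !![0, 2; 1, 0] !![0, 0; 0, 0],
    Matrix.fromBlocks !![0, 2; 0, 0] !![0, 1; 2, 0] !![0, 2; 1, 0] !![0, 0; 2, 0],
    Matrix.fromBlocks !![0, 1; 0, 0] !![0, 1; 2, 0] !![0, 2; 1, 0] !![0, 0; 1, 0],
    Matrix.fromBlocks !![0, 0; 1, 0] !![0, 1; 2, 0] !![0, 2; 1, 0] !![0, 1; 0, 0],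
    Matrix.fromBlocks !![0, 2; 1, 0] !![0, 1; 2, 0] !![0, 1; 2, 0] !![0, 1; 2, 0],
    Matrix.fromBlocks !![0, 1; 1, 0] !![0, 1; 2, 0] !![0, 0; 0, 0] !![0, 1; 1, 0],
    Matrix.fromBlocks !![0, 0; 1, 0] !![0, 2; 1, 0] !![0, 1; 2, 0] !![0, 1; 0, 0],
    Matrix.fromBlocks !![0, 1; 1, 0] !![0, 2; 1, 0] !![0, 0; 0, 0] !![0, 1; 1, 0],
    Matrix.fromBlocks !![0, 2; 1, 0] !![0, 2; 1, 0] !![0, 2; 1, 0] !![0, 1; 2, 0],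
    Matrix.fromBlocks !![1, 0; 0, 2] !![0, 0; 0, 0] !![0, 1; 2, 0] !![1, 0; 0, 2],
    Matrix.fromBlocks !![1, 1; 2, 2] !![0, 2; 1, 0] !![0, 1; 2, 0] !![1, 2; 1, 2],
    Matrix.fromBlocks !![1, 2; 2, 2] !![0, 2; 1, 0] !![0, 2; 1, 0] !![1, 2; 2, 2],
    Matrix.fromBlocks !![1, 0; 2, 2] !![0, 2; 1, 0] !![0, 0; 0, 0] !![1, 2; 0, 2],
    Matrix.fromBlocks !![1, 1; 1, 2] !![0, 2; 1, 0] !![0, 2; 1, 0] !![1, 1; 1, 2],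
    Matrix.fromBlocks !![1, 2; 1, 2] !![0, 2; 1, 0] !![0, 1; 2, 0] !![1, 1; 2, 2],
    Matrix.fromBlocks !![1, 0; 1, 2] !![0, 2; 1, 0] !![0, 0; 0, 0] !![1, 1; 0, 2],
    Matrix.fromBlocks !![1, 1; 0, 2] !![0, 2; 1, 0] !![0, 0; 0, 0] !![1, 0; 1, 2],
    Matrix.fromBlocks !![1, 2; 0, 2] !![0, 2; 1, 0] !![0, 0; 0, 0] !![1, 0; 2, 2],
    Matrix.fromBlocks !![1, 0; 0, 2] !![0, 2; 1, 0] !![0, 0; 0, 0] !![1, 0; 0, 2],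
    Matrix.fromBlocks !![1, 0; 0, 2] !![0, 0; 0, 0] !![0, 2; 1, 0] !![1, 0; 0, 2],
    Matrix.fromBlocks !![1, 1; 2, 2] !![0, 1; 2, 0] !![0, 2; 1, 0] !![1, 2; 1, 2],
    Matrix.fromBlocks !![1, 0; 2, 2] !![0, 1; 2, 0] !![0, 0; 0, 0] !![1, 2; 0, 2],
    Matrix.fromBlocks !![1, 2; 2, 2] !![0, 1; 2, 0] !![0, 1; 2, 0] !![1, 2; 2, 2],
    Matrix.fromBlocks !![1, 1; 0, 2] !![0, 1; 2, 0] !![0, 0; 0, 0] !![1, 0; 1, 2],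
    Matrix.fromBlocks !![1, 0; 0, 2] !![0, 1; 2, 0] !![0, 0; 0, 0] !![1, 0; 0, 2],
    Matrix.fromBlocks !![1, 2; 0, 2] !![0, 1; 2, 0] !![0, 0; 0, 0] !![1, 0; 2, 2],
    Matrix.fromBlocks !![1, 1; 1, 2] !![0, 1; 2, 0] !![0, 1; 2, 0] !![1, 1; 1, 2],
    Matrix.fromBlocks !![1, 0; 1, 2] !![0, 1; 2, 0] !![0, 0; 0, 0] !![1, 1; 0, 2],
    Matrix.fromBlocks !![1, 2; 1, 2] !![0, 1; 2, 0] !![0, 2; 1, 0] !![1, 1; 2, 2]]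

/-- the permutations of the 40 points -/
def u42Perm : Fin 45 → Fin 40 → Fin 40 :=
  ![![1, 0, 2, 3, 6, 9, 4, 7, 10, 5, 8, 11, 12, 13, 16, 19, 14, 17, 20, 15, 18, 21, 25, 26, 27, 22, 23, 24, 31, 32, 33, 28, 29, 30, 37, 38, 39, 34, 35, 36],
    ![1, 0, 2, 10, 4, 7, 11, 5, 8, 9, 3, 6, 12, 20, 14, 17, 21, 15, 18, 19, 13, 16, 27, 25, 26, 23, 24, 22, 33, 31, 32, 29, 30, 28, 39, 37, 38, 35, 36, 34],
    ![1, 0, 2, 8, 11, 5, 6, 9, 3, 7, 10, 4, 12, 18, 21, 15, 16, 19, 13, 17, 20, 14, 26, 27, 25, 24, 22, 23, 32, 33, 31, 30, 28, 29, 38, 39, 37, 36, 34, 35],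
    ![2, 1, 0, 3, 11, 7, 6, 5, 10, 9, 8, 4, 12, 25, 31, 37, 26, 32, 38, 27, 33, 39, 22, 28, 34, 13, 16, 19, 23, 29, 35, 14, 17, 20, 24, 30, 36, 15, 18, 21],
    ![2, 1, 0, 8, 4, 9, 11, 7, 3, 5, 10, 6, 12, 37, 25, 31, 38, 26, 32, 39, 27, 33, 35, 23, 29, 14, 17, 20, 36, 24, 30, 15, 18, 21, 34, 22, 28, 13, 16, 19],
    ![2, 1, 0, 10, 6, 5, 4, 9, 8, 7, 3, 11, 12, 31, 37, 25, 32, 38, 26, 33, 39, 27, 30, 36, 24, 15, 18, 21, 28, 34, 22, 13, 16, 19, 29, 35, 23, 14, 17, 20],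
    ![0, 2, 1, 3, 4, 5, 11, 9, 10, 7, 8, 6, 12, 22, 23, 24, 28, 29, 30, 34, 35, 36, 13, 14, 15, 25, 31, 37, 16, 17, 18, 26, 32, 38, 19, 20, 21, 27, 33, 39],
    ![0, 2, 1, 10, 11, 9, 6, 7, 8, 5, 3, 4, 12, 34, 35, 36, 22, 23, 24, 28, 29, 30, 16, 17, 18, 38, 26, 32, 19, 20, 21, 39, 27, 33, 13, 14, 15, 37, 25, 31],
    ![0, 2, 1, 8, 6, 7, 4, 5, 3, 9, 10, 11, 12, 28, 29, 30, 34, 35, 36, 22, 23, 24, 19, 20, 21, 33, 39, 27, 13, 14, 15, 31, 37, 25, 16, 17, 18, 32, 38, 26],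
    ![12, 1, 2, 25, 39, 32, 26, 37, 33, 27, 38, 31, 0, 13, 21, 17, 16, 15, 20, 19, 18, 14, 22, 36, 29, 3, 6, 9, 28, 24, 35, 11, 5, 8, 34, 30, 23, 7, 10, 4],
    ![12, 1, 2, 32, 25, 39, 33, 26, 37, 31, 27, 38, 0, 18, 14, 19, 21, 17, 13, 15, 20, 16, 30, 23, 34, 4, 7, 10, 36, 29, 22, 9, 3, 6, 24, 35, 28, 8, 11, 5],
    ![12, 1, 2, 39, 32, 25, 37, 33, 26, 38, 31, 27, 0, 20, 16, 15, 14, 19, 18, 17, 13, 21, 35, 28, 24, 5, 8, 11, 23, 34, 30, 10, 4, 7, 29, 22, 36, 6, 9, 3],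
    ![0, 12, 2, 22, 23, 24, 36, 34, 35, 29, 30, 28, 1, 13, 14, 15, 21, 19, 20, 17, 18, 16, 3, 4, 5, 25, 39, 32, 11, 9, 10, 31, 27, 38, 7, 8, 6, 37, 33, 26],
    ![0, 12, 2, 29, 30, 28, 22, 23, 24, 36, 34, 35, 1, 20, 21, 19, 16, 17, 18, 15, 13, 14, 6, 7, 8, 33, 26, 37, 5, 3, 4, 39, 32, 25, 10, 11, 9, 27, 38, 31],
    ![0, 12, 2, 36, 34, 35, 29, 30, 28, 22, 23, 24, 1, 18, 16, 17, 14, 15, 13, 19, 20, 21, 9, 10, 11, 38, 31, 27, 8, 6, 7, 26, 37, 33, 4, 5, 3, 32, 25, 39],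
    ![0, 1, 12, 13, 14, 15, 16, 17, 18, 19, 20, 21, 2, 3, 4, 5, 6, 7, 8, 9, 10, 11, 22, 23, 24, 25, 26, 27, 36, 34, 35, 39, 37, 38, 29, 30, 28, 32, 33, 31],
    ![25, 22, 13, 12, 32, 39, 29, 21, 8, 36, 10, 17, 3, 2, 37, 31, 34, 11, 18, 28, 20, 7, 1, 27, 26, 0, 24, 23, 19, 6, 30, 15, 4, 33, 16, 35, 9, 14, 38, 5],
    ![25, 23, 14, 39, 12, 32, 6, 30, 19, 18, 34, 11, 4, 31, 2, 37, 16, 35, 9, 8, 29, 21, 26, 1, 27, 0, 22, 24, 28, 20, 7, 13, 5, 33, 10, 17, 36, 15, 38, 3],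
    ![25, 24, 15, 32, 39, 12, 20, 7, 28, 9, 16, 35, 5, 37, 31, 2, 10, 17, 36, 19, 6, 30, 27, 26, 1, 0, 23, 22, 8, 29, 21, 14, 3, 33, 34, 11, 18, 13, 38, 4],
    ![26, 22, 16, 36, 4, 20, 12, 33, 37, 29, 15, 11, 6, 28, 14, 10, 2, 38, 32, 34, 5, 21, 1, 25, 27, 23, 0, 24, 13, 9, 30, 31, 18, 7, 19, 35, 3, 8, 17, 39],
    ![26, 23, 17, 21, 34, 5, 37, 12, 33, 9, 30, 13, 7, 11, 29, 15, 32, 2, 38, 19, 35, 3, 27, 1, 25, 24, 0, 22, 28, 14, 10, 31, 16, 8, 4, 20, 36, 6, 18, 39],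
    ![26, 24, 18, 3, 19, 35, 33, 37, 12, 14, 10, 28, 8, 13, 9, 30, 38, 32, 2, 4, 20, 36, 25, 27, 1, 22, 0, 23, 11, 29, 15, 31, 17, 6, 34, 5, 21, 7, 16, 39],
    ![27, 22, 19, 29, 18, 5, 36, 7, 14, 12, 31, 38, 9, 34, 8, 15, 28, 17, 4, 2, 39, 33, 1, 26, 25, 24, 23, 0, 16, 3, 30, 10, 32, 21, 13, 35, 6, 37, 11, 20],
    ![27, 23, 20, 3, 30, 16, 15, 34, 8, 38, 12, 31, 10, 13, 35, 6, 5, 29, 18, 33, 2, 39, 25, 1, 26, 22, 24, 0, 28, 17, 4, 11, 32, 19, 7, 14, 36, 37, 9, 21],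
    ![27, 24, 21, 17, 4, 28, 6, 13, 35, 31, 38, 12, 11, 7, 14, 36, 16, 3, 30, 39, 33, 2, 26, 25, 1, 23, 22, 0, 5, 29, 18, 9, 32, 20, 34, 8, 15, 37, 10, 19],
    ![0, 1, 12, 17, 18, 16, 20, 21, 19, 14, 15, 13, 2, 11, 9, 10, 5, 3, 4, 8, 6, 7, 35, 36, 34, 38, 39, 37, 28, 29, 30, 31, 32, 33, 24, 22, 23, 27, 25, 26],
    ![31, 28, 13, 21, 4, 35, 6, 17, 24, 38, 27, 12, 11, 2, 25, 37, 22, 7, 18, 34, 20, 3, 16, 23, 8, 14, 26, 10, 1, 33, 32, 0, 30, 29, 19, 5, 36, 15, 9, 39],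
    ![31, 29, 14, 36, 19, 5, 22, 7, 18, 12, 38, 27, 9, 37, 2, 25, 16, 23, 8, 4, 35, 21, 6, 17, 24, 15, 26, 11, 32, 1, 33, 0, 28, 30, 34, 20, 3, 13, 10, 39],
    ![31, 30, 15, 3, 34, 20, 16, 23, 8, 27, 12, 38, 10, 25, 37, 2, 6, 17, 24, 19, 5, 36, 22, 7, 18, 13, 26, 9, 33, 32, 1, 0, 29, 28, 4, 35, 21, 14, 11, 39],
    ![32, 28, 16, 39, 25, 12, 15, 7, 35, 9, 20, 24, 5, 34, 14, 6, 2, 26, 38, 22, 10, 21, 19, 23, 11, 4, 17, 27, 1, 31, 33, 29, 0, 30, 13, 8, 36, 37, 18, 3],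
    ![32, 29, 17, 12, 39, 25, 36, 13, 8, 22, 10, 21, 3, 7, 35, 15, 38, 2, 26, 19, 23, 11, 9, 20, 24, 5, 18, 27, 33, 1, 31, 30, 0, 28, 34, 14, 6, 37, 16, 4],
    ![32, 30, 18, 25, 12, 39, 6, 34, 14, 19, 23, 11, 4, 13, 8, 36, 26, 38, 2, 9, 20, 24, 22, 10, 21, 3, 16, 27, 31, 33, 1, 28, 0, 29, 7, 35, 15, 37, 17, 5],
    ![33, 28, 19, 3, 14, 24, 37, 26, 12, 18, 10, 35, 8, 22, 4, 15, 34, 17, 9, 2, 27, 39, 13, 23, 5, 25, 7, 20, 1, 32, 31, 30, 29, 0, 16, 11, 36, 6, 38, 21],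
    ![33, 29, 20, 22, 4, 15, 12, 37, 26, 36, 16, 11, 6, 13, 23, 5, 10, 35, 18, 39, 2, 27, 3, 14, 24, 25, 8, 21, 31, 1, 32, 28, 30, 0, 34, 17, 9, 7, 38, 19],
    ![33, 30, 21, 13, 23, 5, 26, 12, 37, 9, 34, 17, 7, 3, 14, 24, 16, 11, 36, 27, 39, 2, 22, 4, 15, 25, 6, 19, 32, 31, 1, 29, 28, 0, 10, 35, 18, 8, 38, 20],
    ![0, 1, 12, 21, 19, 20, 15, 13, 14, 18, 16, 17, 2, 7, 8, 6, 10, 11, 9, 4, 5, 3, 30, 28, 29, 33, 31, 32, 23, 24, 22, 26, 27, 25, 34, 35, 36, 37, 38, 39],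
    ![37, 34, 13, 17, 30, 5, 33, 12, 26, 9, 23, 21, 7, 2, 31, 25, 28, 3, 18, 22, 20, 11, 19, 10, 24, 15, 8, 27, 16, 29, 4, 14, 32, 6, 1, 39, 38, 0, 36, 35],
    ![37, 35, 14, 3, 18, 28, 26, 33, 12, 19, 10, 24, 8, 25, 2, 31, 16, 29, 4, 9, 23, 21, 22, 20, 11, 13, 6, 27, 5, 17, 30, 15, 32, 7, 38, 1, 39, 0, 34, 36],
    ![37, 36, 15, 29, 4, 16, 12, 26, 33, 22, 20, 11, 6, 31, 25, 2, 5, 17, 30, 19, 10, 24, 9, 23, 21, 14, 7, 27, 28, 3, 18, 13, 32, 8, 39, 38, 1, 0, 35, 34],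
    ![38, 34, 16, 3, 23, 15, 20, 30, 8, 31, 12, 27, 10, 22, 14, 5, 2, 32, 26, 28, 6, 21, 13, 4, 24, 25, 18, 11, 19, 29, 7, 9, 17, 33, 1, 37, 39, 35, 0, 36],
    ![38, 35, 17, 13, 4, 24, 6, 21, 28, 27, 31, 12, 11, 3, 23, 15, 26, 2, 32, 19, 29, 7, 22, 14, 5, 25, 16, 9, 8, 20, 30, 10, 18, 33, 39, 1, 37, 36, 0, 34],
    ![38, 36, 18, 22, 14, 5, 29, 7, 19, 12, 27, 31, 9, 13, 4, 24, 32, 26, 2, 8, 20, 30, 3, 23, 15, 25, 17, 10, 28, 6, 21, 11, 16, 33, 37, 39, 1, 34, 0, 35],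
    ![39, 34, 19, 32, 12, 25, 6, 23, 18, 14, 30, 11, 4, 28, 9, 15, 22, 17, 8, 2, 33, 27, 16, 7, 24, 5, 26, 21, 13, 29, 10, 31, 3, 20, 1, 38, 37, 36, 35, 0],
    ![39, 35, 20, 25, 32, 12, 16, 7, 24, 9, 15, 28, 5, 13, 29, 10, 6, 23, 18, 27, 2, 33, 22, 17, 8, 3, 26, 19, 11, 14, 30, 31, 4, 21, 37, 1, 38, 34, 36, 0],
    ![39, 36, 21, 12, 25, 32, 22, 17, 8, 29, 10, 13, 3, 11, 14, 30, 16, 7, 24, 33, 27, 2, 6, 23, 18, 4, 26, 20, 28, 9, 15, 31, 5, 19, 38, 37, 1, 35, 34, 0]]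

/-- the unitary transvection of the `k`-th isotropic point -/
def u42T (k : Fin 45) : Matrix (Fin 4) (Fin 4) F4 := unitaryTransvection 4 2 (u42Iso k) 1

theorem u42_cert_main : ∀ k : Fin 45, ∀ j : Fin 40,
    (∃ c : F4, c ≠ 0 ∧ u42T k *ᵥ u42P1 j = c • u42P1 (u42Perm k j)) ∧
    (∃ d : ZMod 3, d ≠ 0 ∧ u42Wit k *ᵥ u42P2 j = d • u42P2 (u42Perm k j)) := by
  decide +kernel

theorem u42_P1_irr : ∀ j l : Fin 40, ∀ c : F4, c ≠ 0 → u42P1 j = c • u42P1 l → j = l := by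
  decide +kernel

theorem u42_P2_irr : ∀ j l : Fin 40, ∀ c : ZMod 3, c ≠ 0 → u42P2 j = c • u42P2 l → j = l := by
  decide +kernel

theorem u42_P1_noniso : ∀ j : Fin 40, hermForm 4 F4 2 (u42P1 j) (u42P1 j) ≠ 0 := by
  decide +kernel

theorem u42_P1_cover : ∀ a b c d : F4, hermForm 4 F4 2 ![a, b, c, d] ![a, b, c, d] ≠ 0 →
    ∃ j : Fin 40, ∃ e : F4, e ≠ 0 ∧ (![a, b, c, d] : Fin 4 → F4) = e • u42P1 j := by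
  decide +kernel

theorem u42_P2_cover : ∀ a b c d : ZMod 3,
    (Sum.elim ![a, b] ![c, d] : Fin 2 ⊕ Fin 2 → ZMod 3) ≠ 0 →
    ∃ j : Fin 40, ∃ e : ZMod 3, e ≠ 0 ∧
      (Sum.elim ![a, b] ![c, d] : Fin 2 ⊕ Fin 2 → ZMod 3) = e • u42P2 j := by
  decide +kernel

theorem u42_iso_cover : ∀ a b c d : F4, hermForm 4 F4 2 ![a, b, c, d] ![a, b, c, d] = 0 →
    (![a, b, c, d] : Fin 4 → F4) = 0 ∨
    ∃ k : Fin 45, ∃ e : F4, e ≠ 0 ∧ (![a, b, c, d] : Fin 4 → F4) = e • u42Iso k := by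
  decide +kernel

theorem u42_unitary_cases : ∀ a b c d s : F4,
    hermForm 4 F4 2 ![a, b, c, d] ![a, b, c, d] = 0 →
    (∀ x y : Fin 4,
      hermForm 4 F4 2 (unitaryTransvection 4 2 ![a, b, c, d] s *ᵥ Pi.single x 1)
        (unitaryTransvection 4 2 ![a, b, c, d] s *ᵥ Pi.single y 1) =
      hermForm 4 F4 2 (Pi.single x (1 : F4)) (Pi.single y 1)) →
    s = 0 ∨ s = 1 ∨ (![a, b, c, d] : Fin 4 → F4) = 0 := by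
  decide +kernel

theorem u42_wit_mem : ∀ k : Fin 45,
    u42Wit k * J (Fin 2) (ZMod 3) * (u42Wit k)ᵀ = J (Fin 2) (ZMod 3) := by
  decide +kernel

theorem u42_cube : ∀ e : F4, e ≠ 0 → e * e ^ 2 = 1 := by decide

end Cfsg.Agent.Lib.helper17
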