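import Mathlib
import Cfsg.Prelude.Def_Classical
import Cfsg.Prelude.Def_ClassicalGeometry
import Cfsg.Agent.Lib.helper17.U42Data
import Cfsg.Agent.Lib.helper7.SU
import Cfsg.Agent.Lib.helper7.SUCenter
import Cfsg.Agent.S0780
import Cfsg.Agent.S0245
import Cfsg.Agent.S0246

/-!
`SU_4(2) ≅ PSp_4(3)` for the concrete fields: both groups act on 40 points, the generators of
the first (unitary transvections) act as elements of the second.
-/

set_option autoImplicit false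

namespace Cfsg.Agent.Lib.helper17

open Cfsg Matrix
open Cfsg.Agent.Lib.helper35.SpF (F4)

/-- `A` maps the `i`-th point of the family `P` to the `j`-th -/
def u42Rel {K : Type*} [Field K] {n : Type*} [Fintype n] {ι : Type*} (P : ι → (n → K))
    (A : Matrix n n K) (i j : ι) : Prop :=
  ∃ c : K, c ≠ 0 ∧ A *ᵥ P i = c • P j

theorem u42Rel_mul {K : Type*} [Field K] {n : Type*} [Fintype n] {ι : Type*} (P : ι → (n → K))
    (A B : Matrix n n K) {i j k : ι} (h1 : u42Rel P B i j) (h2 : u42Rel P A j k) :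
    u42Rel P (A * B) i k := by
  obtain ⟨c, hc, h1⟩ := h1
  obtain ⟨d, hd, h2⟩ := h2
  refine ⟨c * d, mul_ne_zero hc hd, ?_⟩
  rw [← Matrix.mulVec_mulVec, h1, Matrix.mulVec_smul, h2, smul_smul]

theorem u42Rel_cancel {K : Type*} [Field K] {n : Type*} [Fintype n] {ι : Type*}
    (P : ι → (n → K)) (A B : Matrix n n K) {i j k : ι} (h1 : u42Rel P B i j)
    (h2 : u42Rel P (A * B) i k) : u42Rel P A j k := by
  obtain ⟨c, hc, h1⟩ := h1
  obtain ⟨d, hd, h2⟩ := h2
  refine ⟨c⁻¹ * d, mul_ne_zero (inv_ne_zero hc) hd, ?_⟩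
  rw [← Matrix.mulVec_mulVec, h1, Matrix.mulVec_smul] at h2
  have h3 : A *ᵥ P j = c⁻¹ • (c • A *ᵥ P j) := by
    rw [smul_smul, inv_mul_cancel₀ hc, one_smul]
  rw [h3, h2, smul_smul]

theorem u42Rel_inv {K : Type*} [Field K] {n : Type*} [Fintype n] [DecidableEq n] {ι : Type*}
    (P : ι → (n → K)) (A B : Matrix n n K) (hAB : A * B = 1) {i j : ι} (h : u42Rel P B i j) :
    u42Rel P A j i := by
  apply u42Rel_cancel P A B h
  rw [hAB]
  exact ⟨1, one_ne_zero, by rw [Matrix.one_mulVec, one_smul]⟩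

/-- the matrix of an element of `SU_4(2)` -/
def u42m1 (g : ↥(SU 4 F4 2)) : Matrix (Fin 4) (Fin 4) F4 :=
  ((g : Matrix.SpecialLinearGroup (Fin 4) F4) : Matrix (Fin 4) (Fin 4) F4)

theorem u42m1_mul (g h : ↥(SU 4 F4 2)) : u42m1 (g * h) = u42m1 g * u42m1 h := rfl

theorem u42m1_one : u42m1 1 = 1 := rfl

/-- the matrix of an element of `Sp_4(3)` -/
def u42m2 (h : ↥(Matrix.symplecticGroup (Fin 2) (ZMod 3))) :
    Matrix (Fin 2 ⊕ Fin 2) (Fin 2 ⊕ Fin 2) (ZMod 3) := h.1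

theorem u42m2_mul (g h : ↥(Matrix.symplecticGroup (Fin 2) (ZMod 3))) :
    u42m2 (g * h) = u42m2 g * u42m2 h := rfl

theorem u42m2_one : u42m2 1 = 1 := rfl

theorem u42_su_pres (g : ↥(SU 4 F4 2)) (u v : Fin 4 → F4) :
    hermForm 4 F4 2 (u42m1 g *ᵥ u) (u42m1 g *ᵥ v) = hermForm 4 F4 2 u v := g.2 u v

theorem u42_vec4 {K : Type*} (x : Fin 4 → K) : x = ![x 0, x 1, x 2, x 3] := by
  funext a
  fin_cases a <;> rfl

theorem u42_exists (g : ↥(SU 4 F4 2)) (i : Fin 40) : ∃ j, u42Rel u42P1 (u42m1 g) i j := by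
  have h1 := u42_su_pres g (u42P1 i) (u42P1 i)
  have h2 : hermForm 4 F4 2 (u42m1 g *ᵥ u42P1 i) (u42m1 g *ᵥ u42P1 i) ≠ 0 := by
    rw [h1]
    exact u42_P1_noniso i
  obtain ⟨x, hx⟩ : ∃ x, x = u42m1 g *ᵥ u42P1 i := ⟨_, rfl⟩
  rw [← hx] at h2
  have h3 : hermForm 4 F4 2 ![x 0, x 1, x 2, x 3] ![x 0, x 1, x 2, x 3] ≠ 0 := by
    rw [← u42_vec4 x]
    exact h2
  obtain ⟨j, e, he, hj⟩ := u42_P1_cover _ _ _ _ h3
  refine ⟨j, e, he, ?_⟩
  rw [← hx, u42_vec4 x]
  exact hj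

/-- pairs acting alike on the two lists of points -/
def u42S : Subgroup (↥(SU 4 F4 2) × ↥(Matrix.symplecticGroup (Fin 2) (ZMod 3))) where
  carrier := {p | ∀ i j, u42Rel u42P1 (u42m1 p.1) i j → u42Rel u42P2 (u42m2 p.2) i j}
  mul_mem' := by
    intro a b ha hb i k hik
    obtain ⟨j, hj⟩ := u42_exists b.1 i
    have h2 : u42Rel u42P1 (u42m1 a.1) j k := u42Rel_cancel u42P1 _ _ hj hik
    exact u42Rel_mul u42P2 _ _ (hb i j hj) (ha j k h2)
  one_mem' := by
    intro i j hij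
    obtain ⟨c, hc, h⟩ := hij
    have h' : u42P1 i = c • u42P1 j := by
      rw [← h]
      exact (Matrix.one_mulVec _).symm
    have hij := u42_P1_irr i j c hc h'
    subst hij
    exact ⟨1, one_ne_zero, by rw [one_smul]; exact Matrix.one_mulVec _⟩
  inv_mem' := by
    intro a ha i j hij
    have h1 : u42Rel u42P1 (u42m1 a.1) j i := by
      refine u42Rel_inv u42P1 _ _ ?_ hij
      show u42m1 a.1 * u42m1 a.1⁻¹ = 1
      rw [← u42m1_mul, mul_inv_cancel, u42m1_one]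
    have h2 := ha j i h1
    refine u42Rel_inv u42P2 _ _ ?_ h2
    show u42m2 a.2⁻¹ * u42m2 a.2 = 1
    rw [← u42m2_mul, inv_mul_cancel, u42m2_one]

theorem u42_tv_smul (e : F4) (he : e ≠ 0) (u : Fin 4 → F4) :
    unitaryTransvection 4 2 (e • u) 1 = unitaryTransvection 4 2 u 1 := by
  unfold unitaryTransvection
  congr 2
  ext a b
  simp only [Matrix.vecMulVec_apply, Pi.smul_apply, smul_eq_mul]
  have h := u42_cube e he
  calc e * u a * (e * u b) ^ 2 = (e * e ^ 2) * (u a * u b ^ 2) := by ring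
    _ = u a * u b ^ 2 := by rw [h, one_mul]

theorem u42_tv_zero (s : F4) : unitaryTransvection 4 2 (0 : Fin 4 → F4) s = 1 := by
  unfold unitaryTransvection
  ext a b
  simp [Matrix.vecMulVec_apply]

theorem u42_tv_zero' (x : Fin 4 → F4) : unitaryTransvection 4 2 x (0 : F4) = 1 := by
  unfold unitaryTransvection
  simp

theorem u42_gen (A : ↥(SU 4 F4 2)) (x : Fin 4 → F4) (s : F4) (hx : hermForm 4 F4 2 x x = 0)
    (hA : u42m1 A = unitaryTransvection 4 2 x s) : ∃ h, (A, h) ∈ u42S := by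
  have hone : u42m1 A = 1 → ∃ h, (A, h) ∈ u42S := by
    intro h1
    have h2 : A = 1 := by
      apply Subtype.ext
      apply Subtype.ext
      exact h1
    subst h2
    exact ⟨1, u42S.one_mem⟩
  have hu : ∀ a b : Fin 4,
      hermForm 4 F4 2 (unitaryTransvection 4 2 x s *ᵥ Pi.single a 1)
        (unitaryTransvection 4 2 x s *ᵥ Pi.single b 1) =
      hermForm 4 F4 2 (Pi.single a (1 : F4)) (Pi.single b 1) := by
    intro a b
    rw [← hA]
    exact u42_su_pres A _ _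
  have hx4 := u42_vec4 x
  obtain ⟨y, hy⟩ : ∃ y : Fin 4 → F4, y = ![x 0, x 1, x 2, x 3] := ⟨_, rfl⟩
  rw [← hy] at hx4
  subst hx4
  rw [hy] at hx hu hA
  rcases u42_unitary_cases _ _ _ _ s hx hu with h0 | h1 | hz
  · apply hone
    rw [hA, h0]
    exact u42_tv_zero' _
  · subst h1
    rcases u42_iso_cover _ _ _ _ hx with hz | ⟨k, e, he, hk⟩
    · apply hone
      rw [hA, hz]
      exact u42_tv_zero _
    · rw [hk, u42_tv_smul e he] at hA
      refine ⟨⟨u42Wit k, SymplecticGroup.mem_iff.mpr (u42_wit_mem k)⟩, ?_⟩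
      intro i j hij
      obtain ⟨⟨c, hc, h1⟩, h2⟩ := u42_cert_main k i
      obtain ⟨c', hc', h1'⟩ := hij
      have h1'' : u42T k *ᵥ u42P1 i = c' • u42P1 j := by
        rw [← h1']
        show u42T k *ᵥ u42P1 i = u42m1 A *ᵥ u42P1 i
        rw [hA]
        rfl
      have h3 : c' • u42P1 j = c • u42P1 (u42Perm k i) := by rw [← h1'', ← h1]
      have h4 : u42P1 j = (c'⁻¹ * c) • u42P1 (u42Perm k i) := by
        rw [← smul_smul, ← h3, smul_smul, inv_mul_cancel₀ hc', one_smul]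
      have hj := u42_P1_irr j _ _ (mul_ne_zero (inv_ne_zero hc') hc) h4
      subst hj
      exact h2
  · apply hone
    rw [hA, hz]
    exact u42_tv_zero _

theorem u42_card_F4 : Fintype.card F4 = 2 ^ 2 := by
  rw [Cfsg.Agent.Lib.helper35.SpF.F4.card]
  norm_num

theorem u42_fst_top : ∀ g : ↥(SU 4 F4 2), ∃ h, (g, h) ∈ u42S := by
  have hcl := Cfsg.Agent.S0780.result (F := F4) (q := 2) u42_card_F4 4 (by norm_num)
    (by norm_num)
  have hle : Subgroup.closure {A : ↥(SU 4 F4 2) | ∃ (v : Fin 4 → F4) (c : F4),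
      hermForm 4 F4 2 v v = 0 ∧
      ((A : Matrix.SpecialLinearGroup (Fin 4) F4) : Matrix (Fin 4) (Fin 4) F4) =
        unitaryTransvection 4 2 v c} ≤
      u42S.map (MonoidHom.fst _ _) := by
    rw [Subgroup.closure_le]
    rintro A ⟨v, c, hv, hA⟩
    obtain ⟨h, hh⟩ := u42_gen A v c hv hA
    exact ⟨(A, h), hh, rfl⟩
  intro g
  have hg : g ∈ u42S.map (MonoidHom.fst _ _) := hle (by rw [hcl]; trivial)
  obtain ⟨⟨g', h⟩, hp, rfl⟩ := hg
  exact ⟨h, hp⟩

end Cfsg.Agent.Lib.helper17
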