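import Mathlib
import Cfsg.Prelude.Def_Classical
import Cfsg.Prelude.Def_ClassicalGeometry
import Cfsg.Prelude.Def_ChevG2
import Cfsg.Agent.Lib.helper17.G2U3Cert
import Cfsg.Agent.Lib.helper17.U42Core
import Cfsg.Agent.Lib.helper17.UTransv

/-!
`G₂(2)′ ≅ PSU₃(3)`, first part: general lemmas on subgroups of a product and on commutator
subgroups, and the two groups of permutations of 63 points.
-/

set_option autoImplicit false

namespace Cfsg.Agent.Lib.helper17

open Cfsg Matrix
open scoped commutatorElement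

/-- a subgroup of a product which projects onto the first factor and meets the second factor
trivially is the graph of a homomorphism -/
theorem g2_graph_hom {G H : Type*} [Group G] [Group H] (R : Subgroup (G × H))
    (h1 : ∀ g, ∃ h, (g, h) ∈ R) (h2 : ∀ h, ((1 : G), h) ∈ R → h = 1) :
    ∃ φ : G →* H, (∀ g, (g, φ g) ∈ R) ∧ ∀ g h, (g, h) ∈ R → h = φ g := by
  classical
  choose f hf using h1
  have huniq : ∀ g h, (g, h) ∈ R → h = f g := by
    intro g h hgh
    have h3 : ((g, h))⁻¹ * (g, f g) ∈ R := R.mul_mem (R.inv_mem hgh) (hf g)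
    have h4 : ((g, h))⁻¹ * (g, f g) = ((1 : G), h⁻¹ * f g) := by
      ext1
      · simp
      · simp
    rw [h4] at h3
    exact inv_mul_eq_one.mp (h2 _ h3)
  have hmul : ∀ a b, f (a * b) = f a * f b := by
    intro a b
    exact (huniq (a * b) (f a * f b) (R.mul_mem (hf a) (hf b))).symm
  exact ⟨MonoidHom.mk' f hmul, hf, huniq⟩

/-- the commutator subgroup of a group generated by `S` lies in `N` as soon as `S` normalises
`N` and the commutators of the elements of `S` lie in `N` -/
theorem g2_commutator_le {G : Type*} [Group G] (S : Set G) (N : Subgroup G)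
    (hS : ∀ a ∈ S, ∀ n ∈ N, a * n * a⁻¹ ∈ N ∧ a⁻¹ * n * a ∈ N)
    (hc : ∀ a ∈ S, ∀ b ∈ S, ⁅a, b⁆ ∈ N) :
    ⁅Subgroup.closure S, Subgroup.closure S⁆ ≤ N := by
  have hconj : ∀ g ∈ Subgroup.closure S, ∀ n ∈ N, g * n * g⁻¹ ∈ N ∧ g⁻¹ * n * g ∈ N := by
    intro g hg
    induction hg using Subgroup.closure_induction with
    | mem a ha => exact hS a ha
    | one =>
      intro n hn
      simpa using hn
    | mul x y _ _ hx hy =>
      intro n hn
      constructor
      · have h1 := (hx _ (hy n hn).1).1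
        have e : x * y * n * (x * y)⁻¹ = x * (y * n * y⁻¹) * x⁻¹ := by group
        rw [e]
        exact h1
      · have h1 := (hy _ (hx n hn).2).2
        have e : (x * y)⁻¹ * n * (x * y) = y⁻¹ * (x⁻¹ * n * x) * y := by group
        rw [e]
        exact h1
    | inv x _ hx =>
      intro n hn
      constructor
      · have h1 := (hx n hn).2
        simpa using h1
      · have h1 := (hx n hn).1
        simpa using h1
  have key : ∀ h : G, (∀ n ∈ N, h * n * h⁻¹ ∈ N ∧ h⁻¹ * n * h ∈ N) → (∀ a ∈ S, ⁅a, h⁆ ∈ N) →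
      ∀ g ∈ Subgroup.closure S, ⁅g, h⁆ ∈ N := by
    intro h _ ha g hg
    induction hg using Subgroup.closure_induction with
    | mem a has => exact ha a has
    | one =>
      have e : ⁅(1 : G), h⁆ = 1 := by
        rw [commutatorElement_def]
        group
      rw [e]
      exact N.one_mem
    | mul x y hx _ ihx ihy =>
      have e : ⁅x * y, h⁆ = (x * ⁅y, h⁆ * x⁻¹) * ⁅x, h⁆ := by
        rw [commutatorElement_def, commutatorElement_def, commutatorElement_def]
        group
      rw [e]
      exact N.mul_mem (hconj x hx _ ihy).1 ihx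
    | inv x hx ihx =>
      have e : ⁅x⁻¹, h⁆ = x⁻¹ * (⁅x, h⁆)⁻¹ * x := by
        rw [commutatorElement_def, commutatorElement_def]
        group
      rw [e]
      exact (hconj x hx _ (N.inv_mem ihx)).2
  rw [Subgroup.commutator_le]
  intro g hg h hh
  apply key h (hconj h hh) _ g hg
  intro a ha
  have h1 : ⁅h, a⁆ ∈ N := key a (hS a ha) (fun b hb => hc b hb a ha) h hh
  rw [← commutatorElement_inv]
  exact N.inv_mem h1

/-- the commutator subgroup of `H` is normalised by `H` -/
theorem g2_conj_mem_commutator {G : Type*} [Group G] (H : Subgroup G) (g c : G) (hg : g ∈ H)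
    (hc : c ∈ ⁅H, H⁆) : g * c * g⁻¹ ∈ ⁅H, H⁆ := by
  have hle : ⁅H, H⁆ ≤ H := by
    rw [Subgroup.commutator_le]
    intro a ha b hb
    rw [commutatorElement_def]
    exact H.mul_mem (H.mul_mem (H.mul_mem ha hb) (H.inv_mem ha)) (H.inv_mem hb)
  have e : g * c * g⁻¹ = ⁅g, c⁆ * c := by
    rw [commutatorElement_def]
    group
  rw [e]
  exact Subgroup.mul_mem _ (Subgroup.commutator_mem_commutator hg (hle hc)) hc

/-! ### The two groups of permutations -/

/-- the permutation of the `r`-th root element -/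
def g2sig (r : Fin 12) : Equiv.Perm (Fin 63) :=
  ⟨g2sigF r, g2sigF r, g2_sig_inv r, g2_sig_inv r⟩

/-- the permutation of the `j`-th transvection -/
def g2tau (j : Fin 56) : Equiv.Perm (Fin 63) :=
  ⟨g2tauF j, g2tauF (g2tinv j), fun i => (g2_tau_inv j i).1, fun i => (g2_tau_inv j i).2⟩

theorem g2sig_inv (r : Fin 12) : (g2sig r)⁻¹ = g2sig r := Equiv.ext fun _ => rfl

theorem g2sig_apply (r : Fin 12) (i : Fin 63) : g2sig r i = g2sigF r i := rfl

theorem g2tau_apply (j : Fin 56) (i : Fin 63) : g2tau j i = g2tauF j i := rfl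

theorem g2_conj_perm (r : Fin 12) (j : Fin 56) :
    g2sig r * g2tau j * (g2sig r)⁻¹ = g2tau (g2piF r j) := by
  rw [g2sig_inv]
  ext i
  rw [Equiv.Perm.mul_apply, Equiv.Perm.mul_apply, g2sig_apply, g2sig_apply, g2tau_apply,
    g2tau_apply]
  exact congrArg Fin.val (g2_conj r j i)

theorem g2_word (L : List (Fin 56)) (i : Fin 63) :
    ((L.map g2tau).prod) i = L.foldr (fun j acc => g2tauF j acc) i := by
  induction L with
  | nil => rfl
  | cons j L ih =>
    rw [List.map_cons, List.prod_cons, Equiv.Perm.mul_apply, ih, List.foldr_cons, g2tau_apply]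

theorem g2_comm_perm (a b : Fin 12) : ⁅g2sig a, g2sig b⁆ = ((g2W a b).map g2tau).prod := by
  ext i
  rw [g2_word, commutatorElement_def, g2sig_inv, g2sig_inv, Equiv.Perm.mul_apply,
    Equiv.Perm.mul_apply, Equiv.Perm.mul_apply, g2sig_apply, g2sig_apply, g2sig_apply,
    g2sig_apply]
  exact congrArg Fin.val (g2_comm a b i)

theorem g2_base_perm : g2tau 26 = ⁅g2sig 2, g2sig 9⁆ := by
  ext i
  rw [commutatorElement_def, g2sig_inv, g2sig_inv, Equiv.Perm.mul_apply,
    Equiv.Perm.mul_apply, Equiv.Perm.mul_apply, g2sig_apply, g2sig_apply, g2sig_apply,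
    g2sig_apply, g2tau_apply]
  exact congrArg Fin.val (g2_base i).symm

/-- the group generated by the permutations of the root elements -/
def g2Sg : Subgroup (Equiv.Perm (Fin 63)) := Subgroup.closure (Set.range g2sig)

/-- the group generated by the permutations of the transvections -/
def g2Tg : Subgroup (Equiv.Perm (Fin 63)) := Subgroup.closure (Set.range g2tau)

theorem g2_T_le : g2Tg ≤ ⁅g2Sg, g2Sg⁆ := by
  unfold g2Tg
  rw [Subgroup.closure_le]
  rintro _ ⟨j, rfl⟩
  have key : ∀ L : List (Fin 12),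
      g2tau (L.foldr (fun r acc => g2piF r acc) 26) ∈ ⁅g2Sg, g2Sg⁆ := by
    intro L
    induction L with
    | nil =>
      show g2tau 26 ∈ ⁅g2Sg, g2Sg⁆
      rw [g2_base_perm]
      exact Subgroup.commutator_mem_commutator
        (show g2sig 2 ∈ g2Sg from Subgroup.subset_closure ⟨2, rfl⟩)
        (show g2sig 9 ∈ g2Sg from Subgroup.subset_closure ⟨9, rfl⟩)
    | cons r L ih =>
      rw [List.foldr_cons, ← g2_conj_perm]
      exact g2_conj_mem_commutator g2Sg _ _
        (show g2sig r ∈ g2Sg from Subgroup.subset_closure ⟨r, rfl⟩) ih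
  have h := key (g2path j)
  rw [g2_reach j] at h
  exact h

theorem g2_S_le : ⁅g2Sg, g2Sg⁆ ≤ g2Tg := by
  apply g2_commutator_le (Set.range g2sig) g2Tg
  · rintro _ ⟨r, rfl⟩ n hn
    have h1 : g2sig r * n * (g2sig r)⁻¹ ∈ g2Tg := by
      unfold g2Tg at hn ⊢
      induction hn using Subgroup.closure_induction with
      | mem a ha =>
        obtain ⟨j, rfl⟩ := ha
        rw [g2_conj_perm]
        exact Subgroup.subset_closure ⟨_, rfl⟩
      | one =>
        rw [mul_one, mul_inv_cancel]
        exact Subgroup.one_mem _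
      | mul x y _ _ hx hy =>
        rw [← conj_mul]
        exact Subgroup.mul_mem _ hx hy
      | inv x _ hx =>
        rw [← conj_inv]
        exact Subgroup.inv_mem _ hx
    refine ⟨h1, ?_⟩
    have e : (g2sig r)⁻¹ * n * g2sig r = g2sig r * n * (g2sig r)⁻¹ := by rw [g2sig_inv]
    rw [e]
    exact h1
  · rintro _ ⟨a, rfl⟩ _ ⟨b, rfl⟩
    rw [g2_comm_perm]
    apply Subgroup.list_prod_mem
    intro x hx
    rw [List.mem_map] at hx
    obtain ⟨j, _, rfl⟩ := hx
    exact Subgroup.subset_closure ⟨j, rfl⟩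

theorem g2_comm_eq : ⁅g2Sg, g2Sg⁆ = g2Tg := le_antisymm g2_S_le g2_T_le

end Cfsg.Agent.Lib.helper17
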