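import Mathlib

/-!
The field with nine elements as a concrete type: `gXY` stands for `X + Y ω` with `ω ^ 2 = -1` and
`X, Y` integers modulo three.
-/

set_option autoImplicit false
set_option maxRecDepth 100000

namespace Cfsg.Agent.Lib.helper17

/-- the field with nine elements -/
inductive G9
  | g00
  | g01
  | g02
  | g10
  | g11
  | g12
  | g20
  | g21
  | g22
  deriving DecidableEq

namespace G9

/-- addition -/
def add : G9 → G9 → G9
  | g00, g00 => g00
  | g00, g01 => g01
  | g00, g02 => g02
  | g00, g10 => g10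
  | g00, g11 => g11
  | g00, g12 => g12
  | g00, g20 => g20
  | g00, g21 => g21
  | g00, g22 => g22
  | g01, g00 => g01
  | g01, g01 => g02
  | g01, g02 => g00
  | g01, g10 => g11
  | g01, g11 => g12
  | g01, g12 => g10
  | g01, g20 => g21
  | g01, g21 => g22
  | g01, g22 => g20
  | g02, g00 => g02
  | g02, g01 => g00
  | g02, g02 => g01
  | g02, g10 => g12
  | g02, g11 => g10
  | g02, g12 => g11
  | g02, g20 => g22
  | g02, g21 => g20
  | g02, g22 => g21
  | g10, g00 => g10
  | g10, g01 => g11
  | g10, g02 => g12
  | g10, g10 => g20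
  | g10, g11 => g21
  | g10, g12 => g22
  | g10, g20 => g00
  | g10, g21 => g01
  | g10, g22 => g02
  | g11, g00 => g11
  | g11, g01 => g12
  | g11, g02 => g10
  | g11, g10 => g21
  | g11, g11 => g22
  | g11, g12 => g20
  | g11, g20 => g01
  | g11, g21 => g02
  | g11, g22 => g00
  | g12, g00 => g12
  | g12, g01 => g10
  | g12, g02 => g11
  | g12, g10 => g22
  | g12, g11 => g20
  | g12, g12 => g21
  | g12, g20 => g02
  | g12, g21 => g00
  | g12, g22 => g01
  | g20, g00 => g20
  | g20, g01 => g21
  | g20, g02 => g22
  | g20, g10 => g00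
  | g20, g11 => g01
  | g20, g12 => g02
  | g20, g20 => g10
  | g20, g21 => g11
  | g20, g22 => g12
  | g21, g00 => g21
  | g21, g01 => g22
  | g21, g02 => g20
  | g21, g10 => g01
  | g21, g11 => g02
  | g21, g12 => g00
  | g21, g20 => g11
  | g21, g21 => g12
  | g21, g22 => g10
  | g22, g00 => g22
  | g22, g01 => g20
  | g22, g02 => g21
  | g22, g10 => g02
  | g22, g11 => g00
  | g22, g12 => g01
  | g22, g20 => g12
  | g22, g21 => g10
  | g22, g22 => g11

/-- multiplication -/
def mul : G9 → G9 → G9
  | g00, g00 => g00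
  | g00, g01 => g00
  | g00, g02 => g00
  | g00, g10 => g00
  | g00, g11 => g00
  | g00, g12 => g00
  | g00, g20 => g00
  | g00, g21 => g00
  | g00, g22 => g00
  | g01, g00 => g00
  | g01, g01 => g20
  | g01, g02 => g10
  | g01, g10 => g01
  | g01, g11 => g21
  | g01, g12 => g11
  | g01, g20 => g02
  | g01, g21 => g22
  | g01, g22 => g12
  | g02, g00 => g00
  | g02, g01 => g10
  | g02, g02 => g20
  | g02, g10 => g02
  | g02, g11 => g12
  | g02, g12 => g22
  | g02, g20 => g01
  | g02, g21 => g11
  | g02, g22 => g21
  | g10, g00 => g00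
  | g10, g01 => g01
  | g10, g02 => g02
  | g10, g10 => g10
  | g10, g11 => g11
  | g10, g12 => g12
  | g10, g20 => g20
  | g10, g21 => g21
  | g10, g22 => g22
  | g11, g00 => g00
  | g11, g01 => g21
  | g11, g02 => g12
  | g11, g10 => g11
  | g11, g11 => g02
  | g11, g12 => g20
  | g11, g20 => g22
  | g11, g21 => g10
  | g11, g22 => g01
  | g12, g00 => g00
  | g12, g01 => g11
  | g12, g02 => g22
  | g12, g10 => g12
  | g12, g11 => g20
  | g12, g12 => g01
  | g12, g20 => g21
  | g12, g21 => g02
  | g12, g22 => g10
  | g20, g00 => g00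
  | g20, g01 => g02
  | g20, g02 => g01
  | g20, g10 => g20
  | g20, g11 => g22
  | g20, g12 => g21
  | g20, g20 => g10
  | g20, g21 => g12
  | g20, g22 => g11
  | g21, g00 => g00
  | g21, g01 => g22
  | g21, g02 => g11
  | g21, g10 => g21
  | g21, g11 => g10
  | g21, g12 => g02
  | g21, g20 => g12
  | g21, g21 => g01
  | g21, g22 => g20
  | g22, g00 => g00
  | g22, g01 => g12
  | g22, g02 => g21
  | g22, g10 => g22
  | g22, g11 => g01
  | g22, g12 => g10
  | g22, g20 => g11
  | g22, g21 => g20
  | g22, g22 => g02

/-- negation -/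
def neg : G9 → G9
  | g00 => g00
  | g01 => g02
  | g02 => g01
  | g10 => g20
  | g11 => g22
  | g12 => g21
  | g20 => g10
  | g21 => g12
  | g22 => g11

/-- inverse -/
def inv : G9 → G9
  | g00 => g00
  | g01 => g02
  | g02 => g01
  | g10 => g10
  | g11 => g21
  | g12 => g22
  | g20 => g20
  | g21 => g11
  | g22 => g12

instance instFintype : Fintype G9 :=
  ⟨⟨[g00, g01, g02, g10, g11, g12, g20, g21, g22], by decide⟩, by intro x; cases x <;> decide⟩

instance instZero : Zero G9 := ⟨g00⟩

instance instOne : One G9 := ⟨g10⟩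

instance instAdd : Add G9 := ⟨add⟩

instance instMul : Mul G9 := ⟨mul⟩

instance instNeg : Neg G9 := ⟨neg⟩

instance instInv : Inv G9 := ⟨inv⟩

instance instCommRing : CommRing G9 where
  add_assoc := by decide
  zero_add := by decide
  add_zero := by decide
  nsmul := nsmulRec
  zsmul := zsmulRec
  neg_add_cancel := by decide
  add_comm := by decide
  left_distrib := by decide
  right_distrib := by decide
  zero_mul := by decide
  mul_zero := by decide
  mul_assoc := by decide
  one_mul := by decide
  mul_one := by decide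
  mul_comm := by decide

instance instField : Field G9 where
  exists_pair_ne := ⟨g00, g10, by decide⟩
  mul_inv_cancel := by decide
  inv_zero := rfl
  nnqsmul := _
  qsmul := _

theorem card : Fintype.card G9 = 9 := rfl

theorem zero_eq : (0 : G9) = g00 := rfl

theorem one_eq : (1 : G9) = g10 := rfl

end G9

end Cfsg.Agent.Lib.helper17
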