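import Mathlib
import Cfsg.Agent.Lib.helper17.G2U3Core
import Cfsg.Agent.Lib.helper17.U42Transport

/-!
`G₂(2)′ ≅ PSU₃(3)`, second part: the special unitary group of dimension three over the field with
nine elements and the Chevalley group of type `G₂` over a field with two elements as groups of
permutations of 63 points, and the isomorphism.
-/

set_option autoImplicit false

namespace Cfsg.Agent.Lib.helper17

open Cfsg Matrix
open scoped commutatorElement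

/-! ### The unitary side -/

theorem g2_card_G9 : Fintype.card G9 = 3 ^ 2 := by
  rw [G9.card]
  norm_num

/-- the matrix of an element of `SU_3(3)` -/
def g2m2 (g : ↥(SU 3 G9 3)) : Matrix (Fin 3) (Fin 3) G9 :=
  ((g : Matrix.SpecialLinearGroup (Fin 3) G9) : Matrix (Fin 3) (Fin 3) G9)

theorem g2m2_mul (g h : ↥(SU 3 G9 3)) : g2m2 (g * h) = g2m2 g * g2m2 h := rfl

theorem g2m2_one : g2m2 1 = 1 := rfl

theorem g2_su_pres (g : ↥(SU 3 G9 3)) (u v : Fin 3 → G9) :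
    hermForm 3 G9 3 (g2m2 g *ᵥ u) (g2m2 g *ᵥ v) = hermForm 3 G9 3 u v := g.2 u v

theorem g2_vec3 {K : Type*} (x : Fin 3 → K) : x = ![x 0, x 1, x 2] := by
  funext a
  fin_cases a <;> rfl

/-- pairs of a unitary matrix and a permutation acting alike on the 63 points -/
def g2R2 : Subgroup (↥(SU 3 G9 3) × Equiv.Perm (Fin 63)) where
  carrier := {p | ∀ i, u42Rel g2P (g2m2 p.1) i (p.2 i)}
  mul_mem' := by
    intro a b ha hb i
    exact u42Rel_mul g2P _ _ (hb i) (ha (b.2 i))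
  one_mem' := by
    intro i
    exact ⟨1, one_ne_zero, by rw [one_smul]; exact Matrix.one_mulVec _⟩
  inv_mem' := by
    intro a ha i
    have h1 := ha (a.2⁻¹ i)
    have e1 : a.2 (a.2⁻¹ i) = i := Equiv.apply_symm_apply a.2 i
    rw [e1] at h1
    refine u42Rel_inv g2P _ _ ?_ h1
    show g2m2 a.1⁻¹ * g2m2 a.1 = 1
    rw [← g2m2_mul, inv_mul_cancel, g2m2_one]

theorem g2_tv_smul (e : G9) (he : e * e ^ 3 = 1) (u : Fin 3 → G9) (s : G9) :
    unitaryTransvection 3 3 (e • u) s = unitaryTransvection 3 3 u s := by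
  unfold unitaryTransvection
  congr 2
  ext a b
  simp only [Matrix.vecMulVec_apply, Pi.smul_apply, smul_eq_mul]
  calc e * u a * (e * u b) ^ 3 = (e * e ^ 3) * (u a * u b ^ 3) := by ring
    _ = u a * u b ^ 3 := by rw [he, one_mul]

theorem g2_tv_zero (s : G9) : unitaryTransvection 3 3 (0 : Fin 3 → G9) s = 1 := by
  unfold unitaryTransvection
  ext a b
  simp [Matrix.vecMulVec_apply]

theorem g2_tv_zero' (x : Fin 3 → G9) : unitaryTransvection 3 3 x (0 : G9) = 1 := by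
  unfold unitaryTransvection
  simp

theorem g2_T_mem (j : Fin 56) : ∃ A : ↥(SU 3 G9 3), g2m2 A = g2T j := by
  have hdet : (g2T j).det = 1 := by
    unfold g2T
    rw [unitaryTransvection_det, g2_iso_isotropic j, mul_zero, add_zero]
  refine ⟨⟨⟨g2T j, hdet⟩, ?_⟩, rfl⟩
  intro u v
  show hermForm 3 G9 3 (g2T j *ᵥ u) (g2T j *ᵥ v) = hermForm 3 G9 3 u v
  unfold g2T
  rw [hermForm_unitaryTransvection_gen g2_card_G9 3, g2_iso_isotropic j, mul_zero, add_zero,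
    g2_w_cube, zero_mul, add_zero]

theorem g2_gen2 (A : ↥(SU 3 G9 3)) (x : Fin 3 → G9) (s : G9) (hx : hermForm 3 G9 3 x x = 0)
    (hA : g2m2 A = unitaryTransvection 3 3 x s) :
    ∃ π : Equiv.Perm (Fin 63), (A, π) ∈ g2R2 ∧ π ∈ g2Tg := by
  have hone : g2m2 A = 1 → ∃ π : Equiv.Perm (Fin 63), (A, π) ∈ g2R2 ∧ π ∈ g2Tg := by
    intro h1
    have h2 : A = 1 := by
      apply Subtype.ext
      apply Subtype.ext
      exact h1
    subst h2
    exact ⟨1, g2R2.one_mem, Subgroup.one_mem _⟩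
  have hT : ∀ k : Fin 56, g2m2 A = g2T k →
      ∃ π : Equiv.Perm (Fin 63), (A, π) ∈ g2R2 ∧ π ∈ g2Tg := by
    intro k hk
    refine ⟨g2tau k, ?_, Subgroup.subset_closure ⟨k, rfl⟩⟩
    intro i
    show u42Rel g2P (g2m2 A) i (g2tauF k i)
    rw [hk]
    exact g2_cert2 k i
  have hu : ∀ a : Fin 3,
      hermForm 3 G9 3 (unitaryTransvection 3 3 x s *ᵥ Pi.single a 1)
        (unitaryTransvection 3 3 x s *ᵥ Pi.single a 1) =
      hermForm 3 G9 3 (Pi.single a (1 : G9)) (Pi.single a 1) := by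
    intro a
    rw [← hA]
    exact g2_su_pres A _ _
  have hx3 := g2_vec3 x
  obtain ⟨y, hy⟩ : ∃ y : Fin 3 → G9, y = ![x 0, x 1, x 2] := ⟨_, rfl⟩
  rw [← hy] at hx3
  subst hx3
  rw [hy] at hx hu hA
  rcases g2_unitary_cases _ _ _ s hx hu with h0 | h1 | h1 | hz
  · apply hone
    rw [hA, h0]
    exact g2_tv_zero' _
  · subst h1
    rcases g2_iso_cover _ _ _ hx with hz | ⟨k, e, he, hk⟩
    · apply hone
      rw [hA, hz]
      exact g2_tv_zero _
    · rw [hk, g2_tv_smul e he] at hA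
      exact hT k hA
  · subst h1
    rcases g2_iso_cover _ _ _ hx with hz | ⟨k, e, he, hk⟩
    · apply hone
      rw [hA, hz]
      exact g2_tv_zero _
    · rw [hk, g2_tv_smul e he, g2_tv_neg k] at hA
      exact hT (g2tinv k) hA
  · apply hone
    rw [hA, hz]
    exact g2_tv_zero _

theorem g2_fst2 : ∀ g : ↥(SU 3 G9 3), ∃ π : Equiv.Perm (Fin 63), (g, π) ∈ g2R2 ∧ π ∈ g2Tg := by
  have hcl := Cfsg.Agent.S0780.result (F := G9) (q := 3) g2_card_G9 3 (by norm_num)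
    (by norm_num)
  have hle : Subgroup.closure {A : ↥(SU 3 G9 3) | ∃ (v : Fin 3 → G9) (c : G9),
      hermForm 3 G9 3 v v = 0 ∧
      ((A : Matrix.SpecialLinearGroup (Fin 3) G9) : Matrix (Fin 3) (Fin 3) G9) =
        unitaryTransvection 3 3 v c} ≤
      (g2R2 ⊓ Subgroup.prod ⊤ g2Tg).map (MonoidHom.fst _ _) := by
    rw [Subgroup.closure_le]
    rintro A ⟨v, c, hv, hA⟩
    obtain ⟨π, h1, h2⟩ := g2_gen2 A v c hv hA
    exact ⟨(A, π), Subgroup.mem_inf.mpr ⟨h1, Subgroup.mem_prod.mpr ⟨Subgroup.mem_top _, h2⟩⟩,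
      rfl⟩
  intro g
  have hg : g ∈ (g2R2 ⊓ Subgroup.prod ⊤ g2Tg).map (MonoidHom.fst _ _) :=
    hle (by rw [hcl]; trivial)
  obtain ⟨⟨g', π⟩, hp, rfl⟩ := hg
  exact ⟨π, (Subgroup.mem_inf.mp hp).1, (Subgroup.mem_prod.mp (Subgroup.mem_inf.mp hp).2).2⟩

theorem g2_eq_one (g : ↥(SU 3 G9 3)) (hfix : ∀ i, u42Rel g2P (g2m2 g) i i) : g = 1 := by
  have heig : ∀ x : Fin 3 → G9, hermForm 3 G9 3 x x ≠ 0 → ∃ d : G9, g2m2 g *ᵥ x = d • x := by
    intro x hx
    have hx2 : hermForm 3 G9 3 ![x 0, x 1, x 2] ![x 0, x 1, x 2] ≠ 0 := by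
      rw [← g2_vec3 x]
      exact hx
    obtain ⟨j, e, he, hj⟩ := g2_P_cover _ _ _ hx2
    obtain ⟨d, hd, hdj⟩ := hfix j
    have hxj : x = e • g2P j := (g2_vec3 x).trans hj
    exact ⟨d, by rw [hxj, Matrix.mulVec_smul, hdj, smul_comm]⟩
  have hs : ∀ a : Fin 3, hermForm 3 G9 3 (Pi.single a (1 : G9)) (Pi.single a 1) ≠ 0 := by
    decide
  choose d hd using fun a => heig _ (hs a)
  have hcol : ∀ a b, g2m2 g b a = d a * (if b = a then 1 else 0) := by
    intro a b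
    have h1 := congrFun (hd a) b
    rw [Matrix.mulVec_single_one] at h1
    simpa [Pi.single_apply] using h1
  have hmv : ∀ (u : Fin 3 → G9) (b : Fin 3), (g2m2 g *ᵥ u) b = d b * u b := by
    intro u b
    simp only [Matrix.mulVec, dotProduct]
    rw [Finset.sum_eq_single b]
    · rw [hcol b b]
      simp
    · intro a _ hab
      rw [hcol a b]
      simp [Ne.symm hab]
    · simp
  obtain ⟨e1, he1⟩ := heig ![1, 1, 0] (by decide)
  obtain ⟨e2, he2⟩ := heig ![0, 1, 1] (by decide)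
  have q0 := congrFun he1 0
  have q1 := congrFun he1 1
  have r1 := congrFun he2 1
  have r2 := congrFun he2 2
  rw [hmv] at q0 q1 r1 r2
  simp at q0 q1 r1 r2
  have hd1 : d 1 = d 0 := by rw [q1, q0]
  have hd2 : d 2 = d 0 := by rw [r2, ← r1, q1, q0]
  have hdiag : g2m2 g = Matrix.diagonal d := by
    ext b a
    rw [hcol a b, Matrix.diagonal_apply]
    by_cases hba : b = a
    · subst hba
      simp
    · simp [hba]
  have hdet : (g2m2 g).det = 1 := (g : Matrix.SpecialLinearGroup (Fin 3) G9).2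
  rw [hdiag, Matrix.det_diagonal, Fin.prod_univ_three, hd1, hd2] at hdet
  have h1 : d 0 = 1 := g2_cube_one _ hdet
  apply Subtype.ext
  apply Subtype.ext
  show g2m2 g = 1
  rw [hdiag]
  ext b a
  rw [Matrix.diagonal_apply, Matrix.one_apply]
  by_cases hba : b = a
  · subst hba
    fin_cases b <;> simp [hd1, hd2, h1]
  · simp [hba]

theorem g2_phi2 : ∃ φ : ↥(SU 3 G9 3) →* Equiv.Perm (Fin 63),
    Function.Injective φ ∧ φ.range = g2Tg := by
  obtain ⟨φ, hφ, huniq⟩ := g2_graph_hom g2R2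
    (fun g => (g2_fst2 g).imp fun π h => h.1) (by
      intro π hπ
      ext i
      obtain ⟨c, hc, h⟩ := hπ i
      have h' : g2P i = c • g2P (π i) := by
        rw [← h]
        exact (Matrix.one_mulVec _).symm
      have hij := g2_P_irr i _ c hc h'
      exact congrArg Fin.val hij.symm)
  refine ⟨φ, ?_, le_antisymm ?_ ?_⟩
  · rw [injective_iff_map_eq_one]
    intro g hg
    have hR := hφ g
    rw [hg] at hR
    exact g2_eq_one g hR
  · rintro _ ⟨g, rfl⟩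
    obtain ⟨π, h1, h2⟩ := g2_fst2 g
    rw [← huniq g π h1]
    exact h2
  · unfold g2Tg
    rw [Subgroup.closure_le]
    rintro _ ⟨j, rfl⟩
    obtain ⟨A, hA⟩ := g2_T_mem j
    have hR : (A, g2tau j) ∈ g2R2 := by
      intro i
      show u42Rel g2P (g2m2 A) i (g2tauF j i)
      rw [hA]
      exact g2_cert2 j i
    exact ⟨A, (huniq A _ hR).symm⟩

/-! ### The side of the Chevalley group -/

theorem g2_xMat_map {F F' : Type*} [Field F] [Field F'] (e : F →+* F')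
    (D : Cfsg.Lie.ChevalleyDatum) (r : Fin D.nroots) (t : F) :
    (D.xMat F r t).map e = D.xMat F' r (e t) := by
  ext row col
  rcases col with i | s <;> rcases row with i' | u
  all_goals simp only [Cfsg.Lie.ChevalleyDatum.xMat, Matrix.map_apply, Matrix.of_apply]
  · split_ifs <;> simp
  · split_ifs <;> simp
  · split_ifs <;> simp
  · split_ifs <;> simp [map_list_sum, List.map_map, Function.comp_def]

section
variable {F : Type*} [Field F]

/-- the matrix over the field with two elements of an element of the Chevalley group -/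
def g2m1 (e : F →+* ZMod 2) (g : ↥(Cfsg.Lie.chevG2.group F)) :
    Matrix (Fin 2 ⊕ Fin 12) (Fin 2 ⊕ Fin 12) (ZMod 2) :=
  ((g : GL Cfsg.Lie.chevG2.Idx F) : Matrix Cfsg.Lie.chevG2.Idx Cfsg.Lie.chevG2.Idx F).map e

theorem g2m1_mul (e : F →+* ZMod 2) (g h : ↥(Cfsg.Lie.chevG2.group F)) :
    g2m1 e (g * h) = g2m1 e g * g2m1 e h := by
  show (((g : GL Cfsg.Lie.chevG2.Idx F) : Matrix Cfsg.Lie.chevG2.Idx Cfsg.Lie.chevG2.Idx F) *
    ((h : GL Cfsg.Lie.chevG2.Idx F) : Matrix Cfsg.Lie.chevG2.Idx Cfsg.Lie.chevG2.Idx F)).map e = _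
  exact Matrix.map_mul

theorem g2m1_one (e : F →+* ZMod 2) : g2m1 e 1 = 1 := by
  show ((1 : Matrix Cfsg.Lie.chevG2.Idx Cfsg.Lie.chevG2.Idx F)).map e = _
  exact Matrix.map_one e e.map_zero e.map_one

/-- pairs of an element of the Chevalley group and a permutation acting alike on the 63 vectors -/
def g2R1 (e : F →+* ZMod 2) :
    Subgroup (↥(Cfsg.Lie.chevG2.group F) × Equiv.Perm (Fin 63)) where
  carrier := {p | ∀ i, g2m1 e p.1 *ᵥ g2V i = g2V (p.2 i)}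
  mul_mem' := by
    intro a b ha hb i
    show g2m1 e (a.1 * b.1) *ᵥ g2V i = g2V (a.2 (b.2 i))
    rw [g2m1_mul, ← Matrix.mulVec_mulVec, hb i, ha (b.2 i)]
  one_mem' := by
    intro i
    show g2m1 e 1 *ᵥ g2V i = g2V i
    rw [g2m1_one, Matrix.one_mulVec]
  inv_mem' := by
    intro a ha i
    show g2m1 e a.1⁻¹ *ᵥ g2V i = g2V (a.2⁻¹ i)
    have h1 := ha (a.2⁻¹ i)
    have e1 : a.2 (a.2⁻¹ i) = i := Equiv.apply_symm_apply a.2 i
    rw [e1] at h1
    rw [← h1, Matrix.mulVec_mulVec, ← g2m1_mul, inv_mul_cancel, g2m1_one, Matrix.one_mulVec]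

theorem g2_gen1 (e : F →+* ZMod 2) (A : ↥(Cfsg.Lie.chevG2.group F)) (r : Fin 12) (t : F)
    (hA : ((A : GL Cfsg.Lie.chevG2.Idx F) : Matrix Cfsg.Lie.chevG2.Idx Cfsg.Lie.chevG2.Idx F) =
      Cfsg.Lie.chevG2.xMat F r t) :
    ∃ π : Equiv.Perm (Fin 63), (A, π) ∈ g2R1 e ∧ π ∈ g2Sg := by
  have h1 : g2m1 e A = if e t = 0 then 1 else g2X r := by
    rw [← g2_xMat r (e t)]
    show (((A : GL Cfsg.Lie.chevG2.Idx F) :
      Matrix Cfsg.Lie.chevG2.Idx Cfsg.Lie.chevG2.Idx F)).map e = _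
    rw [hA]
    exact g2_xMat_map e Cfsg.Lie.chevG2 r t
  by_cases h0 : e t = 0
  · rw [if_pos h0] at h1
    refine ⟨1, ?_, Subgroup.one_mem _⟩
    intro i
    show g2m1 e A *ᵥ g2V i = g2V i
    rw [h1, Matrix.one_mulVec]
  · rw [if_neg h0] at h1
    refine ⟨g2sig r, ?_, Subgroup.subset_closure ⟨r, rfl⟩⟩
    intro i
    show g2m1 e A *ᵥ g2V i = g2V (g2sigF r i)
    rw [h1]
    exact g2_cert1 r i

theorem g2_fst1 (e : F →+* ZMod 2) : ∀ g : ↥(Cfsg.Lie.chevG2.group F),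
    ∃ π : Equiv.Perm (Fin 63), (g, π) ∈ g2R1 e ∧ π ∈ g2Sg := by
  have hcl : Subgroup.closure (((↑) : ↥(Cfsg.Lie.chevG2.group F) → GL Cfsg.Lie.chevG2.Idx F) ⁻¹'
      {g | ∃ (r : Fin Cfsg.Lie.chevG2.nroots) (t : F),
        (g : Matrix Cfsg.Lie.chevG2.Idx Cfsg.Lie.chevG2.Idx F) = Cfsg.Lie.chevG2.xMat F r t}) = ⊤ :=
    Subgroup.closure_closure_coe_preimage
  have hle : Subgroup.closure
      (((↑) : ↥(Cfsg.Lie.chevG2.group F) → GL Cfsg.Lie.chevG2.Idx F) ⁻¹'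
      {g | ∃ (r : Fin Cfsg.Lie.chevG2.nroots) (t : F),
        (g : Matrix Cfsg.Lie.chevG2.Idx Cfsg.Lie.chevG2.Idx F) = Cfsg.Lie.chevG2.xMat F r t}) ≤
      (g2R1 e ⊓ Subgroup.prod ⊤ g2Sg).map (MonoidHom.fst _ _) := by
    rw [Subgroup.closure_le]
    rintro A ⟨r, t, hA⟩
    obtain ⟨π, h1, h2⟩ := g2_gen1 e A r t hA
    exact ⟨(A, π), Subgroup.mem_inf.mpr ⟨h1, Subgroup.mem_prod.mpr ⟨Subgroup.mem_top _, h2⟩⟩,
      rfl⟩
  intro g
  have hg : g ∈ (g2R1 e ⊓ Subgroup.prod ⊤ g2Sg).map (MonoidHom.fst _ _) :=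
    hle (by rw [hcl]; trivial)
  obtain ⟨⟨g', π⟩, hp, rfl⟩ := hg
  exact ⟨π, (Subgroup.mem_inf.mp hp).1, (Subgroup.mem_prod.mp (Subgroup.mem_inf.mp hp).2).2⟩

theorem g2_m1_eq_one (e : F →+* ZMod 2) (g : ↥(Cfsg.Lie.chevG2.group F))
    (hfix : ∀ i, g2m1 e g *ᵥ g2V i = g2V i) : g = 1 := by
  have hMB : g2m1 e g * (Matrix.of fun a b => g2V (g2C b) a :
      Matrix (Fin 2 ⊕ Fin 12) (Fin 2 ⊕ Fin 12) (ZMod 2)) =
      (Matrix.of fun a b => g2V (g2C b) a) := by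
    ext a b
    show (g2m1 e g *ᵥ g2V (g2C b)) a = g2V (g2C b) a
    rw [hfix]
  have h1 : g2m1 e g = 1 := by
    calc g2m1 e g = g2m1 e g * 1 := (mul_one _).symm
      _ = g2m1 e g * ((Matrix.of fun a b => g2V (g2C b) a :
          Matrix (Fin 2 ⊕ Fin 12) (Fin 2 ⊕ Fin 12) (ZMod 2)) * g2Binv) := by rw [g2_B_inv]
      _ = g2m1 e g * (Matrix.of fun a b => g2V (g2C b) a :
          Matrix (Fin 2 ⊕ Fin 12) (Fin 2 ⊕ Fin 12) (ZMod 2)) * g2Binv := (mul_assoc _ _ _).symm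
      _ = 1 := by rw [hMB, g2_B_inv]
  have h2 : ((g : GL Cfsg.Lie.chevG2.Idx F) :
      Matrix Cfsg.Lie.chevG2.Idx Cfsg.Lie.chevG2.Idx F) = 1 := by
    apply Matrix.map_injective e.injective
    show g2m1 e g = (1 : Matrix Cfsg.Lie.chevG2.Idx Cfsg.Lie.chevG2.Idx F).map e
    rw [h1]
    exact (Matrix.map_one e e.map_zero e.map_one).symm
  apply Subtype.ext
  apply Units.ext
  exact h2

theorem g2_X_mem (e : F →+* ZMod 2) (r : Fin 12) :
    ∃ A : ↥(Cfsg.Lie.chevG2.group F), g2m1 e A = g2X r := by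
  have hM : (Cfsg.Lie.chevG2.xMat F r 1).map e = g2X r := by
    have h1 := g2_xMat_map e Cfsg.Lie.chevG2 r (1 : F)
    have h2 := g2_xMat r 1
    rw [if_neg (by decide)] at h2
    rw [← h2]
    rw [h1, map_one]
    rfl
  have hMM : Cfsg.Lie.chevG2.xMat F r 1 * Cfsg.Lie.chevG2.xMat F r 1 = 1 := by
    apply Matrix.map_injective e.injective
    show (Cfsg.Lie.chevG2.xMat F r 1 * Cfsg.Lie.chevG2.xMat F r 1).map e =
      (1 : Matrix Cfsg.Lie.chevG2.Idx Cfsg.Lie.chevG2.Idx F).map e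
    rw [Matrix.map_mul, Matrix.map_one e e.map_zero e.map_one]
    have h3 := g2_X_sq r
    rw [← hM] at h3
    exact h3
  refine ⟨⟨⟨Cfsg.Lie.chevG2.xMat F r 1, Cfsg.Lie.chevG2.xMat F r 1, hMM, hMM⟩,
    Subgroup.subset_closure ⟨r, 1, rfl⟩⟩, ?_⟩
  exact hM

theorem g2_phi1 (e : F →+* ZMod 2) : ∃ φ : ↥(Cfsg.Lie.chevG2.group F) →* Equiv.Perm (Fin 63),
    Function.Injective φ ∧ φ.range = g2Sg := by
  obtain ⟨φ, hφ, huniq⟩ := g2_graph_hom (g2R1 e)
    (fun g => (g2_fst1 e g).imp fun π h => h.1) (by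
      intro π hπ
      ext i
      have h := hπ i
      have h' : g2V i = g2V (π i) := by
        rw [← h]
        show g2V i = g2m1 e 1 *ᵥ g2V i
        rw [g2m1_one, Matrix.one_mulVec]
      exact congrArg Fin.val (g2_V_inj _ _ h').symm)
  refine ⟨φ, ?_, le_antisymm ?_ ?_⟩
  · rw [injective_iff_map_eq_one]
    intro g hg
    have hR := hφ g
    rw [hg] at hR
    exact g2_m1_eq_one e g hR
  · rintro _ ⟨g, rfl⟩
    obtain ⟨π, h1, h2⟩ := g2_fst1 e g
    rw [← huniq g π h1]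
    exact h2
  · unfold g2Sg
    rw [Subgroup.closure_le]
    rintro _ ⟨r, rfl⟩
    obtain ⟨A, hA⟩ := g2_X_mem e r
    have hR : (A, g2sig r) ∈ g2R1 e := by
      intro i
      show g2m1 e A *ᵥ g2V i = g2V (g2sigF r i)
      rw [hA]
      exact g2_cert1 r i
    exact ⟨A, (huniq A _ hR).symm⟩

theorem g2_main (e : F →+* ZMod 2) :
    Nonempty (↥(commutator ↥(Cfsg.Lie.chevG2.group F)) ≃* PSU 3 G9 3) := by
  obtain ⟨φ1, hinj1, hr1⟩ := g2_phi1 e
  obtain ⟨φ2, hinj2, hr2⟩ := g2_phi2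
  have hmap : (commutator ↥(Cfsg.Lie.chevG2.group F)).map φ1 = φ2.range := by
    rw [commutator_def, Subgroup.map_commutator, ← MonoidHom.range_eq_map, hr1, hr2]
    exact g2_comm_eq
  have e1 : ↥(commutator ↥(Cfsg.Lie.chevG2.group F)) ≃*
      ↥((commutator ↥(Cfsg.Lie.chevG2.group F)).map φ1) :=
    Subgroup.equivMapOfInjective _ φ1 hinj1
  have e2 : ↥((commutator ↥(Cfsg.Lie.chevG2.group F)).map φ1) ≃* ↥φ2.range :=
    MulEquiv.subgroupCongr hmap
  have e3 : ↥(SU 3 G9 3) ≃* ↥φ2.range := MonoidHom.ofInjective hinj2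
  have hc := Cfsg.Agent.Lib.helper7.card_center_SU (F := G9) (q := 3) g2_card_G9 3
    (by norm_num)
  have hbot : Subgroup.center ↥(SU 3 G9 3) = ⊥ := Subgroup.eq_bot_of_card_eq _ (by rw [hc]; rfl)
  have e4 : PSU 3 G9 3 ≃* ↥(SU 3 G9 3) :=
    (QuotientGroup.quotientMulEquivOfEq hbot).trans QuotientGroup.quotientBot
  exact ⟨((e1.trans e2).trans e3.symm).trans e4.symm⟩

end

end Cfsg.Agent.Lib.helper17
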