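import Cfsg.Agent.Lib.helper17.GUWitt
import Cfsg.Agent.Lib.helper17.GUdet

/-!
The stabiliser in `GU_{k+d}(q)` of the standard non-degenerate subspace `F^k × 0` is the block subgroup
`GU_k(q) × GU_d(q)`; generic conjugation equivalence between stabilisers.
-/

set_option autoImplicit false

namespace Cfsg.Agent.Lib.helper17

open Matrix Cfsg

section
variable {H : Type*} [Group H] {ι : Type} [Fintype ι] [DecidableEq ι] {F : Type*} [Field F]
  (toMat : H →* Matrix ι ι F)

theorem conj_mem_stabilizingG (W U : Submodule F (ι → F)) (A : H)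
    (hA : ∀ u, u ∈ U ↔ toMat A *ᵥ u ∈ W) (g : H)
    (hg : g ∈ stabilizing toMat (U : Set (ι → F))) :
    A * g * A⁻¹ ∈ stabilizing toMat (W : Set (ι → F)) := by
  intro v
  have h1 : toMat A *ᵥ (toMat A⁻¹ *ᵥ v) = v := by
    rw [Matrix.mulVec_mulVec, toMat_mul_inv, Matrix.one_mulVec]
  have h2 : toMat (A * g * A⁻¹) *ᵥ v = toMat A *ᵥ (toMat g *ᵥ (toMat A⁻¹ *ᵥ v)) := by
    rw [map_mul, map_mul, Matrix.mulVec_mulVec, Matrix.mulVec_mulVec]
  have h3 : toMat A⁻¹ *ᵥ v ∈ U ↔ toMat g *ᵥ (toMat A⁻¹ *ᵥ v) ∈ U := hg (toMat A⁻¹ *ᵥ v)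
  show v ∈ W ↔ toMat (A * g * A⁻¹) *ᵥ v ∈ W
  rw [h2, ← hA, ← h3, hA, h1]

/-- Conjugation by `A` carries the stabiliser of `U` to the stabiliser of `W` when `A U = W`. -/
noncomputable def stabConjEquivG (W U : Submodule F (ι → F)) (A : H)
    (hA : ∀ u, u ∈ U ↔ toMat A *ᵥ u ∈ W) :
    stabilizing toMat (U : Set (ι → F)) ≃* stabilizing toMat (W : Set (ι → F)) where
  toFun g := ⟨A * g.1 * A⁻¹, conj_mem_stabilizingG toMat W U A hA g.1 g.2⟩
  invFun g := ⟨A⁻¹ * g.1 * A, by
    have hA' : ∀ u, u ∈ W ↔ toMat A⁻¹ *ᵥ u ∈ U := by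
      intro u
      rw [hA, Matrix.mulVec_mulVec, toMat_mul_inv, Matrix.one_mulVec]
    have := conj_mem_stabilizingG toMat U W A⁻¹ hA' g.1 g.2
    rwa [inv_inv] at this⟩
  left_inv g := Subtype.ext (by
    show A⁻¹ * (A * g.1 * A⁻¹) * A = g.1
    group)
  right_inv g := Subtype.ext (by
    show A * (A⁻¹ * g.1 * A) * A⁻¹ = g.1
    group)
  map_mul' g h := Subtype.ext (by
    show A * (g.1 * h.1) * A⁻¹ = (A * g.1 * A⁻¹) * (A * h.1 * A⁻¹)
    group)

end

section
variable {F : Type*} [Field F]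

/-- The Hermitian form on `F^k ⊕ F^d`. -/
def hermSum (k d q : ℕ) (x y : Fin k ⊕ Fin d → F) : F :=
  hermForm k F q (x ∘ Sum.inl) (y ∘ Sum.inl) + hermForm d F q (x ∘ Sum.inr) (y ∘ Sum.inr)

theorem hermForm_eq_hermSum (k d q : ℕ) (u v : Fin (k + d) → F) :
    hermForm (k + d) F q u v = hermSum k d q (u ∘ finSumFinEquiv) (v ∘ finSumFinEquiv) := by
  unfold hermSum hermForm
  rw [Fin.sum_univ_add]
  rfl

theorem mulVec_comp_finSum (k d : ℕ) (M : Matrix (Fin (k + d)) (Fin (k + d)) F) (u : Fin (k + d) → F) :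
    (M *ᵥ u) ∘ finSumFinEquiv = (M.submatrix finSumFinEquiv finSumFinEquiv) *ᵥ (u ∘ finSumFinEquiv) := by
  rw [Matrix.submatrix_mulVec_equiv]
  simp [Function.comp_assoc]

/-- A matrix preserves the Hermitian form iff its `Sum`-reindexing preserves `hermSum`. -/
theorem preserves_iff_hermSum (k d q : ℕ) (M : Matrix (Fin (k + d)) (Fin (k + d)) F) :
    (∀ u v, hermForm (k + d) F q (M *ᵥ u) (M *ᵥ v) = hermForm (k + d) F q u v) ↔
      ∀ x y : Fin k ⊕ Fin d → F,
        hermSum k d q ((M.submatrix finSumFinEquiv finSumFinEquiv) *ᵥ x)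
          ((M.submatrix finSumFinEquiv finSumFinEquiv) *ᵥ y) = hermSum k d q x y := by
  constructor
  · intro h x y
    have := h (x ∘ finSumFinEquiv.symm) (y ∘ finSumFinEquiv.symm)
    rw [hermForm_eq_hermSum, hermForm_eq_hermSum, mulVec_comp_finSum, mulVec_comp_finSum] at this
    simpa [Function.comp_assoc] using this
  · intro h u v
    rw [hermForm_eq_hermSum, hermForm_eq_hermSum, mulVec_comp_finSum, mulVec_comp_finSum]
    exact h _ _

/-- The standard subspace `F^k × 0` of `F^(k+d)`. -/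
def stdSubU (F : Type*) [Field F] (k d : ℕ) : Submodule F (Fin (k + d) → F) where
  carrier := {u | ∀ j : Fin d, u (Fin.natAdd k j) = 0}
  add_mem' := by
    intro x y hx hy j
    simp [hx j, hy j]
  zero_mem' := by
    intro j
    simp
  smul_mem' := by
    intro c x hx j
    simp [hx j]

theorem mem_stdSubU (k d : ℕ) (u : Fin (k + d) → F) :
    u ∈ stdSubU F k d ↔ ∀ j : Fin d, u (Fin.natAdd k j) = 0 := Iff.rfl

theorem mem_stdSubU_iff (k d : ℕ) (u : Fin (k + d) → F) :
    u ∈ stdSubU F k d ↔ (u ∘ finSumFinEquiv) ∘ Sum.inr = 0 := by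
  rw [mem_stdSubU]
  constructor
  · intro h
    funext j
    exact h j
  · intro h j
    exact congrFun h j

/-- The block diagonal matrix. -/
def blockMatU (k d : ℕ) (B : Matrix (Fin k) (Fin k) F) (C : Matrix (Fin d) (Fin d) F) :
    Matrix (Fin (k + d)) (Fin (k + d)) F :=
  (fromBlocks B 0 0 C).submatrix finSumFinEquiv.symm finSumFinEquiv.symm

theorem blockMatU_submatrix (k d : ℕ) (B : Matrix (Fin k) (Fin k) F) (C : Matrix (Fin d) (Fin d) F) :
    (blockMatU k d B C).submatrix finSumFinEquiv finSumFinEquiv = fromBlocks B 0 0 C := by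
  unfold blockMatU
  simp

/-- The block diagonal embedding as a monoid homomorphism. -/
def blockHomU (F : Type*) [Field F] (k d : ℕ) :
    Matrix (Fin k) (Fin k) F × Matrix (Fin d) (Fin d) F →* Matrix (Fin (k + d)) (Fin (k + d)) F where
  toFun p := blockMatU k d p.1 p.2
  map_one' := by
    show (fromBlocks (1 : Matrix (Fin k) (Fin k) F) 0 0 (1 : Matrix (Fin d) (Fin d) F)).submatrix
      finSumFinEquiv.symm finSumFinEquiv.symm = 1
    rw [Matrix.fromBlocks_one, Matrix.submatrix_one_equiv]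
  map_mul' p q := by
    show (fromBlocks (p.1 * q.1) 0 0 (p.2 * q.2)).submatrix finSumFinEquiv.symm finSumFinEquiv.symm =
      (fromBlocks p.1 0 0 p.2).submatrix finSumFinEquiv.symm finSumFinEquiv.symm *
        (fromBlocks q.1 0 0 q.2).submatrix finSumFinEquiv.symm finSumFinEquiv.symm
    rw [Matrix.submatrix_mul_equiv, Matrix.fromBlocks_multiply]
    simp

theorem blockMatU_preserves (k d q : ℕ) (B : Matrix (Fin k) (Fin k) F) (C : Matrix (Fin d) (Fin d) F)
    (hB : ∀ u v, hermForm k F q (B *ᵥ u) (B *ᵥ v) = hermForm k F q u v)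
    (hC : ∀ u v, hermForm d F q (C *ᵥ u) (C *ᵥ v) = hermForm d F q u v) (u v : Fin (k + d) → F) :
    hermForm (k + d) F q (blockMatU k d B C *ᵥ u) (blockMatU k d B C *ᵥ v) =
      hermForm (k + d) F q u v := by
  revert u v
  rw [preserves_iff_hermSum, blockMatU_submatrix]
  intro x y
  unfold hermSum
  rw [Matrix.fromBlocks_mulVec, Matrix.fromBlocks_mulVec]
  simp only [Matrix.zero_mulVec, add_zero, zero_add, Sum.elim_comp_inl, Sum.elim_comp_inr, hB, hC]

end

section
variable {F : Type*} [Field F]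

/-- The block embedding `GL_k × GL_d → GL_{k+d}`. -/
def blockGL (F : Type*) [Field F] (k d : ℕ) :
    Matrix.GeneralLinearGroup (Fin k) F × Matrix.GeneralLinearGroup (Fin d) F →*
      Matrix.GeneralLinearGroup (Fin (k + d)) F :=
  (Units.map (blockHomU F k d)).comp (MulEquiv.prodUnits.symm.toMonoidHom)

theorem blockGL_coe (k d : ℕ)
    (p : Matrix.GeneralLinearGroup (Fin k) F × Matrix.GeneralLinearGroup (Fin d) F) :
    ((blockGL F k d p : Matrix.GeneralLinearGroup (Fin (k + d)) F) :
      Matrix (Fin (k + d)) (Fin (k + d)) F) =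
      blockMatU k d (p.1 : Matrix (Fin k) (Fin k) F) (p.2 : Matrix (Fin d) (Fin d) F) := rfl

theorem blockGL_mem_GU (k d q : ℕ) (p : GU k F q × GU d F q) :
    blockGL F k d (p.1.1, p.2.1) ∈ GU (k + d) F q := by
  intro u v
  exact blockMatU_preserves k d q _ _ (fun u v => p.1.2 u v) (fun u v => p.2.2 u v) u v

/-- The block embedding `GU_k × GU_d → GU_{k+d}`. -/
def blockGU (F : Type*) [Field F] (k d q : ℕ) : GU k F q × GU d F q →* GU (k + d) F q :=
  ((blockGL F k d).comp ((GU k F q).subtype.prodMap (GU d F q).subtype)).codRestrict (GU (k + d) F q)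
    (fun p => blockGL_mem_GU k d q p)

theorem blockGU_coe (k d q : ℕ) (p : GU k F q × GU d F q) :
    guToMat (k + d) F q (blockGU F k d q p) =
      blockMatU k d (guToMat k F q p.1) (guToMat d F q p.2) := rfl

theorem blockGU_injective (k d q : ℕ) : Function.Injective (blockGU F k d q) := by
  intro p p' h
  have h1 := congrArg (fun g => (guToMat (k + d) F q g).submatrix finSumFinEquiv finSumFinEquiv) h
  simp only [blockGU_coe, blockMatU_submatrix] at h1
  rw [Matrix.fromBlocks_inj] at h1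
  exact Prod.ext (Subtype.ext (Units.ext h1.1)) (Subtype.ext (Units.ext h1.2.2.2))

/-- Membership in the stabiliser of the standard subspace. -/
theorem mem_stab_stdSubU_iff (k d q : ℕ) (g : GU (k + d) F q) :
    g ∈ stabilizing (guToMat (k + d) F q) (stdSubU F k d : Set (Fin (k + d) → F)) ↔
      ((guToMat (k + d) F q g).submatrix finSumFinEquiv finSumFinEquiv).toBlocks₂₁ = 0 := by
  classical
  rw [mem_stabilizing_iff_maps]
  constructor
  · intro h
    ext j i
    have h0 : (Pi.single (Fin.castAdd d i) 1 : Fin (k + d) → F) ∈ stdSubU F k d := by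
      intro j'
      have hne : Fin.natAdd k j' ≠ Fin.castAdd d i := by
        intro h'
        have := congrArg Fin.val h'
        simp at this
        omega
      simp [hne]
    have h1 := h _ h0 j
    have h3 : (guToMat (k + d) F q g *ᵥ (Pi.single (Fin.castAdd d i) 1 : Fin (k + d) → F))
        (Fin.natAdd k j) = guToMat (k + d) F q g (Fin.natAdd k j) (Fin.castAdd d i) := by
      simp
    rw [h3] at h1
    exact h1
  · intro h v hv
    rw [mem_stdSubU_iff] at hv ⊢
    rw [mulVec_comp_finSum]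
    have hN := (Matrix.fromBlocks_toBlocks
      ((guToMat (k + d) F q g).submatrix finSumFinEquiv finSumFinEquiv)).symm
    rw [hN, Matrix.fromBlocks_mulVec, h, hv]
    simp

theorem blockGU_mem (k d q : ℕ) (p : GU k F q × GU d F q) :
    blockGU F k d q p ∈ stabilizing (guToMat (k + d) F q) (stdSubU F k d : Set (Fin (k + d) → F)) := by
  rw [mem_stab_stdSubU_iff, blockGU_coe, blockMatU_submatrix, Matrix.toBlocks_fromBlocks₂₁]

end

section
variable {F : Type*} [Field F] [Fintype F] {q : ℕ} (hF : Fintype.card F = q ^ 2)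
include hF

theorem blockGU_surj (k d : ℕ) (g : GU (k + d) F q)
    (hg : g ∈ stabilizing (guToMat (k + d) F q) (stdSubU F k d : Set (Fin (k + d) → F))) :
    ∃ p, blockGU F k d q p = g := by
  classical
  have hq2 := two_le_of_card_eq_sq hF
  have hq0 : q ≠ 0 := by omega
  rw [mem_stab_stdSubU_iff] at hg
  have hpres := (preserves_iff_hermSum k d q (guToMat (k + d) F q g)).mp (fun u v => g.2 u v)
  obtain ⟨B, X, Y, C, hN⟩ : ∃ B X Y C,
      (guToMat (k + d) F q g).submatrix finSumFinEquiv finSumFinEquiv = fromBlocks B X Y C :=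
    ⟨_, _, _, _, (Matrix.fromBlocks_toBlocks _).symm⟩
  rw [hN] at hg hpres
  rw [Matrix.toBlocks_fromBlocks₂₁] at hg
  subst hg
  have hz : ∀ (n : ℕ) (w : Fin n → F), hermForm n F q w 0 = 0 := by
    intro n w
    unfold hermForm
    simp [zero_pow hq0]
  have hform : ∀ a a' : Fin k → F, ∀ b b' : Fin d → F,
      hermForm k F q (B *ᵥ a + X *ᵥ b) (B *ᵥ a' + X *ᵥ b') + hermForm d F q (C *ᵥ b) (C *ᵥ b') =
        hermForm k F q a a' + hermForm d F q b b' := by
    intro a a' b b'
    have := hpres (Sum.elim a b) (Sum.elim a' b')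
    unfold hermSum at this
    rw [Matrix.fromBlocks_mulVec, Matrix.fromBlocks_mulVec] at this
    simpa using this
  have hB : ∀ a a', hermForm k F q (B *ᵥ a) (B *ᵥ a') = hermForm k F q a a' := by
    intro a a'
    have := hform a a' 0 0
    simpa [hermForm_zero_left] using this
  obtain ⟨b₀, hb₀⟩ := exists_gu_of_preserves hF k B hB
  have hX : X = 0 := by
    ext i j
    have h1 : ∀ a : Fin k → F, hermForm k F q (B *ᵥ a) (X *ᵥ Pi.single j 1) = 0 := by
      intro a
      have := hform a 0 0 (Pi.single j 1)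
      simpa [hermForm_zero_left, hz] using this
    have h2 := h1 (guToMat k F q b₀⁻¹ *ᵥ Pi.single i 1)
    rw [← hb₀, Matrix.mulVec_mulVec, toMat_mul_inv, Matrix.one_mulVec, hermForm_single_left] at h2
    have h3 := (pow_eq_zero_iff hq0).mp h2
    rw [Matrix.mulVec_single_one] at h3
    simpa using h3
  subst hX
  have hC : ∀ b b', hermForm d F q (C *ᵥ b) (C *ᵥ b') = hermForm d F q b b' := by
    intro b b'
    have := hform 0 0 b b'
    simpa [hermForm_zero_left] using this
  obtain ⟨c₀, hc₀⟩ := exists_gu_of_preserves hF d C hC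
  refine ⟨(b₀, c₀), ?_⟩
  apply Subtype.ext
  apply Units.ext
  show guToMat (k + d) F q (blockGU F k d q (b₀, c₀)) = guToMat (k + d) F q g
  rw [blockGU_coe, hb₀, hc₀]
  unfold blockMatU
  rw [← hN]
  simp

/-- The stabiliser of the standard non-degenerate subspace is `GU_k × GU_d`. -/
noncomputable def stabStdEquivU (k d : ℕ) :
    GU k F q × GU d F q ≃*
      stabilizing (guToMat (k + d) F q) (stdSubU F k d : Set (Fin (k + d) → F)) :=
  MulEquiv.ofBijective ((blockGU F k d q).codRestrict _ (blockGU_mem k d q))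
    ⟨fun p p' h => blockGU_injective k d q (congrArg Subtype.val h),
     fun g => by
       obtain ⟨p, hp⟩ := blockGU_surj hF k d g.1 g.2
       exact ⟨p, Subtype.ext hp⟩⟩

end

end Cfsg.Agent.Lib.helper17
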