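import Cfsg.Agent.Lib.helper17.GUBlock

/-!
A non-degenerate `k`-dimensional subspace of the unitary space `F^(k+d)` is the image of the standard
subspace `F^k × 0` under an element of `GU`; its stabiliser in `GU_{k+d}(q)` is `GU_k(q) × GU_d(q)`.
-/

set_option autoImplicit false

namespace Cfsg.Agent.Lib.helper17

open Matrix Cfsg

section
variable {F : Type*} [Field F] [Fintype F] {q : ℕ} (hF : Fintype.card F = q ^ 2)
include hF

/-- A non-degenerate `k`-dimensional subspace is the image of the standard one under `GU`. -/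
theorem exists_gu_map_stdSubU (k d : ℕ) (W : Submodule F (Fin (k + d) → F))
    (hWk : Module.finrank F W = k)
    (hW : ∀ u ∈ W, (∀ v ∈ W, hermForm (k + d) F q u v = 0) → u = 0) :
    ∃ A : GU (k + d) F q, ∀ u, u ∈ stdSubU F k d ↔ guToMat (k + d) F q A *ᵥ u ∈ W := by
  classical
  have hq2 := two_le_of_card_eq_sq hF
  obtain ⟨σ, hσ, hne, hinv⟩ := exists_frob' hF
  have hBW : ∀ x y : W, ((hermSesq (k + d) σ).domRestrict₁₂ W W) x y =
      hermForm (k + d) F q (y : Fin (k + d) → F) (x : Fin (k + d) → F) := fun x y => by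
    rw [LinearMap.domRestrict₁₂_apply, hermSesq_apply (k + d) q σ hσ]
  have hsymm : ((hermSesq (k + d) σ).domRestrict₁₂ W W).IsSymm :=
    ⟨fun x y => by rw [hBW, hBW, hσ, hermForm_conj hF]⟩
  have hnd : ((hermSesq (k + d) σ).domRestrict₁₂ W W).Nondegenerate := by
    constructor
    · intro x hx
      apply Subtype.ext
      apply hW x.1 x.2
      intro v hv
      have := hx ⟨v, hv⟩
      rw [hBW] at this
      rw [← hermForm_conj hF, this, zero_pow (by omega)]
    · intro y hy
      apply Subtype.ext
      apply hW y.1 y.2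
      intro v hv
      have := hy ⟨v, hv⟩
      rw [hBW] at this
      exact this
  obtain ⟨b, hb⟩ := exists_orthonormal_basis_herm σ hne hinv _ hsymm hnd
  obtain ⟨y, hydef⟩ : ∃ y : Fin k → (Fin (k + d) → F),
      y = fun i => (b (Fin.cast hWk.symm i) : Fin (k + d) → F) := ⟨_, rfl⟩
  obtain ⟨x, hxdef⟩ : ∃ x : Fin k → (Fin (k + d) → F),
      x = fun i => Pi.single (Fin.castAdd d i) 1 := ⟨_, rfl⟩
  have hyW : ∀ i, y i ∈ W := fun i => by
    rw [hydef]
    exact (b _).2
  have hy : LinearIndependent F y := by
    have h1 : LinearIndependent F (fun i => (b i : Fin (k + d) → F)) :=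
      b.linearIndependent.map' W.subtype (Submodule.ker_subtype W)
    rw [hydef]
    exact h1.comp (Fin.cast hWk.symm) (Fin.cast_injective _)
  have hx : LinearIndependent F x := by
    have := (Pi.basisFun F (Fin (k + d))).linearIndependent.comp (Fin.castAdd d)
      (Fin.castAdd_injective k d)
    have h' : x = ⇑(Pi.basisFun F (Fin (k + d))) ∘ Fin.castAdd d := by
      rw [hxdef]
      funext i
      simp [Pi.basisFun_apply]
    rw [h']
    exact this
  have hG : ∀ i j, hermForm (k + d) F q (x i) (x j) = hermForm (k + d) F q (y i) (y j) := by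
    intro i j
    have h1 := hb (Fin.cast hWk.symm j) (Fin.cast hWk.symm i)
    rw [hBW] at h1
    rw [hxdef, hydef]
    simp only
    rw [hermForm_single_single (k + d) (by omega), h1]
    by_cases hij : i = j
    · subst hij
      simp
    · have h2 : Fin.castAdd d i ≠ Fin.castAdd d j := fun h => hij (Fin.castAdd_injective k d h)
      have h3 : Fin.cast hWk.symm j ≠ Fin.cast hWk.symm i :=
        fun h => hij (Fin.cast_injective _ h).symm
      rw [if_neg h2, if_neg h3]
  obtain ⟨A, hA⟩ := gu_witt_family hF (k + d) x y hx hy hG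
  have hspan : Submodule.span F (Set.range y) = W := by
    apply Submodule.eq_of_le_of_finrank_eq
    · rw [Submodule.span_le]
      rintro _ ⟨i, rfl⟩
      exact hyW i
    · rw [finrank_span_eq_card hy, hWk, Fintype.card_fin]
  have hxC : ∀ i (j : Fin d), x i (Fin.natAdd k j) = 0 := by
    intro i j
    have hne : Fin.natAdd k j ≠ Fin.castAdd d i := by
      intro h'
      have := congrArg Fin.val h'
      simp at this
      omega
    rw [hxdef]
    simp [hne]
  refine ⟨A, fun u => ⟨fun hu => ?_, fun hu => ?_⟩⟩
  · have hsum : u = ∑ i, u (Fin.castAdd d i) • x i := by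
      funext s
      refine Fin.addCases (fun i => ?_) (fun j => ?_) s
      · rw [hxdef]
        simp [Finset.sum_apply, Pi.single_apply, Fin.castAdd_inj]
      · rw [Finset.sum_apply]
        simp only [Pi.smul_apply, hxC, smul_zero, Finset.sum_const_zero]
        exact hu j
    rw [hsum, Matrix.mulVec_sum]
    apply W.sum_mem
    intro i _
    rw [Matrix.mulVec_smul, hA i]
    exact W.smul_mem _ (hyW i)
  · rw [← hspan] at hu
    obtain ⟨c, hc⟩ := (Submodule.mem_span_range_iff_exists_fun F).mp hu
    have h1 : Matrix.toLin' (guToMat (k + d) F q A) (∑ i, c i • x i) =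
        Matrix.toLin' (guToMat (k + d) F q A) u := by
      rw [Matrix.toLin'_apply, Matrix.toLin'_apply, Matrix.mulVec_sum, ← hc]
      apply Finset.sum_congr rfl
      intro i _
      rw [Matrix.mulVec_smul, hA i]
    have h2 := toMat_mulVec_injective (guToMat (k + d) F q) A h1
    rw [← h2]
    apply Submodule.sum_mem
    intro i _
    apply Submodule.smul_mem
    intro j
    exact hxC i j

/-- The stabiliser in `GU_{k+d}(q)` of a non-degenerate `k`-dimensional subspace is isomorphic to
`GU_k(q) × GU_d(q)`. -/
theorem gu_stab_nondeg (k d : ℕ) (W : Submodule F (Fin (k + d) → F))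
    (hWk : Module.finrank F W = k)
    (hW : ∀ u ∈ W, (∀ v ∈ W, hermForm (k + d) F q u v = 0) → u = 0) :
    Nonempty (↥((stabilizing (glToMat (Fin (k + d)) F) (W : Set (Fin (k + d) → F))).subgroupOf
      (GU (k + d) F q)) ≃* ↥(GU k F q) × ↥(GU d F q)) := by
  obtain ⟨A, hA⟩ := exists_gu_map_stdSubU hF k d W hWk hW
  have heq : (stabilizing (glToMat (Fin (k + d)) F) (W : Set (Fin (k + d) → F))).subgroupOf
      (GU (k + d) F q) = stabilizing (guToMat (k + d) F q) (W : Set (Fin (k + d) → F)) :=
    Subgroup.ext (fun g => Iff.rfl)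
  exact ⟨(MulEquiv.subgroupCongr heq).trans
    ((stabConjEquivG (guToMat (k + d) F q) W (stdSubU F k d) A hA).symm.trans
      (stabStdEquivU hF k d).symm)⟩

end

end Cfsg.Agent.Lib.helper17
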