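import Mathlib
import Cfsg.Agent.Lib.helper3.GfDefs
import Cfsg.Agent.S3736
import Cfsg.Agent.Lib.helper69.NilpSym

/-!
# S4395 piece S2 (racer copy by helper17): a minimal non-nilpotent group `P ⋊ ⟨y⟩` is a cover

`h17_cov_of_schmidt` is the Skel statement `cov_of_schmidt` verbatim under a prefixed name.
`N` is the image of the Frattini subgroup of `P`.
-/

set_option autoImplicit false

namespace Cfsg.Agent.Lib.helper3.Gf

universe u

open scoped commutatorElement

/-- if `Z` normalizes `U`, the elements of `U ⊔ Z` are products. -/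
theorem h17_mem_sup_of_normalizer {Y : Type*} [Group Y] (U Z : Subgroup Y)
    (hUn : Z ≤ Subgroup.normalizer (U : Set Y)) (g : Y) (hg : g ∈ U ⊔ Z) :
    ∃ u ∈ U, ∃ z ∈ Z, g = u * z := by
  let H' : Subgroup Y :=
    { carrier := {g | ∃ u ∈ U, ∃ z ∈ Z, g = u * z}
      mul_mem' := by
        rintro a b ⟨u, hu, z, hz, rfl⟩ ⟨u', hu', z', hz', rfl⟩
        exact ⟨u * (z * u' * z⁻¹),
          U.mul_mem hu ((Subgroup.mem_normalizer_iff.mp (hUn hz) u').mp hu'), z * z',
          Z.mul_mem hz hz', by group⟩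
      one_mem' := ⟨1, U.one_mem, 1, Z.one_mem, by simp⟩
      inv_mem' := by
        rintro a ⟨u, hu, z, hz, rfl⟩
        exact ⟨z⁻¹ * u⁻¹ * z⁻¹⁻¹,
          (Subgroup.mem_normalizer_iff.mp (hUn (Z.inv_mem hz)) u⁻¹).mp (U.inv_mem hu), z⁻¹,
          Z.inv_mem hz, by group⟩ }
  have hle : U ⊔ Z ≤ H' :=
    sup_le (fun u hu => ⟨u, hu, 1, Z.one_mem, by simp⟩)
      (fun z hz => ⟨1, U.one_mem, z, hz, by simp⟩)
  exact hle hg

/-- a `p`-element of `P` lying in `zpowers y` (`y` of order `q ^ r`) is trivial. -/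
theorem h17_inf_bot (p q r : ℕ) [Fact p.Prime] [Fact q.Prime] (hpq : p ≠ q) {Y : Type u} [Group Y]
    [Finite Y] (P : Subgroup Y) (y : Y) (hP : IsPGroup p ↥P) (hy : orderOf y = q ^ r)
    (g : Y) (hg : g ∈ P) (hgz : g ∈ Subgroup.zpowers y) : g = 1 := by
  obtain ⟨k, hk⟩ := (IsPGroup.iff_orderOf.mp hP) ⟨g, hg⟩
  rw [Subgroup.orderOf_mk] at hk
  have h2 : orderOf g ∣ q ^ r := hy ▸ orderOf_dvd_of_mem_zpowers hgz
  have hcop : (p ^ k).Coprime (q ^ r) :=
    Nat.Coprime.pow k r ((Nat.coprime_primes Fact.out Fact.out).mpr hpq)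
  have h1 : orderOf g = 1 := by
    rw [hk] at h2 ⊢
    exact Nat.Coprime.eq_one_of_dvd hcop h2
  exact orderOf_eq_one_iff.mp h1

/-- elements of `P` and of `zpowers y` lying in a common proper subgroup commute. -/
theorem h17_commute_of_proper (p q r : ℕ) [Fact p.Prime] [Fact q.Prime] (hpq : p ≠ q) {Y : Type u}
    [Group Y] [Finite Y] (P : Subgroup Y) (y : Y) (hP : IsPGroup p ↥P) (hy : orderOf y = q ^ r)
    (hnil : ∀ H : Subgroup Y, H ≠ ⊤ → Group.IsNilpotent ↥H)
    (H : Subgroup Y) (hH : H ≠ ⊤) (u z : Y) (hu : u ∈ P) (hz : z ∈ Subgroup.zpowers y)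
    (huH : u ∈ H) (hzH : z ∈ H) : u * z = z * u := by
  haveI := hnil H hH
  have hcop : (orderOf (⟨u, huH⟩ : ↥H)).Coprime (orderOf (⟨z, hzH⟩ : ↥H)) := by
    rw [Subgroup.orderOf_mk, Subgroup.orderOf_mk]
    obtain ⟨k, hk⟩ := (IsPGroup.iff_orderOf.mp hP) ⟨u, hu⟩
    rw [Subgroup.orderOf_mk] at hk
    have h2 : orderOf z ∣ q ^ r := hy ▸ orderOf_dvd_of_mem_zpowers hz
    rw [hk]
    exact Nat.Coprime.coprime_dvd_right h2
      (Nat.Coprime.pow k r ((Nat.coprime_primes Fact.out Fact.out).mpr hpq))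
  have h3 := Cfsg.Agent.Lib.helper69.commute_of_coprime_orderOf ↥H ⟨u, huH⟩ ⟨z, hzH⟩ hcop
  exact congrArg Subtype.val h3.eq

/-- S2 (racer copy). -/
theorem h17_cov_of_schmidt (p q r : ℕ) [Fact p.Prime] [Fact q.Prime] (hpq : p ≠ q) (hr : 1 ≤ r) {Y : Type u} [Group Y] [Finite Y]
    (P : Subgroup Y) (y : Y) (hPn : P.Normal) (hP : IsPGroup p ↥P) (hy : orderOf y = q ^ r)
    (hsup : P ⊔ Subgroup.zpowers y = ⊤)
    (hnil : ∀ H : Subgroup Y, H ≠ ⊤ → Group.IsNilpotent ↥H) (hnn : ¬ Group.IsNilpotent Y) :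
    ∃ N : Subgroup Y, Cov p q r N P y ∧ NonGen N := by
  have hpp : p.Prime := Fact.out
  have hqp : q.Prime := Fact.out
  have hinf := h17_inf_bot p q r hpq P y hP hy
  have hcp := h17_commute_of_proper p q r hpq P y hP hy hnil
  -- normalizers
  have hPtop : ∀ Z : Subgroup Y, Z ≤ Subgroup.normalizer (P : Set Y) := by
    intro Z z _
    rw [Subgroup.mem_normalizer_iff]
    intro h
    constructor
    · intro hh
      exact hPn.conj_mem h hh z
    · intro hh
      have h1 := hPn.conj_mem _ hh z⁻¹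
      have h2 : z⁻¹ * (z * h * z⁻¹) * z⁻¹⁻¹ = h := by group
      rwa [h2] at h1
  -- every element is a product
  have hprod : ∀ g : Y, ∃ u ∈ P, ∃ z ∈ Subgroup.zpowers y, g = u * z := by
    intro g
    exact h17_mem_sup_of_normalizer P (Subgroup.zpowers y) (hPtop _) g (hsup ▸ Subgroup.mem_top g)
  -- proper subgroups `U ⊔ zpowers y`
  have hprop : ∀ U : Subgroup Y, U < P →
      Subgroup.zpowers y ≤ Subgroup.normalizer (U : Set Y) → U ⊔ Subgroup.zpowers y ≠ ⊤ := by
    intro U hUP hUn htop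
    obtain ⟨u0, hu0P, hu0U⟩ := SetLike.exists_of_lt hUP
    obtain ⟨u, hu, z, hz, hg⟩ :=
      h17_mem_sup_of_normalizer U (Subgroup.zpowers y) hUn u0 (htop ▸ Subgroup.mem_top u0)
    have hzP : z ∈ P := by
      have h1 : z = u⁻¹ * u0 := by rw [hg]; group
      rw [h1]
      exact P.mul_mem (P.inv_mem (hUP.le hu)) hu0P
    have hz1 := hinf z hzP hz
    rw [hz1, mul_one] at hg
    exact hu0U (hg ▸ hu)
  have hmin : ∀ U : Subgroup Y, U < P →
      Subgroup.zpowers y ≤ Subgroup.normalizer (U : Set Y) → ⁅U, Subgroup.zpowers y⁆ = ⊥ := by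
    intro U hUP hUn
    rw [eq_bot_iff, Subgroup.commutator_le]
    intro u hu z hz
    rw [Subgroup.mem_bot, commutatorElement_eq_one_iff_mul_comm]
    exact hcp (U ⊔ Subgroup.zpowers y) (hprop U hUP hUn) u z (hUP.le hu) hz
      (Subgroup.mem_sup_left hu) (Subgroup.mem_sup_right hz)
  -- the action is non-trivial
  have hnt : ⁅P, Subgroup.zpowers y⁆ ≠ ⊥ := by
    intro hbot
    apply hnn
    have hcomm : ∀ (m : ↥P) (n : ↥(Subgroup.zpowers y)),
        Commute (P.subtype m) ((Subgroup.zpowers y).subtype n) := by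
      intro m n
      have h1 : ⁅(m : Y), (n : Y)⁆ ∈ ⁅P, Subgroup.zpowers y⁆ :=
        Subgroup.commutator_mem_commutator m.2 n.2
      rw [hbot, Subgroup.mem_bot, commutatorElement_eq_one_iff_mul_comm] at h1
      exact h1
    haveI : Group.IsNilpotent ↥P := hP.isNilpotent
    haveI : Group.IsNilpotent ↥(Subgroup.zpowers y) := by
      have hq : IsPGroup q ↥(Subgroup.zpowers y) :=
        IsPGroup.of_card (n := r) (by rw [Nat.card_zpowers, hy])
      exact hq.isNilpotent
    have hsurj : Function.Surjective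
        (MonoidHom.noncommCoprod P.subtype (Subgroup.zpowers y).subtype hcomm) := by
      intro g
      obtain ⟨u, hu, z, hz, rfl⟩ := hprod g
      exact ⟨(⟨u, hu⟩, ⟨z, hz⟩), by simp⟩
    exact Group.nilpotent_of_surjective _ hsurj
  have hAp : (Nat.card ↥(Subgroup.zpowers y)).Coprime p := by
    rw [Nat.card_zpowers, hy]
    exact Nat.Coprime.pow_left r ((Nat.coprime_primes hqp hpp).mpr (Ne.symm hpq))
  obtain ⟨hPZ, hdich, hirr, -⟩ := Cfsg.Agent.S3736.result (X := Y) (p := p)
    (Subgroup.zpowers y) (Subgroup.zpowers y) P hP (hPtop _) le_rfl Subgroup.le_normalizer hAp hnt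
    hmin
  -- the subgroup `N`
  haveI := hPn
  haveI hNn : ((frattini ↥P).map P.subtype).Normal := ConjAct.normal_of_characteristic_of_normal
  have hNP : (frattini ↥P).map P.subtype ≤ P := Subgroup.map_subtype_le _
  have hNneP : (frattini ↥P).map P.subtype ≠ P := by
    intro hEq
    have h1 : frattini ↥P = ⊤ := by
      apply Subgroup.map_injective P.subtype_injective
      rw [hEq, ← MonoidHom.range_eq_map, Subgroup.range_subtype]
    have h2 : (⊥ : Subgroup ↥P) = ⊤ := frattini_nongenerating (by rw [h1]; simp)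
    apply hnt
    rw [eq_bot_iff, Subgroup.commutator_le]
    intro u hu z hz
    have h3 : (⟨u, hu⟩ : ↥P) ∈ (⊥ : Subgroup ↥P) := h2 ▸ Subgroup.mem_top _
    rw [Subgroup.mem_bot] at h3
    have h4 : u = 1 := congrArg Subtype.val h3
    rw [h4]
    simp
  have hNlt : (frattini ↥P).map P.subtype < P := lt_of_le_of_ne hNP hNneP
  have hNnorm : ∀ Z : Subgroup Y, Z ≤ Subgroup.normalizer (((frattini ↥P).map P.subtype : Subgroup Y) : Set Y) := by
    intro Z z _
    rw [Subgroup.mem_normalizer_iff]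
    intro h
    constructor
    · intro hh
      exact hNn.conj_mem h hh z
    · intro hh
      have h1 := hNn.conj_mem _ hh z⁻¹
      have h2 : z⁻¹ * (z * h * z⁻¹) * z⁻¹⁻¹ = h := by group
      rwa [h2] at h1
  have hNZ : ∀ n ∈ (frattini ↥P).map P.subtype, ∀ z ∈ Subgroup.zpowers y, n * z = z * n := by
    intro n hn z hz
    have h1 := hmin _ hNlt (hNnorm _)
    have h2 : ⁅n, z⁆ ∈ ⁅(frattini ↥P).map P.subtype, Subgroup.zpowers y⁆ :=
      Subgroup.commutator_mem_commutator hn hz
    rw [h1, Subgroup.mem_bot, commutatorElement_eq_one_iff_mul_comm] at h2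
    exact h2
  have hNPc : ∀ n ∈ (frattini ↥P).map P.subtype, ∀ u ∈ P, n * u = u * n := by
    rintro n ⟨n', hn', rfl⟩ u hu
    rcases hdich with hel | hsp
    · have h1 : n' * ⟨u, hu⟩ = ⟨u, hu⟩ * n' := hel.1.is_comm.comm n' ⟨u, hu⟩
      exact congrArg Subtype.val h1
    · have h1 : n' ∈ Subgroup.center ↥P := hsp.2.1 ▸ hn'
      have h2 := Subgroup.mem_center_iff.mp h1 ⟨u, hu⟩
      exact (congrArg Subtype.val h2).symm
  have hNc : (frattini ↥P).map P.subtype ≤ Subgroup.center Y := by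
    intro n hn
    rw [Subgroup.mem_center_iff]
    intro g
    obtain ⟨u, hu, z, hz, rfl⟩ := hprod g
    rw [mul_assoc, ← hNZ n hn z hz, ← mul_assoc, ← hNPc n hn u hu, mul_assoc]
  refine ⟨(frattini ↥P).map P.subtype, ?_, ?_⟩
  · refine ⟨hNP, hNc, hPn, hP, ?_, ?_, hsup, ?_, ?_, ?_, ?_, ?_⟩
    · -- comm_mem
      intro u hu v hv
      have h1 : ⁅(⟨u, hu⟩ : ↥P), ⟨v, hv⟩⁆ ∈ frattini ↥P := by
        apply Cfsg.Agent.Lib.helper3.commutator_le_frattini hP
        rw [commutator_def]
        exact Subgroup.commutator_mem_commutator (Subgroup.mem_top _) (Subgroup.mem_top _)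
      have h2 := Subgroup.mem_map_of_mem P.subtype h1
      simpa [commutatorElement_def] using h2
    · -- pow_mem
      intro u hu
      have h1 := Cfsg.Agent.Lib.helper3.pow_prime_mem_frattini hP (⟨u, hu⟩ : ↥P)
      have h2 := Subgroup.mem_map_of_mem P.subtype h1
      simpa using h2
    · -- ord_dvd
      intro k hk
      have h1 := hinf (y ^ k) hk (Subgroup.pow_mem _ (Subgroup.mem_zpowers y) k)
      rw [← hy]
      exact orderOf_dvd_of_pow_eq_one h1
    · -- ord_mem
      rw [← hy, pow_orderOf_eq_one]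
      exact P.one_mem
    · -- yq
      intro u hu
      have hne : P ⊔ Subgroup.zpowers (y ^ q) ≠ ⊤ := by
        intro htop
        obtain ⟨u', hu', z, hz, hg⟩ :=
          h17_mem_sup_of_normalizer P (Subgroup.zpowers (y ^ q)) (hPtop _) y
            (htop ▸ Subgroup.mem_top y)
        have hzy : z ∈ Subgroup.zpowers y :=
          (Subgroup.zpowers_le.mpr (Subgroup.pow_mem _ (Subgroup.mem_zpowers y) q)) hz
        have hu1 : u' = 1 := by
          apply hinf u' hu'
          have h1 : u' = y * z⁻¹ := by rw [hg]; group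
          rw [h1]
          exact Subgroup.mul_mem _ (Subgroup.mem_zpowers y) (Subgroup.inv_mem _ hzy)
        rw [hu1, one_mul] at hg
        obtain ⟨k, hk⟩ := Subgroup.mem_zpowers_iff.mp hz
        rw [← hg, ← zpow_natCast y q, ← zpow_mul] at hk
        have h2 : y ^ ((q : ℤ) * k - 1) = 1 := by
          rw [zpow_sub, hk, zpow_one, mul_inv_cancel]
        have h3 : ((orderOf y : ℕ) : ℤ) ∣ (q : ℤ) * k - 1 := orderOf_dvd_iff_zpow_eq_one.mpr h2
        have h4 : (q : ℤ) ∣ ((orderOf y : ℕ) : ℤ) := by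
          rw [hy]
          exact_mod_cast dvd_pow_self q (by omega : r ≠ 0)
        have h5 : (q : ℤ) ∣ (q : ℤ) * k - 1 := h4.trans h3
        have h6 : (q : ℤ) ∣ 1 := by
          have h7 : (q : ℤ) ∣ (q : ℤ) * k - ((q : ℤ) * k - 1) := dvd_sub (dvd_mul_right _ _) h5
          simpa using h7
        have h8 : q ∣ 1 := by exact_mod_cast h6
        exact hqp.one_lt.ne' (Nat.dvd_one.mp h8)
      have h1 := hcp (P ⊔ Subgroup.zpowers (y ^ q)) hne u (y ^ q) hu
        (Subgroup.pow_mem _ (Subgroup.mem_zpowers y) q) (Subgroup.mem_sup_left hu)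
        (Subgroup.mem_sup_right (Subgroup.mem_zpowers _))
      have h2 : y ^ q * u * (y ^ q)⁻¹ * u⁻¹ = 1 := by
        rw [← h1]
        group
      rw [h2]
      exact Subgroup.one_mem _
    · -- nontriv
      by_contra hcon
      push_neg at hcon
      have hcomm : ∀ u ∈ P, Commute (QuotientGroup.mk y : Y ⧸ (frattini ↥P).map P.subtype)
          (QuotientGroup.mk u) := by
        intro u hu
        have h2 : (QuotientGroup.mk (y * u * y⁻¹ * u⁻¹) : Y ⧸ (frattini ↥P).map P.subtype) = 1 :=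
          (QuotientGroup.eq_one_iff _).mpr (hcon u hu)
        simp only [QuotientGroup.mk_mul, QuotientGroup.mk_inv] at h2
        exact mul_inv_eq_iff_eq_mul.mp (mul_inv_eq_one.mp h2)
      have hle : ⁅P, Subgroup.zpowers y⁆ ≤ (frattini ↥P).map P.subtype := by
        rw [Subgroup.commutator_le]
        intro u hu z hz
        obtain ⟨k, rfl⟩ := Subgroup.mem_zpowers_iff.mp hz
        have h3 := (hcomm u hu).zpow_left k
        rw [← QuotientGroup.eq_one_iff, ← QuotientGroup.mk'_apply, map_commutatorElement,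
          commutatorElement_eq_one_iff_commute]
        simpa using h3.symm
      rw [hPZ] at hle
      exact hNneP (le_antisymm hNP hle)
    · -- irr
      intro W hNW hWP hW
      apply hirr W hNW hWP
      apply Subgroup.zpowers_le.mpr
      rw [Subgroup.mem_normalizer_iff]
      intro h
      constructor
      · intro hh
        exact hW h hh
      · intro hh
        have hinj : Function.Injective (fun w : ↥W => (⟨y * (w : Y) * y⁻¹, hW w w.2⟩ : ↥W)) := by
          intro a b hab
          have h1 : y * (a : Y) * y⁻¹ = y * (b : Y) * y⁻¹ := congrArg Subtype.val hab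
          apply Subtype.ext
          simpa using h1
        obtain ⟨w, hw⟩ := Finite.surjective_of_injective hinj ⟨y * h * y⁻¹, hh⟩
        have h1 : y * (w : Y) * y⁻¹ = y * h * y⁻¹ := congrArg Subtype.val hw
        have h2 : (w : Y) = h := by simpa using h1
        rw [← h2]
        exact w.2
  · -- NonGen
    intro S hS
    have hPS : P ≤ S := by
      rw [← Subgroup.subgroupOf_eq_top]
      apply frattini_nongenerating
      rw [eq_top_iff]
      rintro ⟨u, hu⟩ -
      have hSn : S ≤ Subgroup.normalizer (((frattini ↥P).map P.subtype : Subgroup Y) : Set Y) :=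
        hNnorm S
      have humem : u ∈ (frattini ↥P).map P.subtype ⊔ S := by
        rw [sup_comm, hS]
        exact Subgroup.mem_top u
      obtain ⟨n, hn, s, hs, hg⟩ := h17_mem_sup_of_normalizer _ S hSn u humem
      obtain ⟨n', hn', rfl⟩ := hn
      have hsP : s ∈ P := by
        have h1 : s = (n' : Y)⁻¹ * u := by rw [hg]; simp
        rw [h1]
        exact P.mul_mem (P.inv_mem n'.2) hu
      have h2 : (⟨u, hu⟩ : ↥P) = n' * ⟨s, hsP⟩ := Subtype.ext hg
      rw [h2]
      exact Subgroup.mul_mem _ (Subgroup.mem_sup_right hn')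
        (Subgroup.mem_sup_left (Subgroup.mem_subgroupOf.mpr hs))
    have h3 : (frattini ↥P).map P.subtype ≤ S := hNP.trans hPS
    rw [← hS]
    exact (sup_eq_left.mpr h3).symm

end Cfsg.Agent.Lib.helper3.Gf
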