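import Mathlib
import Cfsg.Agent.Lib.helper86.IvDefs
import Cfsg.Agent.Lib.helper70.FlavellC

/-!
# S3928 piece QS (racer copy by helper17): elements of `ivI` of a quotient lift

`helper17_iv_quot_surj` is the Skel statement `iv_quot_surj` verbatim under a prefixed name.
-/

set_option autoImplicit false

namespace Cfsg.Agent.Lib.helper86.IV

/-- QS : every element of `ivI` of the quotient lifts to `ivI α`. -/
theorem helper17_iv_quot_surj {G : Type*} [Group G] [Finite G] (α : MulAut G) (h2 : ∀ g, α (α g) = g)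
    (N : Subgroup G) [N.Normal] (hN : ∀ n ∈ N, α n ∈ N) (y : G ⧸ N)
    (hy : y ∈ ivI (ivQ α h2 N hN)) : ∃ x ∈ ivI α, (QuotientGroup.mk x : G ⧸ N) = y := by
  obtain ⟨hodd, hinv⟩ := hy
  obtain ⟨t, ht⟩ := hodd
  obtain ⟨w, hw⟩ := QuotientGroup.mk_surjective (s := N) (y ^ (t + 1))
  have hαk : α (w * (α w)⁻¹) = (w * (α w)⁻¹)⁻¹ := by
    rw [map_mul, map_inv, h2, mul_inv_rev, inv_inv]
  have hmk : (QuotientGroup.mk (w * (α w)⁻¹) : G ⧸ N) = y := by
    rw [QuotientGroup.mk_mul, QuotientGroup.mk_inv, ← ivQ_mk α h2 N hN w, hw, map_pow, hinv,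
      inv_pow, inv_inv, ← pow_add]
    have h3 : t + 1 + (t + 1) = orderOf y + 1 := by omega
    rw [h3, pow_succ, pow_orderOf_eq_one, one_mul]
  have hk0 : 0 < orderOf y := by omega
  have hφ : 0 < Nat.totient (orderOf y) := Nat.totient_pos.mpr hk0
  refine ⟨(w * (α w)⁻¹) ^ (2 ^ (Nat.card G * Nat.totient (orderOf y))), ⟨?_, ?_⟩, ?_⟩
  · have h1 : Odd (orderOf ((w * (α w)⁻¹) ^ (2 ^ Nat.card G))) :=
      Cfsg.Agent.Lib.helper70.flv_odd_order_pow (w * (α w)⁻¹)
    have h3 : (w * (α w)⁻¹) ^ (2 ^ (Nat.card G * Nat.totient (orderOf y))) =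
        ((w * (α w)⁻¹) ^ (2 ^ Nat.card G)) ^
          (2 ^ (Nat.card G * Nat.totient (orderOf y) - Nat.card G)) := by
      rw [← pow_mul, ← pow_add]
      congr 2
      have : Nat.card G ≤ Nat.card G * Nat.totient (orderOf y) := Nat.le_mul_of_pos_right _ hφ
      omega
    rw [h3]
    exact Odd.of_dvd_nat h1 (orderOf_pow_dvd _)
  · exact (Cfsg.Agent.Lib.helper70.flv_iter_pow α (w * (α w)⁻¹) hαk _).2
  · rw [QuotientGroup.mk_pow, hmk]
    have hcop : Nat.Coprime 2 (orderOf y) := by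
      rw [Nat.coprime_two_left]
      exact ⟨t, ht⟩
    have hmod : 2 ^ (Nat.card G * Nat.totient (orderOf y)) ≡ 1 [MOD orderOf y] := by
      have h4 := (Nat.ModEq.pow_totient hcop).pow (Nat.card G)
      rw [← pow_mul, one_pow, mul_comm] at h4
      exact h4
    have h5 := pow_eq_pow_iff_modEq.mpr hmod
    rw [h5, pow_one]

end Cfsg.Agent.Lib.helper86.IV
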