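import Mathlib
import Cfsg.Agent.Lib.helper86.IvDefs
import Cfsg.Agent.Lib.helper46.IvQM
import Cfsg.Agent.Lib.helper17.IvQS

/-!
# S3928 piece QC (racer copy by helper17): `|ivI|` in quotients

`helper17_iv_quot_card` is the Skel statement `iv_quot_card` verbatim under a prefixed name
(uses QM = `iv_quot_mem` (helper46) and QS = `helper17_iv_quot_surj`).
-/

set_option autoImplicit false

namespace Cfsg.Agent.Lib.helper86.IV

/-- QC : `|ivI|` does not increase in quotients, and decreases if two elements of `ivI α` are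
congruent mod `N` (uses QM, QS). -/
theorem helper17_iv_quot_card {G : Type*} [Group G] [Finite G] (α : MulAut G) (h2 : ∀ g, α (α g) = g)
    (N : Subgroup G) [N.Normal] (hN : ∀ n ∈ N, α n ∈ N) :
    Nat.card (ivI (ivQ α h2 N hN)) ≤ Nat.card (ivI α) ∧
    ((∃ x ∈ ivI α, ∃ x' ∈ ivI α, x ≠ x' ∧ x⁻¹ * x' ∈ N) →
      Nat.card (ivI (ivQ α h2 N hN)) < Nat.card (ivI α)) := by
  classical
  have hsurj : Function.Surjective
      (fun x : ivI α => (⟨(QuotientGroup.mk (x : G) : G ⧸ N),
        iv_quot_mem α h2 N hN x x.2⟩ : ivI (ivQ α h2 N hN))) := by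
    rintro ⟨y, hy⟩
    obtain ⟨x, hx, hxy⟩ := helper17_iv_quot_surj α h2 N hN y hy
    exact ⟨⟨x, hx⟩, Subtype.ext hxy⟩
  have hle : Nat.card (ivI (ivQ α h2 N hN)) ≤ Nat.card (ivI α) :=
    Nat.card_le_card_of_surjective _ hsurj
  refine ⟨hle, ?_⟩
  rintro ⟨x, hx, x', hx', hne, hmem⟩
  rcases lt_or_eq_of_le hle with hlt | heq
  · exact hlt
  · exfalso
    have hbij := (Nat.bijective_iff_surjective_and_card _).mpr ⟨hsurj, heq.symm⟩
    have hxx : (⟨x, hx⟩ : ivI α) = ⟨x', hx'⟩ := by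
      apply hbij.1
      apply Subtype.ext
      exact QuotientGroup.eq.mpr hmem
    exact hne (congrArg Subtype.val hxx)

end Cfsg.Agent.Lib.helper86.IV
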