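import Mathlib

/-!
Tools for the pieces F1 and I of the `M11` uniqueness project S0420 (helper17): even permutations,
orbits of an element of order five, Sylow counting inside a subgroup.
-/

set_option autoImplicit false
open scoped Pointwise

namespace Cfsg.Agent.Lib.helper17.M11U

/-- A simple group with more than two elements acts by even permutations. -/
theorem mt_sign_one {G : Type*} [Group G] [Finite G] [IsSimpleGroup G]
    (hG : 2 < Nat.card G) {X : Type*} [Fintype X] [DecidableEq X] [MulAction G X] (g : G) :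
    Equiv.Perm.sign (MulAction.toPerm g : Equiv.Perm X) = 1 := by
  let φ : G →* ℤˣ := Equiv.Perm.sign.comp (MulAction.toPermHom G X)
  have hker : φ.ker = ⊥ ∨ φ.ker = ⊤ := (MonoidHom.normal_ker φ).eq_bot_or_eq_top
  rcases hker with h | h
  · exfalso
    have hinj : Function.Injective φ := (MonoidHom.ker_eq_bot_iff φ).1 h
    have h1 : Nat.card G ≤ Nat.card ℤˣ := Nat.card_le_card_of_injective φ hinj
    have h2 : Nat.card ℤˣ = 2 := by
      rw [Nat.card_eq_fintype_card]
      exact Fintype.card_units_int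
    omega
  · have : g ∈ φ.ker := by
      rw [h]
      trivial
    exact this

theorem mt_toPerm_pow {G : Type*} [Group G] {X : Type*} [MulAction G X] (g : G) (n : ℕ) (x : X) :
    ((MulAction.toPerm g : Equiv.Perm X) ^ n) x = g ^ n • x := by
  have h : (MulAction.toPerm g : Equiv.Perm X) ^ n = MulAction.toPerm (g ^ n) := by
    rw [← MulAction.toPermHom_apply, ← MulAction.toPermHom_apply, map_pow]
  rw [h]
  rfl

/-- A subgroup of prime order is generated by any nontrivial element. -/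
theorem mt_prime_gen {G : Type*} [Group G] [Finite G] (p : ℕ) [hp : Fact p.Prime]
    (Q : Subgroup G) (hQ : Nat.card Q = p) :
    ∃ k ∈ Q, k ≠ 1 ∧ k ^ p = 1 ∧ ∀ q ∈ Q, ∃ i : ℕ, q = k ^ i := by
  have hnt : Nontrivial Q := by
    rw [← Finite.one_lt_card_iff_nontrivial, hQ]
    exact hp.out.one_lt
  obtain ⟨k, hk⟩ := exists_ne (1 : Q)
  refine ⟨k, k.2, ?_, ?_, ?_⟩
  · intro h
    exact hk (Subtype.ext h)
  · have : k ^ Nat.card Q = 1 := pow_card_eq_one'
    rw [hQ] at this
    have h2 := congrArg Subtype.val this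
    simpa using h2
  · intro q hq
    have htop : Subgroup.zpowers k = ⊤ := zpowers_eq_top_of_prime_card hQ hk
    have hmem : (⟨q, hq⟩ : Q) ∈ Subgroup.zpowers k := by
      rw [htop]
      trivial
    rw [← mem_powers_iff_mem_zpowers, Submonoid.mem_powers_iff] at hmem
    obtain ⟨n, hn⟩ := hmem
    refine ⟨n, ?_⟩
    have h2 := congrArg Subtype.val hn
    simpa using h2.symm

section Orbits

variable {G : Type*} [Group G] {X : Type*} [MulAction G X]

theorem mt_pow_stable (k : G) (S : Finset X) (hS : ∀ x ∈ S, k • x ∈ S) (j : ℕ) :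
    ∀ x ∈ S, k ^ j • x ∈ S := by
  induction j with
  | zero => intro x hx; simpa using hx
  | succ j ih =>
    intro x hx
    rw [pow_succ', mul_smul]
    exact hS _ (ih x hx)

theorem mt_pow_fix (k : G) (x : X) (hx : k • x = x) (j : ℕ) : k ^ j • x = x := by
  induction j with
  | zero => simp
  | succ j ih => rw [pow_succ, mul_smul, hx, ih]

variable [DecidableEq X]

/-- The orbit of `b` under the powers of `k` (for `k ^ 5 = 1`). -/
def orb5 (k : G) (b : X) : Finset X := (Finset.range 5).image (fun i => k ^ i • b)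

theorem mt_pow_smul_eq_iff (k : G) (hk : k ^ 5 = 1) (b : X) (hb : k • b ≠ b) (u v : ℕ) :
    k ^ u • b = k ^ v • b ↔ u % 5 = v % 5 := by
  constructor
  · intro h
    by_contra hne
    -- reduce to exponents below five
    have hu : k ^ u = k ^ (u % 5) := pow_eq_pow_mod u hk
    have hv : k ^ v = k ^ (v % 5) := pow_eq_pow_mod v hk
    rw [hu, hv] at h
    have key : ∀ a c : ℕ, a < c → c < 5 → k ^ a • b = k ^ c • b → False := by
      intro a c hac hc5 hacb
      have h1 : k ^ (c - a) • b = b := by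
        have : k ^ c = k ^ a * k ^ (c - a) := by
          rw [← pow_add]
          congr 1
          omega
        rw [this, mul_smul] at hacb
        exact (smul_left_cancel _ hacb).symm
      have hd : ∃ e : ℕ, (c - a) * e % 5 = 1 := by
        have h1' : 1 ≤ c - a := by omega
        have h4 : c - a ≤ 4 := by omega
        generalize c - a = d at h1' h4
        interval_cases d
        · exact ⟨1, by norm_num⟩
        · exact ⟨3, by norm_num⟩
        · exact ⟨2, by norm_num⟩
        · exact ⟨4, by norm_num⟩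
      obtain ⟨e, he⟩ := hd
      apply hb
      have h2 : (k ^ (c - a)) ^ e • b = b := mt_pow_fix _ b h1 e
      rw [← pow_mul, pow_eq_pow_mod _ hk, he, pow_one] at h2
      exact h2
    have hu5 : u % 5 < 5 := Nat.mod_lt _ (by norm_num)
    have hv5 : v % 5 < 5 := Nat.mod_lt _ (by norm_num)
    rcases Nat.lt_or_gt_of_ne hne with hlt | hgt
    · exact key _ _ hlt hv5 h
    · exact key _ _ hgt hu5 h.symm
  · intro h
    rw [pow_eq_pow_mod u hk, pow_eq_pow_mod v hk, h]

theorem mt_orb5_card (k : G) (hk : k ^ 5 = 1) (b : X) (hb : k • b ≠ b) :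
    (orb5 k b).card = 5 := by
  rw [orb5, Finset.card_image_of_injOn, Finset.card_range]
  intro u hu v hv h
  have h1 := (mt_pow_smul_eq_iff k hk b hb u v).1 h
  have hu' : u < 5 := Finset.mem_range.1 hu
  have hv' : v < 5 := Finset.mem_range.1 hv
  omega

theorem mt_self_mem_orb5 (k : G) (b : X) : b ∈ orb5 k b := by
  rw [orb5, Finset.mem_image]
  exact ⟨0, by simp, by simp⟩

theorem mt_orb5_stable (k : G) (hk : k ^ 5 = 1) (b : X) : ∀ x ∈ orb5 k b, k • x ∈ orb5 k b := by
  intro x hx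
  rw [orb5, Finset.mem_image] at hx ⊢
  obtain ⟨i, -, rfl⟩ := hx
  refine ⟨(i + 1) % 5, Finset.mem_range.2 (Nat.mod_lt _ (by norm_num)), ?_⟩
  rw [← mul_smul, ← pow_succ', ← pow_eq_pow_mod _ hk]

theorem mt_orb5_sub (k : G) (b : X) (S : Finset X) (hS : ∀ x ∈ S, k • x ∈ S) (hb : b ∈ S) :
    orb5 k b ⊆ S := by
  intro x hx
  rw [orb5, Finset.mem_image] at hx
  obtain ⟨i, -, rfl⟩ := hx
  exact mt_pow_stable k S hS i b hb

/-- Decomposition of a set with `|Fix k| + 10` points into the fixed points and two orbits. -/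
theorem mt_decomp [Fintype X] (k : G) (hk : k ^ 5 = 1) (F : Finset X)
    (hF : ∀ x, x ∈ F ↔ k • x = x) (hcard : Fintype.card X = F.card + 10) :
    ∃ b₁ b₂ : X, k • b₁ ≠ b₁ ∧ k • b₂ ≠ b₂ ∧ Disjoint (orb5 k b₁) (orb5 k b₂) ∧
      Disjoint F (orb5 k b₁) ∧ Disjoint F (orb5 k b₂) ∧
      F ∪ (orb5 k b₁ ∪ orb5 k b₂) = Finset.univ := by
  have hFc : Fᶜ.card = 10 := by
    rw [Finset.card_compl]
    omega
  have hstabc : ∀ x ∈ Fᶜ, k • x ∈ Fᶜ := by
    intro x hx
    rw [Finset.mem_compl, hF] at hx ⊢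
    intro h
    exact hx (smul_left_cancel _ h)
  obtain ⟨b₁, hb₁⟩ : Fᶜ.Nonempty := by
    rw [← Finset.card_pos]
    omega
  have hb₁' : k • b₁ ≠ b₁ := by
    rw [Finset.mem_compl, hF] at hb₁
    exact hb₁
  have hB₁sub : orb5 k b₁ ⊆ Fᶜ := mt_orb5_sub k b₁ _ hstabc hb₁
  have hB₁card := mt_orb5_card k hk b₁ hb₁'
  have hdisj1 : Disjoint F (orb5 k b₁) := by
    rw [Finset.disjoint_left]
    intro x hxF hxB
    exact (Finset.mem_compl.1 (hB₁sub hxB)) hxF
  have hRcard : (F ∪ orb5 k b₁)ᶜ.card = 5 := by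
    rw [Finset.card_compl, Finset.card_union_of_disjoint hdisj1]
    omega
  have hRstab : ∀ x ∈ (F ∪ orb5 k b₁)ᶜ, k • x ∈ (F ∪ orb5 k b₁)ᶜ := by
    intro x hx
    rw [Finset.mem_compl, Finset.mem_union, not_or] at hx ⊢
    refine ⟨?_, ?_⟩
    · have := hstabc x (Finset.mem_compl.2 hx.1)
      exact Finset.mem_compl.1 this
    · intro h
      apply hx.2
      have h4 := mt_pow_stable k _ (mt_orb5_stable k hk b₁) 4 _ h
      rw [← mul_smul, ← pow_succ, hk, one_smul] at h4
      exact h4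
  obtain ⟨b₂, hb₂⟩ : (F ∪ orb5 k b₁)ᶜ.Nonempty := by
    rw [← Finset.card_pos]
    omega
  have hb₂' : k • b₂ ≠ b₂ := by
    rw [Finset.mem_compl, Finset.mem_union, not_or, hF] at hb₂
    exact hb₂.1
  have hB₂sub : orb5 k b₂ ⊆ (F ∪ orb5 k b₁)ᶜ := mt_orb5_sub k b₂ _ hRstab hb₂
  have hB₂card := mt_orb5_card k hk b₂ hb₂'
  have hB₂eq : orb5 k b₂ = (F ∪ orb5 k b₁)ᶜ :=
    Finset.eq_of_subset_of_card_le hB₂sub (by omega)
  refine ⟨b₁, b₂, hb₁', hb₂', ?_, hdisj1, ?_, ?_⟩
  · rw [hB₂eq, Finset.disjoint_left]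
    intro x hx1 hx2
    rw [Finset.mem_compl, Finset.mem_union, not_or] at hx2
    exact hx2.2 hx1
  · rw [hB₂eq, Finset.disjoint_left]
    intro x hx1 hx2
    rw [Finset.mem_compl, Finset.mem_union, not_or] at hx2
    exact hx2.1 hx1
  · rw [hB₂eq, ← Finset.union_assoc]
    exact Finset.union_compl _

/-- The only `k`-stable sets with five elements are the two orbits. -/
theorem mt_stable_five [Fintype X] (k : G) (hk : k ^ 5 = 1) (F : Finset X) (hFlt : F.card < 5)
    (b₁ b₂ : X) (hb₁ : k • b₁ ≠ b₁) (hb₂ : k • b₂ ≠ b₂)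
    (hun : F ∪ (orb5 k b₁ ∪ orb5 k b₂) = Finset.univ) (S : Finset X) (hS5 : S.card = 5)
    (hS : ∀ x ∈ S, k • x ∈ S) : S = orb5 k b₁ ∨ S = orb5 k b₂ := by
  have key : ∀ b : X, k • b ≠ b → ∀ x ∈ S, x ∈ orb5 k b → S = orb5 k b := by
    intro b hb x hxS hxB
    rw [orb5, Finset.mem_image] at hxB
    obtain ⟨i, hi, rfl⟩ := hxB
    have hi5 : i < 5 := Finset.mem_range.1 hi
    have hbS : b ∈ S := by
      have := mt_pow_stable k S hS (5 - i) _ hxS
      rw [← mul_smul, ← pow_add] at this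
      have h5 : 5 - i + i = 5 := by omega
      rw [h5, hk, one_smul] at this
      exact this
    symm
    apply Finset.eq_of_subset_of_card_le (mt_orb5_sub k b S hS hbS)
    rw [mt_orb5_card k hk b hb, hS5]
  by_cases h1 : ∃ x ∈ S, x ∈ orb5 k b₁
  · obtain ⟨x, hxS, hxB⟩ := h1
    exact Or.inl (key b₁ hb₁ x hxS hxB)
  · by_cases h2 : ∃ x ∈ S, x ∈ orb5 k b₂
    · obtain ⟨x, hxS, hxB⟩ := h2
      exact Or.inr (key b₂ hb₂ x hxS hxB)
    · exfalso
      push Not at h1 h2
      have hsub : S ⊆ F := by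
        intro x hx
        have hx' : x ∈ F ∪ (orb5 k b₁ ∪ orb5 k b₂) := by
          rw [hun]
          exact Finset.mem_univ x
        rw [Finset.mem_union, Finset.mem_union] at hx'
        rcases hx' with hx' | hx' | hx'
        · exact hx'
        · exact absurd hx' (h1 x hx)
        · exact absurd hx' (h2 x hx)
      have := Finset.card_le_card hsub
      omega

/-- The image of a `k`-stable set under an element normalizing `⟨k⟩` is `k`-stable. -/
theorem mt_smul_stable (k g : G) (j : ℕ) (hg : g⁻¹ * k * g = k ^ j) (S : Finset X)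
    (hS : ∀ x ∈ S, k • x ∈ S) : ∀ x ∈ g • S, k • x ∈ g • S := by
  intro x hx
  rw [Finset.mem_smul_finset] at hx ⊢
  obtain ⟨y, hy, rfl⟩ := hx
  refine ⟨k ^ j • y, mt_pow_stable k S hS j y hy, ?_⟩
  rw [← hg, ← mul_smul, ← mul_smul]
  congr 1
  group

/-- An element normalizing `⟨k⟩` permutes the fixed points of `k`. -/
theorem mt_smul_fix (k g : G) (j : ℕ) (hg : g⁻¹ * k * g = k ^ j) (x : X) (hx : k • x = x) :
    k • (g • x) = g • x := by
  have h1 : k * g = g * k ^ j := by
    rw [← hg]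
    group
  rw [← mul_smul, h1, mul_smul, mt_pow_fix k x hx j]

theorem mt_count : ∀ j m : Fin 5, j ≠ 1 →
    ((Finset.range 5).filter (fun i => ((j : ℕ) * i + (m : ℕ)) % 5 = i % 5)).card = 1 := by
  decide

/-- An element normalizing but not centralizing `⟨k⟩` has exactly one fixed point on a regular
orbit of `k` which it stabilizes. -/
theorem mt_one_fixed (k h : G) (hk : k ^ 5 = 1) (b : X) (hb : k • b ≠ b) (j : ℕ)
    (hj : h * k * h⁻¹ = k ^ j) (hne : k ^ j ≠ k) (hmem : h • b ∈ orb5 k b) :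
    ((orb5 k b).filter (fun x => h • x = x)).card = 1 := by
  rw [orb5, Finset.mem_image] at hmem
  obtain ⟨m, -, hm⟩ := hmem
  have key : ∀ i : ℕ, h • (k ^ i • b) = k ^ (j * i + m) • b := by
    intro i
    have h1 : h * k ^ i = (k ^ j) ^ i * h := by
      rw [← hj, conj_pow]
      group
    rw [← mul_smul, h1, mul_smul, ← hm, ← mul_smul, ← pow_mul, ← pow_add]
  have hj1 : j % 5 ≠ 1 := by
    intro h1
    apply hne
    rw [pow_eq_pow_mod j hk, h1, pow_one]
  have hinj : Set.InjOn (fun i => k ^ i • b) (Finset.range 5 : Set ℕ) := by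
    intro u hu v hv huv
    have h1 := (mt_pow_smul_eq_iff k hk b hb u v).1 huv
    have hu' : u < 5 := Finset.mem_range.1 hu
    have hv' : v < 5 := Finset.mem_range.1 hv
    omega
  rw [orb5, Finset.filter_image, Finset.card_image_of_injOn
    (hinj.mono (Finset.coe_subset.2 (Finset.filter_subset _ _)))]
  have hcongr : (Finset.range 5).filter (fun i => h • (k ^ i • b) = k ^ i • b) =
      (Finset.range 5).filter (fun i =>
        (((⟨j % 5, Nat.mod_lt _ (by norm_num)⟩ : Fin 5) : ℕ) * i +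
          ((⟨m % 5, Nat.mod_lt _ (by norm_num)⟩ : Fin 5) : ℕ)) % 5 = i % 5) := by
    apply Finset.filter_congr
    intro i _
    rw [key i, mt_pow_smul_eq_iff k hk b hb]
    show (j * i + m) % 5 = i % 5 ↔ (j % 5 * i + m % 5) % 5 = i % 5
    have : (j * i + m) % 5 = (j % 5 * i + m % 5) % 5 := by
      rw [Nat.add_mod, Nat.mul_mod]
      conv_rhs => rw [Nat.add_mod, Nat.mul_mod]
      simp
    rw [this]
  rw [hcongr]
  apply mt_count
  intro hcon
  apply hj1
  have := congrArg Fin.val hcon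
  simpa using this

end Orbits

section SylowCount

variable {G : Type*} [Group G] [Finite G]

/-- A subgroup of order `p` of a group `S` whose order is not divisible by `p ^ 2` is a Sylow
subgroup of `S`. -/
theorem mt_sylow_of_card (p : ℕ) [hp : Fact p.Prime] (hp2 : ¬ p ^ 2 ∣ Nat.card G)
    (Q : Subgroup G) (hQ : Nat.card Q = p) : ∃ P : Sylow p G, (P : Subgroup G) = Q := by
  have hpg : IsPGroup p Q := by
    apply IsPGroup.of_card (n := 1)
    rw [hQ, pow_one]
  obtain ⟨P, hP⟩ := hpg.exists_le_sylow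
  refine ⟨P, ?_⟩
  obtain ⟨n, hn⟩ := IsPGroup.iff_card.1 P.2
  have hdvd : p ^ n ∣ Nat.card G := by
    rw [← hn]
    exact Subgroup.card_subgroup_dvd_card _
  have hn1 : n ≤ 1 := by
    by_contra hcon
    push Not at hcon
    exact hp2 ((pow_dvd_pow p hcon).trans hdvd)
  symm
  apply Subgroup.eq_of_le_of_card_ge hP
  rw [hQ, hn]
  calc p ^ n ≤ p ^ 1 := Nat.pow_le_pow_right hp.out.pos hn1
    _ = p := pow_one p

/-- Sylow counting in a subgroup `S` containing the normalizer of a subgroup `Q` of order `p`. -/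
theorem mt_sylow_count (p : ℕ) [hp : Fact p.Prime] (S Q : Subgroup G) (hQS : Q ≤ S)
    (hQ : Nat.card Q = p) (hp2 : ¬ p ^ 2 ∣ Nat.card S)
    (hN : Subgroup.normalizer (Q : Set G) ≤ S) :
    Nat.card (Sylow p S) * Nat.card (Subgroup.normalizer (Q : Set G)) = Nat.card S ∧
      Nat.card (Sylow p S) ≡ 1 [MOD p] := by
  have hQ' : Nat.card (Q.subgroupOf S) = p := by
    rw [Nat.card_congr (Subgroup.subgroupOfEquivOfLe hQS).toEquiv, hQ]
  obtain ⟨P, hP⟩ := mt_sylow_of_card p hp2 (Q.subgroupOf S) hQ'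
  refine ⟨?_, card_sylow_modEq_one p S⟩
  have hnorm : Subgroup.normalizer (P : Set S) =
      Subgroup.normalizer ((Q.subgroupOf S : Subgroup S) : Set S) := by
    rw [← hP]
    rfl
  rw [Sylow.card_eq_index_normalizer P, hnorm, ← Subgroup.subgroupOf_normalizer_eq hQS,
    ← Nat.card_congr (Subgroup.subgroupOfEquivOfLe hN).toEquiv]
  exact Subgroup.index_mul_card _

/-- Two distinct subgroups of order `p` give at least two Sylow subgroups. -/
theorem mt_sylow_two (p : ℕ) [hp : Fact p.Prime] (S Q Q' : Subgroup G) (hQS : Q ≤ S)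
    (hQS' : Q' ≤ S) (hQ : Nat.card Q = p) (hQ' : Nat.card Q' = p) (hne : Q ≠ Q')
    (hp2 : ¬ p ^ 2 ∣ Nat.card S) : 2 ≤ Nat.card (Sylow p S) := by
  have h1 : Nat.card (Q.subgroupOf S) = p := by
    rw [Nat.card_congr (Subgroup.subgroupOfEquivOfLe hQS).toEquiv, hQ]
  have h2 : Nat.card (Q'.subgroupOf S) = p := by
    rw [Nat.card_congr (Subgroup.subgroupOfEquivOfLe hQS').toEquiv, hQ']
  obtain ⟨P, hP⟩ := mt_sylow_of_card p hp2 (Q.subgroupOf S) h1
  obtain ⟨P', hP'⟩ := mt_sylow_of_card p hp2 (Q'.subgroupOf S) h2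
  have hPP : P ≠ P' := by
    intro h
    apply hne
    have h3 : Q.subgroupOf S = Q'.subgroupOf S := by rw [← hP, ← hP', h]
    have h4 := congrArg (Subgroup.map S.subtype) h3
    rwa [Subgroup.map_subgroupOf_eq_of_le hQS, Subgroup.map_subgroupOf_eq_of_le hQS'] at h4
  have : Nontrivial (Sylow p S) := ⟨⟨P, P', hPP⟩⟩
  exact Finite.one_lt_card_iff_nontrivial.2 this

end SylowCount

end Cfsg.Agent.Lib.helper17.M11U
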