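import Mathlib
import Cfsg.Agent.Lib.helper17.M11U_Tools

/-!
S0420 piece F1 (helper17), core: the two bisections of the 12 points attached to a subgroup of
order five, with the sign formula for permutations of order dividing four as a hypothesis.
-/

set_option autoImplicit false
open scoped Pointwise

namespace Cfsg.Agent.Lib.helper17.M11U

theorem bisections_core {G : Type*} [Group G] [Finite G] [IsSimpleGroup G]
    (hG : Nat.card G = 7920) {X : Type*} [Fintype X] [DecidableEq X] [MulAction G X]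
    [MulAction.IsPretransitive G X] (hX : Fintype.card X = 12)
    (hP : ∀ σ : Equiv.Perm X, σ ^ 4 = 1 → Equiv.Perm.sign σ = (-1) ^
      (((Finset.univ.filter fun x : X => (σ ^ 2) x = x).card -
          (Finset.univ.filter fun x : X => σ x = x).card) / 2 +
        (Fintype.card X - (Finset.univ.filter fun x : X => (σ ^ 2) x = x).card) / 4))
    (hfix5 : ∀ k : G, orderOf k = 5 → (Finset.univ.filter fun x : X => k • x = x).card = 2)
    (Q : Subgroup G) (hQ : Nat.card Q = 5)
    (hNQ : Nat.card (Subgroup.normalizer (Q : Set G)) = 20)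
    (hCQ : Subgroup.centralizer (Q : Set G) ≤ Q) :
    ∃ A₁ A₂ : Finset X, A₁.card = 6 ∧ A₂.card = 6 ∧ A₁ ≠ A₂ ∧ A₁ ≠ A₂ᶜ ∧
      (∀ g ∈ Subgroup.normalizer (Q : Set G), g • A₁ = A₁ ∨ g • A₁ = A₁ᶜ) ∧
      (∀ g ∈ Subgroup.normalizer (Q : Set G), g • A₂ = A₂ ∨ g • A₂ = A₂ᶜ) ∧
      (∃ f ∈ Subgroup.normalizer (Q : Set G), f • A₁ = A₁ᶜ) ∧
      (∃ f ∈ Subgroup.normalizer (Q : Set G), f • A₂ = A₂ᶜ) ∧
      (∀ q ∈ Q, q • A₁ = A₁) ∧ (∀ q ∈ Q, q • A₂ = A₂) := by
  classical
  have hp5 : Fact (Nat.Prime 5) := ⟨by norm_num⟩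
  obtain ⟨k, hkQ, hk1, hk5, hQk⟩ := mt_prime_gen 5 Q hQ
  have hko : orderOf k = 5 := orderOf_eq_prime hk5 hk1
  set F : Finset X := Finset.univ.filter (fun x : X => k • x = x) with hFdef
  have hFcard : F.card = 2 := hfix5 k hko
  have hF : ∀ x, x ∈ F ↔ k • x = x := by
    intro x
    rw [hFdef, Finset.mem_filter]
    simp
  obtain ⟨b₁, b₂, hb₁, hb₂, hdB, hdF1, hdF2, hun⟩ :=
    mt_decomp k hk5 F hF (by rw [hX, hFcard])
  set B₁ := orb5 k b₁ with hB₁
  set B₂ := orb5 k b₂ with hB₂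
  have hB₁card : B₁.card = 5 := mt_orb5_card k hk5 b₁ hb₁
  have hB₂card : B₂.card = 5 := mt_orb5_card k hk5 b₂ hb₂
  obtain ⟨a₁, a₂, ha12, hFeq⟩ := Finset.card_eq_two.1 hFcard
  have ha₁F : a₁ ∈ F := by rw [hFeq]; simp
  have ha₂F : a₂ ∈ F := by rw [hFeq]; simp
  have hFmem : ∀ x, x ∈ F → x = a₁ ∨ x = a₂ := by
    intro x hx
    rw [hFeq] at hx
    simpa using hx
  have ha₁B₁ : a₁ ∉ B₁ := fun h => (Finset.disjoint_left.1 hdF1 ha₁F) h
  have ha₁B₂ : a₁ ∉ B₂ := fun h => (Finset.disjoint_left.1 hdF2 ha₁F) h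
  have ha₂B₁ : a₂ ∉ B₁ := fun h => (Finset.disjoint_left.1 hdF1 ha₂F) h
  have ha₂B₂ : a₂ ∉ B₂ := fun h => (Finset.disjoint_left.1 hdF2 ha₂F) h
  have hB12 : ∀ x, x ∈ B₁ → x ∉ B₂ := fun x h1 h2 => (Finset.disjoint_left.1 hdB h1) h2
  have hpart : ∀ x : X, x = a₁ ∨ x = a₂ ∨ x ∈ B₁ ∨ x ∈ B₂ := by
    intro x
    have hx : x ∈ F ∪ (B₁ ∪ B₂) := by
      rw [hun]
      exact Finset.mem_univ x
    rw [Finset.mem_union, Finset.mem_union] at hx
    rcases hx with hx | hx | hx
    · rcases hFmem x hx with h | h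
      · exact Or.inl h
      · exact Or.inr (Or.inl h)
    · exact Or.inr (Or.inr (Or.inl hx))
    · exact Or.inr (Or.inr (Or.inr hx))
  have hb₁B₁ : b₁ ∈ B₁ := mt_self_mem_orb5 k b₁
  have hb₂B₂ : b₂ ∈ B₂ := mt_self_mem_orb5 k b₂
  have hBne : B₁ ≠ B₂ := by
    intro h
    exact hB12 b₁ hb₁B₁ (h ▸ hb₁B₁)
  -- complements
  have hcompl1 : (insert a₁ B₁)ᶜ = insert a₂ B₂ := by
    ext x
    rw [Finset.mem_compl, Finset.mem_insert, Finset.mem_insert]
    constructor
    · intro hx
      rcases hpart x with h | h | h | h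
      · exact absurd (Or.inl h) hx
      · exact Or.inl h
      · exact absurd (Or.inr h) hx
      · exact Or.inr h
    · rintro (h | h) (h' | h')
      · exact ha12 (h'.symm.trans h)
      · exact ha₂B₁ (h ▸ h')
      · exact ha₁B₂ (h' ▸ h)
      · exact hB12 x h' h
  have hcompl2 : (insert a₁ B₂)ᶜ = insert a₂ B₁ := by
    ext x
    rw [Finset.mem_compl, Finset.mem_insert, Finset.mem_insert]
    constructor
    · intro hx
      rcases hpart x with h | h | h | h
      · exact absurd (Or.inl h) hx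
      · exact Or.inl h
      · exact Or.inr h
      · exact absurd (Or.inr h) hx
    · rintro (h | h) (h' | h')
      · exact ha12 (h'.symm.trans h)
      · exact ha₂B₂ (h ▸ h')
      · exact ha₁B₁ (h' ▸ h)
      · exact hB12 x h h'
  -- elements of Q
  have hQfix : ∀ q ∈ Q, ∀ x : X, k • x = x → q • x = x := by
    intro q hq x hx
    obtain ⟨i, rfl⟩ := hQk q hq
    exact mt_pow_fix k x hx i
  -- the normalizer
  have hnorm : ∀ g ∈ Subgroup.normalizer (Q : Set G),
      (∃ j : ℕ, g⁻¹ * k * g = k ^ j) ∧ (∃ j : ℕ, g * k * g⁻¹ = k ^ j) := by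
    intro g hg
    have hg' := Subgroup.mem_normalizer_iff.1 hg
    constructor
    · have : g⁻¹ * k * g ∈ Q := by
        rw [hg' (g⁻¹ * k * g)]
        have : g * (g⁻¹ * k * g) * g⁻¹ = k := by group
        rw [this]
        exact hkQ
      exact hQk _ this
    · exact hQk _ ((hg' k).1 hkQ)
  have hnotQ : ∀ e ∈ Subgroup.normalizer (Q : Set G), e ∉ Q →
      ∃ j : ℕ, e * k * e⁻¹ = k ^ j ∧ k ^ j ≠ k := by
    intro e he heQ
    obtain ⟨j, hj⟩ := (hnorm e he).2
    refine ⟨j, hj, ?_⟩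
    intro hjk
    apply heQ
    apply hCQ
    rw [Subgroup.mem_centralizer_iff]
    intro q hq
    obtain ⟨i, rfl⟩ := hQk q hq
    have hc : e * k = k * e := by
      calc e * k = (e * k * e⁻¹) * e := by group
        _ = k * e := by rw [hj, hjk]
    exact ((Commute.pow_right (show Commute e k from hc) i).eq).symm
  -- weak structure
  have hW : ∀ g ∈ Subgroup.normalizer (Q : Set G),
      ((g • a₁ = a₁ ∧ g • a₂ = a₂) ∨ (g • a₁ = a₂ ∧ g • a₂ = a₁)) ∧
      ((g • B₁ = B₁ ∧ g • B₂ = B₂) ∨ (g • B₁ = B₂ ∧ g • B₂ = B₁)) := by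
    intro g hg
    obtain ⟨⟨j, hj⟩, -⟩ := hnorm g hg
    constructor
    · have h1 : g • a₁ ∈ F := (hF _).2 (mt_smul_fix k g j hj a₁ ((hF _).1 ha₁F))
      have h2 : g • a₂ ∈ F := (hF _).2 (mt_smul_fix k g j hj a₂ ((hF _).1 ha₂F))
      have hne : g • a₁ ≠ g • a₂ := fun h => ha12 (smul_left_cancel g h)
      rcases hFmem _ h1 with h1 | h1 <;> rcases hFmem _ h2 with h2 | h2
      · exact absurd (h1.trans h2.symm) hne
      · exact Or.inl ⟨h1, h2⟩
      · exact Or.inr ⟨h1, h2⟩
      · exact absurd (h1.trans h2.symm) hne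
    · have h1 := mt_stable_five k hk5 F (by rw [hFcard]; norm_num) b₁ b₂ hb₁ hb₂ hun (g • B₁)
        (by rw [Finset.card_smul_finset, hB₁card])
        (mt_smul_stable k g j hj B₁ (mt_orb5_stable k hk5 b₁))
      have h2 := mt_stable_five k hk5 F (by rw [hFcard]; norm_num) b₁ b₂ hb₁ hb₂ hun (g • B₂)
        (by rw [Finset.card_smul_finset, hB₂card])
        (mt_smul_stable k g j hj B₂ (mt_orb5_stable k hk5 b₂))
      have hne : g • B₁ ≠ g • B₂ := fun h => hBne (MulAction.injective g h)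
      rcases h1 with h1 | h1 <;> rcases h2 with h2 | h2
      · exact absurd (h1.trans h2.symm) hne
      · exact Or.inl ⟨h1, h2⟩
      · exact Or.inr ⟨h1, h2⟩
      · exact absurd (h1.trans h2.symm) hne
  -- squares fix everything
  have hsq : ∀ g ∈ Subgroup.normalizer (Q : Set G),
      g ^ 2 • a₁ = a₁ ∧ g ^ 2 • a₂ = a₂ ∧ g ^ 2 • B₁ = B₁ ∧ g ^ 2 • B₂ = B₂ := by
    intro g hg
    obtain ⟨hWa, hWB⟩ := hW g hg
    refine ⟨?_, ?_, ?_, ?_⟩
    · rw [pow_two, mul_smul]
      rcases hWa with ⟨h1, h2⟩ | ⟨h1, h2⟩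
      · rw [h1, h1]
      · rw [h1, h2]
    · rw [pow_two, mul_smul]
      rcases hWa with ⟨h1, h2⟩ | ⟨h1, h2⟩
      · rw [h2, h2]
      · rw [h2, h1]
    · rw [pow_two, mul_smul]
      rcases hWB with ⟨h1, h2⟩ | ⟨h1, h2⟩
      · rw [h1, h1]
      · rw [h1, h2]
    · rw [pow_two, mul_smul]
      rcases hWB with ⟨h1, h2⟩ | ⟨h1, h2⟩
      · rw [h2, h2]
      · rw [h2, h1]
  -- counting fixed points
  have hcount : ∀ e : G, (Finset.univ.filter fun x : X => e • x = x).card =
      (F.filter fun x : X => e • x = x).card + ((B₁.filter fun x : X => e • x = x).card +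
        (B₂.filter fun x : X => e • x = x).card) := by
    intro e
    rw [← hun, Finset.filter_union, Finset.filter_union,
      Finset.card_union_of_disjoint, Finset.card_union_of_disjoint]
    · exact Finset.disjoint_filter_filter hdB
    · rw [← Finset.filter_union]
      apply Finset.disjoint_filter_filter
      rw [Finset.disjoint_union_right]
      exact ⟨hdF1, hdF2⟩
  have hFfix : ∀ e : G, e • a₁ = a₁ → e • a₂ = a₂ →
      (F.filter fun x : X => e • x = x).card = 2 := by
    intro e h1 h2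
    rw [Finset.filter_true_of_mem, hFcard]
    intro x hx
    rcases hFmem x hx with rfl | rfl
    · exact h1
    · exact h2
  have hFswap : ∀ e : G, e • a₁ = a₂ → e • a₂ = a₁ →
      (F.filter fun x : X => e • x = x).card = 0 := by
    intro e h1 h2
    rw [Finset.card_eq_zero, Finset.filter_eq_empty_iff]
    intro x hx
    rcases hFmem x hx with rfl | rfl
    · rw [h1]
      exact fun h => ha12 h.symm
    · rw [h2]
      exact ha12
  have hBswap1 : ∀ e : G, e • B₁ = B₂ → (B₁.filter fun x : X => e • x = x).card = 0 := by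
    intro e h1
    rw [Finset.card_eq_zero, Finset.filter_eq_empty_iff]
    intro x hx hfx
    have : e • x ∈ B₂ := by
      rw [← h1]
      exact Finset.smul_mem_smul_finset hx
    rw [hfx] at this
    exact hB12 x hx this
  have hBswap2 : ∀ e : G, e • B₂ = B₁ → (B₂.filter fun x : X => e • x = x).card = 0 := by
    intro e h1
    rw [Finset.card_eq_zero, Finset.filter_eq_empty_iff]
    intro x hx hfx
    have : e • x ∈ B₁ := by
      rw [← h1]
      exact Finset.smul_mem_smul_finset hx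
    rw [hfx] at this
    exact hB12 x this hx
  have hBone1 : ∀ e ∈ Subgroup.normalizer (Q : Set G), e ∉ Q → e • B₁ = B₁ →
      (B₁.filter fun x : X => e • x = x).card = 1 := by
    intro e he heQ h1
    obtain ⟨j, hj, hjk⟩ := hnotQ e he heQ
    apply mt_one_fixed k e hk5 b₁ hb₁ j hj hjk
    have : e • b₁ ∈ e • B₁ := Finset.smul_mem_smul_finset hb₁B₁
    rw [h1] at this
    exact this
  have hBone2 : ∀ e ∈ Subgroup.normalizer (Q : Set G), e ∉ Q → e • B₂ = B₂ →
      (B₂.filter fun x : X => e • x = x).card = 1 := by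
    intro e he heQ h1
    obtain ⟨j, hj, hjk⟩ := hnotQ e he heQ
    apply mt_one_fixed k e hk5 b₂ hb₂ j hj hjk
    have : e • b₂ ∈ e • B₂ := Finset.smul_mem_smul_finset hb₂B₂
    rw [h1] at this
    exact this
  -- the key claim for elements of order dividing four
  have hclaim4 : ∀ h ∈ Subgroup.normalizer (Q : Set G), h ^ 4 = 1 →
      (h • a₁ = a₁ ↔ h • B₁ = B₁) := by
    intro h hh hh4
    by_contra hmixed
    have hsign : Equiv.Perm.sign (MulAction.toPerm h : Equiv.Perm X) = 1 :=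
      mt_sign_one (by rw [hG]; norm_num) h
    have hσ4 : (MulAction.toPerm h : Equiv.Perm X) ^ 4 = 1 := by
      ext x
      rw [mt_toPerm_pow, hh4, one_smul]
      rfl
    have hPh := hP (MulAction.toPerm h) hσ4
    rw [hsign, hX] at hPh
    have e1 : (Finset.univ.filter fun x : X => ((MulAction.toPerm h : Equiv.Perm X) ^ 2) x = x)
        = Finset.univ.filter fun x : X => h ^ 2 • x = x := by
      apply Finset.filter_congr
      intro x _
      rw [mt_toPerm_pow]
    have e2 : (Finset.univ.filter fun x : X => (MulAction.toPerm h : Equiv.Perm X) x = x)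
        = Finset.univ.filter fun x : X => h • x = x := by
      apply Finset.filter_congr
      intro x _
      rfl
    rw [e1, e2] at hPh
    obtain ⟨hWa, hWB⟩ := hW h hh
    -- f₁ = 2
    have hf1 : (Finset.univ.filter fun x : X => h • x = x).card = 2 := by
      rw [hcount h]
      rcases hWa with ⟨h1, h2⟩ | ⟨h1, h2⟩ <;> rcases hWB with ⟨h3, h4⟩ | ⟨h3, h4⟩
      · exact absurd (iff_of_true h1 h3) hmixed
      · rw [hFfix h h1 h2, hBswap1 h h3, hBswap2 h h4]
      · have hhQ : h ∉ Q := by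
          intro hq
          have := hQfix h hq a₁ ((hF _).1 ha₁F)
          rw [h1] at this
          exact ha12 this.symm
        rw [hFswap h h1 h2, hBone1 h hh hhQ h3, hBone2 h hh hhQ h4]
      · exfalso
        apply hmixed
        constructor
        · intro h5
          rw [h1] at h5
          exact absurd h5.symm ha12
        · intro h5
          rw [h3] at h5
          exact absurd h5.symm hBne
    -- f₂ ∈ {4, 12}
    have hh2 : h ^ 2 ∈ Subgroup.normalizer (Q : Set G) := Subgroup.pow_mem _ hh 2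
    obtain ⟨s1, s2, s3, s4⟩ := hsq h hh
    have hf2 : (Finset.univ.filter fun x : X => h ^ 2 • x = x).card = 4 ∨
        (Finset.univ.filter fun x : X => h ^ 2 • x = x).card = 12 := by
      by_cases h21 : h ^ 2 = 1
      · right
        rw [h21, Finset.filter_true_of_mem, Finset.card_univ, hX]
        intro x _
        exact one_smul _ x
      · left
        have hh2Q : h ^ 2 ∉ Q := by
          intro hq
          obtain ⟨i, hi⟩ := hQk _ hq
          have h3 : (h ^ 2) ^ 2 = 1 := by rw [← pow_mul]; exact hh4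
          have h4 : (h ^ 2) ^ 5 = 1 := by rw [hi, ← pow_mul, mul_comm, pow_mul, hk5, one_pow]
          apply h21
          calc h ^ 2 = (h ^ 2) ^ 5 * ((h ^ 2) ^ 2)⁻¹ ^ 2 := by group
            _ = 1 := by rw [h3, h4]; group
        rw [hcount (h ^ 2), hFfix _ s1 s2, hBone1 _ hh2 hh2Q s3, hBone2 _ hh2 hh2Q s4]
    rcases hf2 with hf2 | hf2
    · rw [hf1, hf2] at hPh
      revert hPh
      decide
    · rw [hf1, hf2] at hPh
      revert hPh
      decide
  -- the key claim in general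
  have h20 : ∀ g ∈ Subgroup.normalizer (Q : Set G), g ^ 20 = 1 := by
    intro g hg
    have : (⟨g, hg⟩ : Subgroup.normalizer (Q : Set G)) ^
        Nat.card (Subgroup.normalizer (Q : Set G)) = 1 := pow_card_eq_one'
    rw [hNQ] at this
    have h2 := congrArg Subtype.val this
    simpa using h2
  have hclaim : ∀ g ∈ Subgroup.normalizer (Q : Set G), (g • a₁ = a₁ ↔ g • B₁ = B₁) := by
    intro g hg
    have hg5 : g ^ 5 ∈ Subgroup.normalizer (Q : Set G) := Subgroup.pow_mem _ hg 5
    have hg54 : (g ^ 5) ^ 4 = 1 := by rw [← pow_mul]; exact h20 g hg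
    have h4 := hclaim4 (g ^ 5) hg5 hg54
    obtain ⟨s1, s2, s3, s4⟩ := hsq g hg
    have hg4a : ∀ x : X, g ^ 2 • x = x → g ^ 4 • x = x := by
      intro x hx
      have : g ^ 4 = g ^ 2 * g ^ 2 := by rw [← pow_add]
      rw [this, mul_smul, hx, hx]
    have hg4B : ∀ B : Finset X, g ^ 2 • B = B → g ^ 4 • B = B := by
      intro B hx
      have : g ^ 4 = g ^ 2 * g ^ 2 := by rw [← pow_add]
      rw [this, mul_smul, hx, hx]
    obtain ⟨hWa, hWB⟩ := hW g hg
    have e5 : g ^ 5 = g ^ 4 * g := by rw [← pow_succ]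
    have ea : g ^ 5 • a₁ = g • a₁ := by
      rw [e5, mul_smul]
      rcases hWa with ⟨h1, h2⟩ | ⟨h1, h2⟩
      · rw [h1]
        exact hg4a _ s1
      · rw [h1]
        exact hg4a _ s2
    have eB : g ^ 5 • B₁ = g • B₁ := by
      rw [e5, mul_smul]
      rcases hWB with ⟨h1, h2⟩ | ⟨h1, h2⟩
      · rw [h1]
        exact hg4B _ s3
      · rw [h1]
        exact hg4B _ s4
    rw [ea, eB] at h4
    exact h4
  -- full dichotomy
  have hD : ∀ g ∈ Subgroup.normalizer (Q : Set G),
      (g • a₁ = a₁ ∧ g • B₁ = B₁ ∧ g • B₂ = B₂) ∨ (g • a₁ = a₂ ∧ g • B₁ = B₂ ∧ g • B₂ = B₁) := by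
    intro g hg
    obtain ⟨hWa, hWB⟩ := hW g hg
    have hc := hclaim g hg
    rcases hWa with ⟨h1, h2⟩ | ⟨h1, h2⟩ <;> rcases hWB with ⟨h3, h4⟩ | ⟨h3, h4⟩
    · exact Or.inl ⟨h1, h3, h4⟩
    · exfalso
      have := hc.1 h1
      rw [h3] at this
      exact hBne this.symm
    · exfalso
      have := hc.2 h3
      rw [h1] at this
      exact ha12 this.symm
    · exact Or.inr ⟨h1, h3, h4⟩
  -- a swapping element exists
  have hswap : ∃ f ∈ Subgroup.normalizer (Q : Set G), f • a₁ = a₂ ∧ f • B₁ = B₂ ∧ f • B₂ = B₁ := by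
    by_contra hcon
    push Not at hcon
    have hle : Subgroup.normalizer (Q : Set G) ≤ MulAction.stabilizer G a₁ := by
      intro g hg
      rw [MulAction.mem_stabilizer_iff]
      rcases hD g hg with ⟨h1, -, -⟩ | ⟨h1, h2, h3⟩
      · exact h1
      · exact absurd h3 (hcon g hg h1 h2)
    have hidx : (MulAction.stabilizer G a₁).index = 12 := by
      rw [MulAction.index_stabilizer_of_transitive, Nat.card_eq_fintype_card, hX]
    have hScard : Nat.card (MulAction.stabilizer G a₁) = 660 := by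
      have := Subgroup.card_mul_index (MulAction.stabilizer G a₁)
      rw [hidx, hG] at this
      omega
    have hQS : Q ≤ MulAction.stabilizer G a₁ := Subgroup.le_normalizer.trans hle
    obtain ⟨hc1, hc2⟩ := mt_sylow_count 5 (MulAction.stabilizer G a₁) Q hQS hQ
      (by rw [hScard]; norm_num) hle
    rw [hNQ, hScard] at hc1
    have : Nat.card (Sylow 5 (MulAction.stabilizer G a₁)) = 33 := by omega
    rw [this] at hc2
    exact absurd hc2 (by decide)
  obtain ⟨f, hfN, hf1, hf2, hf3⟩ := hswap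
  refine ⟨insert a₁ B₁, insert a₁ B₂, ?_, ?_, ?_, ?_, ?_, ?_, ?_, ?_, ?_, ?_⟩
  · rw [Finset.card_insert_of_notMem ha₁B₁, hB₁card]
  · rw [Finset.card_insert_of_notMem ha₁B₂, hB₂card]
  · intro h
    have : b₁ ∈ insert a₁ B₂ := by
      rw [← h]
      exact Finset.mem_insert_of_mem hb₁B₁
    rw [Finset.mem_insert] at this
    rcases this with h' | h'
    · exact ha₁B₁ (h' ▸ hb₁B₁)
    · exact hB12 b₁ hb₁B₁ h'
  · intro h
    have : a₁ ∈ (insert a₁ B₂)ᶜ := by
      rw [← h]
      exact Finset.mem_insert_self _ _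
    rw [Finset.mem_compl] at this
    exact this (Finset.mem_insert_self _ _)
  · intro g hg
    rw [Finset.smul_finset_insert, hcompl1]
    rcases hD g hg with ⟨h1, h2, h3⟩ | ⟨h1, h2, h3⟩
    · left
      rw [h1, h2]
    · right
      rw [h1, h2]
  · intro g hg
    rw [Finset.smul_finset_insert, hcompl2]
    rcases hD g hg with ⟨h1, h2, h3⟩ | ⟨h1, h2, h3⟩
    · left
      rw [h1, h3]
    · right
      rw [h1, h3]
  · refine ⟨f, hfN, ?_⟩
    rw [Finset.smul_finset_insert, hcompl1, hf1, hf2]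
  · refine ⟨f, hfN, ?_⟩
    rw [Finset.smul_finset_insert, hcompl2, hf1, hf3]
  · intro q hq
    have hqN : q ∈ Subgroup.normalizer (Q : Set G) := Subgroup.le_normalizer hq
    have hqa : q • a₁ = a₁ := hQfix q hq a₁ ((hF _).1 ha₁F)
    rw [Finset.smul_finset_insert]
    rcases hD q hqN with ⟨h1, h2, h3⟩ | ⟨h1, h2, h3⟩
    · rw [h1, h2]
    · rw [hqa] at h1
      exact absurd h1 ha12
  · intro q hq
    have hqN : q ∈ Subgroup.normalizer (Q : Set G) := Subgroup.le_normalizer hq
    have hqa : q • a₁ = a₁ := hQfix q hq a₁ ((hF _).1 ha₁F)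
    rw [Finset.smul_finset_insert]
    rcases hD q hqN with ⟨h1, h2, h3⟩ | ⟨h1, h2, h3⟩
    · rw [h1, h3]
    · rw [hqa] at h1
      exact absurd h1 ha12

end Cfsg.Agent.Lib.helper17.M11U
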