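import Mathlib
import Cfsg.Agent.Lib.helper63.M11U_P
import Cfsg.Agent.Lib.helper17.M11U_F1Core

/-!
S0420 piece F1 (helper17): the two bisections of the 12 points attached to a Sylow 5-subgroup.
-/

set_option autoImplicit false
open scoped Pointwise

namespace Cfsg.Agent.Lib.helper17.M11U

/-- PIECE F1: the two bisections of the 12 points attached to a Sylow 5-subgroup. -/
theorem bisections_of_sylow_five {G : Type*} [Group G] [Finite G] [IsSimpleGroup G]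
    (hG : Nat.card G = 7920) {X : Type*} [Fintype X] [DecidableEq X] [MulAction G X]
    [MulAction.IsPretransitive G X] (hX : Fintype.card X = 12)
    (hfix5 : ∀ k : G, orderOf k = 5 → (Finset.univ.filter fun x : X => k • x = x).card = 2)
    (Q : Subgroup G) (hQ : Nat.card Q = 5)
    (hNQ : Nat.card (Subgroup.normalizer (Q : Set G)) = 20)
    (hCQ : Subgroup.centralizer (Q : Set G) ≤ Q) :
    ∃ A₁ A₂ : Finset X, A₁.card = 6 ∧ A₂.card = 6 ∧ A₁ ≠ A₂ ∧ A₁ ≠ A₂ᶜ ∧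
      (∀ g ∈ Subgroup.normalizer (Q : Set G), g • A₁ = A₁ ∨ g • A₁ = A₁ᶜ) ∧
      (∀ g ∈ Subgroup.normalizer (Q : Set G), g • A₂ = A₂ ∨ g • A₂ = A₂ᶜ) ∧
      (∃ f ∈ Subgroup.normalizer (Q : Set G), f • A₁ = A₁ᶜ) ∧
      (∃ f ∈ Subgroup.normalizer (Q : Set G), f • A₂ = A₂ᶜ) ∧
      (∀ q ∈ Q, q • A₁ = A₁) ∧ (∀ q ∈ Q, q • A₂ = A₂) :=
  bisections_core hG hX (fun σ h4 => Cfsg.Agent.Lib.helper63.M11U.sign_of_pow_four σ h4)
    hfix5 Q hQ hNQ hCQ

end Cfsg.Agent.Lib.helper17.M11U
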