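import Mathlib
import Cfsg.Agent.Lib.helper17.M11U_Tools

/-!
S0420 piece I (helper17), core: a 5-set with stabilizer of order 120 among the 11 points, with the
sign formula for permutations of order dividing four as a hypothesis.
-/

set_option autoImplicit false
open scoped Pointwise

namespace Cfsg.Agent.Lib.helper17.M11U

/-- Local analysis at a subgroup of order five on 11 points. -/
theorem block_local {G : Type*} [Group G] [Finite G] [IsSimpleGroup G]
    (hG : Nat.card G = 7920) {X : Type*} [Fintype X] [DecidableEq X] [MulAction G X]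
    (hX : Fintype.card X = 11)
    (hP : ∀ σ : Equiv.Perm X, σ ^ 4 = 1 → Equiv.Perm.sign σ = (-1) ^
      (((Finset.univ.filter fun x : X => (σ ^ 2) x = x).card -
          (Finset.univ.filter fun x : X => σ x = x).card) / 2 +
        (Fintype.card X - (Finset.univ.filter fun x : X => (σ ^ 2) x = x).card) / 4))
    (hfix5 : ∀ k : G, orderOf k = 5 → (Finset.univ.filter fun x : X => k • x = x).card = 1)
    (hfix2 : ∀ t : G, orderOf t = 2 → (Finset.univ.filter fun x : X => t • x = x).card = 3)
    (Q : Subgroup G) (hQ : Nat.card Q = 5)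
    (hNQ : Nat.card (Subgroup.normalizer (Q : Set G)) = 20) :
    (∃ B₁ B₂ : Finset X, B₁ ≠ B₂ ∧ B₁.card = 5 ∧ B₂.card = 5 ∧ (∀ q ∈ Q, q • B₁ = B₁) ∧
      (∀ q ∈ Q, q • B₂ = B₂)) ∧
    (∀ S : Finset X, S.card = 5 → (∀ q ∈ Q, q • S = S) →
      ∀ g ∈ Subgroup.normalizer (Q : Set G), g • S = S) := by
  classical
  have hp5 : Fact (Nat.Prime 5) := ⟨by norm_num⟩
  have hp2 : Fact (Nat.Prime 2) := ⟨by norm_num⟩
  obtain ⟨k, hkQ, hk1, hk5, hQk⟩ := mt_prime_gen 5 Q hQ
  have hko : orderOf k = 5 := orderOf_eq_prime hk5 hk1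
  set F : Finset X := Finset.univ.filter (fun x : X => k • x = x) with hFdef
  have hFcard : F.card = 1 := hfix5 k hko
  have hF : ∀ x, x ∈ F ↔ k • x = x := by
    intro x
    rw [hFdef, Finset.mem_filter]
    simp
  obtain ⟨b₁, b₂, hb₁, hb₂, hdB, hdF1, hdF2, hun⟩ :=
    mt_decomp k hk5 F hF (by rw [hX, hFcard])
  set B₁ := orb5 k b₁ with hB₁
  set B₂ := orb5 k b₂ with hB₂
  have hB₁card : B₁.card = 5 := mt_orb5_card k hk5 b₁ hb₁
  have hB₂card : B₂.card = 5 := mt_orb5_card k hk5 b₂ hb₂
  obtain ⟨a, hFeq⟩ := Finset.card_eq_one.1 hFcard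
  have haF : a ∈ F := by rw [hFeq]; simp
  have hFmem : ∀ x, x ∈ F → x = a := by
    intro x hx
    rw [hFeq] at hx
    simpa using hx
  have hB12 : ∀ x, x ∈ B₁ → x ∉ B₂ := fun x h1 h2 => (Finset.disjoint_left.1 hdB h1) h2
  have hb₁B₁ : b₁ ∈ B₁ := mt_self_mem_orb5 k b₁
  have hBne : B₁ ≠ B₂ := by
    intro h
    exact hB12 b₁ hb₁B₁ (h ▸ hb₁B₁)
  -- stability under Q
  have hstabQ : ∀ S : Finset X, (∀ x ∈ S, k • x ∈ S) → ∀ q ∈ Q, q • S = S := by
    intro S hS q hq
    obtain ⟨i, rfl⟩ := hQk q hq
    apply Finset.eq_of_subset_of_card_le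
    · intro x hx
      rw [Finset.mem_smul_finset] at hx
      obtain ⟨y, hy, rfl⟩ := hx
      exact mt_pow_stable k S hS i y hy
    · rw [Finset.card_smul_finset]
  have hQstab : ∀ S : Finset X, (∀ q ∈ Q, q • S = S) → ∀ x ∈ S, k • x ∈ S := by
    intro S hS x hx
    have : k • x ∈ k • S := Finset.smul_mem_smul_finset hx
    rw [hS k hkQ] at this
    exact this
  -- the normalizer
  have hnorm : ∀ g ∈ Subgroup.normalizer (Q : Set G), ∃ j : ℕ, g⁻¹ * k * g = k ^ j := by
    intro g hg
    have hg' := Subgroup.mem_normalizer_iff.1 hg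
    have : g⁻¹ * k * g ∈ Q := by
      rw [hg' (g⁻¹ * k * g)]
      have : g * (g⁻¹ * k * g) * g⁻¹ = k := by group
      rw [this]
      exact hkQ
    exact hQk _ this
  have hW : ∀ g ∈ Subgroup.normalizer (Q : Set G),
      g • a = a ∧ ((g • B₁ = B₁ ∧ g • B₂ = B₂) ∨ (g • B₁ = B₂ ∧ g • B₂ = B₁)) := by
    intro g hg
    obtain ⟨j, hj⟩ := hnorm g hg
    constructor
    · exact hFmem _ ((hF _).2 (mt_smul_fix k g j hj a ((hF _).1 haF)))
    · have h1 := mt_stable_five k hk5 F (by rw [hFcard]; norm_num) b₁ b₂ hb₁ hb₂ hun (g • B₁)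
        (by rw [Finset.card_smul_finset, hB₁card])
        (mt_smul_stable k g j hj B₁ (mt_orb5_stable k hk5 b₁))
      have h2 := mt_stable_five k hk5 F (by rw [hFcard]; norm_num) b₁ b₂ hb₁ hb₂ hun (g • B₂)
        (by rw [Finset.card_smul_finset, hB₂card])
        (mt_smul_stable k g j hj B₂ (mt_orb5_stable k hk5 b₂))
      have hne : g • B₁ ≠ g • B₂ := fun h => hBne (MulAction.injective g h)
      rcases h1 with h1 | h1 <;> rcases h2 with h2 | h2
      · exact absurd (h1.trans h2.symm) hne
      · exact Or.inl ⟨h1, h2⟩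
      · exact Or.inr ⟨h1, h2⟩
      · exact absurd (h1.trans h2.symm) hne
  have hsq : ∀ g ∈ Subgroup.normalizer (Q : Set G), g ^ 2 • B₁ = B₁ ∧ g ^ 2 • B₂ = B₂ := by
    intro g hg
    obtain ⟨-, hWB⟩ := hW g hg
    refine ⟨?_, ?_⟩
    · rw [pow_two, mul_smul]
      rcases hWB with ⟨h1, h2⟩ | ⟨h1, h2⟩
      · rw [h1, h1]
      · rw [h1, h2]
    · rw [pow_two, mul_smul]
      rcases hWB with ⟨h1, h2⟩ | ⟨h1, h2⟩
      · rw [h2, h2]
      · rw [h2, h1]
  have hcount : ∀ e : G, (Finset.univ.filter fun x : X => e • x = x).card =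
      (F.filter fun x : X => e • x = x).card + ((B₁.filter fun x : X => e • x = x).card +
        (B₂.filter fun x : X => e • x = x).card) := by
    intro e
    rw [← hun, Finset.filter_union, Finset.filter_union,
      Finset.card_union_of_disjoint, Finset.card_union_of_disjoint]
    · exact Finset.disjoint_filter_filter hdB
    · rw [← Finset.filter_union]
      apply Finset.disjoint_filter_filter
      rw [Finset.disjoint_union_right]
      exact ⟨hdF1, hdF2⟩
  -- no element of order dividing four swaps the two orbits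
  have hno4 : ∀ h ∈ Subgroup.normalizer (Q : Set G), h ^ 4 = 1 → h • B₁ = B₂ → h • B₂ = B₁ →
      False := by
    intro h hh hh4 h1 h2
    have hha : h • a = a := (hW h hh).1
    have hf1 : (Finset.univ.filter fun x : X => h • x = x).card = 1 := by
      rw [hcount h]
      have e1 : (F.filter fun x : X => h • x = x).card = 1 := by
        rw [Finset.filter_true_of_mem, hFcard]
        intro x hx
        rw [hFmem x hx]
        exact hha
      have e2 : (B₁.filter fun x : X => h • x = x).card = 0 := by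
        rw [Finset.card_eq_zero, Finset.filter_eq_empty_iff]
        intro x hx hfx
        have : h • x ∈ B₂ := by
          rw [← h1]
          exact Finset.smul_mem_smul_finset hx
        rw [hfx] at this
        exact hB12 x hx this
      have e3 : (B₂.filter fun x : X => h • x = x).card = 0 := by
        rw [Finset.card_eq_zero, Finset.filter_eq_empty_iff]
        intro x hx hfx
        have : h • x ∈ B₁ := by
          rw [← h2]
          exact Finset.smul_mem_smul_finset hx
        rw [hfx] at this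
        exact hB12 x this hx
      rw [e1, e2, e3]
    have hh1 : h ≠ 1 := by
      intro h0
      rw [h0, one_smul] at h1
      exact hBne h1
    by_cases h21 : h ^ 2 = 1
    · have := hfix2 h (orderOf_eq_prime h21 hh1)
      rw [hf1] at this
      omega
    · have ho : orderOf (h ^ 2) = 2 := by
        apply orderOf_eq_prime _ h21
        rw [← pow_mul]
        exact hh4
      have hf2 := hfix2 (h ^ 2) ho
      have hsign : Equiv.Perm.sign (MulAction.toPerm h : Equiv.Perm X) = 1 :=
        mt_sign_one (by rw [hG]; norm_num) h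
      have hσ4 : (MulAction.toPerm h : Equiv.Perm X) ^ 4 = 1 := by
        ext x
        rw [mt_toPerm_pow, hh4, one_smul]
        rfl
      have hPh := hP (MulAction.toPerm h) hσ4
      rw [hsign, hX] at hPh
      have e1 : (Finset.univ.filter fun x : X =>
          ((MulAction.toPerm h : Equiv.Perm X) ^ 2) x = x)
          = Finset.univ.filter fun x : X => h ^ 2 • x = x := by
        apply Finset.filter_congr
        intro x _
        rw [mt_toPerm_pow]
      have e2 : (Finset.univ.filter fun x : X => (MulAction.toPerm h : Equiv.Perm X) x = x)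
          = Finset.univ.filter fun x : X => h • x = x := by
        apply Finset.filter_congr
        intro x _
        rfl
      rw [e1, e2, hf1, hf2] at hPh
      revert hPh
      decide
  have h20 : ∀ g ∈ Subgroup.normalizer (Q : Set G), g ^ 20 = 1 := by
    intro g hg
    have : (⟨g, hg⟩ : Subgroup.normalizer (Q : Set G)) ^
        Nat.card (Subgroup.normalizer (Q : Set G)) = 1 := pow_card_eq_one'
    rw [hNQ] at this
    have h2 := congrArg Subtype.val this
    simpa using h2
  have hfixB : ∀ g ∈ Subgroup.normalizer (Q : Set G), g • B₁ = B₁ ∧ g • B₂ = B₂ := by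
    intro g hg
    obtain ⟨-, hWB⟩ := hW g hg
    rcases hWB with h | ⟨h1, h2⟩
    · exact h
    · exfalso
      have hg5 : g ^ 5 ∈ Subgroup.normalizer (Q : Set G) := Subgroup.pow_mem _ hg 5
      have hg54 : (g ^ 5) ^ 4 = 1 := by rw [← pow_mul]; exact h20 g hg
      obtain ⟨s3, s4⟩ := hsq g hg
      have hg4B : ∀ B : Finset X, g ^ 2 • B = B → g ^ 4 • B = B := by
        intro B hx
        have : g ^ 4 = g ^ 2 * g ^ 2 := by rw [← pow_add]
        rw [this, mul_smul, hx, hx]
      have e5 : g ^ 5 = g ^ 4 * g := by rw [← pow_succ]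
      have eB1 : g ^ 5 • B₁ = B₂ := by
        rw [e5, mul_smul, h1]
        exact hg4B _ s4
      have eB2 : g ^ 5 • B₂ = B₁ := by
        rw [e5, mul_smul, h2]
        exact hg4B _ s3
      exact hno4 (g ^ 5) hg5 hg54 eB1 eB2
  refine ⟨⟨B₁, B₂, hBne, hB₁card, hB₂card, hstabQ B₁ (mt_orb5_stable k hk5 b₁),
    hstabQ B₂ (mt_orb5_stable k hk5 b₂)⟩, ?_⟩
  intro S hS5 hSQ g hg
  rcases mt_stable_five k hk5 F (by rw [hFcard]; norm_num) b₁ b₂ hb₁ hb₂ hun S hS5
    (hQstab S hSQ) with h | h
  · rw [h]
    exact (hfixB g hg).1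
  · rw [h]
    exact (hfixB g hg).2

/-- PIECE I with the sign formula as a hypothesis. -/
theorem exists_block_core {G : Type*} [Group G] [Finite G] [IsSimpleGroup G]
    (hG : Nat.card G = 7920) {X : Type*} [Fintype X] [DecidableEq X] [MulAction G X]
    (hX : Fintype.card X = 11)
    (hP : ∀ σ : Equiv.Perm X, σ ^ 4 = 1 → Equiv.Perm.sign σ = (-1) ^
      (((Finset.univ.filter fun x : X => (σ ^ 2) x = x).card -
          (Finset.univ.filter fun x : X => σ x = x).card) / 2 +
        (Fintype.card X - (Finset.univ.filter fun x : X => (σ ^ 2) x = x).card) / 4))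
    (h5 : ∀ Q : Subgroup G, Nat.card Q = 5 →
      Nat.card (Subgroup.normalizer (Q : Set G)) = 20 ∧ Subgroup.centralizer (Q : Set G) ≤ Q)
    (hfix : ∀ g : G, g ≠ 1 → (Finset.univ.filter fun x : X => g • x = x).card ≤ 3)
    (hfix5 : ∀ k : G, orderOf k = 5 → (Finset.univ.filter fun x : X => k • x = x).card = 1)
    (hfix2 : ∀ t : G, orderOf t = 2 → (Finset.univ.filter fun x : X => t • x = x).card = 3) :
    ∃ B : Finset X, B.card = 5 ∧ Nat.card (MulAction.stabilizer G B) = 120 := by
  classical
  have hp5 : Fact (Nat.Prime 5) := ⟨by norm_num⟩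
  have h25 : ¬ 5 ^ 2 ∣ Nat.card G := by rw [hG]; norm_num
  -- Sylow 5-subgroups have order five
  obtain ⟨K, hK⟩ := Sylow.exists_subgroup_card_pow_prime (G := G) 5 (n := 1)
    (by rw [hG]; norm_num)
  rw [pow_one] at hK
  obtain ⟨P₀, hP₀⟩ := mt_sylow_of_card 5 h25 K hK
  have hSyl : ∀ P : Sylow 5 G, Nat.card (P : Subgroup G) = 5 := by
    intro P
    have h1 := P.card_eq_multiplicity
    have h2 := P₀.card_eq_multiplicity
    have h3 : Nat.card (P₀ : Subgroup G) = 5 := by rw [hP₀, hK]
    have h1' : Nat.card (P : Subgroup G) = 5 ^ Nat.factorization (Nat.card G) 5 := h1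
    have h2' : Nat.card (P₀ : Subgroup G) = 5 ^ Nat.factorization (Nat.card G) 5 := h2
    rw [h1', ← h2', h3]
  have hn5 : Nat.card (Sylow 5 G) = 396 := by
    have h1 := Sylow.card_eq_index_normalizer P₀
    have h2 := (h5 (P₀ : Subgroup G) (hSyl P₀)).1
    have h3 := Subgroup.index_mul_card (Subgroup.normalizer ((P₀ : Subgroup G) : Set G))
    rw [h2, hG] at h3
    have h4 : (Subgroup.normalizer (P₀ : Set G)).index =
        (Subgroup.normalizer ((P₀ : Subgroup G) : Set G)).index := rfl
    rw [h1, h4]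
    omega
  have : Fintype (Sylow 5 G) := Fintype.ofFinite _
  -- the stable 5-sets
  set T : Finset (Finset X) := Finset.powersetCard 5 Finset.univ with hT
  have hTcard : T.card = 462 := by
    rw [hT, Finset.card_powersetCard, Finset.card_univ, hX]
    decide
  set O : Sylow 5 G → Finset (Finset X) := fun P =>
    T.filter (fun S => ∀ q ∈ (P : Subgroup G), q • S = S) with hO
  have hlocal := fun P : Sylow 5 G =>
    block_local hG hX hP hfix5 hfix2 (P : Subgroup G) (hSyl P) (h5 _ (hSyl P)).1
  have hO2 : ∀ P : Sylow 5 G, 2 ≤ (O P).card := by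
    intro P
    obtain ⟨⟨B₁, B₂, hne, hc1, hc2, hs1, hs2⟩, -⟩ := hlocal P
    have hm1 : B₁ ∈ O P := by
      rw [hO, Finset.mem_filter, hT, Finset.mem_powersetCard]
      exact ⟨⟨Finset.subset_univ _, hc1⟩, hs1⟩
    have hm2 : B₂ ∈ O P := by
      rw [hO, Finset.mem_filter, hT, Finset.mem_powersetCard]
      exact ⟨⟨Finset.subset_univ _, hc2⟩, hs2⟩
    have hsub : ({B₁, B₂} : Finset (Finset X)) ⊆ O P := by
      intro S hS
      rw [Finset.mem_insert, Finset.mem_singleton] at hS
      rcases hS with rfl | rfl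
      · exact hm1
      · exact hm2
    have := Finset.card_le_card hsub
    rw [Finset.card_pair hne] at this
    exact this
  -- pigeonhole
  have hex : ∃ P P' : Sylow 5 G, P ≠ P' ∧ ¬ Disjoint (O P) (O P') := by
    by_contra hcon
    push Not at hcon
    have h1 : (Finset.univ.biUnion O).card = ∑ P : Sylow 5 G, (O P).card :=
      Finset.card_biUnion (fun P _ P' _ hne => hcon P P' hne)
    have h2 : (Finset.univ.biUnion O).card ≤ T.card := by
      apply Finset.card_le_card
      intro S hS
      rw [Finset.mem_biUnion] at hS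
      obtain ⟨P, -, hSP⟩ := hS
      exact (Finset.mem_filter.1 hSP).1
    have h3 : ∑ _P : Sylow 5 G, 2 ≤ ∑ P : Sylow 5 G, (O P).card :=
      Finset.sum_le_sum (fun P _ => hO2 P)
    rw [Finset.sum_const, Finset.card_univ, ← Nat.card_eq_fintype_card, hn5] at h3
    simp only [smul_eq_mul] at h3
    omega
  obtain ⟨P, P', hPP', hnd⟩ := hex
  rw [Finset.not_disjoint_iff] at hnd
  obtain ⟨B, hBP, hBP'⟩ := hnd
  rw [hO, Finset.mem_filter, hT, Finset.mem_powersetCard] at hBP hBP'
  obtain ⟨⟨-, hB5⟩, hBQ⟩ := hBP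
  obtain ⟨-, hBQ'⟩ := hBP'
  refine ⟨B, hB5, ?_⟩
  set S := MulAction.stabilizer G B with hS
  have hNS : Subgroup.normalizer ((P : Subgroup G) : Set G) ≤ S := by
    intro g hg
    rw [hS, MulAction.mem_stabilizer_iff]
    exact (hlocal P).2 B hB5 hBQ g hg
  have hNS' : Subgroup.normalizer ((P' : Subgroup G) : Set G) ≤ S := by
    intro g hg
    rw [hS, MulAction.mem_stabilizer_iff]
    exact (hlocal P').2 B hB5 hBQ' g hg
  have hQS : (P : Subgroup G) ≤ S := Subgroup.le_normalizer.trans hNS
  have hQS' : (P' : Subgroup G) ≤ S := Subgroup.le_normalizer.trans hNS'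
  have h25S : ¬ 5 ^ 2 ∣ Nat.card S := by
    intro h
    exact h25 (h.trans (Subgroup.card_subgroup_dvd_card S))
  obtain ⟨hc1, hc2⟩ := mt_sylow_count 5 S (P : Subgroup G) hQS (hSyl P) h25S hNS
  have hne : (P : Subgroup G) ≠ (P' : Subgroup G) := fun h => hPP' (Sylow.ext h)
  have hc3 := mt_sylow_two 5 S (P : Subgroup G) (P' : Subgroup G) hQS hQS' (hSyl P) (hSyl P')
    hne h25S
  rw [(h5 _ (hSyl P)).1] at hc1
  have hge : 120 ≤ Nat.card S := by
    have h6 : 6 ≤ Nat.card (Sylow 5 S) := by
      have := hc2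
      unfold Nat.ModEq at this
      omega
    omega
  -- the stabilizer embeds in the symmetric group of `B`
  have hle : Nat.card S ≤ 120 := by
    have hmemB : ∀ s : S, ∀ x : X, (MulAction.toPerm (s : G) : Equiv.Perm X) x ∈ B ↔ x ∈ B := by
      intro s x
      have hs : (s : G) • B = B := MulAction.mem_stabilizer_iff.1 s.2
      constructor
      · intro hx
        have h1 : (s : G) • x ∈ (s : G) • B := by rw [hs]; exact hx
        exact (Finset.smul_mem_smul_finset_iff _).1 h1
      · intro hx
        have h1 : (s : G) • x ∈ (s : G) • B := Finset.smul_mem_smul_finset hx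
        rw [hs] at h1
        exact h1
    let f : S → Equiv.Perm {x : X // x ∈ B} := fun s =>
      (MulAction.toPerm (s : G) : Equiv.Perm X).subtypePerm (hmemB s)
    have hf : Function.Injective f := by
      intro s s' hss
      have hpt : ∀ x ∈ B, (s : G) • x = (s' : G) • x := by
        intro x hx
        have := congrArg (fun σ : Equiv.Perm {x : X // x ∈ B} => ((σ ⟨x, hx⟩ : {x : X // x ∈ B}) : X))
          hss
        exact this
      have hfixB : ∀ x ∈ B, ((s : G)⁻¹ * (s' : G)) • x = x := by
        intro x hx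
        rw [mul_smul, ← hpt x hx, ← mul_smul, inv_mul_cancel, one_smul]
      have h1 : (s : G)⁻¹ * (s' : G) = 1 := by
        by_contra hne1
        have h3 := hfix _ hne1
        have h4 : B ⊆ Finset.univ.filter fun x : X => ((s : G)⁻¹ * (s' : G)) • x = x := by
          intro x hx
          rw [Finset.mem_filter]
          exact ⟨Finset.mem_univ _, hfixB x hx⟩
        have := Finset.card_le_card h4
        omega
      apply Subtype.ext
      calc (s : G) = (s : G) * ((s : G)⁻¹ * (s' : G)) := by rw [h1, mul_one]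
        _ = (s' : G) := by group
    have h1 := Nat.card_le_card_of_injective f hf
    have h2 : Nat.card (Equiv.Perm {x : X // x ∈ B}) = 120 := by
      rw [Nat.card_eq_fintype_card, Fintype.card_perm, Fintype.card_coe, hB5]
      rfl
    omega
  omega

end Cfsg.Agent.Lib.helper17.M11U
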