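import Mathlib
import Cfsg.Agent.Lib.helper63.M11U_P
import Cfsg.Agent.Lib.helper17.M11U_ICore

/-!
S0420 piece I (helper17): a 5-set with stabilizer of order 120 among the 11 points.
-/

set_option autoImplicit false
open scoped Pointwise

namespace Cfsg.Agent.Lib.helper17.M11U

/-- PIECE I: a 5-set with stabilizer of order 120. -/
theorem exists_block {G : Type*} [Group G] [Finite G] [IsSimpleGroup G]
    (hG : Nat.card G = 7920) {X : Type*} [Fintype X] [DecidableEq X] [MulAction G X]
    (hX : Fintype.card X = 11)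
    (h5 : ∀ Q : Subgroup G, Nat.card Q = 5 →
      Nat.card (Subgroup.normalizer (Q : Set G)) = 20 ∧ Subgroup.centralizer (Q : Set G) ≤ Q)
    (hfix : ∀ g : G, g ≠ 1 → (Finset.univ.filter fun x : X => g • x = x).card ≤ 3)
    (hfix5 : ∀ k : G, orderOf k = 5 → (Finset.univ.filter fun x : X => k • x = x).card = 1)
    (hfix2 : ∀ t : G, orderOf t = 2 → (Finset.univ.filter fun x : X => t • x = x).card = 3) :
    ∃ B : Finset X, B.card = 5 ∧ Nat.card (MulAction.stabilizer G B) = 120 :=
  exists_block_core hG hX (fun σ h4 => Cfsg.Agent.Lib.helper63.M11U.sign_of_pow_four σ h4)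
    h5 hfix hfix5 hfix2

end Cfsg.Agent.Lib.helper17.M11U
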