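import Mathlib
import Cfsg.Agent.Lib.helper21.M11Defs
import Cfsg.Agent.Lib.helper21.FrobFull

set_option autoImplicit false

/-!
# The character degrees of a simple group of order 7920, pattern (I) (helper17, piece G)

Given pattern (I) for the characters of degree prime to `11` and a self-centralizing subgroup of
order `5` with normalizer of order `20`, the generalized character `(1_Q - λ)^G` determines the
remaining characters: exactly three, of degrees `11`, `44`, `55`.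
-/

namespace Cfsg.Agent.Lib.helper17

open Cfsg Cfsg.Agent.Lib.helper4 Cfsg.Agent.Lib.helper21

universe u

/-- Degree classification for the characters of degree divisible by `11`. -/
theorem m11g_deg (f : ℕ) (b : ℤ) (h11 : 11 ∣ f) (hfd : f ∣ 7920) (hle : f * f ≤ 7920)
    (hc : (5 : ℤ) ∣ (f : ℤ) - b) (hb : b = 1 ∨ b = -1 ∨ b = 0) :
    (b = 1 ∧ (f = 11 ∨ f = 66)) ∨ (b = -1 ∧ f = 44) ∨ (b = 0 ∧ f = 55) := by
  have h89 : f ≤ 88 := by nlinarith
  obtain ⟨k, rfl⟩ := h11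
  have hk : k ≤ 8 := by omega
  interval_cases k <;> rcases hb with rfl | rfl | rfl <;> first | omega | (revert hfd; decide)

theorem m11g_split {ι : Type*} [Fintype ι] [DecidableEq ι] {M : Type*} [AddCommMonoid M]
    (L : List ι) (hL : L.Nodup) (s : Finset ι) (hs : ∀ x, x ∈ s ↔ x ∉ L) (F : ι → M) :
    ∑ x, F x = (L.map F).sum + ∑ x ∈ s, F x := by
  have hs' : s = Finset.univ.filter (fun x => x ∉ L) := by ext x; simp [hs]
  rw [hs', ← Finset.sum_filter_add_sum_filter_not Finset.univ (fun x => x ∈ L) F]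
  congr 1
  rw [← List.sum_toFinset F hL]
  exact Finset.sum_congr (by ext x; simp) (fun _ _ => rfl)

/-- Strong form of piece G, with the characters of pattern (I) explicit: the remaining irreducible
characters are exactly three, `d1`, `d4`, `d5`, of degrees `11`, `44`, `55`. -/
theorem m11_patI_rest {G : Type u} [Group G] [Fintype G] [Fintype (IrrCharacter G)]
    [IsSimpleGroup G] (hG : Nat.card G = 7920) (α₁ α₂ α₃ β γ₁ γ₂ : IrrCharacter G)
    (hnd : [trivIrr G, α₁, α₂, α₃, β, γ₁, γ₂].Nodup)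
    (hα₁ : charDegree (α₁ : G → ℂ) = 10) (hα₂ : charDegree (α₂ : G → ℂ) = 10)
    (hα₃ : charDegree (α₃ : G → ℂ) = 10) (hβ : charDegree (β : G → ℂ) = 45)
    (hγ₁ : charDegree (γ₁ : G → ℂ) = 16) (hγ₂ : charDegree (γ₂ : G → ℂ) = 16)
    (h11 : ∀ ψ : IrrCharacter G, ψ ∉ [trivIrr G, α₁, α₂, α₃, β, γ₁, γ₂] →
      11 ∣ charDegree (ψ : G → ℂ))
    (Q : Subgroup G) (hQ : Nat.card Q = 5) (hQC : Subgroup.centralizer (Q : Set G) ≤ Q)
    (hQN : Nat.card (Subgroup.normalizer (Q : Set G)) = 20) :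
    ∃ d1 d4 d5 : IrrCharacter G,
      [trivIrr G, α₁, α₂, α₃, β, γ₁, γ₂, d1, d4, d5].Nodup ∧
      (∀ ψ : IrrCharacter G, ψ ∈ [trivIrr G, α₁, α₂, α₃, β, γ₁, γ₂, d1, d4, d5]) ∧
      charDegree (d1 : G → ℂ) = 11 ∧ charDegree (d4 : G → ℂ) = 44 ∧
      charDegree (d5 : G → ℂ) = 55 ∧
      charDegree ((trivIrr G : IrrCharacter G) : G → ℂ) = 1 := by
  classical
  obtain ⟨b, hb1, hbsq, hbdeg, hbcong, -⟩ :=
    frob_theta (by norm_num : Nat.Prime 5) Q hQ hQC
      (by rw [hQN] : Nat.card (Subgroup.normalizer (Q : Set G)) = 5 * 4)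
  have hbcong' : ∀ ψ : IrrCharacter G, (5 : ℤ) ∣ (charDegree (ψ : G → ℂ) : ℤ) - b ψ := by
    intro ψ
    exact_mod_cast hbcong (by norm_num) ψ
  replace hbsq : ∑ ψ, b ψ ^ 2 = 5 := by rw [hbsq]; norm_num
  have hb1' : b (trivIrr G) = 1 := hb1
  have hdegone : charDegree ((trivIrr G : IrrCharacter G) : G → ℂ) = 1 := by
    have h := Cfsg.Agent.Lib.helper82.irr_one_eq (trivIrr G)
    have honeGval : ((trivIrr G : IrrCharacter G) : G → ℂ) = fun _ => 1 := rfl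
    rw [honeGval] at h
    have h' : ((1 : ℕ) : ℂ) = (charDegree (fun _ : G => (1 : ℂ)) : ℂ) := by simpa using h
    rw [honeGval]
    exact (Nat.cast_injective h').symm
  have hdvd : ∀ ψ : IrrCharacter G, charDegree (ψ : G → ℂ) ∣ 7920 := fun ψ => by
    rw [← hG]; exact Cfsg.Agent.Lib.helper82.irr_degree_dvd_card ψ
  have hsqsum : ∑ ψ : IrrCharacter G, charDegree (ψ : G → ℂ) * charDegree (ψ : G → ℂ) = 7920 := by
    have h := sum_irr_degree_sq (G := G)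
    rw [hG] at h
    have h' : ((∑ ψ : IrrCharacter G, charDegree (ψ : G → ℂ) * charDegree (ψ : G → ℂ) : ℕ) : ℂ) =
        ((7920 : ℕ) : ℂ) := by
      rw [← h]
      push_cast
      exact Finset.sum_congr rfl (fun ψ _ => by
        rw [Cfsg.Agent.Lib.helper82.irr_one_eq ψ]; ring)
    exact Nat.cast_injective h'
  obtain ⟨L, hLdef⟩ : ∃ L : List (IrrCharacter G), L = [trivIrr G, α₁, α₂, α₃, β, γ₁, γ₂] :=
    ⟨_, rfl⟩
  rw [← hLdef] at hnd h11
  obtain ⟨s, hs⟩ : ∃ s : Finset (IrrCharacter G), s = Finset.univ.filter (fun x => x ∉ L) :=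
    ⟨_, rfl⟩
  have hsmem : ∀ ψ, ψ ∈ s ↔ ψ ∉ L := fun ψ => by rw [hs]; simp
  have hbb : ∀ ψ : IrrCharacter G, -2 ≤ b ψ ∧ b ψ ≤ 2 := by
    intro ψ
    have h1 : b ψ ^ 2 ≤ ∑ ψ, b ψ ^ 2 :=
      Finset.single_le_sum (f := fun ψ => b ψ ^ 2) (fun x _ => sq_nonneg (b x))
        (Finset.mem_univ ψ)
    rw [hbsq] at h1
    constructor <;> nlinarith
  have hb10 : ∀ ψ : IrrCharacter G, charDegree (ψ : G → ℂ) = 10 → b ψ = 0 := by
    intro ψ h
    have h1 := hbcong' ψ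
    have h2 := hbb ψ
    rw [h] at h1
    omega
  have hb45 : ∀ ψ : IrrCharacter G, charDegree (ψ : G → ℂ) = 45 → b ψ = 0 := by
    intro ψ h
    have h1 := hbcong' ψ
    have h2 := hbb ψ
    rw [h] at h1
    omega
  have hb16 : ∀ ψ : IrrCharacter G, charDegree (ψ : G → ℂ) = 16 → b ψ = 1 := by
    intro ψ h
    have h1 := hbcong' ψ
    have h2 := hbb ψ
    rw [h] at h1
    omega
  have hs2 : ∑ ψ ∈ s, b ψ ^ 2 = 2 := by
    have h := m11g_split L hnd s hsmem (fun ψ => b ψ ^ 2)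
    rw [hbsq, hLdef] at h
    simp only [List.map_cons, List.map_nil, List.sum_cons, List.sum_nil] at h
    rw [hb1', hb10 α₁ hα₁, hb10 α₂ hα₂, hb10 α₃ hα₃, hb45 β hβ, hb16 γ₁ hγ₁, hb16 γ₂ hγ₂] at h
    push_cast at h
    linarith
  have hs33 : ∑ ψ ∈ s, b ψ * (charDegree (ψ : G → ℂ) : ℤ) = -33 := by
    have h := m11g_split L hnd s hsmem (fun ψ => b ψ * (charDegree (ψ : G → ℂ) : ℤ))
    rw [hbdeg, hLdef] at h
    simp only [List.map_cons, List.map_nil, List.sum_cons, List.sum_nil] at h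
    rw [hb1', hb10 α₁ hα₁, hb10 α₂ hα₂, hb10 α₃ hα₃, hb45 β hβ, hb16 γ₁ hγ₁, hb16 γ₂ hγ₂,
      hdegone, hγ₁, hγ₂] at h
    push_cast at h
    linarith
  obtain ⟨δ, hδ, δ', hδ', hne, hbδ, hbδ', hrest⟩ := exists_of_sum_sq_eq_two s b hs2
  have hsle : ∀ ψ : IrrCharacter G,
      charDegree (ψ : G → ℂ) * charDegree (ψ : G → ℂ) ≤ 7920 := by
    intro ψ
    have h1 := Finset.single_le_sum
      (f := fun ψ : IrrCharacter G => charDegree (ψ : G → ℂ) * charDegree (ψ : G → ℂ))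
      (fun x _ => Nat.zero_le _) (Finset.mem_univ ψ)
    rw [hsqsum] at h1
    exact h1
  have hcls : ∀ ψ ∈ s,
      (b ψ = 1 ∧ (charDegree (ψ : G → ℂ) = 11 ∨ charDegree (ψ : G → ℂ) = 66)) ∨
      (b ψ = -1 ∧ charDegree (ψ : G → ℂ) = 44) ∨ (b ψ = 0 ∧ charDegree (ψ : G → ℂ) = 55) := by
    intro ψ hψ
    have hbψ : b ψ = 1 ∨ b ψ = -1 ∨ b ψ = 0 := by
      by_cases h1 : ψ = δ
      · rw [h1]; rcases hbδ with h | h <;> simp [h]
      · by_cases h2 : ψ = δ'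
        · rw [h2]; rcases hbδ' with h | h <;> simp [h]
        · right; right; exact hrest ψ hψ h1 h2
    exact m11g_deg _ _ (h11 ψ ((hsmem ψ).mp hψ)) (hdvd ψ) (hsle ψ) (hbcong' ψ) hbψ
  have hsum2 : b δ * (charDegree (δ : G → ℂ) : ℤ) + b δ' * (charDegree (δ' : G → ℂ) : ℤ)
      = -33 := by
    rw [← hs33]
    exact (Finset.sum_eq_add (f := fun ψ => b ψ * (charDegree (ψ : G → ℂ) : ℤ)) δ δ' hne
      (fun z hz h12 => by rw [hrest z hz h12.1 h12.2, zero_mul])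
      (fun h => absurd hδ h) (fun h => absurd hδ' h)).symm
  obtain ⟨d1, hd1, d4, hd4, hne14, hdeg1, hdeg4, hrest'⟩ : ∃ d1 ∈ s, ∃ d4 ∈ s, d1 ≠ d4 ∧
      charDegree (d1 : G → ℂ) = 11 ∧ charDegree (d4 : G → ℂ) = 44 ∧
      ∀ z ∈ s, z ≠ d1 → z ≠ d4 → b z = 0 := by
    rcases hcls δ hδ with ⟨h1, h2⟩ | ⟨h1, h2⟩ | ⟨h1, h2⟩ <;>
    rcases hcls δ' hδ' with ⟨h3, h4⟩ | ⟨h3, h4⟩ | ⟨h3, h4⟩ <;>
    rw [h1, h3] at hsum2 <;>
    first
    | (exfalso; omega)
    | exact ⟨δ, hδ, δ', hδ', hne, by omega, by omega, hrest⟩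
    | exact ⟨δ', hδ', δ, hδ, hne.symm, by omega, by omega,
        fun z hz h1 h2 => hrest z hz h2 h1⟩
  have h55 : ∀ z ∈ s, z ≠ d1 → z ≠ d4 → charDegree (z : G → ℂ) = 55 := by
    intro z hz h1 h2
    have hb0 := hrest' z hz h1 h2
    rcases hcls z hz with ⟨h3, -⟩ | ⟨h3, -⟩ | ⟨-, h4⟩
    · omega
    · omega
    · exact h4
  obtain ⟨rest, hrestdef⟩ : ∃ rest : Finset (IrrCharacter G), rest = (s.erase d1).erase d4 :=
    ⟨_, rfl⟩
  have hrestmem : ∀ z, z ∈ rest ↔ z ≠ d4 ∧ z ≠ d1 ∧ z ∈ s := fun z => by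
    rw [hrestdef, Finset.mem_erase, Finset.mem_erase]
  have hrs : ∑ z ∈ rest, charDegree (z : G → ℂ) * charDegree (z : G → ℂ) = rest.card * 3025 := by
    have h1 : ∀ z ∈ rest, charDegree (z : G → ℂ) * charDegree (z : G → ℂ) = 3025 := by
      intro z hz
      have := (hrestmem z).mp hz
      rw [h55 z this.2.2 this.2.1 this.1]
    rw [Finset.sum_congr rfl h1, Finset.sum_const, smul_eq_mul]
  have hcard : rest.card = 1 := by
    have h := m11g_split L hnd s hsmem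
      (fun ψ => charDegree (ψ : G → ℂ) * charDegree (ψ : G → ℂ))
    rw [hsqsum, hLdef] at h
    simp only [List.map_cons, List.map_nil, List.sum_cons, List.sum_nil] at h
    rw [← Finset.add_sum_erase s _ hd1,
      ← Finset.add_sum_erase (s.erase d1) _ (Finset.mem_erase.mpr ⟨hne14.symm, hd4⟩),
      ← hrestdef, hrs, hdegone, hα₁, hα₂, hα₃, hβ, hγ₁, hγ₂, hdeg1, hdeg4] at h
    omega
  obtain ⟨ε, hε⟩ := Finset.card_eq_one.mp hcard
  have hεmem := (hrestmem ε).mp (by rw [hε]; exact Finset.mem_singleton_self ε)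
  have hND : (L ++ [d1, d4, ε]).Nodup := by
    apply List.Nodup.append hnd
    · simp only [List.nodup_cons, List.mem_cons, List.not_mem_nil, or_false, not_or,
        List.nodup_nil, and_true, not_false_eq_true]
      exact ⟨⟨hne14, fun h => hεmem.2.1 h.symm⟩, fun h => hεmem.1 h.symm⟩
    · intro x hxL hx
      simp only [List.mem_cons, List.not_mem_nil, or_false] at hx
      rcases hx with rfl | rfl | rfl
      · exact (hsmem _).mp hd1 hxL
      · exact (hsmem _).mp hd4 hxL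
      · exact (hsmem _).mp hεmem.2.2 hxL
  have hALL : ∀ ψ : IrrCharacter G, ψ ∈ L ++ [d1, d4, ε] := by
    intro ψ
    by_cases hψL : ψ ∈ L
    · exact List.mem_append_left _ hψL
    · apply List.mem_append_right
      have hψs := (hsmem ψ).mpr hψL
      by_cases h1 : ψ = d1
      · simp [h1]
      · by_cases h4 : ψ = d4
        · simp [h4]
        · have : ψ ∈ rest := (hrestmem ψ).mpr ⟨h4, h1, hψs⟩
          rw [hε, Finset.mem_singleton] at this
          simp [this]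
  rw [hLdef] at hND hALL
  exact ⟨d1, d4, ε, hND, hALL, hdeg1, hdeg4, h55 ε hεmem.2.2 hεmem.2.1 hεmem.1, hdegone⟩

/-- Piece G of S4429 (exact spec statement). -/
theorem m11_list_of_patI {G : Type u} [Group G] [Fintype G] [Fintype (IrrCharacter G)]
    [IsSimpleGroup G] (hG : Nat.card G = 7920) (P : Subgroup G) (h : M11PatI P)
    (Q : Subgroup G) (hQ : Nat.card Q = 5) (hQC : Subgroup.centralizer (Q : Set G) ≤ Q)
    (hQN : Nat.card (Subgroup.normalizer (Q : Set G)) = 20) :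
    ∃ l : List (IrrCharacter G), l.Nodup ∧ (∀ ψ : IrrCharacter G, ψ ∈ l) ∧
      l.map (fun ψ : IrrCharacter G => charDegree (ψ : G → ℂ)) =
        [1, 10, 10, 10, 45, 16, 16, 11, 44, 55] := by
  obtain ⟨α₁, α₂, α₃, β, γ₁, γ₂, hnd, hα₁, hα₂, hα₃, hβ, hγ₁, hγ₂, h11, -, -⟩ := h
  obtain ⟨d1, d4, d5, hND, hALL, hd1, hd4, hd5, hone⟩ :=
    m11_patI_rest hG α₁ α₂ α₃ β γ₁ γ₂ hnd hα₁ hα₂ hα₃ hβ hγ₁ hγ₂ h11 Q hQ hQC hQN
  refine ⟨_, hND, hALL, ?_⟩
  simp only [List.map_cons, List.map_nil, hone, hα₁, hα₂, hα₃, hβ, hγ₁, hγ₂, hd1, hd4, hd5]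

end Cfsg.Agent.Lib.helper17
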