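import Mathlib
import Cfsg.Prelude.Def_Characters
import Cfsg.Prelude.Def_Blocks

/-!
Piece H of S4429: from a duplicate-free complete list of the irreducible characters with degrees
`1, 10, 10, 10, 45, 16, 16, 11, 44, 55` to the numbers of irreducible characters of each degree.
-/

set_option autoImplicit false

namespace Cfsg.Agent.Lib.helper17

open Cfsg

theorem m11_count_list (n : ℕ) : List.count n [1, 10, 10, 10, 45, 16, 16, 11, 44, 55] =
    (if n = 1 ∨ n = 11 ∨ n = 44 ∨ n = 45 ∨ n = 55 then 1 else if n = 10 then 3
      else if n = 16 then 2 else 0) := by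
  by_cases h1 : n = 1
  · subst h1
    decide
  by_cases h10 : n = 10
  · subst h10
    decide
  by_cases h45 : n = 45
  · subst h45
    decide
  by_cases h16 : n = 16
  · subst h16
    decide
  by_cases h11 : n = 11
  · subst h11
    decide
  by_cases h44 : n = 44
  · subst h44
    decide
  by_cases h55 : n = 55
  · subst h55
    decide
  have h0 : List.count n [1, 10, 10, 10, 45, 16, 16, 11, 44, 55] = 0 := by
    rw [List.count_eq_zero]
    simp only [List.mem_cons, List.not_mem_nil, or_false]
    omega
  rw [h0, if_neg (by omega), if_neg h10, if_neg h16]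

theorem m11_count_of_list {G : Type*} [Group G] [Finite G] (l : List (IrrCharacter G))
    (hnd : l.Nodup) (hall : ∀ ψ : IrrCharacter G, ψ ∈ l)
    (hdeg : l.map (fun ψ : IrrCharacter G => charDegree (ψ : G → ℂ)) =
      [1, 10, 10, 10, 45, 16, 16, 11, 44, 55]) :
    Nat.card (Cfsg.IrrCharacter G) = 10 ∧ ∀ n : ℕ,
      Nat.card {χ : Cfsg.IrrCharacter G // Cfsg.charDegree (χ : G → ℂ) = n} =
        (if n = 1 ∨ n = 11 ∨ n = 44 ∨ n = 45 ∨ n = 55 then 1 else if n = 10 then 3
          else if n = 16 then 2 else 0) := by
  classical
  let inst : Fintype (IrrCharacter G) := ⟨⟨(l : Multiset (IrrCharacter G)), hnd⟩, hall⟩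
  have huniv : (Finset.univ : Finset (IrrCharacter G)) = ⟨(l : Multiset (IrrCharacter G)), hnd⟩ :=
    rfl
  have hlen : l.length = 10 := by
    have h := congrArg List.length hdeg
    rw [List.length_map] at h
    exact h
  constructor
  · rw [Nat.card_eq_fintype_card, Fintype.card, huniv]
    show Multiset.card (l : Multiset (IrrCharacter G)) = 10
    rw [Multiset.coe_card, hlen]
  · intro n
    rw [Nat.card_eq_fintype_card, Fintype.card_subtype, huniv, ← m11_count_list n, ← hdeg,
      List.count_eq_countP, List.countP_map, Finset.card_def, Finset.filter_val]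
    show Multiset.card (Multiset.filter _ (l : Multiset (IrrCharacter G))) = _
    rw [Multiset.filter_coe, Multiset.coe_card, List.countP_eq_length_filter]
    congr 1

end Cfsg.Agent.Lib.helper17
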