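import Cfsg.Agent.Lib.helper17.OmSiegel
import Cfsg.Agent.S0750

/-!
Existence lemmas for singular vectors in a non-degenerate quadratic space containing two orthogonal hyperbolic
pairs (any characteristic), via Witt's theorem.
-/

set_option autoImplicit false

namespace Cfsg.Agent.Lib.helper17

open Matrix Cfsg Module

section
variable {ι : Type} [Fintype ι] [DecidableEq ι] {F : Type*} [Field F]

/-- Two mutually orthogonal hyperbolic pairs. -/
structure HypFrame2 (Q : QuadraticForm F (ι → F)) where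
  e₁ : ι → F
  f₁ : ι → F
  e₂ : ι → F
  f₂ : ι → F
  Qe₁ : Q e₁ = 0
  Qf₁ : Q f₁ = 0
  Qe₂ : Q e₂ = 0
  Qf₂ : Q f₂ = 0
  e₁f₁ : QuadraticMap.polar ⇑Q e₁ f₁ = 1
  e₂f₂ : QuadraticMap.polar ⇑Q e₂ f₂ = 1
  e₁e₂ : QuadraticMap.polar ⇑Q e₁ e₂ = 0
  e₁f₂ : QuadraticMap.polar ⇑Q e₁ f₂ = 0
  f₁e₂ : QuadraticMap.polar ⇑Q f₁ e₂ = 0
  f₁f₂ : QuadraticMap.polar ⇑Q f₁ f₂ = 0

namespace HypFrame2

attribute [simp] Qe₁ Qf₁ Qe₂ Qf₂ e₁f₁ e₂f₂ e₁e₂ e₁f₂ f₁e₂ f₁f₂

variable {Q : QuadraticForm F (ι → F)} (fr : HypFrame2 Q)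

@[simp] theorem f₁e₁ : QuadraticMap.polar ⇑Q fr.f₁ fr.e₁ = 1 := by
  rw [QuadraticMap.polar_comm]; exact fr.e₁f₁
@[simp] theorem f₂e₂ : QuadraticMap.polar ⇑Q fr.f₂ fr.e₂ = 1 := by
  rw [QuadraticMap.polar_comm]; exact fr.e₂f₂
@[simp] theorem e₂e₁ : QuadraticMap.polar ⇑Q fr.e₂ fr.e₁ = 0 := by
  rw [QuadraticMap.polar_comm]; exact fr.e₁e₂
@[simp] theorem f₂e₁ : QuadraticMap.polar ⇑Q fr.f₂ fr.e₁ = 0 := by
  rw [QuadraticMap.polar_comm]; exact fr.e₁f₂
@[simp] theorem e₂f₁ : QuadraticMap.polar ⇑Q fr.e₂ fr.f₁ = 0 := by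
  rw [QuadraticMap.polar_comm]; exact fr.f₁e₂
@[simp] theorem f₂f₁ : QuadraticMap.polar ⇑Q fr.f₂ fr.f₁ = 0 := by
  rw [QuadraticMap.polar_comm]; exact fr.f₁f₂
@[simp] theorem e₁e₁ : QuadraticMap.polar ⇑Q fr.e₁ fr.e₁ = 0 := by
  rw [QuadraticMap.polar_self, fr.Qe₁, smul_zero]
@[simp] theorem f₁f₁ : QuadraticMap.polar ⇑Q fr.f₁ fr.f₁ = 0 := by
  rw [QuadraticMap.polar_self, fr.Qf₁, smul_zero]
@[simp] theorem e₂e₂ : QuadraticMap.polar ⇑Q fr.e₂ fr.e₂ = 0 := by
  rw [QuadraticMap.polar_self, fr.Qe₂, smul_zero]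
@[simp] theorem f₂f₂ : QuadraticMap.polar ⇑Q fr.f₂ fr.f₂ = 0 := by
  rw [QuadraticMap.polar_self, fr.Qf₂, smul_zero]

end HypFrame2

theorem polarBilin_symm' (Q : QuadraticForm F (ι → F)) :
    LinearMap.BilinForm.IsSymm (QuadraticMap.polarBilin Q) :=
  ⟨fun a b => by
    simp only [QuadraticMap.polarBilin_apply_apply]
    exact QuadraticMap.polar_comm _ _ _⟩

/-- Witt's theorem for a single vector, in matrix form. -/
theorem exists_isometry_single (Q : QuadraticForm F (ι → F))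
    (hQ : (QuadraticMap.polarBilin Q).Nondegenerate) (y z x : ι → F)
    (hzy : QuadraticMap.polar ⇑Q z y = 1) (hQx : Q x = Q y) (hx : x ≠ 0) :
    ∃ G : Matrix ι ι F, (∀ v, Q (G *ᵥ v) = Q v) ∧ G *ᵥ y = x := by
  have hfv : ∀ c : F, ((QuadraticMap.polarBilin Q z).smulRight x) (c • y) = c • x := by
    intro c
    rw [LinearMap.smulRight_apply, map_smul, QuadraticMap.polarBilin_apply_apply, hzy, smul_eq_mul,
      mul_one]
  obtain ⟨g, hg, hgU⟩ := Cfsg.Agent.S0750.main Q hQ _ (Submodule.span F {y})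
    ((QuadraticMap.polarBilin Q z).smulRight x) rfl
    (by
      intro v hv
      obtain ⟨c, rfl⟩ := Submodule.mem_span_singleton.mp hv
      rw [hfv, QuadraticMap.map_smul, QuadraticMap.map_smul, hQx])
    (by
      intro v hv h0
      obtain ⟨c, rfl⟩ := Submodule.mem_span_singleton.mp hv
      rw [hfv] at h0
      rcases smul_eq_zero.mp h0 with h | h
      · rw [h, zero_smul]
      · exact absurd h hx)
  have hmul : ∀ v, LinearMap.toMatrix' g *ᵥ v = g v := by
    intro v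
    rw [← Matrix.toLin'_apply, Matrix.toLin'_toMatrix']
  refine ⟨LinearMap.toMatrix' g, fun v => by rw [hmul]; exact hg v, ?_⟩
  rw [hmul, hgU y (Submodule.mem_span_singleton_self y)]
  have := hfv 1
  rwa [one_smul, one_smul] at this

/-- Witt's theorem for a pair of vectors, in matrix form. -/
theorem exists_isometry_pair (Q : QuadraticForm F (ι → F))
    (hQ : (QuadraticMap.polarBilin Q).Nondegenerate) (y₁ y₂ z₁ z₂ x₁ x₂ : ι → F)
    (h11 : QuadraticMap.polar ⇑Q z₁ y₁ = 1) (h12 : QuadraticMap.polar ⇑Q z₁ y₂ = 0)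
    (h21 : QuadraticMap.polar ⇑Q z₂ y₁ = 0) (h22 : QuadraticMap.polar ⇑Q z₂ y₂ = 1)
    (hQ1 : Q x₁ = Q y₁) (hQ2 : Q x₂ = Q y₂)
    (hp : QuadraticMap.polar ⇑Q x₁ x₂ = QuadraticMap.polar ⇑Q y₁ y₂)
    (hind : ∀ a b : F, a • x₁ + b • x₂ = 0 → a = 0 ∧ b = 0) :
    ∃ G : Matrix ι ι F, (∀ v, Q (G *ᵥ v) = Q v) ∧ G *ᵥ y₁ = x₁ ∧ G *ᵥ y₂ = x₂ := by
  obtain ⟨f, hf⟩ : ∃ f : (ι → F) →ₗ[F] (ι → F), f = (QuadraticMap.polarBilin Q z₁).smulRight x₁ +
      (QuadraticMap.polarBilin Q z₂).smulRight x₂ := ⟨_, rfl⟩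
  have hfv : ∀ a b : F, f (a • y₁ + b • y₂) = a • x₁ + b • x₂ := by
    intro a b
    simp only [hf, LinearMap.add_apply, LinearMap.smulRight_apply, map_add, map_smul,
      QuadraticMap.polarBilin_apply_apply, h11, h12, h21, h22]
    module
  have hQv : ∀ a b : F, Q (a • x₁ + b • x₂) = Q (a • y₁ + b • y₂) := by
    intro a b
    rw [QuadraticMap.map_add (⇑Q), QuadraticMap.map_add (⇑Q), QuadraticMap.map_smul,
      QuadraticMap.map_smul, QuadraticMap.map_smul, QuadraticMap.map_smul, QuadraticMap.polar_smul_left,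
      QuadraticMap.polar_smul_right, QuadraticMap.polar_smul_left, QuadraticMap.polar_smul_right, hQ1,
      hQ2, hp]
  obtain ⟨g, hg, hgU⟩ := Cfsg.Agent.S0750.main Q hQ _ (Submodule.span F {y₁, y₂}) f rfl
    (by
      intro v hv
      obtain ⟨a, b, rfl⟩ := Submodule.mem_span_pair.mp hv
      rw [hfv, hQv])
    (by
      intro v hv h0
      obtain ⟨a, b, rfl⟩ := Submodule.mem_span_pair.mp hv
      rw [hfv] at h0
      obtain ⟨ha, hb⟩ := hind a b h0
      rw [ha, hb, zero_smul, zero_smul, add_zero])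
  have hmul : ∀ v, LinearMap.toMatrix' g *ᵥ v = g v := by
    intro v
    rw [← Matrix.toLin'_apply, Matrix.toLin'_toMatrix']
  refine ⟨LinearMap.toMatrix' g, fun v => by rw [hmul]; exact hg v, ?_, ?_⟩
  · rw [hmul, hgU y₁ (Submodule.subset_span (by simp))]
    have := hfv 1 0
    simpa using this
  · rw [hmul, hgU y₂ (Submodule.subset_span (by simp))]
    have := hfv 0 1
    simpa using this

/-- (H1) -/
theorem exists_sing_perp_one (Q : QuadraticForm F (ι → F))
    (hQ : (QuadraticMap.polarBilin Q).Nondegenerate) (fr : HypFrame2 Q) (u v : ι → F) (hu0 : u ≠ 0)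
    (hu : Q u = 0) (huv : QuadraticMap.polar ⇑Q u v = 0) (hv : Q v ≠ 0) :
    ∃ e, Q e = 0 ∧ QuadraticMap.polar ⇑Q u e = 0 ∧ QuadraticMap.polar ⇑Q e v = 1 := by
  obtain ⟨G, hG, h1, h2⟩ := exists_isometry_pair Q hQ fr.e₁ (fr.e₂ + Q v • fr.f₂) fr.f₁ fr.f₂ u v
    (by simp) (by simp [QuadraticMap.polar_add_right, QuadraticMap.polar_smul_right])
    (by simp) (by simp [QuadraticMap.polar_add_right, QuadraticMap.polar_smul_right])
    (by simp [hu])
    (by simp [QuadraticMap.map_add (⇑Q), QuadraticMap.map_smul, QuadraticMap.polar_smul_right])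
    (by simp [huv, QuadraticMap.polar_add_right, QuadraticMap.polar_smul_right])
    (by
      intro a b hab
      have h1 := congrArg (fun x => Q x) hab
      simp only [map_zero] at h1
      rw [QuadraticMap.map_add (⇑Q), QuadraticMap.map_smul, QuadraticMap.map_smul, hu,
        QuadraticMap.polar_smul_left, QuadraticMap.polar_smul_right, huv] at h1
      simp only [smul_eq_mul, mul_zero, zero_add, add_zero] at h1
      have hb : b = 0 := by
        rcases mul_eq_zero.mp h1 with h | h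
        · exact mul_self_eq_zero.mp h
        · exact absurd h hv
      rw [hb, zero_smul, add_zero] at hab
      rcases smul_eq_zero.mp hab with h | h
      · exact ⟨h, hb⟩
      · exact absurd h hu0)
  refine ⟨G *ᵥ fr.f₂, by rw [hG]; exact fr.Qf₂, ?_, ?_⟩
  · rw [← h1, polar_mulVec_of_isometry Q G hG]; exact fr.e₁f₂
  · rw [← h2, polar_mulVec_of_isometry Q G hG]
    simp [QuadraticMap.polar_add_right, QuadraticMap.polar_smul_right]

/-- A hyperbolic pair (up to a scalar) can be moved to the standard one. -/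
theorem exists_isometry_hyp (Q : QuadraticForm F (ι → F))
    (hQ : (QuadraticMap.polarBilin Q).Nondegenerate) (fr : HypFrame2 Q) (u u' : ι → F)
    (hu : Q u = 0) (hu' : Q u' = 0) (h : QuadraticMap.polar ⇑Q u u' ≠ 0) :
    ∃ G : Matrix ι ι F, (∀ v, Q (G *ᵥ v) = Q v) ∧ G *ᵥ fr.e₁ = u ∧
      G *ᵥ (QuadraticMap.polar ⇑Q u u' • fr.f₁) = u' := by
  apply exists_isometry_pair Q hQ fr.e₁ (QuadraticMap.polar ⇑Q u u' • fr.f₁) fr.f₁
    ((QuadraticMap.polar ⇑Q u u')⁻¹ • fr.e₁) u u'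
  · simp
  · simp [QuadraticMap.polar_smul_right]
  · simp [QuadraticMap.polar_smul_left]
  · simp [QuadraticMap.polar_smul_right, QuadraticMap.polar_smul_left, h]
  · simp [hu]
  · simp [hu', QuadraticMap.map_smul]
  · simp [QuadraticMap.polar_smul_right]
  · intro a b hab
    have h1 := congrArg (fun x => QuadraticMap.polar ⇑Q u x) hab
    have h2 := congrArg (fun x => QuadraticMap.polar ⇑Q x u') hab
    simp only [QuadraticMap.polar_add_right, QuadraticMap.polar_smul_right, QuadraticMap.polar_add_left,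
      QuadraticMap.polar_smul_left, QuadraticMap.polar_self, hu, hu', smul_zero, smul_eq_mul, zero_add,
      add_zero, mul_zero, QuadraticMap.polar_zero_right, QuadraticMap.polar_zero_left] at h1 h2
    exact ⟨(mul_eq_zero.mp h2).resolve_right h, (mul_eq_zero.mp h1).resolve_right h⟩

/-- (H2) -/
theorem exists_sing_one_one (Q : QuadraticForm F (ι → F))
    (hQ : (QuadraticMap.polarBilin Q).Nondegenerate) (fr : HypFrame2 Q) (u u' : ι → F)
    (hu : Q u = 0) (hu' : Q u' = 0) (h : QuadraticMap.polar ⇑Q u u' ≠ 0) :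
    ∃ a, Q a = 0 ∧ QuadraticMap.polar ⇑Q a u = 1 ∧ QuadraticMap.polar ⇑Q a u' = 1 := by
  obtain ⟨G, hG, h1, h2⟩ := exists_isometry_hyp Q hQ fr u u' hu hu' h
  obtain ⟨α, hα⟩ : ∃ α, α = QuadraticMap.polar ⇑Q u u' := ⟨_, rfl⟩
  rw [← hα] at h h2
  refine ⟨G *ᵥ (fr.f₁ + α⁻¹ • fr.e₁ + fr.e₂ + (-α⁻¹) • fr.f₂), ?_, ?_, ?_⟩
  · rw [hG]
    simp [QuadraticMap.map_add (⇑Q), QuadraticMap.map_smul, QuadraticMap.polar_add_left,
      QuadraticMap.polar_smul_left, QuadraticMap.polar_add_right, QuadraticMap.polar_smul_right]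
  · rw [← h1, polar_mulVec_of_isometry Q G hG]
    simp [QuadraticMap.polar_add_left, QuadraticMap.polar_smul_left]
  · rw [← h2, polar_mulVec_of_isometry Q G hG]
    simp [QuadraticMap.polar_add_left, QuadraticMap.polar_smul_left, QuadraticMap.polar_smul_right, h]

/-- A non-zero singular vector orthogonal to a given hyperbolic pair. -/
theorem exists_sing_perp_pair (Q : QuadraticForm F (ι → F))
    (hQ : (QuadraticMap.polarBilin Q).Nondegenerate) (fr : HypFrame2 Q) (u u' : ι → F)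
    (hu : Q u = 0) (hu' : Q u' = 0) (h : QuadraticMap.polar ⇑Q u u' ≠ 0) :
    ∃ w, w ≠ 0 ∧ Q w = 0 ∧ QuadraticMap.polar ⇑Q u w = 0 ∧ QuadraticMap.polar ⇑Q u' w = 0 := by
  obtain ⟨G, hG, h1, h2⟩ := exists_isometry_hyp Q hQ fr u u' hu hu' h
  refine ⟨G *ᵥ fr.e₂, ?_, by rw [hG]; exact fr.Qe₂, ?_, ?_⟩
  · intro h0
    have := polar_mulVec_of_isometry Q G hG fr.e₂ fr.f₂
    rw [h0, QuadraticMap.polar_zero_left, fr.e₂f₂] at this
    exact zero_ne_one this
  · rw [← h1, polar_mulVec_of_isometry Q G hG]; exact fr.e₁e₂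
  · rw [← h2, polar_mulVec_of_isometry Q G hG]
    simp [QuadraticMap.polar_smul_left]

/-- (H3) -/
theorem exists_sing_one (Q : QuadraticForm F (ι → F))
    (hQ : (QuadraticMap.polarBilin Q).Nondegenerate) (fr : HypFrame2 Q) (a : ι → F) (ha : Q a ≠ 0) :
    ∃ e, Q e = 0 ∧ QuadraticMap.polar ⇑Q e a = 1 := by
  obtain ⟨G, hG, h1⟩ := exists_isometry_single Q hQ (fr.e₁ + Q a • fr.f₁) fr.f₁ a
    (by simp [QuadraticMap.polar_add_right, QuadraticMap.polar_smul_right])
    (by simp [QuadraticMap.map_add (⇑Q), QuadraticMap.map_smul, QuadraticMap.polar_smul_right])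
    (by rintro rfl; exact ha (map_zero _))
  refine ⟨G *ᵥ fr.f₁, by rw [hG]; exact fr.Qf₁, ?_⟩
  rw [← h1, polar_mulVec_of_isometry Q G hG]
  simp [QuadraticMap.polar_add_right, QuadraticMap.polar_smul_right]

omit [DecidableEq ι] in
/-- Two non-zero vectors have a common non-orthogonal vector. -/
theorem exists_polar_ne_zero₂ (Q : QuadraticForm F (ι → F))
    (hQ : (QuadraticMap.polarBilin Q).Nondegenerate) (w₁ w₂ : ι → F) (h1 : w₁ ≠ 0) (h2 : w₂ ≠ 0) :
    ∃ y, QuadraticMap.polar ⇑Q w₁ y ≠ 0 ∧ QuadraticMap.polar ⇑Q w₂ y ≠ 0 := by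
  have key : ∀ w : ι → F, w ≠ 0 → ∃ y, QuadraticMap.polar ⇑Q w y ≠ 0 := by
    intro w hw
    by_contra hcon
    push Not at hcon
    exact hw (hQ.1 w (fun y => by rw [QuadraticMap.polarBilin_apply_apply]; exact hcon y))
  obtain ⟨y₁, hy₁⟩ := key w₁ h1
  obtain ⟨y₂, hy₂⟩ := key w₂ h2
  by_cases ha : QuadraticMap.polar ⇑Q w₂ y₁ = 0
  · by_cases hb : QuadraticMap.polar ⇑Q w₁ y₂ = 0
    · refine ⟨y₁ + y₂, ?_, ?_⟩
      · rw [QuadraticMap.polar_add_right, hb, add_zero]; exact hy₁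
      · rw [QuadraticMap.polar_add_right, ha, zero_add]; exact hy₂
    · exact ⟨y₂, hb, hy₂⟩
  · exact ⟨y₁, hy₁, ha⟩

/-- (H2') -/
theorem exists_sing_nonperp (Q : QuadraticForm F (ι → F))
    (hQ : (QuadraticMap.polarBilin Q).Nondegenerate) (u u' : ι → F) (hu0 : u ≠ 0) (hu'0 : u' ≠ 0)
    (hu : Q u = 0) (huu' : QuadraticMap.polar ⇑Q u u' = 0) :
    ∃ w, Q w = 0 ∧ QuadraticMap.polar ⇑Q w u ≠ 0 ∧ QuadraticMap.polar ⇑Q w u' ≠ 0 := by
  obtain ⟨y, hy1, hy2⟩ := exists_polar_ne_zero₂ Q hQ u u' hu0 hu'0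
  have hyu : QuadraticMap.polar ⇑Q y u ≠ 0 := by rw [QuadraticMap.polar_comm]; exact hy1
  have hyu' : QuadraticMap.polar ⇑Q y u' ≠ 0 := by rw [QuadraticMap.polar_comm]; exact hy2
  refine ⟨y - (Q y / QuadraticMap.polar ⇑Q y u) • u, ?_, ?_, ?_⟩
  · rw [quad_sub, QuadraticMap.map_smul, hu, QuadraticMap.polar_smul_right, smul_eq_mul, mul_zero,
      add_zero, smul_eq_mul, div_mul_cancel₀ _ hyu, sub_self]
  · rw [QuadraticMap.polar_sub_left, QuadraticMap.polar_smul_left, QuadraticMap.polar_self, hu]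
    simpa using hyu
  · rw [QuadraticMap.polar_sub_left, QuadraticMap.polar_smul_left, huu']
    simpa using hyu'

omit [DecidableEq ι] in
theorem mem_orthogonal_polar (Q : QuadraticForm F (ι → F)) (W : Submodule F (ι → F)) (a : ι → F) :
    a ∈ LinearMap.BilinForm.orthogonal (QuadraticMap.polarBilin Q) W ↔
      ∀ w ∈ W, QuadraticMap.polar ⇑Q w a = 0 := by
  rw [LinearMap.BilinForm.mem_orthogonal_iff]
  rfl

/-- (†) -/
theorem exists_perp_one (Q : QuadraticForm F (ι → F))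
    (hQ : (QuadraticMap.polarBilin Q).Nondegenerate) (W : Submodule F (ι → F)) (x : ι → F)
    (hx : x ∉ W) :
    ∃ z, (∀ w ∈ W, QuadraticMap.polar ⇑Q w z = 0) ∧ QuadraticMap.polar ⇑Q x z = 1 := by
  have h := LinearMap.BilinForm.orthogonal_orthogonal hQ (polarBilin_symm' Q).isRefl W
  have hx' : x ∉ LinearMap.BilinForm.orthogonal (QuadraticMap.polarBilin Q)
      (LinearMap.BilinForm.orthogonal (QuadraticMap.polarBilin Q) W) := by
    rw [h]; exact hx
  rw [mem_orthogonal_polar] at hx'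
  push Not at hx'
  obtain ⟨z, hz, hzx'⟩ := hx'
  refine ⟨(QuadraticMap.polar ⇑Q z x)⁻¹ • z, ?_, ?_⟩
  · intro w hw
    have h0 : QuadraticMap.polar ⇑Q w z = 0 := (mem_orthogonal_polar Q W z).mp hz w hw
    rw [QuadraticMap.polar_smul_right, h0, smul_zero]
  · rw [QuadraticMap.polar_smul_right, QuadraticMap.polar_comm (⇑Q) x z, smul_eq_mul,
      inv_mul_cancel₀ hzx']

theorem finrank_span_pair_le (u v : ι → F) :
    finrank F (Submodule.span F ({u, v} : Set (ι → F))) ≤ 2 := by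
  classical
  have h : finrank F (Submodule.span F ((({u, v} : Finset (ι → F)) : Set (ι → F)))) ≤
      ({u, v} : Finset (ι → F)).card := finrank_span_finset_le_card _
  have h2 : ({u, v} : Finset (ι → F)).card ≤ 2 := Finset.card_le_two
  have e : (({u, v} : Finset (ι → F)) : Set (ι → F)) = {u, v} := by simp
  rw [e] at h
  omega

/-- The orthogonal complement of a subspace of dimension at most two is not contained in it (dimension `≥ 5`). -/
theorem orthogonal_not_le (Q : QuadraticForm F (ι → F))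
    (hQ : (QuadraticMap.polarBilin Q).Nondegenerate) (hn : 5 ≤ Fintype.card ι)
    (W : Submodule F (ι → F)) (hW : finrank F W ≤ 2) :
    ¬ LinearMap.BilinForm.orthogonal (QuadraticMap.polarBilin Q) W ≤ W := by
  intro hle
  have h1 := LinearMap.BilinForm.finrank_orthogonal hQ W
  have h2 := Submodule.finrank_mono hle
  rw [Module.finrank_fintype_fun_eq_card] at h1
  omega

theorem exists_perp_not_mem (Q : QuadraticForm F (ι → F))
    (hQ : (QuadraticMap.polarBilin Q).Nondegenerate) (hn : 5 ≤ Fintype.card ι)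
    (W : Submodule F (ι → F)) (hW : finrank F W ≤ 2) :
    ∃ a, (∀ w ∈ W, QuadraticMap.polar ⇑Q w a = 0) ∧ a ∉ W := by
  have h := orthogonal_not_le Q hQ hn W hW
  rw [SetLike.not_le_iff_exists] at h
  obtain ⟨a, ha, haW⟩ := h
  exact ⟨a, (mem_orthogonal_polar Q W a).mp ha, haW⟩

/-- (H5) -/
theorem exists_perp_pair_one (Q : QuadraticForm F (ι → F))
    (hQ : (QuadraticMap.polarBilin Q).Nondegenerate) (hn : 5 ≤ Fintype.card ι) (u v : ι → F) :
    ∃ a b, QuadraticMap.polar ⇑Q u a = 0 ∧ QuadraticMap.polar ⇑Q v a = 0 ∧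
      QuadraticMap.polar ⇑Q u b = 0 ∧ QuadraticMap.polar ⇑Q v b = 0 ∧ QuadraticMap.polar ⇑Q a b = 1 := by
  obtain ⟨a, ha, haW⟩ := exists_perp_not_mem Q hQ hn _ (finrank_span_pair_le u v)
  obtain ⟨b, hb, hab⟩ := exists_perp_one Q hQ _ a haW
  have hu : u ∈ Submodule.span F ({u, v} : Set (ι → F)) := Submodule.subset_span (by simp)
  have hv : v ∈ Submodule.span F ({u, v} : Set (ι → F)) := Submodule.subset_span (by simp)
  exact ⟨a, b, ha u hu, ha v hv, hb u hu, hb v hv, hab⟩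

/-- An anisotropic vector orthogonal to a subspace of dimension at most two. -/
theorem exists_aniso_perp (Q : QuadraticForm F (ι → F))
    (hQ : (QuadraticMap.polarBilin Q).Nondegenerate) (hn : 5 ≤ Fintype.card ι)
    (W : Submodule F (ι → F)) (hW : finrank F W ≤ 2) :
    ∃ v, (∀ w ∈ W, QuadraticMap.polar ⇑Q w v = 0) ∧ Q v ≠ 0 := by
  by_contra hcon
  push Not at hcon
  apply orthogonal_not_le Q hQ hn W hW
  intro v hv
  rw [← LinearMap.BilinForm.orthogonal_orthogonal hQ (polarBilin_symm' Q).isRefl W]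
  rw [mem_orthogonal_polar]
  intro z hz
  have h1 : Q z = 0 := hcon z ((mem_orthogonal_polar Q W z).mp hz)
  have h2 : Q v = 0 := hcon v ((mem_orthogonal_polar Q W v).mp hv)
  have h3 : Q (z + v) = 0 :=
    hcon (z + v) ((mem_orthogonal_polar Q W (z + v)).mp (Submodule.add_mem _ hz hv))
  unfold QuadraticMap.polar
  rw [h1, h2, h3]
  ring

/-- (H6') -/
theorem exists_move (Q : QuadraticForm F (ι → F))
    (hQ : (QuadraticMap.polarBilin Q).Nondegenerate) (hn : 5 ≤ Fintype.card ι) (u u' : ι → F)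
    (hu : Q u = 0) (huu' : QuadraticMap.polar ⇑Q u u' = 0) (hnot : u ∉ Submodule.span F {u'}) :
    ∃ a v, Q a = 0 ∧ QuadraticMap.polar ⇑Q a u' = 0 ∧ QuadraticMap.polar ⇑Q a u = 1 ∧
      QuadraticMap.polar ⇑Q a v = 0 ∧ QuadraticMap.polar ⇑Q u' v = 0 ∧ Q v ≠ 0 := by
  obtain ⟨z, hz, hzu⟩ := exists_perp_one Q hQ _ u hnot
  have hu'z : QuadraticMap.polar ⇑Q u' z = 0 := hz u' (Submodule.mem_span_singleton_self u')
  have hzu' : QuadraticMap.polar ⇑Q z u = 1 := by rw [QuadraticMap.polar_comm]; exact hzu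
  obtain ⟨v, hv, hQv⟩ := exists_aniso_perp Q hQ hn _ (finrank_span_pair_le (z - Q z • u) u')
  refine ⟨z - Q z • u, v, ?_, ?_, ?_, hv _ (Submodule.subset_span (by simp)),
    hv _ (Submodule.subset_span (by simp)), hQv⟩
  · rw [quad_sub, QuadraticMap.map_smul, hu, QuadraticMap.polar_smul_right, hzu']
    simp
  · rw [QuadraticMap.polar_sub_left, QuadraticMap.polar_smul_left, huu', QuadraticMap.polar_comm, hu'z]
    simp
  · rw [QuadraticMap.polar_sub_left, QuadraticMap.polar_smul_left, QuadraticMap.polar_self, hu, hzu']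
    simp

end

end Cfsg.Agent.Lib.helper17
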