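import Cfsg.Agent.Lib.helper17.OmExist
import Cfsg.Agent.Lib.helper17.SymmForm
import Cfsg.Agent.Lib.helper49.QuadOdd

/-!
A non-degenerate quadratic form in dimension at least five over a finite field of odd characteristic contains two
orthogonal hyperbolic pairs.
-/

set_option autoImplicit false

namespace Cfsg.Agent.Lib.helper17

open Matrix Cfsg Module

section
variable {ι : Type} [Fintype ι] [DecidableEq ι] {F : Type*} [Field F]

/-- Two orthogonal hyperbolic pairs from four orthonormal vectors and a solution of `α² + β² = -1`. -/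
theorem exists_hypFrame2_of_orthonormal (Q : QuadraticForm F (ι → F)) (h2 : (2 : F) ≠ 0)
    (b₀ b₁ b₂ b₃ : ι → F) (h0 : Q b₀ = 1) (h1 : Q b₁ = 1) (h2' : Q b₂ = 1) (h3 : Q b₃ = 1)
    (h01 : QuadraticMap.polar ⇑Q b₀ b₁ = 0) (h02 : QuadraticMap.polar ⇑Q b₀ b₂ = 0)
    (h03 : QuadraticMap.polar ⇑Q b₀ b₃ = 0) (h12 : QuadraticMap.polar ⇑Q b₁ b₂ = 0)
    (h13 : QuadraticMap.polar ⇑Q b₁ b₃ = 0) (h23 : QuadraticMap.polar ⇑Q b₂ b₃ = 0)
    (α β : F) (hαβ : α ^ 2 + β ^ 2 = -1) : Nonempty (HypFrame2 Q) := by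
  have h10 : QuadraticMap.polar ⇑Q b₁ b₀ = 0 := by rw [QuadraticMap.polar_comm]; exact h01
  have h20 : QuadraticMap.polar ⇑Q b₂ b₀ = 0 := by rw [QuadraticMap.polar_comm]; exact h02
  have h30 : QuadraticMap.polar ⇑Q b₃ b₀ = 0 := by rw [QuadraticMap.polar_comm]; exact h03
  have h21 : QuadraticMap.polar ⇑Q b₂ b₁ = 0 := by rw [QuadraticMap.polar_comm]; exact h12
  have h31 : QuadraticMap.polar ⇑Q b₃ b₁ = 0 := by rw [QuadraticMap.polar_comm]; exact h13
  have h32 : QuadraticMap.polar ⇑Q b₃ b₂ = 0 := by rw [QuadraticMap.polar_comm]; exact h23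
  have h00 : QuadraticMap.polar ⇑Q b₀ b₀ = 2 := by rw [QuadraticMap.polar_self, h0]; simp
  have h11 : QuadraticMap.polar ⇑Q b₁ b₁ = 2 := by rw [QuadraticMap.polar_self, h1]; simp
  have h22 : QuadraticMap.polar ⇑Q b₂ b₂ = 2 := by rw [QuadraticMap.polar_self, h2']; simp
  have h33 : QuadraticMap.polar ⇑Q b₃ b₃ = 2 := by rw [QuadraticMap.polar_self, h3]; simp
  have h4 : (4 : F) ≠ 0 := by
    have : (4 : F) = 2 * 2 := by norm_num
    rw [this]
    exact mul_ne_zero h2 h2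
  refine ⟨{
    e₁ := b₀ + α • b₁ + β • b₂
    f₁ := (4 : F)⁻¹ • (b₀ + (-α) • b₁ + (-β) • b₂)
    e₂ := (-β) • b₁ + α • b₂ + b₃
    f₂ := (4 : F)⁻¹ • (β • b₁ + (-α) • b₂ + b₃)
    Qe₁ := ?_
    Qf₁ := ?_
    Qe₂ := ?_
    Qf₂ := ?_
    e₁f₁ := ?_
    e₂f₂ := ?_
    e₁e₂ := ?_
    e₁f₂ := ?_
    f₁e₂ := ?_
    f₁f₂ := ?_ }⟩
  all_goals
    simp only [QuadraticMap.map_add (⇑Q), QuadraticMap.map_smul, QuadraticMap.polar_add_left,
      QuadraticMap.polar_add_right, QuadraticMap.polar_smul_left, QuadraticMap.polar_smul_right, h0, h1,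
      h2', h3, h01, h02, h03, h12, h13, h23, h10, h20, h30, h21, h31, h32, h00, h11, h22, h33,
      smul_eq_mul]
  · linear_combination hαβ
  · linear_combination (4 : F)⁻¹ * (4 : F)⁻¹ * hαβ
  · linear_combination hαβ
  · linear_combination (4 : F)⁻¹ * (4 : F)⁻¹ * hαβ
  · field_simp
    linear_combination (-2 : F) * hαβ
  · field_simp
    linear_combination (-2 : F) * hαβ
  · ring
  · ring
  · ring
  · ring

/-- Two orthogonal hyperbolic pairs exist in dimension at least five over a finite field of odd characteristic. -/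
theorem exists_hypFrame2_odd [Fintype F] (h2 : (2 : F) ≠ 0) (Q : QuadraticForm F (ι → F))
    (hQ : (QuadraticMap.polarBilin Q).Nondegenerate) (hn : 5 ≤ Fintype.card ι) :
    Nonempty (HypFrame2 Q) := by
  obtain ⟨d, hd⟩ : ∃ d, Fintype.card ι = d + 1 := ⟨Fintype.card ι - 1, by omega⟩
  obtain ⟨b, hb1, hb2⟩ := Cfsg.Agent.Lib.helper49.exists_normal_basis h2 d
    (V := ι → F) (by rw [Module.finrank_fintype_fun_eq_card, hd]) Q hQ
  obtain ⟨x, y, hxy⟩ := exists_sq_add_sq_eq_one h2 (-1 : F) (-1) (neg_ne_zero.mpr one_ne_zero)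
    (neg_ne_zero.mpr one_ne_zero)
  have hd4 : 4 ≤ d := by omega
  have hne : ∀ k : ℕ, ∀ hk : k < d + 1, k < d → (⟨k, hk⟩ : Fin (d + 1)) ≠ Fin.last d := by
    intro k hk hkd h
    have := congrArg Fin.val h
    simp only [Fin.val_last] at this
    omega
  have hij : ∀ (k l : ℕ) (hk : k < d + 1) (hl : l < d + 1), k ≠ l →
      QuadraticMap.polar ⇑Q (b ⟨k, hk⟩) (b ⟨l, hl⟩) = 0 := by
    intro k l hk hl hkl
    apply hb1
    intro h
    exact hkl (congrArg Fin.val h)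
  exact exists_hypFrame2_of_orthonormal Q h2 (b ⟨0, by omega⟩) (b ⟨1, by omega⟩) (b ⟨2, by omega⟩)
    (b ⟨3, by omega⟩) (hb2 _ (hne 0 _ (by omega))) (hb2 _ (hne 1 _ (by omega)))
    (hb2 _ (hne 2 _ (by omega))) (hb2 _ (hne 3 _ (by omega)))
    (hij 0 1 _ _ (by omega)) (hij 0 2 _ _ (by omega)) (hij 0 3 _ _ (by omega)) (hij 1 2 _ _ (by omega))
    (hij 1 3 _ _ (by omega)) (hij 2 3 _ _ (by omega)) x y (by linear_combination -hxy)

end

end Cfsg.Agent.Lib.helper17
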