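import Cfsg.Agent.Lib.helper17.OmExist

/-!
`Ω(Q)` is generated by the long root elements (Siegel transformations), for a non-degenerate quadratic form
with two orthogonal hyperbolic pairs in dimension at least five whose isometry group is generated by reflections.
-/

set_option autoImplicit false

namespace Cfsg.Agent.Lib.helper17

open Matrix Cfsg Module
open scoped commutatorElement

section
variable {ι : Type} [Fintype ι] [DecidableEq ι] {F : Type*} [Field F]

/-- (C2) every Siegel transformation lies in the group generated by the long root elements. -/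
theorem sgIsom_mem (Q : QuadraticForm F (ι → F)) (hQ : (QuadraticMap.polarBilin Q).Nondegenerate)
    (fr : HypFrame2 Q) (u v : ι → F) (hu : Q u = 0) (huv : QuadraticMap.polar ⇑Q u v = 0) :
    sgIsom Q hQ u v hu huv ∈ siegelGroup Q := by
  by_cases hv : Q v = 0
  · exact sgIsom_mem_of_singular Q hQ u v hu huv hv
  by_cases hu0 : u = 0
  · have h1 : sgIsom Q hQ u v hu huv = 1 := by
      apply isoMat_ext
      rw [isoMat_sgIsom, isoMat_one]
      subst hu0
      exact sgMatrix_zero_left Q v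
    rw [h1]
    exact Subgroup.one_mem _
  obtain ⟨e, he, hue, hev⟩ := exists_sing_perp_one Q hQ fr u v hu0 hu huv hv
  have hf : Q (v - Q v • e) = 0 := by
    rw [quad_sub, QuadraticMap.map_smul, he, QuadraticMap.polar_smul_right,
      QuadraticMap.polar_comm (⇑Q) v e, hev]
    simp
  have huf : QuadraticMap.polar ⇑Q u (v - Q v • e) = 0 := by
    rw [QuadraticMap.polar_sub_right, QuadraticMap.polar_smul_right, huv, hue]
    simp
  have huce : QuadraticMap.polar ⇑Q u (Q v • e) = 0 := by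
    rw [QuadraticMap.polar_smul_right, hue, smul_zero]
  have hce : Q (Q v • e) = 0 := by rw [QuadraticMap.map_smul, he, smul_zero]
  have h1 : sgIsom Q hQ u v hu huv =
      sgIsom Q hQ u (Q v • e) hu huce * sgIsom Q hQ u (v - Q v • e) hu huf := by
    apply isoMat_ext
    rw [isoMat_mul, isoMat_sgIsom, isoMat_sgIsom, isoMat_sgIsom, sgMatrix_mul Q u _ _ hu huce huf]
    congr 1
    abel
  rw [h1]
  exact Subgroup.mul_mem _ (sgIsom_mem_of_singular Q hQ u _ hu huce hce)
    (sgIsom_mem_of_singular Q hQ u _ hu huf hf)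

theorem sgMatrix_mulVec_self (Q : QuadraticForm F (ι → F)) (e w : ι → F) (he : Q e = 0)
    (hew : QuadraticMap.polar ⇑Q e w = 0) : sgMatrix ⇑Q e w *ᵥ e = e := by
  rw [sgMatrix_mulVec, QuadraticMap.polar_self, he, QuadraticMap.polar_comm (⇑Q) w e, hew]
  simp

/-- (C4) a Siegel transformation fixing `e` and moving one partner of `e` to another. -/
theorem sgMatrix_map_partner (Q : QuadraticForm F (ι → F)) (e f f' : ι → F) (hf : Q f = 0)
    (hf' : Q f' = 0) (hα : QuadraticMap.polar ⇑Q e f ≠ 0) :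
    sgMatrix ⇑Q e ((QuadraticMap.polar ⇑Q e f)⁻¹ • (f' - f)) *ᵥ f = f' := by
  obtain ⟨α, hα'⟩ : ∃ α, α = QuadraticMap.polar ⇑Q e f := ⟨_, rfl⟩
  rw [← hα'] at hα ⊢
  rw [sgMatrix_mulVec, QuadraticMap.map_smul, quad_sub, hf, hf', QuadraticMap.polar_smul_left,
    QuadraticMap.polar_sub_left, QuadraticMap.polar_self, hf, ← hα']
  have h1 : α • α⁻¹ • (f' - f) = f' - f := by rw [smul_smul, mul_inv_cancel₀ hα, one_smul]
  have h2 : -(α⁻¹ • (QuadraticMap.polar ⇑Q f' f - 2 • (0 : F)) +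
      (α⁻¹ * α⁻¹) • (0 + 0 - QuadraticMap.polar ⇑Q f' f) * α) = 0 := by
    simp only [smul_eq_mul, smul_zero, sub_zero, zero_add, zero_sub]
    field_simp
    ring
  rw [h1, h2, zero_smul, add_zero]
  abel

/-- (C3), first case. -/
theorem exists_siegel_map_aux (Q : QuadraticForm F (ι → F))
    (hQ : (QuadraticMap.polarBilin Q).Nondegenerate) (fr : HypFrame2 Q) (u u' : ι → F) (hu : Q u = 0)
    (hu' : Q u' = 0) (h : QuadraticMap.polar ⇑Q u u' ≠ 0) :
    ∃ g ∈ siegelGroup Q, isoMat g *ᵥ u = u' := by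
  obtain ⟨a, ha, hau, hau'⟩ := exists_sing_one_one Q hQ fr u u' hu hu' h
  have haw : QuadraticMap.polar ⇑Q a (u' - u) = 0 := by
    rw [QuadraticMap.polar_sub_right, hau, hau', sub_self]
  refine ⟨sgIsom Q hQ a (u' - u) ha haw, sgIsom_mem Q hQ fr a _ ha haw, ?_⟩
  rw [isoMat_sgIsom, sgMatrix_mulVec, hau, quad_sub, hu, hu', QuadraticMap.polar_sub_left,
    QuadraticMap.polar_self, hu]
  simp

/-- (C3) the group generated by the long root elements is transitive on non-zero singular vectors. -/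
theorem exists_siegel_map (Q : QuadraticForm F (ι → F))
    (hQ : (QuadraticMap.polarBilin Q).Nondegenerate) (fr : HypFrame2 Q) (u u' : ι → F) (hu0 : u ≠ 0)
    (hu'0 : u' ≠ 0) (hu : Q u = 0) (hu' : Q u' = 0) :
    ∃ g ∈ siegelGroup Q, isoMat g *ᵥ u = u' := by
  by_cases h : QuadraticMap.polar ⇑Q u u' = 0
  · obtain ⟨w, hw, hwu, hwu'⟩ := exists_sing_nonperp Q hQ u u' hu0 hu'0 hu h
    obtain ⟨g₁, hg₁, h1⟩ := exists_siegel_map_aux Q hQ fr u w hu hw
      (by rw [QuadraticMap.polar_comm]; exact hwu)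
    obtain ⟨g₂, hg₂, h2⟩ := exists_siegel_map_aux Q hQ fr w u' hw hu' hwu'
    refine ⟨g₂ * g₁, Subgroup.mul_mem _ hg₂ hg₁, ?_⟩
    rw [isoMat_mul, ← Matrix.mulVec_mulVec, h1, h2]
  · exact exists_siegel_map_aux Q hQ fr u u' hu hu' h

/-- (C4') transitivity on hyperbolic pairs. -/
theorem exists_siegel_map_pair (Q : QuadraticForm F (ι → F))
    (hQ : (QuadraticMap.polarBilin Q).Nondegenerate) (fr : HypFrame2 Q) (e f e' f' : ι → F)
    (he : Q e = 0) (hf : Q f = 0) (he' : Q e' = 0) (hf' : Q f' = 0)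
    (hef : QuadraticMap.polar ⇑Q e f ≠ 0)
    (hef' : QuadraticMap.polar ⇑Q e' f' = QuadraticMap.polar ⇑Q e f) :
    ∃ g ∈ siegelGroup Q, isoMat g *ᵥ e = e' ∧ isoMat g *ᵥ f = f' := by
  have he0 : e ≠ 0 := by
    rintro rfl
    exact hef (QuadraticMap.polar_zero_left _ _)
  have he'0 : e' ≠ 0 := by
    rintro rfl
    rw [QuadraticMap.polar_zero_left] at hef'
    exact hef hef'.symm
  obtain ⟨g₁, hg₁, h1⟩ := exists_siegel_map Q hQ fr e e' he0 he'0 he he'
  obtain ⟨f₁, hf₁⟩ : ∃ f₁, f₁ = isoMat g₁ *ᵥ f := ⟨_, rfl⟩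
  have hQf₁ : Q f₁ = 0 := by rw [hf₁]; exact (isoMat_preserves g₁ f).trans hf
  have he'f₁ : QuadraticMap.polar ⇑Q e' f₁ = QuadraticMap.polar ⇑Q e f := by
    rw [hf₁, ← h1, isoMat_polar]
  have hα : QuadraticMap.polar ⇑Q e' f₁ ≠ 0 := by rw [he'f₁]; exact hef
  have hw : QuadraticMap.polar ⇑Q e' ((QuadraticMap.polar ⇑Q e' f₁)⁻¹ • (f' - f₁)) = 0 := by
    rw [QuadraticMap.polar_smul_right, QuadraticMap.polar_sub_right, hef', he'f₁, sub_self, smul_zero]
  refine ⟨sgIsom Q hQ e' _ he' hw * g₁, Subgroup.mul_mem _ (sgIsom_mem Q hQ fr e' _ he' hw) hg₁, ?_, ?_⟩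
  · rw [isoMat_mul, ← Matrix.mulVec_mulVec, h1, isoMat_sgIsom, sgMatrix_mulVec_self Q e' _ he' hw]
  · rw [isoMat_mul, ← Matrix.mulVec_mulVec, ← hf₁, isoMat_sgIsom,
      sgMatrix_map_partner Q e' f₁ f' hQf₁ hf' hα]

/-- (C5) transitivity on vectors of a given non-zero value of `Q`. -/
theorem exists_siegel_map_aniso (Q : QuadraticForm F (ι → F))
    (hQ : (QuadraticMap.polarBilin Q).Nondegenerate) (fr : HypFrame2 Q) (a a' : ι → F)
    (ha : Q a ≠ 0) (haa' : Q a' = Q a) :
    ∃ g ∈ siegelGroup Q, isoMat g *ᵥ a = a' := by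
  obtain ⟨e, he, hea⟩ := exists_sing_one Q hQ fr a ha
  obtain ⟨e', he', hea'⟩ := exists_sing_one Q hQ fr a' (by rw [haa']; exact ha)
  obtain ⟨c, hc⟩ : ∃ c, c = Q a := ⟨_, rfl⟩
  rw [← hc] at haa'
  have hf : Q (a - c • e) = 0 := by
    rw [quad_sub, QuadraticMap.map_smul, he, QuadraticMap.polar_smul_right,
      QuadraticMap.polar_comm (⇑Q) a e, hea, ← hc]
    simp
  have hf' : Q (a' - c • e') = 0 := by
    rw [quad_sub, QuadraticMap.map_smul, he', QuadraticMap.polar_smul_right,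
      QuadraticMap.polar_comm (⇑Q) a' e', hea', haa']
    simp
  have hef : QuadraticMap.polar ⇑Q e (a - c • e) = 1 := by
    rw [QuadraticMap.polar_sub_right, QuadraticMap.polar_smul_right, QuadraticMap.polar_self, he, hea]
    simp
  have hef' : QuadraticMap.polar ⇑Q e' (a' - c • e') = 1 := by
    rw [QuadraticMap.polar_sub_right, QuadraticMap.polar_smul_right, QuadraticMap.polar_self, he', hea']
    simp
  obtain ⟨g, hg, h1, h2⟩ := exists_siegel_map_pair Q hQ fr e (a - c • e) e' (a' - c • e') he hf he' hf'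
    (by rw [hef]; exact one_ne_zero) (by rw [hef, hef'])
  refine ⟨g, hg, ?_⟩
  have hdec : a = c • e + (a - c • e) := by abel
  rw [hdec, Matrix.mulVec_add, Matrix.mulVec_smul, h1, h2]
  abel

/-- Conjugating a reflection by an isometry. -/
theorem reflectionIsom_conj (Q : QuadraticForm F (ι → F)) (g : isometryGroup F ⇑Q) (a : ι → F)
    (ha : Q a ≠ 0) (ha' : Q (isoMat g *ᵥ a) ≠ 0) :
    g * reflectionIsom Q a ha * g⁻¹ = reflectionIsom Q (isoMat g *ᵥ a) ha' := by
  apply isoMat_ext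
  change isoMat g * reflectionMatrix ⇑Q a * isoMat g⁻¹ = reflectionMatrix ⇑Q (isoMat g *ᵥ a)
  rw [mul_reflectionMatrix Q _ (isoMat_preserves g), Matrix.mul_assoc, isoMat_mul_inv, Matrix.mul_one]

/-- (C6) -/
theorem refl_mul_refl_mem (Q : QuadraticForm F (ι → F))
    (hQ : (QuadraticMap.polarBilin Q).Nondegenerate) (fr : HypFrame2 Q) (a a' : ι → F)
    (ha : Q a ≠ 0) (ha' : Q a' ≠ 0) (h : Q a' = Q a) :
    reflectionIsom Q a ha * reflectionIsom Q a' ha' ∈ siegelGroup Q := by
  obtain ⟨g, hg, hga⟩ := exists_siegel_map_aniso Q hQ fr a a' ha h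
  subst hga
  rw [← reflectionIsom_conj Q g a ha ha']
  have e : reflectionIsom Q a ha * (g * reflectionIsom Q a ha * g⁻¹) =
      (reflectionIsom Q a ha * g * (reflectionIsom Q a ha)⁻¹) * g⁻¹ := by
    rw [reflectionIsom_inv]
    group
  rw [e]
  exact Subgroup.mul_mem _ ((siegelGroup_normal Q).conj_mem g hg _) (Subgroup.inv_mem _ hg)

/-- (C7) -/
theorem omega_le_siegelGroup (Q : QuadraticForm F (ι → F))
    (hQ : (QuadraticMap.polarBilin Q).Nondegenerate) (fr : HypFrame2 Q) (hrefl : reflSubgroup Q = ⊤) :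
    Omega F ⇑Q ≤ siegelGroup Q := by
  obtain ⟨φ, hφ⟩ : ∃ φ : isometryGroup F ⇑Q →* isometryGroup F ⇑Q ⧸ siegelGroup Q,
      φ = QuotientGroup.mk' (siegelGroup Q) := ⟨_, rfl⟩
  have hker : ∀ g : isometryGroup F ⇑Q, φ g = 1 ↔ g ∈ siegelGroup Q := by
    intro g
    rw [hφ]
    exact QuotientGroup.eq_one_iff g
  have h1 : ∀ (a b : ι → F) (ha : Q a ≠ 0) (hb : Q b ≠ 0),
      φ (reflectionIsom Q a ha) * φ (reflectionIsom Q b hb) =
      φ (reflectionIsom Q b hb) * φ (reflectionIsom Q a ha) := by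
    intro a b ha hb
    have hb' : Q (isoMat (reflectionIsom Q b hb) *ᵥ a) ≠ 0 :=
      fun h => ha ((isoMat_preserves (reflectionIsom Q b hb) a).symm.trans h)
    have hmem := refl_mul_refl_mem Q hQ fr a _ ha hb' (isoMat_preserves _ a)
    rw [← reflectionIsom_conj Q (reflectionIsom Q b hb) a ha hb', reflectionIsom_inv] at hmem
    have h3 : φ (reflectionIsom Q a ha *
        (reflectionIsom Q b hb * reflectionIsom Q a ha * reflectionIsom Q b hb)) = 1 :=
      (hker _).mpr hmem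
    have ea := congrArg φ (reflectionIsom_mul_self Q a ha)
    have eb := congrArg φ (reflectionIsom_mul_self Q b hb)
    rw [map_mul, map_one] at ea eb
    rw [map_mul, map_mul, map_mul] at h3
    obtain ⟨x, hx⟩ : ∃ x, x = φ (reflectionIsom Q a ha) := ⟨_, rfl⟩
    obtain ⟨y, hy⟩ : ∃ y, y = φ (reflectionIsom Q b hb) := ⟨_, rfl⟩
    rw [← hx] at h3 ea ⊢
    rw [← hy] at h3 eb ⊢
    have hx' : x⁻¹ = x := inv_eq_of_mul_eq_one_left ea
    have hy' : y⁻¹ = y := inv_eq_of_mul_eq_one_left eb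
    have h4 : (x * y) * (x * y) = 1 := by
      have e : (x * y) * (x * y) = x * (y * x * y) := by group
      rw [e, h3]
    have h5 : (x * y)⁻¹ = x * y := inv_eq_of_mul_eq_one_left h4
    calc x * y = (x * y)⁻¹ := h5.symm
      _ = y⁻¹ * x⁻¹ := mul_inv_rev x y
      _ = y * x := by rw [hx', hy']
  have h2 : ∀ (b : ι → F) (hb : Q b ≠ 0) (g : isometryGroup F ⇑Q),
      φ g * φ (reflectionIsom Q b hb) = φ (reflectionIsom Q b hb) * φ g := by
    intro b hb g
    have hle : reflSubgroup Q ≤ (Subgroup.centralizer {φ (reflectionIsom Q b hb)}).comap φ := by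
      unfold reflSubgroup
      rw [Subgroup.closure_le]
      rintro s ⟨a, ha, rfl⟩
      rw [SetLike.mem_coe, Subgroup.mem_comap, Subgroup.mem_centralizer_iff]
      intro h hh
      rw [Set.mem_singleton_iff] at hh
      subst hh
      exact (h1 a b ha hb).symm
    have hg := hle (hrefl ▸ Subgroup.mem_top g)
    rw [Subgroup.mem_comap, Subgroup.mem_centralizer_iff] at hg
    exact (hg _ rfl).symm
  have h3 : ∀ g h : isometryGroup F ⇑Q, φ g * φ h = φ h * φ g := by
    intro g h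
    have hle : reflSubgroup Q ≤ (Subgroup.centralizer {φ g}).comap φ := by
      unfold reflSubgroup
      rw [Subgroup.closure_le]
      rintro s ⟨b, hb, rfl⟩
      rw [SetLike.mem_coe, Subgroup.mem_comap, Subgroup.mem_centralizer_iff]
      intro k hk
      rw [Set.mem_singleton_iff] at hk
      subst hk
      exact h2 b hb g
    have hh := hle (hrefl ▸ Subgroup.mem_top h)
    rw [Subgroup.mem_comap, Subgroup.mem_centralizer_iff] at hh
    exact hh _ rfl
  change commutator (isometryGroup F ⇑Q) ≤ siegelGroup Q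
  rw [commutator_def, Subgroup.commutator_le]
  intro g _ h _
  rw [← hker, map_commutatorElement, commutatorElement_eq_one_iff_commute]
  exact h3 g h

/-- (C8) -/
theorem siegelGroup_le_omega (Q : QuadraticForm F (ι → F))
    (hQ : (QuadraticMap.polarBilin Q).Nondegenerate) (hn : 5 ≤ Fintype.card ι) :
    siegelGroup Q ≤ Omega F ⇑Q := by
  unfold siegelGroup
  rw [Subgroup.closure_le]
  rintro g ⟨u, v, c, hu, hv, huv, hg⟩
  obtain ⟨a, b, hua, hva, hub, hvb, hab⟩ := exists_perp_pair_one Q hQ hn u v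
  have hvcb : QuadraticMap.polar ⇑Q v (c • b) = 0 := by
    rw [QuadraticMap.polar_smul_right, hvb, smul_zero]
  have hucb : QuadraticMap.polar ⇑Q u (c • b) = 0 := by
    rw [QuadraticMap.polar_smul_right, hub, smul_zero]
  have key : g * (sgIsom Q hQ v (c • b) hv hvcb * sgIsom Q hQ u a hu hua) =
      sgIsom Q hQ u a hu hua * sgIsom Q hQ v (c • b) hv hvcb := by
    apply isoMat_ext
    rw [isoMat_mul, isoMat_mul, isoMat_mul, isoMat_sgIsom, isoMat_sgIsom,
      sgMatrix_comm Q u v a (c • b) hu hv huv hua hva hucb hvcb, QuadraticMap.polar_smul_right, hab,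
      smul_eq_mul, mul_one]
    rw [show isoMat g = siegelMatrix ⇑Q u v c from hg]
  have e : g = ⁅sgIsom Q hQ u a hu hua, sgIsom Q hQ v (c • b) hv hvcb⁆ := by
    rw [commutatorElement_def, ← key]
    group
  rw [e]
  exact Subgroup.commutator_mem_commutator (Subgroup.mem_top _) (Subgroup.mem_top _)

/-- `Ω(Q)` is generated by the long root elements. -/
theorem omega_eq_siegelGroup (Q : QuadraticForm F (ι → F))
    (hQ : (QuadraticMap.polarBilin Q).Nondegenerate) (fr : HypFrame2 Q) (hn : 5 ≤ Fintype.card ι)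
    (hrefl : reflSubgroup Q = ⊤) : Omega F ⇑Q = siegelGroup Q :=
  le_antisymm (omega_le_siegelGroup Q hQ fr hrefl) (siegelGroup_le_omega Q hQ hn)

end

end Cfsg.Agent.Lib.helper17
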