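import Cfsg.Agent.Lib.helper17.OmGen
import Cfsg.Agent.Lib.helper17.OmFrame

/-!
Large elementary abelian 2-subgroups of `PΩ(Q)` coming from an orthogonal family of vectors of
equal non-zero norm.
-/

set_option autoImplicit false

namespace Cfsg.Agent.Lib.helper17

open Matrix Cfsg Module

/-- In a group generated by pairwise commuting involutions every element squares to one. -/
theorem closure_mul_self_eq_one {G : Type*} [Group G] (S : Set G)
    (hS : ∀ x ∈ S, x * x = 1) (hc : ∀ x ∈ S, ∀ y ∈ S, x * y = y * x) :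
    ∀ x ∈ Subgroup.closure S, x * x = 1 := by
  have h1 : Subgroup.closure S ≤ Subgroup.centralizer S := by
    rw [Subgroup.closure_le]
    intro y hy
    exact Subgroup.mem_centralizer_iff.mpr (fun s hs => hc s hs y hy)
  have h2 : Subgroup.closure S ≤ Subgroup.centralizer (Subgroup.closure S : Set G) := by
    rw [Subgroup.closure_le]
    intro y hy
    refine Subgroup.mem_centralizer_iff.mpr (fun s hs => ?_)
    exact (Subgroup.mem_centralizer_iff.mp (h1 hs) y hy).symm
  intro x hx
  induction hx using Subgroup.closure_induction with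
  | mem x hx => exact hS x hx
  | one => exact mul_one 1
  | mul x y hx hy ihx ihy =>
    have hxy : y * x = x * y := Subgroup.mem_centralizer_iff.mp (h2 hx) y hy
    calc x * y * (x * y) = x * (y * x) * y := by group
      _ = x * (x * y) * y := by rw [hxy]
      _ = (x * x) * (y * y) := by group
      _ = 1 := by rw [ihx, ihy, mul_one]
  | inv x hx ihx =>
    calc x⁻¹ * x⁻¹ = (x * x)⁻¹ := by group
      _ = 1 := by rw [ihx, inv_one]

section
variable {ι : Type} [Fintype ι] [DecidableEq ι] {F : Type*} [Field F]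

theorem reflectionMatrix_comm (Q : QuadraticForm F (ι → F)) (a b : ι → F) (ha : Q a ≠ 0)
    (hab : QuadraticMap.polar ⇑Q a b = 0) :
    reflectionMatrix ⇑Q a * reflectionMatrix ⇑Q b = reflectionMatrix ⇑Q b * reflectionMatrix ⇑Q a := by
  rw [mul_reflectionMatrix Q _ (reflectionMatrix_preserves Q a ha),
    reflectionMatrix_mulVec_of_polar_eq_zero Q a b hab]

theorem reflectionIsom_commute (Q : QuadraticForm F (ι → F)) (a b : ι → F) (ha : Q a ≠ 0) (hb : Q b ≠ 0)
    (hab : QuadraticMap.polar ⇑Q a b = 0) :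
    Commute (reflectionIsom Q a ha) (reflectionIsom Q b hb) := by
  apply isoMat_ext
  exact reflectionMatrix_comm Q a b ha hab

/-- An elementary abelian 2-subgroup of `PΩ(Q)` of rank `|J|` from an orthogonal family
`(v j)_{j ∈ J}, l` of vectors of the same non-zero norm, `|J|` even. -/
theorem exists_elemAb_POmega [Finite F] (h2 : (2 : F) ≠ 0) (Q : QuadraticForm F (ι → F))
    (hQ : (QuadraticMap.polarBilin Q).Nondegenerate) (fr : HypFrame2 Q)
    (hΩ : Omega F ⇑Q = siegelGroup Q)
    {J : Type} [Fintype J] [DecidableEq J] (hJ : Even (Fintype.card J))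
    (v : J → ι → F) (l : ι → F) (δ : F) (hδ : δ ≠ 0) (hv : ∀ i, Q (v i) = δ) (hl : Q l = δ)
    (hvv : ∀ i j, i ≠ j → QuadraticMap.polar ⇑Q (v i) (v j) = 0)
    (hvl : ∀ i, QuadraticMap.polar ⇑Q (v i) l = 0) :
    ∃ H : Subgroup (POmega F ⇑Q), (∀ x ∈ H, x * x = 1) ∧ 2 ^ Fintype.card J ≤ Nat.card H := by
  classical
  have hv0 : ∀ i, Q (v i) ≠ 0 := fun i => by rw [hv]; exact hδ
  have hl0 : Q l ≠ 0 := by rw [hl]; exact hδ
  have hlv : ∀ i, QuadraticMap.polar ⇑Q l (v i) = 0 := fun i => by
    rw [QuadraticMap.polar_comm]; exact hvl i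
  obtain ⟨A, hA⟩ : ∃ A : J → isometryGroup F ⇑Q,
      A = fun i => reflectionIsom Q (v i) (hv0 i) * reflectionIsom Q l hl0 := ⟨_, rfl⟩
  have hAmem : ∀ i, A i ∈ Omega F ⇑Q := by
    intro i
    rw [hΩ, hA]
    exact refl_mul_refl_mem Q hQ fr (v i) l (hv0 i) hl0 (by rw [hl, hv])
  have hAmat : ∀ i, isoMat (A i) = reflectionMatrix ⇑Q (v i) * reflectionMatrix ⇑Q l := by
    intro i
    rw [hA]
    rfl
  have hAv : ∀ i, isoMat (A i) *ᵥ v i = - v i := by
    intro i
    rw [hAmat, ← Matrix.mulVec_mulVec, reflectionMatrix_mulVec_of_polar_eq_zero Q l (v i) (hlv i),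
      reflectionMatrix_mulVec_self Q (v i) (hv0 i)]
  have hAv' : ∀ i j, j ≠ i → isoMat (A i) *ᵥ v j = v j := by
    intro i j hji
    rw [hAmat, ← Matrix.mulVec_mulVec, reflectionMatrix_mulVec_of_polar_eq_zero Q l (v j) (hlv j),
      reflectionMatrix_mulVec_of_polar_eq_zero Q (v i) (v j) (hvv i j (Ne.symm hji))]
  have hAl : ∀ i, isoMat (A i) *ᵥ l = - l := by
    intro i
    rw [hAmat, ← Matrix.mulVec_mulVec, reflectionMatrix_mulVec_self Q l hl0, Matrix.mulVec_neg,
      reflectionMatrix_mulVec_of_polar_eq_zero Q (v i) l (hvl i)]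
  have hRL : ∀ i, Commute (reflectionIsom Q (v i) (hv0 i)) (reflectionIsom Q l hl0) :=
    fun i => reflectionIsom_commute Q _ _ _ _ (hvl i)
  have hRR : ∀ i j, Commute (reflectionIsom Q (v i) (hv0 i)) (reflectionIsom Q (v j) (hv0 j)) := by
    intro i j
    by_cases hij : i = j
    · subst hij
      exact Commute.refl _
    · exact reflectionIsom_commute Q _ _ _ _ (hvv i j hij)
  have hAA : ∀ i, A i * A i = 1 := by
    intro i
    rw [hA]
    beta_reduce
    rw [(hRL i).symm.mul_mul_mul_comm, reflectionIsom_mul_self, reflectionIsom_mul_self, one_mul]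
  have hAc : ∀ i j, A i * A j = A j * A i := by
    intro i j
    rw [hA]
    exact ((hRR i j).mul_right (hRL i)).mul_left ((hRL j).symm.mul_right (Commute.refl _))
  obtain ⟨A', hA'⟩ : ∃ A' : J → ↥(Omega F ⇑Q), A' = fun i => ⟨A i, hAmem i⟩ := ⟨_, rfl⟩
  have hA'coe : ∀ i, ((A' i : ↥(Omega F ⇑Q)) : isometryGroup F ⇑Q) = A i := by
    intro i
    rw [hA']
  obtain ⟨D, hD⟩ : ∃ D : Subgroup ↥(Omega F ⇑Q), D = Subgroup.closure (Set.range A') := ⟨_, rfl⟩
  have hDsq : ∀ x ∈ D, x * x = 1 := by
    rw [hD]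
    apply closure_mul_self_eq_one
    · rintro x ⟨i, rfl⟩
      apply Subtype.ext
      change (A' i : isometryGroup F ⇑Q) * (A' i : isometryGroup F ⇑Q) = 1
      rw [hA'coe]
      exact hAA i
    · rintro x ⟨i, rfl⟩ y ⟨j, rfl⟩
      apply Subtype.ext
      change (A' i : isometryGroup F ⇑Q) * (A' j : isometryGroup F ⇑Q) =
        (A' j : isometryGroup F ⇑Q) * (A' i : isometryGroup F ⇑Q)
      rw [hA'coe, hA'coe]
      exact hAc i j
  refine ⟨D.map (QuotientGroup.mk' _), ?_, ?_⟩
  · rintro x ⟨d, hd, rfl⟩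
    rw [← map_mul, hDsq d hd, map_one]
  · have key : ∀ S : Finset J, ∃ d : ↥(Omega F ⇑Q), d ∈ D ∧
        (∀ j, isoMat (d : isometryGroup F ⇑Q) *ᵥ v j = (if j ∈ S then (-1 : F) else 1) • v j) ∧
        isoMat (d : isometryGroup F ⇑Q) *ᵥ l = ((-1 : F) ^ S.card) • l := by
      intro S
      induction S using Finset.induction_on with
      | empty =>
        refine ⟨1, D.one_mem, fun j => ?_, ?_⟩
        · change (1 : Matrix ι ι F) *ᵥ v j = _
          simp
        · change (1 : Matrix ι ι F) *ᵥ l = _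
          simp
      | insert i S hi ih =>
        obtain ⟨d, hd, hdv, hdl⟩ := ih
        refine ⟨A' i * d, D.mul_mem (by rw [hD]; exact Subgroup.subset_closure ⟨i, rfl⟩) hd,
          fun j => ?_, ?_⟩
        · change (isoMat (A' i : isometryGroup F ⇑Q) * isoMat (d : isometryGroup F ⇑Q)) *ᵥ v j = _
          rw [hA'coe, ← Matrix.mulVec_mulVec, hdv j, Matrix.mulVec_smul]
          by_cases hji : j = i
          · subst hji
            rw [hAv, if_neg hi, if_pos (Finset.mem_insert_self _ _)]
            simp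
          · rw [hAv' i j hji]
            have hmem : (j ∈ insert i S) ↔ j ∈ S := by simp [hji]
            simp only [hmem]
        · change (isoMat (A' i : isometryGroup F ⇑Q) * isoMat (d : isometryGroup F ⇑Q)) *ᵥ l = _
          rw [hA'coe, ← Matrix.mulVec_mulVec, hdl, Matrix.mulVec_smul, hAl,
            Finset.card_insert_of_notMem hi, pow_succ]
          simp
    choose dS hdS hdSv hdSl using key
    have hinj : ∀ S S' : Finset J,
        (QuotientGroup.mk' (Subgroup.center (Omega F ⇑Q))) (dS S) =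
          (QuotientGroup.mk' (Subgroup.center (Omega F ⇑Q))) (dS S') → S ⊆ S' := by
      intro S S' hSS' i hiS
      by_contra hiS'
      have hz : (dS S)⁻¹ * dS S' ∈ Subgroup.center (Omega F ⇑Q) := QuotientGroup.eq.mp hSS'
      obtain ⟨y, ε, hyQ, hy1, hy2, hε⟩ : ∃ (y : ι → F) (ε : F), Q y = δ ∧
          isoMat (dS S : isometryGroup F ⇑Q) *ᵥ y = ε • y ∧
          isoMat (dS S' : isometryGroup F ⇑Q) *ᵥ y = ε • y ∧ ε ≠ 0 := by
        by_cases hj : ∃ j, (j ∈ S ↔ j ∈ S')
        · obtain ⟨j, hj⟩ := hj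
          refine ⟨v j, if j ∈ S then -1 else 1, hv j, hdSv S j, ?_, ?_⟩
          · rw [hdSv S' j]
            simp only [hj]
          · split_ifs
            · exact neg_ne_zero.mpr one_ne_zero
            · exact one_ne_zero
        · push Not at hj
          refine ⟨l, (-1) ^ S.card, hl, hdSl S, ?_, pow_ne_zero _ (neg_ne_zero.mpr one_ne_zero)⟩
          rw [hdSl S']
          congr 1
          have hc : S' = Sᶜ := by
            ext j
            rw [Finset.mem_compl]
            have := hj j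
            tauto
          have hcard : S.card + S'.card = Fintype.card J := by
            rw [hc]
            exact Finset.card_add_card_compl S
          have h1 : (-1 : F) ^ S.card * (-1) ^ S'.card = 1 := by
            rw [← pow_add, hcard]
            exact Even.neg_one_pow hJ
          have h3 : (-1 : F) ^ S.card * (-1) ^ S.card = 1 := by
            rw [← pow_add]
            exact Even.neg_one_pow ⟨_, rfl⟩
          exact mul_left_cancel₀ (pow_ne_zero _ (neg_ne_zero.mpr one_ne_zero)) (h1.trans h3.symm)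
      obtain ⟨g, hg, hgv⟩ := exists_siegel_map_aniso Q hQ fr (v i) y (hv0 i) (by rw [hyQ, hv])
      have hgΩ : g ∈ Omega F ⇑Q := by rw [hΩ]; exact hg
      have hcomm := Subgroup.mem_center_iff.mp hz ⟨g, hgΩ⟩
      have hcomm' : isoMat g * (isoMat ((dS S : isometryGroup F ⇑Q)⁻¹) *
          isoMat (dS S' : isometryGroup F ⇑Q)) =
          isoMat ((dS S : isometryGroup F ⇑Q)⁻¹) * isoMat (dS S' : isometryGroup F ⇑Q) * isoMat g :=
        congrArg (fun x : ↥(Omega F ⇑Q) => isoMat (x : isometryGroup F ⇑Q)) hcomm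
      have e1 := congrArg (fun M => M *ᵥ v i) hcomm'
      beta_reduce at e1
      have hd'vi : isoMat (dS S' : isometryGroup F ⇑Q) *ᵥ v i = v i := by
        rw [hdSv S' i, if_neg hiS', one_smul]
      have hdvi : isoMat (dS S : isometryGroup F ⇑Q) *ᵥ v i = - v i := by
        rw [hdSv S i, if_pos hiS, neg_smul, one_smul]
      have hdinv_vi : isoMat ((dS S : isometryGroup F ⇑Q)⁻¹) *ᵥ v i = - v i := by
        have h3 := isoMat_inv_mulVec (dS S : isometryGroup F ⇑Q) (v i)
        rw [hdvi, Matrix.mulVec_neg] at h3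
        calc isoMat ((dS S : isometryGroup F ⇑Q)⁻¹) *ᵥ v i
            = - - (isoMat ((dS S : isometryGroup F ⇑Q)⁻¹) *ᵥ v i) := (neg_neg _).symm
          _ = - v i := by rw [h3]
      have hdinv_y : isoMat ((dS S : isometryGroup F ⇑Q)⁻¹) *ᵥ y = ε⁻¹ • y := by
        have h3 := isoMat_inv_mulVec (dS S : isometryGroup F ⇑Q) y
        rw [hy1, Matrix.mulVec_smul] at h3
        calc isoMat ((dS S : isometryGroup F ⇑Q)⁻¹) *ᵥ y
            = ε⁻¹ • (ε • (isoMat ((dS S : isometryGroup F ⇑Q)⁻¹) *ᵥ y)) := by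
              rw [smul_smul, inv_mul_cancel₀ hε, one_smul]
          _ = ε⁻¹ • y := by rw [h3]
      simp only [← Matrix.mulVec_mulVec] at e1
      rw [hd'vi, hdinv_vi, Matrix.mulVec_neg, hgv, hy2, Matrix.mulVec_smul, hdinv_y, smul_smul,
        mul_inv_cancel₀ hε, one_smul] at e1
      have hy0 : y = 0 := by
        have h3 : (2 : F) • y = 0 := by
          rw [two_smul]
          nth_rewrite 1 [← e1]
          exact neg_add_cancel y
        exact (smul_eq_zero.mp h3).resolve_left h2
      rw [hy0, map_zero] at hyQ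
      exact hδ hyQ.symm
    obtain ⟨Φ, hΦ⟩ : ∃ Φ : Finset J →
        ↥(D.map (QuotientGroup.mk' (Subgroup.center (Omega F ⇑Q)))),
        Φ = fun S => ⟨QuotientGroup.mk' _ (dS S), Subgroup.mem_map_of_mem _ (hdS S)⟩ := ⟨_, rfl⟩
    have hΦinj : Function.Injective Φ := by
      intro S S' h
      rw [hΦ] at h
      have h' := congrArg Subtype.val h
      exact Finset.Subset.antisymm (hinj S S' h') (hinj S' S h'.symm)
    have hle := Nat.card_le_card_of_injective Φ hΦinj
    rwa [Nat.card_eq_fintype_card, Fintype.card_finset] at hle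

end

end Cfsg.Agent.Lib.helper17
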