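import Cfsg.Agent.Lib.helper17.OmRank
import Cfsg.Agent.Lib.helper49.Forms
import Cfsg.Agent.Lib.helper42.FormsNondeg

/-!
`PΩ_{2m+1}(q)`, `q` odd, contains an elementary abelian 2-subgroup of order at least `2^(2m)`.
-/

set_option autoImplicit false

namespace Cfsg.Agent.Lib.helper17

open Matrix Cfsg Module

open Cfsg.Agent.Lib.helper49 Cfsg.Agent.Lib.helper42 in
/-- the polar form of the odd-dimensional standard form is non-degenerate in odd characteristic -/
theorem oddForm_nondeg17 {F : Type*} [Field F] (h2 : (2 : F) ≠ 0) (m : ℕ) :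
    (QuadraticMap.polarBilin (oddForm m F)).Nondegenerate := by
  have h1 : QuadraticMap.polarBilin (oddForm m F) = Matrix.toBilin' (gramOdd m F) := by
    refine LinearMap.ext₂ (fun u v => ?_)
    rw [QuadraticMap.polarBilin_apply_apply, oddForm_coe, polar_quadFormOdd]
  rw [h1]
  apply (Matrix.nondegenerate_toBilin'_iff).mpr
  rw [Matrix.nondegenerate_iff_det_ne_zero, gramOdd, Matrix.det_fromBlocks_zero₂₁]
  refine mul_ne_zero ?_ (det_gramPlus_ne_zero m)
  rw [Matrix.det_unique]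
  exact h2

theorem two_ne_zero_of_odd_card {F : Type*} [Field F] [Fintype F] (hodd : Odd (Fintype.card F)) :
    (2 : F) ≠ 0 := by
  apply Ring.two_ne_zero
  intro hchar
  have := FiniteField.even_card_of_char_two hchar
  rcases hodd with ⟨t, ht⟩
  omega

/-- An orthogonal family of `2m+1` vectors of the same non-zero norm, for a non-degenerate
quadratic form in dimension `2m+1` over a finite field of odd characteristic. -/
theorem exists_equal_norm_family {F : Type*} [Field F] [Fintype F] (h2 : (2 : F) ≠ 0) (m : ℕ)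
    {V : Type*} [AddCommGroup V] [Module F V] [FiniteDimensional F V] (hV : finrank F V = 2 * m + 1)
    (Q : QuadraticForm F V) (hQ : (QuadraticMap.polarBilin Q).Nondegenerate) :
    ∃ (v : Fin m ⊕ Fin m → V) (l : V) (δ : F), δ ≠ 0 ∧ (∀ i, Q (v i) = δ) ∧ Q l = δ ∧
      (∀ i j, i ≠ j → QuadraticMap.polar ⇑Q (v i) (v j) = 0) ∧
      (∀ i, QuadraticMap.polar ⇑Q (v i) l = 0) := by
  classical
  obtain ⟨b, hb1, hb2⟩ := Cfsg.Agent.Lib.helper49.exists_normal_basis h2 (2 * m) hV Q hQ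
  obtain ⟨δ, hδdef⟩ : ∃ δ, δ = Q (b (Fin.last (2 * m))) := ⟨_, rfl⟩
  have hδ : δ ≠ 0 := by
    intro h0
    apply b.ne_zero (Fin.last (2 * m))
    apply hQ.1
    intro y
    have hlin : QuadraticMap.polarBilin Q (b (Fin.last (2 * m))) = 0 := by
      apply b.ext
      intro j
      rw [QuadraticMap.polarBilin_apply_apply, LinearMap.zero_apply]
      by_cases hj : Fin.last (2 * m) = j
      · rw [← hj, QuadraticMap.polar_self, ← hδdef, h0, smul_zero]
      · exact hb1 _ _ hj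
    rw [hlin, LinearMap.zero_apply]
  obtain ⟨α, β, hαβ⟩ := exists_sq_add_sq_eq_one h2 δ⁻¹ δ⁻¹ (inv_ne_zero hδ) (inv_ne_zero hδ)
  have hαβ' : α ^ 2 + β ^ 2 = δ := by
    have : δ * (δ⁻¹ * α ^ 2 + δ⁻¹ * β ^ 2) = δ * 1 := by rw [hαβ]
    rw [mul_add, ← mul_assoc, ← mul_assoc, mul_inv_cancel₀ hδ, one_mul, one_mul, mul_one] at this
    exact this
  obtain ⟨e0, he0⟩ : ∃ e0 : Fin m → Fin (2 * m + 1), ∀ j, (e0 j : ℕ) = 2 * (j : ℕ) :=
    ⟨fun j => ⟨2 * (j : ℕ), by have := j.2; omega⟩, fun j => rfl⟩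
  obtain ⟨e1, he1⟩ : ∃ e1 : Fin m → Fin (2 * m + 1), ∀ j, (e1 j : ℕ) = 2 * (j : ℕ) + 1 :=
    ⟨fun j => ⟨2 * (j : ℕ) + 1, by have := j.2; omega⟩, fun j => rfl⟩
  have hne0 : ∀ j, e0 j ≠ Fin.last (2 * m) := by
    intro j h
    have h' := congrArg Fin.val h
    rw [he0, Fin.val_last] at h'
    have := j.2
    omega
  have hne1 : ∀ j, e1 j ≠ Fin.last (2 * m) := by
    intro j h
    have h' := congrArg Fin.val h
    rw [he1, Fin.val_last] at h'
    have := j.2
    omega
  have h00 : ∀ j j', j ≠ j' → e0 j ≠ e0 j' := by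
    intro j j' hjj' h
    have h' := congrArg Fin.val h
    rw [he0, he0] at h'
    exact hjj' (Fin.ext (by omega))
  have h11 : ∀ j j', j ≠ j' → e1 j ≠ e1 j' := by
    intro j j' hjj' h
    have h' := congrArg Fin.val h
    rw [he1, he1] at h'
    exact hjj' (Fin.ext (by omega))
  have h01 : ∀ j j', e0 j ≠ e1 j' := by
    intro j j' h
    have h' := congrArg Fin.val h
    rw [he0, he1] at h'
    omega
  have h10 : ∀ j j', e1 j ≠ e0 j' := fun j j' h => h01 j' j h.symm
  have hQ0 : ∀ j, Q (b (e0 j)) = 1 := fun j => hb2 _ (hne0 j)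
  have hQ1 : ∀ j, Q (b (e1 j)) = 1 := fun j => hb2 _ (hne1 j)
  have hpol : ∀ (a₁ a₂ c₁ c₂ : F) (j j' : Fin m), j ≠ j' →
      QuadraticMap.polar ⇑Q (a₁ • b (e0 j) + a₂ • b (e1 j)) (c₁ • b (e0 j') + c₂ • b (e1 j')) = 0 := by
    intro a₁ a₂ c₁ c₂ j j' hjj'
    simp only [QuadraticMap.polar_add_left, QuadraticMap.polar_add_right,
      QuadraticMap.polar_smul_left, QuadraticMap.polar_smul_right]
    rw [hb1 _ _ (h00 j j' hjj'), hb1 _ _ (h01 j j'), hb1 _ _ (h10 j j'), hb1 _ _ (h11 j j' hjj')]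
    simp
  have hpol' : ∀ (j : Fin m),
      QuadraticMap.polar ⇑Q (α • b (e0 j) + β • b (e1 j)) ((-β) • b (e0 j) + α • b (e1 j)) = 0 := by
    intro j
    simp only [QuadraticMap.polar_add_left, QuadraticMap.polar_add_right,
      QuadraticMap.polar_smul_left, QuadraticMap.polar_smul_right]
    rw [hb1 _ _ (h01 j j), hb1 _ _ (h10 j j), QuadraticMap.polar_self, QuadraticMap.polar_self,
      hQ0, hQ1]
    simp only [smul_eq_mul, nsmul_eq_mul]
    ring
  have hnorm : ∀ (a c : F) (j : Fin m), Q (a • b (e0 j) + c • b (e1 j)) = a ^ 2 + c ^ 2 := by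
    intro a c j
    rw [QuadraticMap.map_add (⇑Q), QuadraticMap.map_smul, QuadraticMap.map_smul,
      QuadraticMap.polar_smul_left, QuadraticMap.polar_smul_right, hb1 _ _ (h01 j j), hQ0, hQ1]
    simp only [smul_eq_mul]
    ring
  have hpl : ∀ (a c : F) (j : Fin m),
      QuadraticMap.polar ⇑Q (a • b (e0 j) + c • b (e1 j)) (b (Fin.last (2 * m))) = 0 := by
    intro a c j
    rw [QuadraticMap.polar_add_left, QuadraticMap.polar_smul_left, QuadraticMap.polar_smul_left,
      hb1 _ _ (hne0 j), hb1 _ _ (hne1 j)]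
    simp
  refine ⟨fun i => Sum.elim (fun j => α • b (e0 j) + β • b (e1 j))
    (fun j => (-β) • b (e0 j) + α • b (e1 j)) i, b (Fin.last (2 * m)), δ, hδ, ?_, hδdef.symm, ?_, ?_⟩
  · rintro (j | j)
    · change Q (α • b (e0 j) + β • b (e1 j)) = δ
      rw [hnorm, hαβ']
    · change Q ((-β) • b (e0 j) + α • b (e1 j)) = δ
      rw [hnorm, ← hαβ']
      ring
  · rintro (j | j) (j' | j') hjj'
    · exact hpol _ _ _ _ j j' (fun h => hjj' (by rw [h]))
    · change QuadraticMap.polar ⇑Q (α • b (e0 j) + β • b (e1 j)) ((-β) • b (e0 j') + α • b (e1 j')) = 0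
      by_cases h : j = j'
      · subst h
        exact hpol' j
      · exact hpol _ _ _ _ j j' h
    · change QuadraticMap.polar ⇑Q ((-β) • b (e0 j) + α • b (e1 j)) (α • b (e0 j') + β • b (e1 j')) = 0
      by_cases h : j = j'
      · subst h
        rw [QuadraticMap.polar_comm]
        exact hpol' j
      · exact hpol _ _ _ _ j j' h
    · exact hpol _ _ _ _ j j' (fun h => hjj' (by rw [h]))
  · rintro (j | j)
    · exact hpl _ _ j
    · exact hpl _ _ j

/-- `PΩ_{2m+1}(q)`, `q` odd, `m ≥ 2`, has an elementary abelian 2-subgroup of order at least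
`2^(2m)`. -/
theorem exists_elemAb_POmega_odd {F : Type*} [Field F] [Fintype F] (h2 : (2 : F) ≠ 0) (m : ℕ)
    (hm : 2 ≤ m) :
    ∃ H : Subgroup (POmega F (quadFormOdd m F)), (∀ x ∈ H, x * x = 1) ∧ 2 ^ (2 * m) ≤ Nat.card H := by
  classical
  have hQ := oddForm_nondeg17 h2 m
  have hcard : Fintype.card (Unit ⊕ (Fin m ⊕ Fin m)) = 2 * m + 1 := by
    simp only [Fintype.card_sum, Fintype.card_fin, Fintype.card_unit]
    omega
  obtain ⟨fr⟩ := exists_hypFrame2_odd h2 (Cfsg.Agent.Lib.helper49.oddForm m F) hQ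
    (by rw [hcard]; omega)
  have hΩ := omega_eq_siegelGroup (Cfsg.Agent.Lib.helper49.oddForm m F) hQ fr
    (by rw [hcard]; omega) (reflSubgroup_eq_top h2 _ hQ)
  obtain ⟨v, l, δ, hδ, hv, hl, hvv, hvl⟩ := exists_equal_norm_family h2 m
    (V := Unit ⊕ (Fin m ⊕ Fin m) → F) (by rw [Module.finrank_fintype_fun_eq_card, hcard])
    (Cfsg.Agent.Lib.helper49.oddForm m F) hQ
  obtain ⟨H, hH1, hH2⟩ := exists_elemAb_POmega h2 (Cfsg.Agent.Lib.helper49.oddForm m F) hQ fr hΩ
    (J := Fin m ⊕ Fin m) (by rw [Fintype.card_sum, Fintype.card_fin]; exact ⟨m, rfl⟩)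
    v l δ hδ hv hl hvv hvl
  refine ⟨H, hH1, ?_⟩
  rwa [Fintype.card_sum, Fintype.card_fin, ← two_mul] at hH2

end Cfsg.Agent.Lib.helper17
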