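import Cfsg.Agent.Lib.helper17.Quad3

/-!
General Siegel transformations `x ↦ x + f(u,x) v - (f(v,x) + Q(v) f(u,x)) u` (`u` singular, `v ⊥ u`) of a quadratic
form, their algebra, and the subgroup of the isometry group generated by the long root elements
(`Cfsg.siegelMatrix` with both vectors singular).
-/

set_option autoImplicit false

namespace Cfsg.Agent.Lib.helper17

open Matrix Cfsg

/-- The closure of a conjugation invariant set is a normal subgroup. -/
theorem closure_normal_of_conj {G : Type*} [Group G] (S : Set G)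
    (h : ∀ g s, s ∈ S → g * s * g⁻¹ ∈ S) : (Subgroup.closure S).Normal := by
  constructor
  intro n hn g
  have hle : Subgroup.closure S ≤ (Subgroup.closure S).comap (MulAut.conj g).toMonoidHom := by
    rw [Subgroup.closure_le]
    intro s hs
    exact Subgroup.subset_closure (h g s hs)
  exact hle hn

section
variable {ι : Type} [Fintype ι] [DecidableEq ι] {F : Type*} [Field F]

/-- The matrix of an element of the isometry group. -/
abbrev isoMat {Q : (ι → F) → F} (g : isometryGroup F Q) : Matrix ι ι F :=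
  ((g : Matrix.GeneralLinearGroup ι F) : Matrix ι ι F)

theorem isoMat_mul {Q : (ι → F) → F} (g h : isometryGroup F Q) : isoMat (g * h) = isoMat g * isoMat h :=
  rfl

theorem isoMat_one {Q : (ι → F) → F} : isoMat (1 : isometryGroup F Q) = 1 := rfl

theorem isoMat_mul_inv {Q : (ι → F) → F} (g : isometryGroup F Q) : isoMat g * isoMat g⁻¹ = 1 := by
  rw [← isoMat_mul, mul_inv_cancel, isoMat_one]

theorem isoMat_inv_mul {Q : (ι → F) → F} (g : isometryGroup F Q) : isoMat g⁻¹ * isoMat g = 1 := by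
  rw [← isoMat_mul, inv_mul_cancel, isoMat_one]

theorem isoMat_ext {Q : (ι → F) → F} {g h : isometryGroup F Q} (e : isoMat g = isoMat h) : g = h :=
  Subtype.ext (Units.ext e)

theorem isoMat_preserves {Q : (ι → F) → F} (g : isometryGroup F Q) (x : ι → F) :
    Q (isoMat g *ᵥ x) = Q x :=
  (mem_isometryGroup_iff _ _).mp g.2 x

theorem isoMat_inv_mulVec {Q : (ι → F) → F} (g : isometryGroup F Q) (x : ι → F) :
    isoMat g⁻¹ *ᵥ (isoMat g *ᵥ x) = x := by
  rw [Matrix.mulVec_mulVec, isoMat_inv_mul, Matrix.one_mulVec]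

theorem isoMat_mulVec_inv {Q : (ι → F) → F} (g : isometryGroup F Q) (x : ι → F) :
    isoMat g *ᵥ (isoMat g⁻¹ *ᵥ x) = x := by
  rw [Matrix.mulVec_mulVec, isoMat_mul_inv, Matrix.one_mulVec]

theorem isoMat_polar (Q : QuadraticForm F (ι → F)) (g : isometryGroup F ⇑Q) (x y : ι → F) :
    QuadraticMap.polar ⇑Q (isoMat g *ᵥ x) (isoMat g *ᵥ y) = QuadraticMap.polar ⇑Q x y :=
  polar_mulVec_of_isometry Q _ (isoMat_preserves g) x y

/-- General Siegel matrix. -/
def sgMatrix (Q : (ι → F) → F) (u v : ι → F) : Matrix ι ι F :=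
  1 + (Matrix.vecMulVec v (polarVec Q u) - Matrix.vecMulVec u (polarVec Q v)
        - Q v • Matrix.vecMulVec u (polarVec Q u))

theorem sgMatrix_mulVec (Q : QuadraticForm F (ι → F)) (u v x : ι → F) :
    sgMatrix ⇑Q u v *ᵥ x = x + (QuadraticMap.polar ⇑Q u x • v
      + (-(QuadraticMap.polar ⇑Q v x + Q v * QuadraticMap.polar ⇑Q u x)) • u) := by
  unfold sgMatrix
  rw [Matrix.add_mulVec, Matrix.one_mulVec, Matrix.sub_mulVec, Matrix.sub_mulVec, Matrix.smul_mulVec,
    Matrix.vecMulVec_mulVec, Matrix.vecMulVec_mulVec, Matrix.vecMulVec_mulVec, polarVec_dot, polarVec_dot]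
  simp only [op_smul_eq_smul, smul_smul]
  module

theorem sgMatrix_preserves (Q : QuadraticForm F (ι → F)) (u v : ι → F) (hu : Q u = 0)
    (huv : QuadraticMap.polar ⇑Q u v = 0) (x : ι → F) : Q (sgMatrix ⇑Q u v *ᵥ x) = Q x := by
  rw [sgMatrix_mulVec, quad_add_smul_add_smul, hu, QuadraticMap.polar_comm (⇑Q) v u, huv,
    QuadraticMap.polar_comm (⇑Q) x v, QuadraticMap.polar_comm (⇑Q) x u]
  ring

theorem sgMatrix_mul (Q : QuadraticForm F (ι → F)) (u v w : ι → F) (hu : Q u = 0)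
    (huv : QuadraticMap.polar ⇑Q u v = 0) (huw : QuadraticMap.polar ⇑Q u w = 0) :
    sgMatrix ⇑Q u v * sgMatrix ⇑Q u w = sgMatrix ⇑Q u (v + w) := by
  have huu : QuadraticMap.polar ⇑Q u u = 0 := by rw [QuadraticMap.polar_self, hu, smul_zero]
  have hvu : QuadraticMap.polar ⇑Q v u = 0 := by rw [QuadraticMap.polar_comm]; exact huv
  rw [Matrix.ext_iff_mulVec]
  intro x
  rw [← Matrix.mulVec_mulVec, sgMatrix_mulVec Q u w x, sgMatrix_mulVec Q u (v + w) x, sgMatrix_mulVec]
  simp only [QuadraticMap.polar_add_right, QuadraticMap.polar_smul_right, QuadraticMap.polar_add_left,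
    QuadraticMap.map_add (⇑Q) v w, huu, huv, huw, hvu, smul_eq_mul, mul_zero, add_zero]
  module

theorem sgMatrix_zero (Q : QuadraticForm F (ι → F)) (u : ι → F) : sgMatrix ⇑Q u 0 = 1 := by
  rw [Matrix.ext_iff_mulVec]
  intro x
  rw [sgMatrix_mulVec, Matrix.one_mulVec]
  simp

theorem sgMatrix_zero_left (Q : QuadraticForm F (ι → F)) (v : ι → F) : sgMatrix ⇑Q 0 v = 1 := by
  rw [Matrix.ext_iff_mulVec]
  intro x
  rw [sgMatrix_mulVec, Matrix.one_mulVec]
  simp

/-- Conjugating a Siegel matrix by an isometry. -/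
theorem mul_sgMatrix (Q : QuadraticForm F (ι → F)) (G : Matrix ι ι F) (hG : ∀ x, Q (G *ᵥ x) = Q x)
    (u v : ι → F) : G * sgMatrix ⇑Q u v = sgMatrix ⇑Q (G *ᵥ u) (G *ᵥ v) * G := by
  rw [Matrix.ext_iff_mulVec]
  intro x
  rw [← Matrix.mulVec_mulVec, ← Matrix.mulVec_mulVec, sgMatrix_mulVec, sgMatrix_mulVec,
    polar_mulVec_of_isometry Q G hG, polar_mulVec_of_isometry Q G hG, hG, Matrix.mulVec_add,
    Matrix.mulVec_add, Matrix.mulVec_smul, Matrix.mulVec_smul]

theorem mul_siegelMatrix (Q : QuadraticForm F (ι → F)) (G : Matrix ι ι F) (hG : ∀ x, Q (G *ᵥ x) = Q x)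
    (u v : ι → F) (c : F) : G * siegelMatrix ⇑Q u v c = siegelMatrix ⇑Q (G *ᵥ u) (G *ᵥ v) c * G := by
  rw [Matrix.ext_iff_mulVec]
  intro x
  rw [← Matrix.mulVec_mulVec, ← Matrix.mulVec_mulVec, siegelMatrix_mulVec, siegelMatrix_mulVec,
    polar_mulVec_of_isometry Q G hG, polar_mulVec_of_isometry Q G hG, Matrix.mulVec_add,
    Matrix.mulVec_add, Matrix.mulVec_smul, Matrix.mulVec_smul]

theorem mul_reflectionMatrix (Q : QuadraticForm F (ι → F)) (G : Matrix ι ι F)
    (hG : ∀ x, Q (G *ᵥ x) = Q x) (a : ι → F) :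
    G * reflectionMatrix ⇑Q a = reflectionMatrix ⇑Q (G *ᵥ a) * G := by
  rw [Matrix.ext_iff_mulVec]
  intro x
  rw [← Matrix.mulVec_mulVec, ← Matrix.mulVec_mulVec, reflectionMatrix_mulVec, reflectionMatrix_mulVec,
    polar_mulVec_of_isometry Q G hG, hG, Matrix.mulVec_add, Matrix.mulVec_smul]

/-- A Siegel matrix with singular second vector is a long root element. -/
theorem sgMatrix_smul_eq_siegel (Q : QuadraticForm F (ι → F)) (u e : ι → F) (c : F) (he : Q e = 0) :
    sgMatrix ⇑Q u (c • e) = siegelMatrix ⇑Q u e c := by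
  rw [Matrix.ext_iff_mulVec]
  intro x
  rw [sgMatrix_mulVec, siegelMatrix_mulVec, QuadraticMap.map_smul, he, QuadraticMap.polar_smul_left]
  simp only [smul_eq_mul, mul_zero, zero_mul, add_zero]
  module

theorem sgMatrix_eq_siegel (Q : QuadraticForm F (ι → F)) (u e : ι → F) (he : Q e = 0) :
    sgMatrix ⇑Q u e = siegelMatrix ⇑Q u e 1 := by
  have := sgMatrix_smul_eq_siegel Q u e 1 he
  rwa [one_smul] at this

theorem sgMatrix_smul_left (Q : QuadraticForm F (ι → F)) (u v : ι → F) (t : F) :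
    sgMatrix ⇑Q (t • u) v = sgMatrix ⇑Q u (t • v) := by
  rw [Matrix.ext_iff_mulVec]
  intro x
  rw [sgMatrix_mulVec, sgMatrix_mulVec, QuadraticMap.map_smul, QuadraticMap.polar_smul_left,
    QuadraticMap.polar_smul_left]
  simp only [smul_eq_mul]
  module

/-- The commutator relation between Siegel matrices. -/
theorem sgMatrix_comm (Q : QuadraticForm F (ι → F)) (u v a b : ι → F) (hu : Q u = 0) (hv : Q v = 0)
    (huv : QuadraticMap.polar ⇑Q u v = 0) (hua : QuadraticMap.polar ⇑Q u a = 0)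
    (hva : QuadraticMap.polar ⇑Q v a = 0) (hub : QuadraticMap.polar ⇑Q u b = 0)
    (hvb : QuadraticMap.polar ⇑Q v b = 0) :
    sgMatrix ⇑Q u a * sgMatrix ⇑Q v b =
      siegelMatrix ⇑Q u v (QuadraticMap.polar ⇑Q a b) * (sgMatrix ⇑Q v b * sgMatrix ⇑Q u a) := by
  have huu : QuadraticMap.polar ⇑Q u u = 0 := by rw [QuadraticMap.polar_self, hu, smul_zero]
  have hvv : QuadraticMap.polar ⇑Q v v = 0 := by rw [QuadraticMap.polar_self, hv, smul_zero]
  have hvu : QuadraticMap.polar ⇑Q v u = 0 := by rw [QuadraticMap.polar_comm]; exact huv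
  have hau : QuadraticMap.polar ⇑Q a u = 0 := by rw [QuadraticMap.polar_comm]; exact hua
  have hav : QuadraticMap.polar ⇑Q a v = 0 := by rw [QuadraticMap.polar_comm]; exact hva
  have hbu : QuadraticMap.polar ⇑Q b u = 0 := by rw [QuadraticMap.polar_comm]; exact hub
  have hbv : QuadraticMap.polar ⇑Q b v = 0 := by rw [QuadraticMap.polar_comm]; exact hvb
  have hba : QuadraticMap.polar ⇑Q b a = QuadraticMap.polar ⇑Q a b := QuadraticMap.polar_comm _ _ _
  rw [Matrix.ext_iff_mulVec]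
  intro x
  rw [← Matrix.mulVec_mulVec, ← Matrix.mulVec_mulVec, ← Matrix.mulVec_mulVec, sgMatrix_mulVec Q v b x,
    sgMatrix_mulVec Q u a x, sgMatrix_mulVec, sgMatrix_mulVec, siegelMatrix_mulVec]
  simp only [QuadraticMap.polar_add_right, QuadraticMap.polar_smul_right, huu, hvv, huv, hvu, hua, hva,
    hub, hvb, hau, hav, hbu, hbv, hba, smul_eq_mul, mul_zero, add_zero, zero_add]
  module

/-- The Siegel transformation as an element of the isometry group. -/
noncomputable def sgIsom (Q : QuadraticForm F (ι → F)) (hQ : (QuadraticMap.polarBilin Q).Nondegenerate)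
    (u v : ι → F) (hu : Q u = 0) (huv : QuadraticMap.polar ⇑Q u v = 0) : isometryGroup F ⇑Q :=
  isomOfMatrix Q hQ (sgMatrix ⇑Q u v) (sgMatrix_preserves Q u v hu huv)

theorem isoMat_sgIsom (Q : QuadraticForm F (ι → F)) (hQ : (QuadraticMap.polarBilin Q).Nondegenerate)
    (u v : ι → F) (hu : Q u = 0) (huv : QuadraticMap.polar ⇑Q u v = 0) :
    isoMat (sgIsom Q hQ u v hu huv) = sgMatrix ⇑Q u v := rfl

/-- The set of long root elements. -/
def siegelSet (Q : QuadraticForm F (ι → F)) : Set (isometryGroup F ⇑Q) :=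
  {g | ∃ (u v : ι → F) (c : F), Q u = 0 ∧ Q v = 0 ∧ QuadraticMap.polar ⇑Q u v = 0 ∧
      ((g : Matrix.GeneralLinearGroup ι F) : Matrix ι ι F) = siegelMatrix ⇑Q u v c}

/-- The subgroup generated by the long root elements. -/
def siegelGroup (Q : QuadraticForm F (ι → F)) : Subgroup (isometryGroup F ⇑Q) :=
  Subgroup.closure (siegelSet Q)

theorem siegelSet_conj (Q : QuadraticForm F (ι → F)) (g s : isometryGroup F ⇑Q) (hs : s ∈ siegelSet Q) :
    g * s * g⁻¹ ∈ siegelSet Q := by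
  obtain ⟨u, v, c, hu, hv, huv, hs⟩ := hs
  refine ⟨isoMat g *ᵥ u, isoMat g *ᵥ v, c, (isoMat_preserves g u).trans hu,
    (isoMat_preserves g v).trans hv, by rw [isoMat_polar]; exact huv, ?_⟩
  change isoMat g * isoMat s * isoMat g⁻¹ = _
  rw [show isoMat s = siegelMatrix ⇑Q u v c from hs, mul_siegelMatrix Q _ (isoMat_preserves g),
    Matrix.mul_assoc, isoMat_mul_inv, Matrix.mul_one]

instance siegelGroup_normal (Q : QuadraticForm F (ι → F)) : (siegelGroup Q).Normal :=
  closure_normal_of_conj _ (siegelSet_conj Q)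

theorem sgIsom_mem_of_singular (Q : QuadraticForm F (ι → F))
    (hQ : (QuadraticMap.polarBilin Q).Nondegenerate) (u v : ι → F) (hu : Q u = 0)
    (huv : QuadraticMap.polar ⇑Q u v = 0) (hv : Q v = 0) : sgIsom Q hQ u v hu huv ∈ siegelGroup Q :=
  Subgroup.subset_closure ⟨u, v, 1, hu, hv, huv, sgMatrix_eq_siegel Q u v hv⟩

end

end Cfsg.Agent.Lib.helper17
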