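import Cfsg.Agent.Lib.helper17.CartanDieudonne

/-!
The isometry `hypMatrix Q u u' a` scaling a hyperbolic pair: `u ↦ a u`, `u' ↦ a⁻¹ u'`, identity on `⟨u, u'⟩^⊥`.
-/

set_option autoImplicit false

namespace Cfsg.Agent.Lib.helper17

open Matrix Cfsg

section
variable {ι : Type} [Fintype ι] [DecidableEq ι] {F : Type*} [Field F]

/-- The matrix of `x ↦ x + (a-1) f(u',x) u + (a⁻¹-1) f(u,x) u'`. -/
def hypMatrix (Q : (ι → F) → F) (u u' : ι → F) (a : F) : Matrix ι ι F :=
  1 + ((a - 1) • Matrix.vecMulVec u (polarVec Q u') + (a⁻¹ - 1) • Matrix.vecMulVec u' (polarVec Q u))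

theorem hypMatrix_mulVec (Q : QuadraticForm F (ι → F)) (u u' : ι → F) (a : F) (x : ι → F) :
    hypMatrix ⇑Q u u' a *ᵥ x =
      x + (((a - 1) * QuadraticMap.polar ⇑Q u' x) • u + ((a⁻¹ - 1) * QuadraticMap.polar ⇑Q u x) • u') := by
  unfold hypMatrix
  rw [Matrix.add_mulVec, Matrix.one_mulVec, Matrix.add_mulVec, Matrix.smul_mulVec, Matrix.smul_mulVec,
    Matrix.vecMulVec_mulVec, Matrix.vecMulVec_mulVec, polarVec_dot, polarVec_dot]
  simp only [op_smul_eq_smul, smul_smul]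

theorem hypMatrix_preserves (Q : QuadraticForm F (ι → F)) (u u' : ι → F) (hu : Q u = 0) (hu' : Q u' = 0)
    (huu' : QuadraticMap.polar ⇑Q u u' = 1) (a : F) (ha : a ≠ 0) (x : ι → F) :
    Q (hypMatrix ⇑Q u u' a *ᵥ x) = Q x := by
  rw [hypMatrix_mulVec, quad_add_smul_add_smul, hu, hu', huu', QuadraticMap.polar_comm (⇑Q) x u,
    QuadraticMap.polar_comm (⇑Q) x u']
  field_simp
  ring

theorem hypMatrix_mulVec_left (Q : QuadraticForm F (ι → F)) (u u' : ι → F) (hu : Q u = 0)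
    (huu' : QuadraticMap.polar ⇑Q u u' = 1) (a : F) :
    hypMatrix ⇑Q u u' a *ᵥ u = a • u := by
  rw [hypMatrix_mulVec, QuadraticMap.polar_comm (⇑Q) u' u, huu', QuadraticMap.polar_self, hu]
  simp only [smul_zero, mul_zero, zero_smul, add_zero, mul_one]
  rw [sub_smul, one_smul]
  abel

theorem hypMatrix_mulVec_of_orth (Q : QuadraticForm F (ι → F)) (u u' : ι → F) (a : F) (v : ι → F)
    (hv : QuadraticMap.polar ⇑Q u v = 0) (hv' : QuadraticMap.polar ⇑Q u' v = 0) :
    hypMatrix ⇑Q u u' a *ᵥ v = v := by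
  rw [hypMatrix_mulVec, hv, hv']
  simp

/-- An invertible-matrix isometry packaged as an element of the isometry group (non-degenerate `Q`). -/
noncomputable def isomOfMatrix (Q : QuadraticForm F (ι → F))
    (hQ : (QuadraticMap.polarBilin Q).Nondegenerate) (G : Matrix ι ι F) (hG : ∀ x, Q (G *ᵥ x) = Q x) :
    isometryGroup F ⇑Q :=
  ⟨Matrix.GeneralLinearGroup.mkOfDetNeZero G (by
      rcases det_eq_one_or_neg_one_of_isometry Q hQ G hG with h | h
      · rw [h]; exact one_ne_zero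
      · rw [h]; exact neg_ne_zero.mpr one_ne_zero),
    (mem_isometryGroup_iff _ _).mpr hG⟩

theorem isomOfMatrix_coe (Q : QuadraticForm F (ι → F))
    (hQ : (QuadraticMap.polarBilin Q).Nondegenerate) (G : Matrix ι ι F) (hG : ∀ x, Q (G *ᵥ x) = Q x) :
    ((isomOfMatrix Q hQ G hG : Matrix.GeneralLinearGroup ι F) : Matrix ι ι F) = G := rfl

end

end Cfsg.Agent.Lib.helper17
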