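/-
helper17: orthogonal decompositions into non-degenerate blocks of dimension `k ≥ 3` of a quadratic
space over a finite field of odd characteristic: basic geometry (components, hyperbolic pairs in
blocks, vectors of prescribed norm).
-/
import Mathlib
import Cfsg.Prelude.Def_Classical
import Cfsg.Prelude.Def_ClassicalGeometry
import Cfsg.Prelude.Def_GeometricClasses
import Cfsg.Agent.Lib.helper49.NondegStab

set_option autoImplicit false
set_option linter.unusedSectionVars false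

namespace Cfsg.Agent.Lib.helper17

open Matrix Module
open Cfsg.Agent.Lib.helper49

section ODBasics

variable {F : Type*} [Field F] [Fintype F] {ι : Type} [Fintype ι] [DecidableEq ι]

/-- Orthogonal decomposition into non-degenerate, pairwise isometric blocks of dimension `k ≥ 3`. -/
structure OD (Q : QuadraticForm F (ι → F)) {t : ℕ} (k : ℕ) (D : Fin t → Submodule F (ι → F)) : Prop where
  orth : ∀ i j, i ≠ j → ∀ u ∈ D i, ∀ v ∈ D j, QuadraticMap.polar Q u v = 0
  nondeg : ∀ i, ∀ u ∈ D i, u ≠ 0 → ∃ v ∈ D i, QuadraticMap.polar Q u v ≠ 0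
  comp : ∀ x : ι → F, ∃ c : Fin t → ι → F, (∀ b, c b ∈ D b) ∧ x = ∑ b, c b
  fr : ∀ i, finrank F (D i) = k
  three : 3 ≤ k
  iso : ∀ i j, ∃ e : D i ≃ₗ[F] D j, ∀ w : D i, Q (e w : ι → F) = Q (w : ι → F)
  nd : (QuadraticMap.polarBilin Q).Nondegenerate
  two : (2 : F) ≠ 0

omit [Fintype F] [DecidableEq ι] in
theorem od_polar_self (Q : QuadraticForm F (ι → F)) (x : ι → F) :
    QuadraticMap.polar Q x x = 2 * Q x := by
  rw [QuadraticMap.polar_self]
  simp

omit [Fintype F] [DecidableEq ι] in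
theorem od_Q_sub (Q : QuadraticForm F (ι → F)) (a b : ι → F) :
    Q (a - b) = Q a + Q b - QuadraticMap.polar Q a b := by
  rw [sub_eq_add_neg, QuadraticMap.map_add Q, QuadraticMap.map_neg, QuadraticMap.polar_neg_right]
  ring

omit [Fintype F] [DecidableEq ι] in
theorem od_Q_add_smul (Q : QuadraticForm F (ι → F)) (a b : ι → F) (s r : F) :
    Q (s • a + r • b) = s * s * Q a + r * r * Q b + s * r * QuadraticMap.polar Q a b := by
  rw [QuadraticMap.map_add Q, QuadraticMap.map_smul, QuadraticMap.map_smul, QuadraticMap.polar_smul_left,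
    QuadraticMap.polar_smul_right]
  simp only [smul_eq_mul]
  ring

omit [Fintype F] [DecidableEq ι] in
/-- A non-degenerate non-zero subspace contains a non-singular vector. -/
theorem od_exists_nonsing (Q : QuadraticForm F (ι → F)) (T : Submodule F (ι → F))
    (hnd : ∀ w ∈ T, (∀ w' ∈ T, QuadraticMap.polar Q w w' = 0) → w = 0) (hT : T ≠ ⊥) :
    ∃ u ∈ T, Q u ≠ 0 := by
  obtain ⟨z, hzT, hz0⟩ := Submodule.exists_mem_ne_zero_of_ne_bot hT
  by_cases hQz : Q z = 0
  swap
  · exact ⟨z, hzT, hQz⟩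
  obtain ⟨s, hsT, hzs⟩ : ∃ s ∈ T, QuadraticMap.polar Q z s ≠ 0 := by
    by_contra hcon
    push Not at hcon
    exact hz0 (hnd z hzT hcon)
  by_cases hQs : Q s = 0
  swap
  · exact ⟨s, hsT, hQs⟩
  refine ⟨z + s, T.add_mem hzT hsT, ?_⟩
  rw [QuadraticMap.map_add Q, hQz, hQs, zero_add, zero_add]
  exact hzs

omit [Fintype F] [DecidableEq ι] in
/-- A non-zero vector of `W` orthogonal to `r < dim W` given vectors. -/
theorem od_exists_ne_zero_orth (Q : QuadraticForm F (ι → F)) (W : Submodule F (ι → F)) (r : ℕ)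
    (v : Fin r → ι → F) (hr : r < finrank F W) :
    ∃ z ∈ W, z ≠ 0 ∧ ∀ i, QuadraticMap.polar Q (v i) z = 0 := by
  set φ : W →ₗ[F] (Fin r → F) :=
    (LinearMap.pi (fun i => QuadraticMap.polarBilin Q (v i))).comp W.subtype with hφ
  have hker : LinearMap.ker φ ≠ ⊥ := by
    apply LinearMap.ker_ne_bot_of_finrank_lt
    rw [Module.finrank_fin_fun]
    exact hr
  obtain ⟨z, hz, hz0⟩ := Submodule.exists_mem_ne_zero_of_ne_bot hker
  refine ⟨(z : ι → F), z.2, fun h => hz0 (Subtype.ext h), fun i => ?_⟩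
  have h1 : φ z = 0 := LinearMap.mem_ker.mp hz
  have h2 := congrFun h1 i
  simpa [hφ] using h2

/-- The part of `W` orthogonal to `v`. -/
def perpIn (Q : QuadraticForm F (ι → F)) (W : Submodule F (ι → F)) (v : ι → F) : Submodule F (ι → F) :=
  W ⊓ LinearMap.ker (QuadraticMap.polarBilin Q v)

omit [Fintype F] [DecidableEq ι] in
theorem mem_perpIn (Q : QuadraticForm F (ι → F)) (W : Submodule F (ι → F)) (v x : ι → F) :
    x ∈ perpIn Q W v ↔ x ∈ W ∧ QuadraticMap.polar Q v x = 0 := by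
  unfold perpIn
  rw [Submodule.mem_inf, LinearMap.mem_ker, QuadraticMap.polarBilin_apply_apply]

omit [Fintype F] [DecidableEq ι] in
theorem perpIn_nondeg (Q : QuadraticForm F (ι → F)) (h2 : (2 : F) ≠ 0) (W : Submodule F (ι → F))
    (hW : ∀ w ∈ W, (∀ w' ∈ W, QuadraticMap.polar Q w w' = 0) → w = 0) (v : ι → F) (hv : v ∈ W)
    (hQv : Q v ≠ 0) :
    ∀ w ∈ perpIn Q W v, (∀ w' ∈ perpIn Q W v, QuadraticMap.polar Q w w' = 0) → w = 0 := by
  intro w hw hw'
  rw [mem_perpIn] at hw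
  apply hW w hw.1
  intro d hd
  have hvv : QuadraticMap.polar Q v v = 2 * Q v := od_polar_self Q v
  have hmem : d - (QuadraticMap.polar Q v d / (2 * Q v)) • v ∈ perpIn Q W v := by
    rw [mem_perpIn]
    refine ⟨W.sub_mem hd (W.smul_mem _ hv), ?_⟩
    rw [QuadraticMap.polar_sub_right, QuadraticMap.polar_smul_right, hvv, smul_eq_mul]
    field_simp
    ring
  have h1 := hw' _ hmem
  rw [QuadraticMap.polar_sub_right, QuadraticMap.polar_smul_right, QuadraticMap.polar_comm Q w v, hw.2,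
    smul_zero, sub_zero] at h1
  exact h1

omit [Fintype F] in
theorem perpIn_finrank (Q : QuadraticForm F (ι → F)) (W : Submodule F (ι → F)) (v : ι → F) :
    finrank F W ≤ finrank F (perpIn Q W v) + 1 := by
  have h1 := Submodule.finrank_sup_add_finrank_inf_eq W (LinearMap.ker (QuadraticMap.polarBilin Q v))
  have h2 : finrank F ↥(W ⊔ LinearMap.ker (QuadraticMap.polarBilin Q v)) ≤ Fintype.card ι := by
    have := Submodule.finrank_le (W ⊔ LinearMap.ker (QuadraticMap.polarBilin Q v))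
    rwa [Module.finrank_fintype_fun_eq_card] at this
  have h4 := LinearMap.finrank_range_add_finrank_ker (QuadraticMap.polarBilin Q v)
  rw [Module.finrank_fintype_fun_eq_card] at h4
  have h5 : finrank F ↥(LinearMap.range (QuadraticMap.polarBilin Q v)) ≤ 1 := by
    have := Submodule.finrank_le (LinearMap.range (QuadraticMap.polarBilin Q v))
    rwa [Module.finrank_self] at this
  have h6 : finrank F ↥(perpIn Q W v) = finrank F ↥(W ⊓ LinearMap.ker (QuadraticMap.polarBilin Q v)) := rfl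
  omega

end ODBasics

section ODLemmas

variable {F : Type*} [Field F] [Fintype F] {ι : Type} [Fintype ι] [DecidableEq ι]
variable {Q : QuadraticForm F (ι → F)} {t k : ℕ} {D : Fin t → Submodule F (ι → F)}

theorem OD.polar_sum_left (h : OD Q k D) (c : Fin t → ι → F) (hc : ∀ b, c b ∈ D b) (j : Fin t)
    (u : ι → F) (hu : u ∈ D j) :
    QuadraticMap.polar Q (∑ b, c b) u = QuadraticMap.polar Q (c j) u := by
  rw [← QuadraticMap.polarBilin_apply_apply, map_sum, LinearMap.sum_apply, Finset.sum_eq_single j]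
  · rfl
  · intro b _ hb
    rw [QuadraticMap.polarBilin_apply_apply]
    exact h.orth b j hb (c b) (hc b) u hu
  · intro hj
    exact absurd (Finset.mem_univ j) hj

theorem OD.Q_sum (h : OD Q k D) (c : Fin t → ι → F) (hc : ∀ b, c b ∈ D b) :
    Q (∑ b, c b) = ∑ b, Q (c b) := by
  have := map_sum_ortho Q c (fun i j hij => h.orth i j hij _ (hc i) _ (hc j)) (fun _ => (1 : F))
    Finset.univ
  simpa using this

theorem OD.eq_zero_of_orth (h : OD Q k D) (i : Fin t) (u : ι → F) (hu : u ∈ D i)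
    (hu' : ∀ v ∈ D i, QuadraticMap.polar Q u v = 0) : u = 0 := by
  by_contra hu0
  obtain ⟨v, hv, hne⟩ := h.nondeg i u hu hu0
  exact hne (hu' v hv)

theorem OD.comp_zero_of_orth (h : OD Q k D) (c : Fin t → ι → F) (hc : ∀ b, c b ∈ D b) (i : Fin t)
    (hx : ∀ u ∈ D i, QuadraticMap.polar Q (∑ b, c b) u = 0) : c i = 0 := by
  apply h.eq_zero_of_orth i (c i) (hc i)
  intro v hv
  rw [← h.polar_sum_left c hc i v hv]
  exact hx v hv

theorem OD.mem_of_orth_others (h : OD Q k D) (i : Fin t) (w : ι → F)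
    (hw : ∀ j, j ≠ i → ∀ u ∈ D j, QuadraticMap.polar Q w u = 0) : w ∈ D i := by
  obtain ⟨c, hc, rfl⟩ := h.comp w
  have h0 : ∀ j, j ≠ i → c j = 0 := fun j hj => h.comp_zero_of_orth c hc j (hw j hj)
  rw [Finset.sum_eq_single i (fun b _ hb => h0 b hb) (fun hi => absurd (Finset.mem_univ i) hi)]
  exact hc i

theorem OD.eq_of_mem_mem (h : OD Q k D) {a b : Fin t} {u : ι → F} (hu0 : u ≠ 0) (hua : u ∈ D a)
    (hub : u ∈ D b) : a = b := by
  by_contra hab
  obtain ⟨v, hv, hne⟩ := h.nondeg a u hua hu0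
  exact hne (h.orth b a (Ne.symm hab) u hub v hv)

theorem OD.blk_nd (h : OD Q k D) (i : Fin t) :
    ∀ w ∈ D i, (∀ w' ∈ D i, QuadraticMap.polar Q w w' = 0) → w = 0 :=
  fun w hw hw' => h.eq_zero_of_orth i w hw hw'

theorem OD.isNondegOn (h : OD Q k D) (i : Fin t) :
    Cfsg.Geo.IsNondegenerateOn (QuadraticMap.polar ⇑Q) (D i) := by
  intro w hw hw0
  obtain ⟨v, hv, hne⟩ := h.nondeg i w hw hw0
  exact ⟨⟨v, hv, by rw [QuadraticMap.polar_comm]; exact hne⟩, ⟨v, hv, hne⟩⟩

theorem OD.split (h : OD Q k D) (i : Fin t) :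
    OrthSplit Q (D i) (LinearMap.BilinForm.orthogonal (QuadraticMap.polarBilin Q) (D i)) :=
  orthSplit_of_nondegenerateOn Q h.nd (D i) (h.isNondegOn i)

/-- Splitting a vector at the block `i`. -/
theorem OD.exists_split (h : OD Q k D) (i : Fin t) (x : ι → F) :
    ∃ xi x', xi ∈ D i ∧ (∀ u ∈ D i, QuadraticMap.polar Q x' u = 0) ∧ x = xi + x' := by
  obtain ⟨u, hu, u', hu', rfl⟩ := (h.split i).exists_add x
  refine ⟨u, u', hu, fun v hv => ?_, rfl⟩
  rw [QuadraticMap.polar_comm]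
  exact hu' v hv

theorem OD.exists_hyp (h : OD Q k D) (i : Fin t) :
    ∃ p q, p ∈ D i ∧ q ∈ D i ∧ Q p = 0 ∧ Q q = 0 ∧ QuadraticMap.polar Q p q = 1 := by
  obtain ⟨v, hv0, hQv⟩ := exists_singular_of_three_le_finrank (Q.comp (D i).subtype)
    (by rw [h.fr]; exact h.three)
  have hQv' : Q (v : ι → F) = 0 := hQv
  have hv0' : (v : ι → F) ≠ 0 := fun hh => hv0 (Subtype.ext hh)
  obtain ⟨s, hs, hne⟩ := h.nondeg i v v.2 hv0'
  obtain ⟨b, hb, hQb, hab⟩ := exists_partner_in Q (D i) v s v.2 hs hQv' hne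
  exact ⟨v, b, v.2, hb, hQv', hQb, hab⟩

theorem OD.exists_partner (h : OD Q k D) (i : Fin t) (a : ι → F) (ha : a ∈ D i) (ha0 : a ≠ 0)
    (hQa : Q a = 0) : ∃ b ∈ D i, Q b = 0 ∧ QuadraticMap.polar Q a b = 1 := by
  obtain ⟨s, hs, hne⟩ := h.nondeg i a ha ha0
  exact exists_partner_in Q (D i) a s ha hs hQa hne

/-- A non-singular vector of the block orthogonal to a hyperbolic pair of the block. -/
theorem OD.exists_nonsing_hyp (h : OD Q k D) (i : Fin t) (p q : ι → F) (hp : p ∈ D i) (hq : q ∈ D i)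
    (hQp : Q p = 0) (hQq : Q q = 0) (hpq : QuadraticMap.polar Q p q = 1) :
    ∃ u ∈ D i, QuadraticMap.polar Q p u = 0 ∧ QuadraticMap.polar Q q u = 0 ∧ Q u ≠ 0 := by
  obtain ⟨z, hz, hz0, hzo⟩ := od_exists_ne_zero_orth Q (D i) 2 ![p, q]
    (by rw [h.fr]; have := h.three; omega)
  have hpz : QuadraticMap.polar Q p z = 0 := hzo 0
  have hqz : QuadraticMap.polar Q q z = 0 := hzo 1
  by_cases hQz : Q z = 0
  swap
  · exact ⟨z, hz, hpz, hqz, hQz⟩
  obtain ⟨s, hs, hne⟩ := h.nondeg i z hz hz0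
  obtain ⟨h1, h2⟩ := polar_hypComp Q p q s hQp hQq hpq
  set s' := s - QuadraticMap.polar Q s q • p - QuadraticMap.polar Q s p • q with hs'
  have hs'D : s' ∈ D i := (D i).sub_mem ((D i).sub_mem hs ((D i).smul_mem _ hp)) ((D i).smul_mem _ hq)
  have hzs' : QuadraticMap.polar Q z s' ≠ 0 := by
    rw [hs', QuadraticMap.polar_sub_right, QuadraticMap.polar_sub_right, QuadraticMap.polar_smul_right,
      QuadraticMap.polar_smul_right, QuadraticMap.polar_comm Q z p, QuadraticMap.polar_comm Q z q, hpz,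
      hqz, smul_zero, smul_zero, sub_zero, sub_zero]
    exact hne
  have h1' : QuadraticMap.polar Q p s' = 0 := by rw [QuadraticMap.polar_comm]; exact h1
  have h2' : QuadraticMap.polar Q q s' = 0 := by rw [QuadraticMap.polar_comm]; exact h2
  by_cases hQs : Q s' = 0
  swap
  · exact ⟨s', hs'D, h1', h2', hQs⟩
  refine ⟨z + s', (D i).add_mem hz hs'D, ?_, ?_, ?_⟩
  · rw [QuadraticMap.polar_add_right, hpz, h1', add_zero]
  · rw [QuadraticMap.polar_add_right, hqz, h2', add_zero]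
  · rw [QuadraticMap.map_add Q, hQz, hQs, zero_add, zero_add]
    exact hzs'

/-- A non-singular vector of the block orthogonal to a singular vector of the block. -/
theorem OD.exists_sing_orth_nonsing (h : OD Q k D) (i : Fin t) (a : ι → F) (ha : a ∈ D i) (ha0 : a ≠ 0)
    (hQa : Q a = 0) : ∃ v ∈ D i, QuadraticMap.polar Q a v = 0 ∧ Q v ≠ 0 := by
  obtain ⟨b, hb, hQb, hab⟩ := h.exists_partner i a ha ha0 hQa
  obtain ⟨u, hu, h1, -, h3⟩ := h.exists_nonsing_hyp i a b ha hb hQa hQb hab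
  exact ⟨u, hu, h1, h3⟩

/-- Vectors of the block of prescribed norm, orthogonal to a non-singular vector of the block. -/
theorem OD.exists_orth_norm (h : OD Q k D) (i : Fin t) (v : ι → F) (hv : v ∈ D i) (hQv : Q v ≠ 0)
    (c : F) (hc : c ≠ 0) : ∃ p ∈ D i, QuadraticMap.polar Q v p = 0 ∧ Q p = c := by
  have hfr := perpIn_finrank Q (D i) v
  rw [h.fr] at hfr
  have h3 := h.three
  obtain ⟨x, hx, hQx⟩ := exists_mem_eq h.two Q (perpIn Q (D i) v)
    (perpIn_nondeg Q h.two (D i) (h.blk_nd i) v hv hQv) (by omega) c hc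
  rw [mem_perpIn] at hx
  exact ⟨x, hx.1, hx.2, hQx⟩

/-- Vectors of the block of prescribed norm, orthogonal to two orthogonal non-singular vectors of the
block (`k ≥ 4`). -/
theorem OD.exists_orth2_norm (h : OD Q k D) (hk : 4 ≤ k) (i : Fin t) (v u : ι → F) (hv : v ∈ D i)
    (hu : u ∈ D i) (hQv : Q v ≠ 0) (hQu : Q u ≠ 0) (hvu : QuadraticMap.polar Q v u = 0)
    (c : F) (hc : c ≠ 0) :
    ∃ p ∈ D i, QuadraticMap.polar Q v p = 0 ∧ QuadraticMap.polar Q u p = 0 ∧ Q p = c := by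
  have hfr := perpIn_finrank Q (D i) v
  rw [h.fr] at hfr
  have hfr2 := perpIn_finrank Q (perpIn Q (D i) v) u
  have huT : u ∈ perpIn Q (D i) v := (mem_perpIn Q (D i) v u).mpr ⟨hu, hvu⟩
  obtain ⟨x, hx, hQx⟩ := exists_mem_eq h.two Q (perpIn Q (perpIn Q (D i) v) u)
    (perpIn_nondeg Q h.two _ (perpIn_nondeg Q h.two (D i) (h.blk_nd i) v hv hQv) u huT hQu)
    (by omega) c hc
  rw [mem_perpIn, mem_perpIn] at hx
  exact ⟨x, hx.1.1, hx.1.2, hx.2, hQx⟩

/-- A non-singular vector of the block orthogonal to two orthogonal non-singular vectors of the block. -/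
theorem OD.exists_orth2_nonsing (h : OD Q k D) (i : Fin t) (v u : ι → F) (hv : v ∈ D i)
    (hu : u ∈ D i) (hQv : Q v ≠ 0) (hQu : Q u ≠ 0) (hvu : QuadraticMap.polar Q v u = 0) :
    ∃ p ∈ D i, QuadraticMap.polar Q v p = 0 ∧ QuadraticMap.polar Q u p = 0 ∧ Q p ≠ 0 := by
  have hfr := perpIn_finrank Q (D i) v
  rw [h.fr] at hfr
  have hfr2 := perpIn_finrank Q (perpIn Q (D i) v) u
  have h3 := h.three
  have huT : u ∈ perpIn Q (D i) v := (mem_perpIn Q (D i) v u).mpr ⟨hu, hvu⟩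
  have hne : perpIn Q (perpIn Q (D i) v) u ≠ ⊥ := by
    intro h0
    rw [h0, finrank_bot] at hfr2
    omega
  obtain ⟨x, hx, hQx⟩ := od_exists_nonsing Q (perpIn Q (perpIn Q (D i) v) u)
    (perpIn_nondeg Q h.two _ (perpIn_nondeg Q h.two (D i) (h.blk_nd i) v hv hQv) u huT hQu) hne
  rw [mem_perpIn, mem_perpIn] at hx
  exact ⟨x, hx.1.1, hx.1.2, hx.2, hQx⟩

/-- A singular vector of the block not orthogonal to `Y`, if `Y` is not orthogonal to the block. -/
theorem OD.exists_sing_polar_ne (h : OD Q k D) (l : Fin t) (Y : ι → F)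
    (hY : ∃ u ∈ D l, QuadraticMap.polar Q Y u ≠ 0) :
    ∃ a ∈ D l, Q a = 0 ∧ QuadraticMap.polar Q Y a ≠ 0 := by
  obtain ⟨d, hd, hYd⟩ := hY
  obtain ⟨p, q, hp, hq, hQp, hQq, hpq⟩ := h.exists_hyp l
  by_cases h1 : QuadraticMap.polar Q Y p = 0
  swap
  · exact ⟨p, hp, hQp, h1⟩
  by_cases h2 : QuadraticMap.polar Q Y q = 0
  swap
  · exact ⟨q, hq, hQq, h2⟩
  obtain ⟨hzp, hzq⟩ := polar_hypComp Q p q d hQp hQq hpq
  set z := d - QuadraticMap.polar Q d q • p - QuadraticMap.polar Q d p • q with hz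
  have hzD : z ∈ D l := (D l).sub_mem ((D l).sub_mem hd ((D l).smul_mem _ hp)) ((D l).smul_mem _ hq)
  refine ⟨z + q - Q z • p, (D l).sub_mem ((D l).add_mem hzD hq) ((D l).smul_mem _ hp),
    singular_of_orth_hyp Q p q z hQp hQq hpq hzp hzq, ?_⟩
  rw [QuadraticMap.polar_sub_right, QuadraticMap.polar_add_right, QuadraticMap.polar_smul_right, h1, h2,
    hz, QuadraticMap.polar_sub_right, QuadraticMap.polar_sub_right, QuadraticMap.polar_smul_right,
    QuadraticMap.polar_smul_right, h1, h2]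
  simpa using hYd

/-- A hyperbolic pair of the block, neither vector orthogonal to `Y`. -/
theorem OD.exists_sing_pair_polar_ne (h : OD Q k D) (l : Fin t) (Y : ι → F)
    (hY : ∃ u ∈ D l, QuadraticMap.polar Q Y u ≠ 0) :
    ∃ a a', a ∈ D l ∧ a' ∈ D l ∧ Q a = 0 ∧ Q a' = 0 ∧ QuadraticMap.polar Q a a' = 1 ∧
      QuadraticMap.polar Q Y a ≠ 0 ∧ QuadraticMap.polar Q Y a' ≠ 0 := by
  obtain ⟨a, ha, hQa, hYa⟩ := h.exists_sing_polar_ne l Y hY
  have ha0 : a ≠ 0 := by
    rintro rfl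
    apply hYa
    simp
  obtain ⟨b, hb, hQb, hab⟩ := h.exists_partner l a ha ha0 hQa
  by_cases hYb : QuadraticMap.polar Q Y b = 0
  swap
  · exact ⟨a, b, ha, hb, hQa, hQb, hab, hYa, hYb⟩
  obtain ⟨u, hu, hau, hbu, hQu⟩ := h.exists_nonsing_hyp l a b ha hb hQa hQb hab
  have hua : QuadraticMap.polar Q u a = 0 := by rw [QuadraticMap.polar_comm]; exact hau
  have hub : QuadraticMap.polar Q u b = 0 := by rw [QuadraticMap.polar_comm]; exact hbu
  have key : ∀ s : F, s * s = 1 →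
      QuadraticMap.polar Q Y (s • u + b - Q (s • u) • a) ≠ 0 →
      ∃ a a', a ∈ D l ∧ a' ∈ D l ∧ Q a = 0 ∧ Q a' = 0 ∧ QuadraticMap.polar Q a a' = 1 ∧
        QuadraticMap.polar Q Y a ≠ 0 ∧ QuadraticMap.polar Q Y a' ≠ 0 := by
    intro s hs hne
    have h1 : QuadraticMap.polar Q (s • u) a = 0 := by rw [QuadraticMap.polar_smul_left, hua, smul_zero]
    have h2 : QuadraticMap.polar Q (s • u) b = 0 := by rw [QuadraticMap.polar_smul_left, hub, smul_zero]
    refine ⟨a, s • u + b - Q (s • u) • a, ha,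
      (D l).sub_mem ((D l).add_mem ((D l).smul_mem _ hu) hb) ((D l).smul_mem _ ha), hQa,
      singular_of_orth_hyp Q a b (s • u) hQa hQb hab h1 h2, ?_, hYa, hne⟩
    rw [QuadraticMap.polar_sub_right, QuadraticMap.polar_add_right, QuadraticMap.polar_smul_right,
      QuadraticMap.polar_smul_right, hau, hab, od_polar_self, hQa]
    simp
  by_cases hs1 : QuadraticMap.polar Q Y ((1 : F) • u + b - Q ((1 : F) • u) • a) ≠ 0
  · exact key 1 (by ring) hs1
  · apply key (-1) (by ring)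
    push Not at hs1
    intro hs2
    rw [QuadraticMap.polar_sub_right, QuadraticMap.polar_add_right, QuadraticMap.polar_smul_right,
      QuadraticMap.polar_smul_right, QuadraticMap.map_smul, hYb] at hs1 hs2
    simp only [smul_eq_mul] at hs1 hs2
    have h3 : 2 * (Q u * QuadraticMap.polar Q Y a) = 0 := by linear_combination (-1 : F) * hs1 - hs2
    rcases mul_eq_zero.mp h3 with h4 | h4
    · exact h.two h4
    · rcases mul_eq_zero.mp h4 with h5 | h5
      · exact hQu h5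
      · exact hYa h5

end ODLemmas

section ODExist

variable {F : Type*} [Field F] [Fintype F] {ι : Type} [Fintype ι] [DecidableEq ι]
variable {Q : QuadraticForm F (ι → F)} {t k : ℕ} {D : Fin t → Submodule F (ι → F)}

theorem od_exists_tau (hq : 5 ≤ Fintype.card F) (κ : F) : ∃ τ : F, τ ≠ 0 ∧ τ * τ ≠ κ := by
  classical
  by_contra hcon
  push Not at hcon
  have h1 : κ = 1 := by
    have := hcon 1 one_ne_zero
    rw [← this]
    ring
  have h2 : ∀ τ : F, τ = 0 ∨ τ = 1 ∨ τ = -1 := by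
    intro τ
    by_cases hτ : τ = 0
    · left
      exact hτ
    · right
      have := hcon τ hτ
      rw [h1] at this
      have h3 : (τ - 1) * (τ + 1) = 0 := by linear_combination this
      rcases mul_eq_zero.mp h3 with h4 | h4
      · left
        linear_combination h4
      · right
        linear_combination h4
  have h3 : (Finset.univ : Finset F) ⊆ {0, 1, -1} := by
    intro τ _
    simp only [Finset.mem_insert, Finset.mem_singleton]
    exact h2 τ
  have h4 := Finset.card_le_card h3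
  rw [Finset.card_univ] at h4
  have h5 : ({0, 1, -1} : Finset F).card ≤ 3 := Finset.card_le_three
  omega

/-- Two non-proportional vectors of equal non-zero norm in `xi^⊥ ∩ D i`, the first not orthogonal to
`yi`. -/
theorem OD.exists_refl_pair (h : OD Q k D) (hqk : 5 ≤ Fintype.card F ∨ 4 ≤ k) (i : Fin t)
    (xi yi : ι → F) (hxi : xi ∈ D i) (hyi : yi ∈ D i) (hQxi : Q xi ≠ 0) (hne : ∀ c : F, yi ≠ c • xi) :
    ∃ u v, u ∈ D i ∧ v ∈ D i ∧ QuadraticMap.polar Q xi u = 0 ∧ QuadraticMap.polar Q xi v = 0 ∧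
      Q u ≠ 0 ∧ Q v = Q u ∧ QuadraticMap.polar Q yi u ≠ 0 ∧ ∀ c : F, u ≠ c • v := by
  have h2 := h.two
  have h2Q : 2 * Q xi ≠ 0 := mul_ne_zero h2 hQxi
  set μ := QuadraticMap.polar Q xi yi / (2 * Q xi) with hμ
  set p := yi - μ • xi with hp
  have hpD : p ∈ D i := (D i).sub_mem hyi ((D i).smul_mem _ hxi)
  have hxp : QuadraticMap.polar Q xi p = 0 := by
    rw [hp, QuadraticMap.polar_sub_right, QuadraticMap.polar_smul_right, od_polar_self, hμ, smul_eq_mul]
    field_simp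
    ring
  have hp0 : p ≠ 0 := by
    intro h0
    apply hne μ
    rw [hp, sub_eq_zero] at h0
    exact h0
  have hyu : ∀ u : ι → F, QuadraticMap.polar Q xi u = 0 →
      QuadraticMap.polar Q yi u = QuadraticMap.polar Q p u := by
    intro u hu
    rw [hp, QuadraticMap.polar_sub_left, QuadraticMap.polar_smul_left, hu, smul_zero, sub_zero]
  obtain ⟨u, hu, hxu, hQu, hpu⟩ : ∃ u ∈ D i, QuadraticMap.polar Q xi u = 0 ∧ Q u ≠ 0 ∧
      QuadraticMap.polar Q p u ≠ 0 := by
    by_cases hQp : Q p = 0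
    · have hpT : p ∈ perpIn Q (D i) xi := (mem_perpIn Q (D i) xi p).mpr ⟨hpD, hxp⟩
      obtain ⟨u₀, hu₀, hpu₀⟩ : ∃ u₀ ∈ perpIn Q (D i) xi, QuadraticMap.polar Q p u₀ ≠ 0 := by
        by_contra hcon
        push Not at hcon
        exact hp0 (perpIn_nondeg Q h2 (D i) (h.blk_nd i) xi hxi hQxi p hpT hcon)
      rw [mem_perpIn] at hu₀
      by_cases hQu₀ : Q u₀ = 0
      · refine ⟨u₀ + p, (D i).add_mem hu₀.1 hpD, ?_, ?_, ?_⟩
        · rw [QuadraticMap.polar_add_right, hu₀.2, hxp, add_zero]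
        · rw [QuadraticMap.map_add Q, hQu₀, hQp, zero_add, zero_add, QuadraticMap.polar_comm]
          exact hpu₀
        · rw [QuadraticMap.polar_add_right, od_polar_self, hQp, mul_zero, add_zero]
          exact hpu₀
      · exact ⟨u₀, hu₀.1, hu₀.2, hQu₀, hpu₀⟩
    · refine ⟨p, hpD, hxp, hQp, ?_⟩
      rw [od_polar_self]
      exact mul_ne_zero h2 hQp
  have hyiu : QuadraticMap.polar Q yi u ≠ 0 := by rw [hyu u hxu]; exact hpu
  rcases hqk with hq | hk
  · obtain ⟨u', hu', hxu', huu', hQu'⟩ := h.exists_orth2_nonsing i xi u hxi hu hQxi hQu hxu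
    obtain ⟨τ, hτ0, hτ⟩ := od_exists_tau hq (-(Q u) / Q u')
    have hden : Q u + τ ^ 2 * Q u' ≠ 0 := by
      intro h0
      apply hτ
      field_simp
      linear_combination h0
    obtain ⟨κ, hκ⟩ : ∃ κ : F, κ = 2 * Q u / (Q u + τ ^ 2 * Q u') := ⟨_, rfl⟩
    have hκ0 : κ ≠ 0 := by
      rw [hκ]
      exact div_ne_zero (mul_ne_zero h2 hQu) hden
    refine ⟨u, (1 - κ) • u + (-(κ * τ)) • u', hu,
      (D i).add_mem ((D i).smul_mem _ hu) ((D i).smul_mem _ hu'), hxu, ?_, hQu, ?_, hyiu, ?_⟩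
    · rw [QuadraticMap.polar_add_right, QuadraticMap.polar_smul_right, QuadraticMap.polar_smul_right, hxu,
        hxu', smul_zero, smul_zero, add_zero]
    · rw [od_Q_add_smul, huu', hκ]
      field_simp
      ring
    · intro c hc
      have h3 := congrArg (fun z => QuadraticMap.polar Q z u') hc
      simp only [QuadraticMap.polar_smul_left, QuadraticMap.polar_add_left, huu', od_polar_self,
        smul_eq_mul, mul_zero, zero_add] at h3
      have h4 : c * (κ * τ * (2 * Q u')) = 0 := by linear_combination h3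
      have hc0 : c = 0 := by
        rcases mul_eq_zero.mp h4 with h5 | h5
        · exact h5
        · exact absurd h5 (mul_ne_zero (mul_ne_zero hκ0 hτ0) (mul_ne_zero h2 hQu'))
      rw [hc0, zero_smul] at hc
      apply hQu
      rw [hc, map_zero]
  · obtain ⟨v, hv, hxv, huv, hQv⟩ := h.exists_orth2_norm hk i xi u hxi hu hQxi hQu hxu (Q u) hQu
    refine ⟨u, v, hu, hv, hxu, hxv, hQu, hQv, hyiu, ?_⟩
    intro c hc
    have h3 := congrArg (fun z => QuadraticMap.polar Q z v) hc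
    simp only [QuadraticMap.polar_smul_left, huv, od_polar_self, smul_eq_mul] at h3
    have hc0 : c = 0 := by
      rcases mul_eq_zero.mp h3.symm with h5 | h5
      · exact h5
      · exact absurd h5 (mul_ne_zero h2 (by rw [hQv]; exact hQu))
    rw [hc0, zero_smul] at hc
    apply hQu
    rw [hc, map_zero]

/-- A vector of prescribed non-zero norm in `xi^⊥ ∩ D i` not orthogonal to a given non-singular vector
of `xi^⊥ ∩ D i`. -/
theorem OD.exists_norm_polar_ne (h : OD Q k D) (hqk : 5 ≤ Fintype.card F ∨ 4 ≤ k) (i : Fin t)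
    (xi w : ι → F) (hxi : xi ∈ D i) (hw : w ∈ D i) (hQxi : Q xi ≠ 0)
    (hxw : QuadraticMap.polar Q xi w = 0) (hQw : Q w ≠ 0) (ν : F) (hν : ν ≠ 0) :
    ∃ v ∈ D i, QuadraticMap.polar Q xi v = 0 ∧ Q v = ν ∧ QuadraticMap.polar Q v w ≠ 0 := by
  have h2 := h.two
  rcases hqk with hq | hk
  · obtain ⟨v₀, hv₀, hxv₀, hQv₀⟩ := h.exists_orth_norm i xi hxi hQxi ν hν
    by_cases hvw : QuadraticMap.polar Q v₀ w = 0
    swap
    · exact ⟨v₀, hv₀, hxv₀, hQv₀, hvw⟩
    obtain ⟨τ, hτ0, hτ⟩ := od_exists_tau hq (-ν / Q w)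
    have hden : ν + τ ^ 2 * Q w ≠ 0 := by
      intro h0
      apply hτ
      field_simp
      linear_combination h0
    obtain ⟨κ, hκ⟩ : ∃ κ : F, κ = 2 * ν / (ν + τ ^ 2 * Q w) := ⟨_, rfl⟩
    have hκ0 : κ ≠ 0 := by
      rw [hκ]
      exact div_ne_zero (mul_ne_zero h2 hν) hden
    refine ⟨(1 - κ) • v₀ + (-(κ * τ)) • w, (D i).add_mem ((D i).smul_mem _ hv₀) ((D i).smul_mem _ hw),
      ?_, ?_, ?_⟩
    · rw [QuadraticMap.polar_add_right, QuadraticMap.polar_smul_right, QuadraticMap.polar_smul_right,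
        hxv₀, hxw, smul_zero, smul_zero, add_zero]
    · rw [od_Q_add_smul, hvw, hQv₀, hκ]
      field_simp
      ring
    · rw [QuadraticMap.polar_add_left, QuadraticMap.polar_smul_left, QuadraticMap.polar_smul_left, hvw,
        od_polar_self, smul_zero, zero_add, smul_eq_mul]
      exact mul_ne_zero (neg_ne_zero.mpr (mul_ne_zero hκ0 hτ0)) (mul_ne_zero h2 hQw)
  · by_cases hνw : ν = Q w
    · refine ⟨w, hw, hxw, hνw.symm, ?_⟩
      rw [od_polar_self]
      exact mul_ne_zero h2 hQw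
    · obtain ⟨p, hp, hxp, hwp, hQp⟩ := h.exists_orth2_norm hk i xi w hxi hw hQxi hQw hxw (ν - Q w)
        (sub_ne_zero.mpr hνw)
      refine ⟨w + p, (D i).add_mem hw hp, ?_, ?_, ?_⟩
      · rw [QuadraticMap.polar_add_right, hxw, hxp, add_zero]
      · rw [QuadraticMap.map_add Q, hQp, hwp]
        ring
      · rw [QuadraticMap.polar_add_left, od_polar_self, QuadraticMap.polar_comm Q p w, hwp, add_zero]
        exact mul_ne_zero h2 hQw

/-- A vector of the block with the norm of `x'` at prescribed non-zero "distance" from `x'`. -/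
theorem OD.exists_norm_dist (h : OD Q k D) (i : Fin t) (x' : ι → F) (hx' : x' ∈ D i)
    (hQx' : Q x' ≠ 0) (ζ : F) :
    ∃ v ∈ D i, Q v = Q x' ∧ Q (x' - v) = ζ := by
  have h2 := h.two
  obtain ⟨lam, hlam⟩ : ∃ lam : F, lam = 1 - ζ / (2 * Q x') := ⟨_, rfl⟩
  obtain ⟨p, hp, hxp, hQp⟩ : ∃ p ∈ D i, QuadraticMap.polar Q x' p = 0 ∧
      Q p = Q x' * (1 - lam * lam) := by
    by_cases hγ : Q x' * (1 - lam * lam) = 0
    · exact ⟨0, (D i).zero_mem, by simp, by rw [map_zero, hγ]⟩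
    · exact h.exists_orth_norm i x' hx' hQx' _ hγ
  refine ⟨lam • x' + (1 : F) • p, (D i).add_mem ((D i).smul_mem _ hx') ((D i).smul_mem _ hp), ?_, ?_⟩
  · rw [od_Q_add_smul, hxp, hQp]
    ring
  · have e : x' - (lam • x' + (1 : F) • p) = (1 - lam) • x' + (-1 : F) • p := by
      ext j
      simp only [Pi.add_apply, Pi.sub_apply, Pi.smul_apply, smul_eq_mul]
      ring
    rw [e, od_Q_add_smul, hxp, hQp, hlam]
    field_simp
    ring

end ODExist

end Cfsg.Agent.Lib.helper17
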