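/-
helper17: orthogonal decompositions, group side: membership in the decomposition stabiliser,
Eichler transformations `E(x, y)` lying in an overgroup `M` of the stabiliser, additive generation of a
block, and the existence of an Eichler transformation in `M` outside the stabiliser.
-/
import Mathlib
import Cfsg.Agent.Lib.helper17.OrthDec1

set_option autoImplicit false
set_option linter.unusedSectionVars false

namespace Cfsg.Agent.Lib.helper17

open Matrix Module
open Cfsg.Agent.Lib.helper49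
open scoped commutatorElement

section ODStab

variable {F : Type*} [Field F] [Fintype F] {ι : Type} [Fintype ι] [DecidableEq ι]
variable {Q : QuadraticForm F (ι → F)} {t k : ℕ} {D : Fin t → Submodule F (ι → F)}

theorem od_map_eq (h : OD Q k D) (g : ↥(Cfsg.isometryGroup F ⇑Q)) (i j : Fin t)
    (hg : ∀ u ∈ D i, isoAct (⇑Q) g u ∈ D j) :
    (D i).map (Matrix.mulVecLin ((g : Matrix.GeneralLinearGroup ι F) : Matrix ι ι F)) = D j := by
  apply Submodule.eq_of_le_of_finrank_eq
  · intro x hx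
    obtain ⟨u, hu, rfl⟩ := Submodule.mem_map.mp hx
    exact hg u hu
  · rw [finrank_map_iso (⇑Q) (D i) g, h.fr, h.fr]

theorem od_mem_stab_of_perm (h : OD Q k D) (g : ↥(Cfsg.isometryGroup F ⇑Q)) (σ : Equiv.Perm (Fin t))
    (hg : ∀ i, ∀ u ∈ D i, isoAct (⇑Q) g u ∈ D (σ i)) :
    (g : Matrix.GeneralLinearGroup ι F) ∈ Cfsg.Geo.decompositionStabilizer D := by
  refine ⟨σ, fun i => ?_⟩
  rw [Matrix.toLin'_apply']
  exact od_map_eq h g i (σ i) (hg i)

theorem od_mem_stab_of_fix (h : OD Q k D) (g : ↥(Cfsg.isometryGroup F ⇑Q))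
    (hg : ∀ i, ∀ u ∈ D i, isoAct (⇑Q) g u ∈ D i) :
    (g : Matrix.GeneralLinearGroup ι F) ∈ Cfsg.Geo.decompositionStabilizer D :=
  od_mem_stab_of_perm h g 1 hg

theorem od_mem_stab_of_forall_exists (h : OD Q k D) (g : ↥(Cfsg.isometryGroup F ⇑Q))
    (hg : ∀ i, ∃ j, ∀ u ∈ D i, isoAct (⇑Q) g u ∈ D j) :
    (g : Matrix.GeneralLinearGroup ι F) ∈ Cfsg.Geo.decompositionStabilizer D := by
  choose σ hσ using hg
  have hinj : Function.Injective σ := by
    intro i i' hii
    obtain ⟨p, q, hp, hq, hQp, hQq, hpq⟩ := h.exists_hyp i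
    have hp0 : p ≠ 0 := by
      rintro rfl
      simp at hpq
    have h1 : isoAct (⇑Q) g p ∈ D (σ i') := by
      rw [← hii]
      exact hσ i p hp
    rw [← od_map_eq h g i' (σ i') (hσ i')] at h1
    obtain ⟨u, hu, hup⟩ := Submodule.mem_map.mp h1
    have h2 : isoAct (⇑Q) g u = isoAct (⇑Q) g p := hup
    have h3 : u = p := by
      have := congrArg (isoAct (⇑Q) g⁻¹) h2
      rwa [isoAct_inv_isoAct, isoAct_inv_isoAct] at this
    rw [h3] at hu
    exact h.eq_of_mem_mem hp0 hp hu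
  have hbij : Function.Bijective σ := Finite.injective_iff_bijective.mp hinj
  exact od_mem_stab_of_perm h g (Equiv.ofBijective σ hbij) (fun i u hu => hσ i u hu)

end ODStab

section ODInM

variable {F : Type*} [Field F] [Fintype F] {ι : Type} [Fintype ι] [DecidableEq ι]
variable {Q : QuadraticForm F (ι → F)} {t k : ℕ} {D : Fin t → Submodule F (ι → F)}
variable {M : Subgroup ↥(Cfsg.isometryGroup F ⇑Q)}

/-- Products of two reflections in vectors of equal norm of one block lie in `M`. -/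
theorem od_refl2_mem (h : OD Q k D)
    (hN : ∀ g ∈ Cfsg.Omega F ⇑Q,
      (g : Matrix.GeneralLinearGroup ι F) ∈ Cfsg.Geo.decompositionStabilizer D → g ∈ M)
    (b : Fin t) (u v : ι → F) (hu : u ∈ D b) (hv : v ∈ D b) (hQu : Q u ≠ 0) (hQv : Q v = Q u) :
    reflG' Q u * reflG' Q v ∈ M := by
  have hQv' : Q v ≠ 0 := by rw [hQv]; exact hQu
  apply hN _ (reflG'_mul_reflG'_mem_Omega Q h.nd u v hQu hQv)
  apply od_mem_stab_of_fix h
  intro i w hw
  rw [isoAct_mul, isoAct_reflG' Q v hQv', isoAct_reflG' Q u hQu]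
  by_cases hib : i = b
  · subst hib
    exact (D i).sub_mem ((D i).sub_mem hw ((D i).smul_mem _ hv)) ((D i).smul_mem _ hu)
  · have h1 : QuadraticMap.polar Q v w = 0 := h.orth b i (Ne.symm hib) v hv w hw
    have h2 : QuadraticMap.polar Q u w = 0 := h.orth b i (Ne.symm hib) u hu w hw
    rw [h1, mul_zero, zero_smul, sub_zero, h2, mul_zero, zero_smul, sub_zero]
    exact hw

/-- Eichler transformations with both parameters in one block lie in `M`. -/
theorem od_eich_mem (h : OD Q k D) (hn : 7 ≤ Fintype.card ι)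
    (hN : ∀ g ∈ Cfsg.Omega F ⇑Q,
      (g : Matrix.GeneralLinearGroup ι F) ∈ Cfsg.Geo.decompositionStabilizer D → g ∈ M)
    (i : Fin t) (a b : ι → F) (ha : a ∈ D i) (hb : b ∈ D i) : eichG Q a b ∈ M := by
  apply hN _ (eichG_mem_Omega Q h.nd hn a b)
  apply od_mem_stab_of_fix h
  intro j w hw
  by_cases hji : j = i
  · subst hji
    exact eichG_maps Q (D j) a b ha hb w hw
  · by_cases hc : Q a = 0 ∧ QuadraticMap.polar Q a b = 0
    · rw [isoAct_eichG Q a b hc.1 hc.2, h.orth i j (Ne.symm hji) b hb w hw,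
        h.orth i j (Ne.symm hji) a ha w hw]
      simpa using hw
    · rw [eichG_of_not Q a b hc, isoAct_one]
      exact hw

/-- `E(x, y)` is a genuine Eichler transformation lying in `M`. -/
def InM (Q : QuadraticForm F (ι → F)) (M : Subgroup ↥(Cfsg.isometryGroup F ⇑Q)) (x y : ι → F) : Prop :=
  Q x = 0 ∧ QuadraticMap.polar Q x y = 0 ∧ eichG Q x y ∈ M

omit [Fintype F] in
theorem InM.conj {x y : ι → F} (hxy : InM Q M x y) (g : ↥(Cfsg.isometryGroup F ⇑Q)) (hg : g ∈ M) :
    InM Q M (isoAct (⇑Q) g x) (isoAct (⇑Q) g y) := by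
  refine ⟨by rw [Q_isoAct (⇑Q) g x]; exact hxy.1, by rw [polar_isoAct]; exact hxy.2.1, ?_⟩
  rw [← eichG_conj]
  exact M.mul_mem (M.mul_mem hg hxy.2.2) (M.inv_mem hg)

omit [Fintype F] in
theorem InM.add {x y y' : ι → F} (hxy : InM Q M x y) (hxy' : InM Q M x y') : InM Q M x (y + y') := by
  refine ⟨hxy.1, by rw [QuadraticMap.polar_add_right, hxy.2.1, hxy'.2.1, add_zero], ?_⟩
  rw [← eichG_mul Q x y y' hxy.1 hxy.2.1 hxy'.2.1]
  exact M.mul_mem hxy.2.2 hxy'.2.2

omit [Fintype F] in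
theorem InM.neg {x y : ι → F} (hxy : InM Q M x y) : InM Q M x (-y) := by
  refine ⟨hxy.1, by rw [QuadraticMap.polar_neg_right, hxy.2.1, neg_zero], ?_⟩
  rw [← eichG_inv Q x y hxy.1 hxy.2.1]
  exact M.inv_mem hxy.2.2

omit [Fintype F] in
theorem InM.zero {x : ι → F} (hx : Q x = 0) : InM Q M x 0 := by
  refine ⟨hx, by simp, ?_⟩
  rw [eichG_zero]
  exact M.one_mem

omit [Fintype F] in
theorem InM.shift {x y : ι → F} (hxy : InM Q M x y) (c : F) : InM Q M x (y + c • x) := by
  refine ⟨hxy.1, ?_, ?_⟩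
  · rw [QuadraticMap.polar_add_right, QuadraticMap.polar_smul_right, hxy.2.1, od_polar_self, hxy.1]
    simp
  · rw [eichG_add_smul Q x y c hxy.1 hxy.2.1]
    exact hxy.2.2

omit [Fintype F] in
theorem od_eichG_swap (Q : QuadraticForm F (ι → F)) (x y : ι → F) (hx : Q x = 0) (hy : Q y = 0)
    (hxy : QuadraticMap.polar Q x y = 0) : eichG Q x y = eichG Q y (-x) := by
  have hyx : QuadraticMap.polar Q y (-x) = 0 := by
    rw [QuadraticMap.polar_neg_right, QuadraticMap.polar_comm, hxy, neg_zero]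
  apply isoAct_ext
  intro v
  rw [isoAct_eichG Q x y hx hxy, isoAct_eichG Q y (-x) hy hyx, hy, QuadraticMap.map_neg, hx,
    QuadraticMap.polar_neg_left]
  ext j
  simp only [Pi.add_apply, Pi.sub_apply, Pi.smul_apply, smul_eq_mul, Pi.neg_apply]
  ring

omit [Fintype F] in
theorem InM.swap {x y : ι → F} (hxy : InM Q M x y) (hy : Q y = 0) : InM Q M y (-x) := by
  refine ⟨hy, by rw [QuadraticMap.polar_neg_right, QuadraticMap.polar_comm, hxy.2.1, neg_zero], ?_⟩
  rw [← od_eichG_swap Q x y hxy.1 hy hxy.2.1]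
  exact hxy.2.2

omit [Fintype F] in
theorem InM.comm {x y : ι → F} (hxy : InM Q M x y) (g : ↥(Cfsg.isometryGroup F ⇑Q)) (hg : g ∈ M)
    (hgx : isoAct (⇑Q) g x = x) : InM Q M x (isoAct (⇑Q) g y - y) := by
  have h1 : QuadraticMap.polar Q x (isoAct (⇑Q) g y) = 0 := by
    have := polar_isoAct Q g x y
    rw [hgx] at this
    rw [this]
    exact hxy.2.1
  refine ⟨hxy.1, by rw [QuadraticMap.polar_sub_right, h1, hxy.2.1, sub_zero], ?_⟩
  rw [← eichG_commutator Q g x y hxy.1 hxy.2.1 hgx, commutatorElement_def]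
  exact M.mul_mem (M.mul_mem (M.mul_mem hg hxy.2.2) (M.inv_mem hg)) (M.inv_mem hxy.2.2)

theorem InM.of_block (h : OD Q k D) (hn : 7 ≤ Fintype.card ι)
    (hN : ∀ g ∈ Cfsg.Omega F ⇑Q,
      (g : Matrix.GeneralLinearGroup ι F) ∈ Cfsg.Geo.decompositionStabilizer D → g ∈ M)
    (i : Fin t) (a b : ι → F) (ha : a ∈ D i) (hb : b ∈ D i) (hQa : Q a = 0)
    (hab : QuadraticMap.polar Q a b = 0) : InM Q M a b :=
  ⟨hQa, hab, od_eich_mem h hn hN i a b ha hb⟩

/-- `M` contains an Eichler transformation `E(a, w)` with `a` in a block and `w` outside it. -/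
def Mixed (Q : QuadraticForm F (ι → F)) (M : Subgroup ↥(Cfsg.isometryGroup F ⇑Q)) {t : ℕ}
    (D : Fin t → Submodule F (ι → F)) : Prop :=
  ∃ i, ∃ a w, a ∈ D i ∧ a ≠ 0 ∧ w ∉ D i ∧ InM Q M a w

end ODInM

section ODGen

variable {F : Type*} [Field F] [Fintype F] {ι : Type} [Fintype ι] [DecidableEq ι]
variable {Q : QuadraticForm F (ι → F)} {t k : ℕ} {D : Fin t → Submodule F (ι → F)}
variable {M : Subgroup ↥(Cfsg.isometryGroup F ⇑Q)}

/-- Additive generation of a block by the vectors `(E(a, v) - 1) Y`. -/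
theorem OD.block_le_of_closed (h : OD Q k D) (l : Fin t) (Y : ι → F)
    (hY : ∃ u ∈ D l, QuadraticMap.polar Q Y u ≠ 0) (A : AddSubgroup (ι → F))
    (hA : ∀ a v, a ∈ D l → v ∈ D l → Q a = 0 → QuadraticMap.polar Q a v = 0 →
      (QuadraticMap.polar Q v Y - Q v * QuadraticMap.polar Q a Y) • a
        - QuadraticMap.polar Q a Y • v ∈ A) :
    ∀ d ∈ D l, d ∈ A := by
  have h2 := h.two
  have step1 : ∀ a v, a ∈ D l → v ∈ D l → Q a = 0 → QuadraticMap.polar Q a v = 0 → ∀ s : F,
      s • (QuadraticMap.polar Q v Y • a - QuadraticMap.polar Q a Y • v) ∈ A := by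
    intro a v ha hv hQa hav s
    have e1 := hA a ((s / 2) • v) ha ((D l).smul_mem _ hv) hQa
      (by rw [QuadraticMap.polar_smul_right, hav, smul_zero])
    have e2 := hA a ((-(s / 2)) • v) ha ((D l).smul_mem _ hv) hQa
      (by rw [QuadraticMap.polar_smul_right, hav, smul_zero])
    have e3 := A.sub_mem e1 e2
    have e4 : s • (QuadraticMap.polar Q v Y • a - QuadraticMap.polar Q a Y • v)
        = (QuadraticMap.polar Q ((s / 2) • v) Y - Q ((s / 2) • v) * QuadraticMap.polar Q a Y) • a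
          - QuadraticMap.polar Q a Y • ((s / 2) • v)
          - ((QuadraticMap.polar Q ((-(s / 2)) • v) Y - Q ((-(s / 2)) • v) * QuadraticMap.polar Q a Y) • a
          - QuadraticMap.polar Q a Y • ((-(s / 2)) • v)) := by
      simp only [QuadraticMap.polar_smul_left, QuadraticMap.map_smul, smul_eq_mul]
      ext j
      simp only [Pi.add_apply, Pi.sub_apply, Pi.smul_apply, smul_eq_mul, Pi.neg_apply]
      field_simp
      ring
    rw [e4]
    exact e3
  have step2 : ∀ a v, a ∈ D l → v ∈ D l → Q a = 0 → QuadraticMap.polar Q a v = 0 → ∀ s : F,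
      (s * s * (-2 * Q v * QuadraticMap.polar Q a Y)) • a ∈ A := by
    intro a v ha hv hQa hav s
    have e1 := hA a (s • v) ha ((D l).smul_mem _ hv) hQa
      (by rw [QuadraticMap.polar_smul_right, hav, smul_zero])
    have e2 := hA a ((-s) • v) ha ((D l).smul_mem _ hv) hQa
      (by rw [QuadraticMap.polar_smul_right, hav, smul_zero])
    have e3 := A.add_mem e1 e2
    have e4 : (s * s * (-2 * Q v * QuadraticMap.polar Q a Y)) • a
        = (QuadraticMap.polar Q (s • v) Y - Q (s • v) * QuadraticMap.polar Q a Y) • a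
          - QuadraticMap.polar Q a Y • (s • v)
          + ((QuadraticMap.polar Q ((-s) • v) Y - Q ((-s) • v) * QuadraticMap.polar Q a Y) • a
          - QuadraticMap.polar Q a Y • ((-s) • v)) := by
      simp only [QuadraticMap.polar_smul_left, QuadraticMap.map_smul, smul_eq_mul]
      ext j
      simp only [Pi.add_apply, Pi.sub_apply, Pi.smul_apply, smul_eq_mul, Pi.neg_apply]
      ring
    rw [e4]
    exact e3
  have step3 : ∀ a v, a ∈ D l → v ∈ D l → Q a = 0 → QuadraticMap.polar Q a v = 0 → Q v ≠ 0 →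
      QuadraticMap.polar Q a Y ≠ 0 → ∀ s : F, s • a ∈ A := by
    intro a v ha hv hQa hav hQv haY s
    set κ := -2 * Q v * QuadraticMap.polar Q a Y with hκ
    have hκ0 : κ ≠ 0 := mul_ne_zero (mul_ne_zero (neg_ne_zero.mpr h2) hQv) haY
    have e1 := step2 a v ha hv hQa hav ((s / κ + 1) / 2)
    have e2 := step2 a v ha hv hQa hav ((s / κ - 1) / 2)
    have e3 := A.sub_mem e1 e2
    have e4 : s • a = ((s / κ + 1) / 2 * ((s / κ + 1) / 2) * κ) • a
        - ((s / κ - 1) / 2 * ((s / κ - 1) / 2) * κ) • a := by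
      rw [← sub_smul]
      congr 1
      field_simp
      ring
    rw [e4]
    exact e3
  have step4 : ∀ a, a ∈ D l → Q a = 0 → QuadraticMap.polar Q a Y ≠ 0 →
      ∀ v ∈ D l, QuadraticMap.polar Q a v = 0 → v ∈ A := by
    intro a ha hQa haY v hv hav
    have ha0 : a ≠ 0 := by
      rintro rfl
      apply haY
      simp
    obtain ⟨v₀, hv₀, hav₀, hQv₀⟩ := h.exists_sing_orth_nonsing l a ha ha0 hQa
    have hall := step3 a v₀ ha hv₀ hQa hav₀ hQv₀ haY
    have e1 := step1 a v ha hv hQa hav (-(QuadraticMap.polar Q a Y)⁻¹)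
    have e2 := hall (-(QuadraticMap.polar Q a Y)⁻¹ * QuadraticMap.polar Q v Y)
    have e3 := A.sub_mem e1 e2
    have e4 : v = (-(QuadraticMap.polar Q a Y)⁻¹) • (QuadraticMap.polar Q v Y • a
        - QuadraticMap.polar Q a Y • v)
        - (-(QuadraticMap.polar Q a Y)⁻¹ * QuadraticMap.polar Q v Y) • a := by
      ext j
      simp only [Pi.add_apply, Pi.sub_apply, Pi.smul_apply, smul_eq_mul, Pi.neg_apply]
      field_simp
      ring
    rw [e4]
    exact e3
  obtain ⟨a, a', ha, ha', hQa, hQa', haa', hYa, hYa'⟩ := h.exists_sing_pair_polar_ne l Y hY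
  have haY : QuadraticMap.polar Q a Y ≠ 0 := by rw [QuadraticMap.polar_comm]; exact hYa
  have ha'Y : QuadraticMap.polar Q a' Y ≠ 0 := by rw [QuadraticMap.polar_comm]; exact hYa'
  intro d hd
  have e1 := step4 a ha hQa haY (d - QuadraticMap.polar Q a d • a')
    ((D l).sub_mem hd ((D l).smul_mem _ ha'))
    (by rw [QuadraticMap.polar_sub_right, QuadraticMap.polar_smul_right, haa', smul_eq_mul, mul_one,
      sub_self])
  have e2 := step4 a' ha' hQa' ha'Y (QuadraticMap.polar Q a d • a') ((D l).smul_mem _ ha')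
    (by rw [QuadraticMap.polar_smul_right, od_polar_self, hQa']; simp)
  have e3 := A.add_mem e1 e2
  rw [sub_add_cancel] at e3
  exact e3

/-- If `X` is orthogonal to a block and `Y` is not, then `E(X, b) ∈ M` for every `b` in the block. -/
theorem InM.block_of_orth (h : OD Q k D) (hn : 7 ≤ Fintype.card ι)
    (hN : ∀ g ∈ Cfsg.Omega F ⇑Q,
      (g : Matrix.GeneralLinearGroup ι F) ∈ Cfsg.Geo.decompositionStabilizer D → g ∈ M)
    {X Y : ι → F} (hXY : InM Q M X Y) (l : Fin t)
    (hX : ∀ u ∈ D l, QuadraticMap.polar Q X u = 0)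
    (hY : ∃ u ∈ D l, QuadraticMap.polar Q Y u ≠ 0) : ∀ b ∈ D l, InM Q M X b := by
  let A : AddSubgroup (ι → F) :=
    { carrier := {w | InM Q M X w}
      add_mem' := fun ha hb => InM.add ha hb
      zero_mem' := InM.zero hXY.1
      neg_mem' := fun ha => InM.neg ha }
  have key := h.block_le_of_closed l Y hY A (by
    intro a v ha hv hQa hav
    have hg : eichG Q a v ∈ M := od_eich_mem h hn hN l a v ha hv
    have hgX : isoAct (⇑Q) (eichG Q a v) X = X := by
      rw [isoAct_eichG Q a v hQa hav, QuadraticMap.polar_comm Q v X, hX v hv,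
        QuadraticMap.polar_comm Q a X, hX a ha]
      simp
    have h1 := hXY.comm (eichG Q a v) hg hgX
    have h2 : isoAct (⇑Q) (eichG Q a v) Y - Y
        = (QuadraticMap.polar Q v Y - Q v * QuadraticMap.polar Q a Y) • a
          - QuadraticMap.polar Q a Y • v := by
      rw [isoAct_eichG Q a v hQa hav]
      abel
    rw [h2] at h1
    exact h1)
  intro b hb
  exact key b hb

/-- If `X ≠ 0` is orthogonal to a block and `Y` is not, then `M` contains a mixed Eichler
transformation. -/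
theorem InM.mixed_of_orth (h : OD Q k D) (hn : 7 ≤ Fintype.card ι)
    (hN : ∀ g ∈ Cfsg.Omega F ⇑Q,
      (g : Matrix.GeneralLinearGroup ι F) ∈ Cfsg.Geo.decompositionStabilizer D → g ∈ M)
    {X Y : ι → F} (hXY : InM Q M X Y) (hX0 : X ≠ 0) (l : Fin t)
    (hX : ∀ u ∈ D l, QuadraticMap.polar Q X u = 0)
    (hY : ∃ u ∈ D l, QuadraticMap.polar Q Y u ≠ 0) : Mixed Q M D := by
  obtain ⟨p, q, hp, hq, hQp, hQq, hpq⟩ := h.exists_hyp l
  have hp0 : p ≠ 0 := by
    rintro rfl
    simp at hpq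
  have h1 := hXY.block_of_orth h hn hN l hX hY p hp
  refine ⟨l, p, -X, hp, hp0, ?_, h1.swap hQp⟩
  intro hXl
  apply hX0
  have hXl' : X ∈ D l := by
    have := (D l).neg_mem hXl
    rwa [neg_neg] at this
  exact h.eq_zero_of_orth l X hXl' hX

/-- An element of `M` outside the decomposition stabiliser yields an Eichler transformation in `M`
whose parameters do not lie in a common block. -/
theorem od_exists_bad_pair (h : OD Q k D) (hn : 7 ≤ Fintype.card ι)
    (hN : ∀ g ∈ Cfsg.Omega F ⇑Q,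
      (g : Matrix.GeneralLinearGroup ι F) ∈ Cfsg.Geo.decompositionStabilizer D → g ∈ M)
    (g : ↥(Cfsg.isometryGroup F ⇑Q)) (hgM : g ∈ M)
    (hg : (g : Matrix.GeneralLinearGroup ι F) ∉ Cfsg.Geo.decompositionStabilizer D) :
    ∃ x y, InM Q M x y ∧ x ≠ 0 ∧ (∀ c : F, y ≠ c • x) ∧ ¬ ∃ j, x ∈ D j ∧ y ∈ D j := by
  by_contra hcon
  push Not at hcon
  apply hg
  apply od_mem_stab_of_forall_exists h g
  intro i
  have key : ∀ a b, a ∈ D i → b ∈ D i → Q a = 0 → QuadraticMap.polar Q a b = 0 → a ≠ 0 →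
      (∀ c : F, b ≠ c • a) → ∃ j, isoAct (⇑Q) g a ∈ D j ∧ isoAct (⇑Q) g b ∈ D j := by
    intro a b ha hb hQa hab ha0 hne
    apply hcon _ _ ((InM.of_block h hn hN i a b ha hb hQa hab).conj g hgM)
    · intro h0
      exact ha0 ((isoAct_eq_zero_iff (⇑Q) g a).mp h0)
    · intro c hc
      apply hne c
      rw [← isoAct_smul] at hc
      have := congrArg (isoAct (⇑Q) g⁻¹) hc
      rwa [isoAct_inv_isoAct, isoAct_inv_isoAct] at this
  obtain ⟨p, q, hp, hq, hQp, hQq, hpq⟩ := h.exists_hyp i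
  have hp0 : p ≠ 0 := by
    rintro rfl
    simp at hpq
  have hq0 : q ≠ 0 := by
    rintro rfl
    simp at hpq
  have hqp : QuadraticMap.polar Q q p = 1 := by rw [QuadraticMap.polar_comm]; exact hpq
  obtain ⟨u, hu, hpu, hqu, hQu⟩ := h.exists_nonsing_hyp i p q hp hq hQp hQq hpq
  have hu0 : u ≠ 0 := by
    rintro rfl
    exact hQu (map_zero _)
  have hgu0 : isoAct (⇑Q) g u ≠ 0 := fun h0 => hu0 ((isoAct_eq_zero_iff (⇑Q) g u).mp h0)
  have hgp0 : isoAct (⇑Q) g p ≠ 0 := fun h0 => hp0 ((isoAct_eq_zero_iff (⇑Q) g p).mp h0)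
  have hnes : ∀ (a : ι → F), Q a = 0 → ∀ c : F, u ≠ c • a := by
    intro a hQa c hc
    apply hQu
    rw [hc, QuadraticMap.map_smul, hQa, smul_zero]
  obtain ⟨j, hjp, hju⟩ := key p u hp hu hQp hpu hp0 (hnes p hQp)
  obtain ⟨j', hj'q, hj'u⟩ := key q u hq hu hQq hqu hq0 (hnes q hQq)
  have hjj : j' = j := h.eq_of_mem_mem hgu0 hj'u hju
  rw [hjj] at hj'q
  have hperp : ∀ b ∈ D i, QuadraticMap.polar Q p b = 0 → isoAct (⇑Q) g b ∈ D j := by
    intro b hb hpb
    by_cases hbc : ∃ c : F, b = c • p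
    · obtain ⟨c, rfl⟩ := hbc
      rw [isoAct_smul]
      exact (D j).smul_mem _ hjp
    · push Not at hbc
      obtain ⟨j'', h1, h2⟩ := key p b hp hb hQp hpb hp0 hbc
      have : j'' = j := h.eq_of_mem_mem hgp0 h1 hjp
      rw [this] at h2
      exact h2
  refine ⟨j, fun d hd => ?_⟩
  have e : d = (d - QuadraticMap.polar Q p d • q) + QuadraticMap.polar Q p d • q := by abel
  rw [e, isoAct_add, isoAct_smul]
  refine (D j).add_mem (hperp _ ((D i).sub_mem hd ((D i).smul_mem _ hq)) ?_) ((D j).smul_mem _ hj'q)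
  rw [QuadraticMap.polar_sub_right, QuadraticMap.polar_smul_right, hpq, smul_eq_mul, mul_one, sub_self]

end ODGen

end Cfsg.Agent.Lib.helper17
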