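/-
helper17: orthogonal decompositions: block-permuting isometries (3-cycles of blocks) in `M`, moving
vectors inside a block.
-/
import Mathlib
import Cfsg.Agent.Lib.helper17.OrthDec2

set_option autoImplicit false
set_option linter.unusedSectionVars false

namespace Cfsg.Agent.Lib.helper17

open Matrix Module
open Cfsg.Agent.Lib.helper49

section ODPerm

variable {F : Type*} [Field F] [Fintype F] {ι : Type} [Fintype ι] [DecidableEq ι]
variable {Q : QuadraticForm F (ι → F)} {t k : ℕ} {D : Fin t → Submodule F (ι → F)}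
variable {M : Subgroup ↥(Cfsg.isometryGroup F ⇑Q)}

omit [Fintype F] in
/-- A linear endomorphism preserving `Q` is an isometry. -/
theorem od_iso_of_linear (Q : QuadraticForm F (ι → F)) (hQ : (QuadraticMap.polarBilin Q).Nondegenerate)
    (S : (ι → F) →ₗ[F] (ι → F)) (hS : ∀ v, Q (S v) = Q v) :
    ∃ g : ↥(Cfsg.isometryGroup F ⇑Q), ∀ x, isoAct (⇑Q) g x = S x := by
  have hpol : ∀ x y, QuadraticMap.polar Q (S x) (S y) = QuadraticMap.polar Q x y := by
    intro x y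
    unfold QuadraticMap.polar
    rw [← map_add, hS, hS, hS]
  have hinj : Function.Injective S := by
    rw [← LinearMap.ker_eq_bot, LinearMap.ker_eq_bot']
    intro x hx
    apply hQ.1 x
    intro y
    rw [QuadraticMap.polarBilin_apply_apply, ← hpol, hx]
    simp
  refine ⟨isoOfEquiv (⇑Q) (LinearEquiv.ofInjectiveEndo S hinj)
    (fun v => by rw [LinearEquiv.coe_ofInjectiveEndo]; exact hS v), fun x => ?_⟩
  show LinearMap.toMatrix' (LinearEquiv.ofInjectiveEndo S hinj).toLinearMap *ᵥ x = S x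
  rw [LinearMap.toMatrix'_mulVec]
  simp

omit [Fintype F] [DecidableEq ι] in
theorem od_Q_four (Q : QuadraticForm F (ι → F)) (r a b c : ι → F)
    (h1 : QuadraticMap.polar Q r a = 0) (h2 : QuadraticMap.polar Q r b = 0)
    (h3 : QuadraticMap.polar Q r c = 0) (h4 : QuadraticMap.polar Q a b = 0)
    (h5 : QuadraticMap.polar Q a c = 0) (h6 : QuadraticMap.polar Q b c = 0) :
    Q (r + a + b + c) = Q r + Q a + Q b + Q c := by
  rw [QuadraticMap.map_add Q, QuadraticMap.map_add Q, QuadraticMap.map_add Q, QuadraticMap.polar_add_left,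
    QuadraticMap.polar_add_left, QuadraticMap.polar_add_left, h1, h2, h3, h4, h5, h6]
  ring

/-- An isometry permuting three blocks cyclically and fixing the other blocks pointwise. -/
theorem OD.exists_cycle (h : OD Q k D) (i j l : Fin t) (hij : i ≠ j) (hjl : j ≠ l) (hil : i ≠ l) :
    ∃ g : ↥(Cfsg.isometryGroup F ⇑Q), (∀ u ∈ D i, isoAct (⇑Q) g u ∈ D j) ∧
      (∀ u ∈ D j, isoAct (⇑Q) g u ∈ D l) ∧ (∀ u ∈ D l, isoAct (⇑Q) g u ∈ D i) ∧
      (∀ b, b ≠ i → b ≠ j → b ≠ l → ∀ u ∈ D b, isoAct (⇑Q) g u = u) := by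
  obtain ⟨e1, he1⟩ := h.iso i j
  obtain ⟨e2, he2⟩ := h.iso j l
  obtain ⟨e3, he3⟩ := h.iso l i
  obtain ⟨πi, hπi⟩ : ∃ π : (ι → F) →ₗ[F] ↥(D i), π = (D i).projectionOnto _ (h.split i).compl :=
    ⟨_, rfl⟩
  obtain ⟨πj, hπj⟩ : ∃ π : (ι → F) →ₗ[F] ↥(D j), π = (D j).projectionOnto _ (h.split j).compl :=
    ⟨_, rfl⟩
  obtain ⟨πl, hπl⟩ : ∃ π : (ι → F) →ₗ[F] ↥(D l), π = (D l).projectionOnto _ (h.split l).compl :=
    ⟨_, rfl⟩
  -- properties of the projections
  have hperp_i : ∀ x, ∀ u ∈ D i, QuadraticMap.polar Q u (x - (πi x : ι → F)) = 0 := by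
    intro x u hu
    have := Submodule.sub_projection_mem (h.split i).compl x
    rw [hπi]
    exact this u hu
  have hperp_j : ∀ x, ∀ u ∈ D j, QuadraticMap.polar Q u (x - (πj x : ι → F)) = 0 := by
    intro x u hu
    have := Submodule.sub_projection_mem (h.split j).compl x
    rw [hπj]
    exact this u hu
  have hperp_l : ∀ x, ∀ u ∈ D l, QuadraticMap.polar Q u (x - (πl x : ι → F)) = 0 := by
    intro x u hu
    have := Submodule.sub_projection_mem (h.split l).compl x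
    rw [hπl]
    exact this u hu
  have hzero_i : ∀ x, (∀ u ∈ D i, QuadraticMap.polar Q u x = 0) → πi x = 0 := by
    intro x hx
    rw [hπi]
    exact (Submodule.projectionOnto_apply_eq_zero_iff (h.split i).compl).mpr (fun u hu => hx u hu)
  have hzero_j : ∀ x, (∀ u ∈ D j, QuadraticMap.polar Q u x = 0) → πj x = 0 := by
    intro x hx
    rw [hπj]
    exact (Submodule.projectionOnto_apply_eq_zero_iff (h.split j).compl).mpr (fun u hu => hx u hu)
  have hzero_l : ∀ x, (∀ u ∈ D l, QuadraticMap.polar Q u x = 0) → πl x = 0 := by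
    intro x hx
    rw [hπl]
    exact (Submodule.projectionOnto_apply_eq_zero_iff (h.split l).compl).mpr (fun u hu => hx u hu)
  have hid_i : ∀ x (hx : x ∈ D i), πi x = ⟨x, hx⟩ := by
    intro x hx
    rw [hπi]
    exact Submodule.projectionOnto_apply_of_mem_left (h.split i).compl hx
  have hid_j : ∀ x (hx : x ∈ D j), πj x = ⟨x, hx⟩ := by
    intro x hx
    rw [hπj]
    exact Submodule.projectionOnto_apply_of_mem_left (h.split j).compl hx
  have hid_l : ∀ x (hx : x ∈ D l), πl x = ⟨x, hx⟩ := by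
    intro x hx
    rw [hπl]
    exact Submodule.projectionOnto_apply_of_mem_left (h.split l).compl hx
  obtain ⟨S, hS⟩ : ∃ S : (ι → F) →ₗ[F] (ι → F), S = LinearMap.id - (D i).subtype ∘ₗ πi
      - (D j).subtype ∘ₗ πj - (D l).subtype ∘ₗ πl + (D j).subtype ∘ₗ e1.toLinearMap ∘ₗ πi
      + (D l).subtype ∘ₗ e2.toLinearMap ∘ₗ πj + (D i).subtype ∘ₗ e3.toLinearMap ∘ₗ πl := ⟨_, rfl⟩
  have hSx : ∀ x, S x = x - (πi x : ι → F) - (πj x : ι → F) - (πl x : ι → F)
      + (e1 (πi x) : ι → F) + (e2 (πj x) : ι → F) + (e3 (πl x) : ι → F) := by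
    intro x
    rw [hS]
    simp
  have hji : j ≠ i := Ne.symm hij
  have hlj : l ≠ j := Ne.symm hjl
  have hli : l ≠ i := Ne.symm hil
  have hSQ : ∀ x, Q (S x) = Q x := by
    intro x
    have ha : (πi x : ι → F) ∈ D i := (πi x).2
    have hb : (πj x : ι → F) ∈ D j := (πj x).2
    have hc : (πl x : ι → F) ∈ D l := (πl x).2
    have ha' : (e1 (πi x) : ι → F) ∈ D j := (e1 (πi x)).2
    have hb' : (e2 (πj x) : ι → F) ∈ D l := (e2 (πj x)).2
    have hc' : (e3 (πl x) : ι → F) ∈ D i := (e3 (πl x)).2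
    obtain ⟨r, hr⟩ : ∃ r : ι → F, r = x - (πi x : ι → F) - (πj x : ι → F) - (πl x : ι → F) := ⟨_, rfl⟩
    have hri : ∀ u ∈ D i, QuadraticMap.polar Q r u = 0 := by
      intro u hu
      have e : r = (x - (πi x : ι → F)) - (πj x : ι → F) - (πl x : ι → F) := hr
      rw [e, QuadraticMap.polar_sub_left, QuadraticMap.polar_sub_left,
        QuadraticMap.polar_comm Q _ u, hperp_i x u hu, h.orth j i hji _ hb u hu, h.orth l i hli _ hc u hu]
      ring
    have hrj : ∀ u ∈ D j, QuadraticMap.polar Q r u = 0 := by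
      intro u hu
      have e : r = (x - (πj x : ι → F)) - (πi x : ι → F) - (πl x : ι → F) := by rw [hr]; abel
      rw [e, QuadraticMap.polar_sub_left, QuadraticMap.polar_sub_left,
        QuadraticMap.polar_comm Q _ u, hperp_j x u hu, h.orth i j hij _ ha u hu, h.orth l j hlj _ hc u hu]
      ring
    have hrl : ∀ u ∈ D l, QuadraticMap.polar Q r u = 0 := by
      intro u hu
      have e : r = (x - (πl x : ι → F)) - (πi x : ι → F) - (πj x : ι → F) := by rw [hr]; abel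
      rw [e, QuadraticMap.polar_sub_left, QuadraticMap.polar_sub_left,
        QuadraticMap.polar_comm Q _ u, hperp_l x u hu, h.orth i l hil _ ha u hu, h.orth j l hjl _ hb u hu]
      ring
    have e1' : S x = r + (e1 (πi x) : ι → F) + (e2 (πj x) : ι → F) + (e3 (πl x) : ι → F) := by
      rw [hSx, hr]
    have e2' : x = r + (πi x : ι → F) + (πj x : ι → F) + (πl x : ι → F) := by
      rw [hr]; abel
    rw [e1', od_Q_four Q r _ _ _ (hrj _ ha') (hrl _ hb') (hri _ hc') (h.orth j l hjl _ ha' _ hb')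
      (h.orth j i hji _ ha' _ hc') (h.orth l i hli _ hb' _ hc'), he1, he2, he3]
    conv_rhs => rw [e2']
    rw [od_Q_four Q r _ _ _ (hri _ ha) (hrj _ hb) (hrl _ hc) (h.orth i j hij _ ha _ hb)
      (h.orth i l hil _ ha _ hc) (h.orth j l hjl _ hb _ hc)]
  obtain ⟨g, hg⟩ := od_iso_of_linear Q h.nd S hSQ
  refine ⟨g, ?_, ?_, ?_, ?_⟩
  · intro u hu
    rw [hg, hSx, hid_i u hu, hzero_j u (fun v hv => h.orth j i hji v hv u hu),
      hzero_l u (fun v hv => h.orth l i hli v hv u hu)]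
    simp only [map_zero, Submodule.coe_zero, sub_self, sub_zero, zero_add, add_zero]
    exact (e1 ⟨u, hu⟩).2
  · intro u hu
    rw [hg, hSx, hid_j u hu, hzero_i u (fun v hv => h.orth i j hij v hv u hu),
      hzero_l u (fun v hv => h.orth l j hlj v hv u hu)]
    simp only [map_zero, Submodule.coe_zero, sub_self, sub_zero, zero_add, add_zero]
    exact (e2 ⟨u, hu⟩).2
  · intro u hu
    rw [hg, hSx, hid_l u hu, hzero_i u (fun v hv => h.orth i l hil v hv u hu),
      hzero_j u (fun v hv => h.orth j l hjl v hv u hu)]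
    simp only [map_zero, Submodule.coe_zero, sub_self, sub_zero, zero_add, add_zero]
    exact (e3 ⟨u, hu⟩).2
  · intro b hbi hbj hbl u hu
    rw [hg, hSx, hzero_i u (fun v hv => h.orth i b (Ne.symm hbi) v hv u hu),
      hzero_j u (fun v hv => h.orth j b (Ne.symm hbj) v hv u hu),
      hzero_l u (fun v hv => h.orth l b (Ne.symm hbl) v hv u hu)]
    simp

end ODPerm

section ODPermM

variable {F : Type*} [Field F] [Fintype F] {ι : Type} [Fintype ι] [DecidableEq ι]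
variable {Q : QuadraticForm F (ι → F)} {t k : ℕ} {D : Fin t → Submodule F (ι → F)}
variable {M : Subgroup ↥(Cfsg.isometryGroup F ⇑Q)}

/-- An element of `M` mapping `D i` to `D j` and `D j` to `D l`. -/
theorem OD.exists_cycle_mem (h : OD Q k D) (hn : 7 ≤ Fintype.card ι)
    (hN : ∀ g ∈ Cfsg.Omega F ⇑Q,
      (g : Matrix.GeneralLinearGroup ι F) ∈ Cfsg.Geo.decompositionStabilizer D → g ∈ M)
    (i j l : Fin t) (hij : i ≠ j) (hjl : j ≠ l) (hil : i ≠ l) :
    ∃ σ ∈ M, (∀ u ∈ D i, isoAct (⇑Q) σ u ∈ D j) ∧ (∀ u ∈ D j, isoAct (⇑Q) σ u ∈ D l) := by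
  obtain ⟨g, hgi, hgj, hgl, hgo⟩ := h.exists_cycle i j l hij hjl hil
  obtain ⟨p, q, hp, hq, hQp, hQq, hpq⟩ := h.exists_hyp i
  obtain ⟨s, hsΩ, hsfix, hsX⟩ := exists_correction Q h.nd (by omega) p q hQp hQq hpq g
  have hfix : ∀ b, b ≠ i → ∀ u ∈ D b, isoAct (⇑Q) s u = u := by
    intro b hb u hu
    exact hsfix u (h.orth i b (Ne.symm hb) p hp u hu) (h.orth i b (Ne.symm hb) q hq u hu)
  have h1 : ∀ u ∈ D i, isoAct (⇑Q) (s * g) u ∈ D j := by
    intro u hu
    rw [isoAct_mul, hfix j (Ne.symm hij) _ (hgi u hu)]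
    exact hgi u hu
  have h2 : ∀ u ∈ D j, isoAct (⇑Q) (s * g) u ∈ D l := by
    intro u hu
    rw [isoAct_mul, hfix l (Ne.symm hil) _ (hgj u hu)]
    exact hgj u hu
  have h3 : ∀ u ∈ D l, isoAct (⇑Q) (s * g) u ∈ D i := by
    intro u hu
    rw [isoAct_mul]
    exact hsX (D i) hp hq _ (hgl u hu)
  refine ⟨s * g, hN _ hsΩ ?_, h1, h2⟩
  apply od_mem_stab_of_forall_exists h
  intro b
  by_cases hbi : b = i
  · subst hbi
    exact ⟨j, h1⟩
  by_cases hbj : b = j
  · subst hbj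
    exact ⟨l, h2⟩
  by_cases hbl : b = l
  · subst hbl
    exact ⟨i, h3⟩
  refine ⟨b, fun u hu => ?_⟩
  rw [isoAct_mul, hgo b hbi hbj hbl u hu, hfix b hbi u hu]
  exact hu

/-- Moving a non-singular vector of a block to another vector of the same norm by an element of `M`
acting on this block only. -/
theorem OD.exists_move (h : OD Q k D)
    (hN : ∀ g ∈ Cfsg.Omega F ⇑Q,
      (g : Matrix.GeneralLinearGroup ι F) ∈ Cfsg.Geo.decompositionStabilizer D → g ∈ M)
    (b : Fin t) (x' v : ι → F) (hx' : x' ∈ D b) (hv : v ∈ D b) (hQ : Q v = Q x') (hQv : Q v ≠ 0)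
    (hd : Q (x' - v) ≠ 0) :
    ∃ n ∈ M, isoAct (⇑Q) n x' = v ∧ (∀ u ∈ D b, isoAct (⇑Q) n u ∈ D b) ∧
      (∀ u, (∀ d ∈ D b, QuadraticMap.polar Q d u = 0) → isoAct (⇑Q) n u = u) := by
  obtain ⟨p, hp, hvp, hQp⟩ := h.exists_orth_norm b v hv hQv (Q (x' - v)) hd
  have hQp0 : Q p ≠ 0 := by rw [hQp]; exact hd
  have hdD : x' - v ∈ D b := (D b).sub_mem hx' hv
  refine ⟨reflG' Q p * reflG' Q (x' - v), od_refl2_mem h hN b p (x' - v) hp hdD hQp0 hQp.symm, ?_, ?_, ?_⟩
  · rw [isoAct_mul, isoAct_reflG' Q (x' - v) hd]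
    have e1 : QuadraticMap.polar Q (x' - v) x' = Q (x' - v) := by
      rw [QuadraticMap.polar_sub_left, od_polar_self, od_Q_sub, hQ, QuadraticMap.polar_comm Q v x']
      ring
    rw [e1, inv_mul_cancel₀ hd, one_smul, sub_sub_cancel,
      isoAct_reflG'_of_orth Q p v hQp0 (by rw [QuadraticMap.polar_comm]; exact hvp)]
  · intro u hu
    rw [isoAct_mul, isoAct_reflG' Q (x' - v) hd, isoAct_reflG' Q p hQp0]
    exact (D b).sub_mem ((D b).sub_mem hu ((D b).smul_mem _ hdD)) ((D b).smul_mem _ hp)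
  · intro u hu
    rw [isoAct_mul, isoAct_reflG'_of_orth Q (x' - v) u hd (hu _ hdD),
      isoAct_reflG'_of_orth Q p u hQp0 (hu _ hp)]

/-- An element of `M` mapping `D i'` to `D i`, `D i` to `D l`, and a given non-singular vector of
`D i'` to `± v` for a given vector `v` of `D i` of the same norm. -/
theorem OD.exists_cycle_move (h : OD Q k D) (hn : 7 ≤ Fintype.card ι)
    (hN : ∀ g ∈ Cfsg.Omega F ⇑Q,
      (g : Matrix.GeneralLinearGroup ι F) ∈ Cfsg.Geo.decompositionStabilizer D → g ∈ M)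
    (i' i l : Fin t) (hi'i : i' ≠ i) (hil : i ≠ l) (hi'l : i' ≠ l) (x' v : ι → F) (hx' : x' ∈ D i')
    (hv : v ∈ D i) (hQ : Q v = Q x') (hQv : Q v ≠ 0) :
    ∃ σ ∈ M, (∀ u ∈ D i', isoAct (⇑Q) σ u ∈ D i) ∧ (∀ u ∈ D i, isoAct (⇑Q) σ u ∈ D l) ∧
      (isoAct (⇑Q) σ x' = v ∨ isoAct (⇑Q) σ x' = -v) := by
  have h2 := h.two
  obtain ⟨σ₁, hσ₁M, h1, h2'⟩ := h.exists_cycle_mem hn hN i' i l hi'i hil hi'l
  have hv₁ : isoAct (⇑Q) σ₁ x' ∈ D i := h1 x' hx'
  have hQv₁ : Q (isoAct (⇑Q) σ₁ x') = Q x' := Q_isoAct (⇑Q) σ₁ x'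
  have hfixl : ∀ (n : ↥(Cfsg.isometryGroup F ⇑Q)),
      (∀ u, (∀ d ∈ D i, QuadraticMap.polar Q d u = 0) → isoAct (⇑Q) n u = u) →
      ∀ u ∈ D l, isoAct (⇑Q) n u = u := by
    intro n hn' u hu
    exact hn' u (fun d hd => h.orth i l hil d hd u hu)
  by_cases hd : Q (isoAct (⇑Q) σ₁ x' - v) = 0
  · have hd' : Q (isoAct (⇑Q) σ₁ x' - -v) ≠ 0 := by
      rw [od_Q_sub, hQv₁, hQ] at hd
      rw [sub_neg_eq_add, QuadraticMap.map_add Q, hQv₁, hQ]
      have e : Q x' + Q x' + QuadraticMap.polar Q (isoAct (⇑Q) σ₁ x') v = 4 * Q x' := by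
        linear_combination (-1 : F) * hd
      rw [e]
      have h4 : (4 : F) ≠ 0 := by
        have : (4 : F) = 2 * 2 := by norm_num
        rw [this]
        exact mul_ne_zero h2 h2
      exact mul_ne_zero h4 (by rw [← hQ]; exact hQv)
    obtain ⟨n, hnM, hnv, hnD, hnfix⟩ := h.exists_move hN i (isoAct (⇑Q) σ₁ x') (-v) hv₁
      ((D i).neg_mem hv) (by rw [QuadraticMap.map_neg, hQv₁, hQ])
      (by rw [QuadraticMap.map_neg]; exact hQv) hd'
    refine ⟨n * σ₁, M.mul_mem hnM hσ₁M, ?_, ?_, Or.inr ?_⟩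
    · intro u hu
      rw [isoAct_mul]
      exact hnD _ (h1 u hu)
    · intro u hu
      rw [isoAct_mul, hfixl n hnfix _ (h2' u hu)]
      exact h2' u hu
    · rw [isoAct_mul]
      exact hnv
  · obtain ⟨n, hnM, hnv, hnD, hnfix⟩ := h.exists_move hN i (isoAct (⇑Q) σ₁ x') v hv₁ hv
      (by rw [hQv₁, hQ]) hQv hd
    refine ⟨n * σ₁, M.mul_mem hnM hσ₁M, ?_, ?_, Or.inl ?_⟩
    · intro u hu
      rw [isoAct_mul]
      exact hnD _ (h1 u hu)
    · intro u hu
      rw [isoAct_mul, hfixl n hnfix _ (h2' u hu)]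
      exact h2' u hu
    · rw [isoAct_mul]
      exact hnv

end ODPermM

end Cfsg.Agent.Lib.helper17
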