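/-
helper17: orthogonal decompositions: from an Eichler transformation in `M` whose parameters do not lie
in a common block to a "mixed" Eichler transformation `E(a, w)`, `a` in a block, `w` outside it.
-/
import Mathlib
import Cfsg.Agent.Lib.helper17.OrthDec3

set_option autoImplicit false
set_option linter.unusedSectionVars false

namespace Cfsg.Agent.Lib.helper17

open Matrix Module
open Cfsg.Agent.Lib.helper49

section ODMixed

variable {F : Type*} [Field F] [Fintype F] {ι : Type} [Fintype ι] [DecidableEq ι]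
variable {Q : QuadraticForm F (ι → F)} {t k : ℕ} {D : Fin t → Submodule F (ι → F)}
variable {M : Subgroup ↥(Cfsg.isometryGroup F ⇑Q)}

omit [Fintype F] in
theorem od_eich_fix (Q : QuadraticForm F (ι → F)) (a v x : ι → F) (hQa : Q a = 0)
    (hav : QuadraticMap.polar Q a v = 0) (hax : QuadraticMap.polar Q a x = 0)
    (hvx : QuadraticMap.polar Q v x = 0) : isoAct (⇑Q) (eichG Q a v) x = x := by
  rw [isoAct_eichG Q a v hQa hav, hax, hvx]
  simp

/-- A singular block component of `x` with the component of `y` not proportional to it. -/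
theorem InM.mixed_of_sing_comp (h : OD Q k D) (hn : 7 ≤ Fintype.card ι)
    (hN : ∀ g ∈ Cfsg.Omega F ⇑Q,
      (g : Matrix.GeneralLinearGroup ι F) ∈ Cfsg.Geo.decompositionStabilizer D → g ∈ M)
    {x y : ι → F} (hxy : InM Q M x y) (i : Fin t) (xi x' yi y' : ι → F) (hxi : xi ∈ D i)
    (hx' : ∀ u ∈ D i, QuadraticMap.polar Q x' u = 0) (hx : x = xi + x') (hyi : yi ∈ D i)
    (hy' : ∀ u ∈ D i, QuadraticMap.polar Q y' u = 0) (hy : y = yi + y') (hxi0 : xi ≠ 0)
    (hQxi : Q xi = 0) (hx'0 : x' ≠ 0) (hne : ∀ c : F, yi ≠ c • xi) : Mixed Q M D := by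
  have h2 := h.two
  have hxx : QuadraticMap.polar Q xi xi = 0 := by rw [od_polar_self, hQxi, mul_zero]
  have hpx : ∀ u ∈ D i, QuadraticMap.polar Q u x = QuadraticMap.polar Q u xi := by
    intro u hu
    rw [hx, QuadraticMap.polar_add_right, QuadraticMap.polar_comm Q u x', hx' u hu, add_zero]
  have hpy : ∀ u ∈ D i, QuadraticMap.polar Q u y = QuadraticMap.polar Q u yi := by
    intro u hu
    rw [hy, QuadraticMap.polar_add_right, QuadraticMap.polar_comm Q u y', hy' u hu, add_zero]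
  have hxix : QuadraticMap.polar Q xi x = 0 := by rw [hpx xi hxi, hxx]
  -- it suffices to find a non-zero multiple of `xi` in the root group of `x`
  have fin : ∀ s : F, s ≠ 0 → InM Q M x (s • xi) → Mixed Q M D := by
    intro s hs hin
    have hQs : Q (s • xi) = 0 := by rw [QuadraticMap.map_smul, hQxi, smul_zero]
    refine ⟨i, s • xi, -x, (D i).smul_mem _ hxi, smul_ne_zero hs hxi0, ?_, hin.swap hQs⟩
    intro hmem
    apply hx'0
    have hxD : x ∈ D i := by
      have := (D i).neg_mem hmem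
      rwa [neg_neg] at this
    have hx'D : x' ∈ D i := by
      have e : x' = x - xi := by rw [hx]; abel
      rw [e]
      exact (D i).sub_mem hxD hxi
    exact h.eq_zero_of_orth i x' hx'D hx'
  by_cases hc : QuadraticMap.polar Q xi yi = 0
  · obtain ⟨v, hv, hxv, hyv⟩ : ∃ v ∈ D i, QuadraticMap.polar Q xi v = 0 ∧
        QuadraticMap.polar Q yi v ≠ 0 := by
      by_contra hcon
      push Not at hcon
      obtain ⟨b, hb, hQb, hxb⟩ := h.exists_partner i xi hxi hxi0 hQxi
      apply hne (QuadraticMap.polar Q yi b)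
      rw [← sub_eq_zero]
      apply h.eq_zero_of_orth i _ ((D i).sub_mem hyi ((D i).smul_mem _ hxi))
      intro d hd
      have h1 := hcon (d - QuadraticMap.polar Q xi d • b) ((D i).sub_mem hd ((D i).smul_mem _ hb))
        (by rw [QuadraticMap.polar_sub_right, QuadraticMap.polar_smul_right, hxb, smul_eq_mul, mul_one,
          sub_self])
      rw [QuadraticMap.polar_sub_right, QuadraticMap.polar_smul_right, smul_eq_mul] at h1
      rw [QuadraticMap.polar_sub_left, QuadraticMap.polar_smul_left, smul_eq_mul]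
      linear_combination h1
    have hg : eichG Q xi v ∈ M := od_eich_mem h hn hN i xi v hxi hv
    have hgx : isoAct (⇑Q) (eichG Q xi v) x = x :=
      od_eich_fix Q xi v x hQxi hxv hxix (by rw [hpx v hv, QuadraticMap.polar_comm, hxv])
    have h1 := hxy.comm _ hg hgx
    have h3 : isoAct (⇑Q) (eichG Q xi v) y - y = QuadraticMap.polar Q v yi • xi := by
      rw [isoAct_eichG Q xi v hQxi hxv, hpy xi hxi, hpy v hv, hc]
      simp
    rw [h3] at h1
    exact fin _ (by rw [QuadraticMap.polar_comm]; exact hyv) h1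
  · obtain ⟨v, hv, hxv, hQv⟩ := h.exists_sing_orth_nonsing i xi hxi hxi0 hQxi
    have hxv' : QuadraticMap.polar Q xi (-v) = 0 := by rw [QuadraticMap.polar_neg_right, hxv, neg_zero]
    have hg1 : eichG Q xi v ∈ M := od_eich_mem h hn hN i xi v hxi hv
    have hg2 : eichG Q xi (-v) ∈ M := od_eich_mem h hn hN i xi (-v) hxi ((D i).neg_mem hv)
    have hvx : QuadraticMap.polar Q v x = 0 := by rw [hpx v hv, QuadraticMap.polar_comm, hxv]
    have hgx1 : isoAct (⇑Q) (eichG Q xi v) x = x := od_eich_fix Q xi v x hQxi hxv hxix hvx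
    have hgx2 : isoAct (⇑Q) (eichG Q xi (-v)) x = x :=
      od_eich_fix Q xi (-v) x hQxi hxv' hxix (by rw [QuadraticMap.polar_neg_left, hvx, neg_zero])
    have h1 := (hxy.comm _ hg1 hgx1).add (hxy.comm _ hg2 hgx2)
    have h3 : isoAct (⇑Q) (eichG Q xi v) y - y + (isoAct (⇑Q) (eichG Q xi (-v)) y - y)
        = (-2 * Q v * QuadraticMap.polar Q xi yi) • xi := by
      rw [isoAct_eichG Q xi v hQxi hxv, isoAct_eichG Q xi (-v) hQxi hxv', hpy xi hxi, hpy v hv,
        QuadraticMap.polar_neg_left, QuadraticMap.map_neg, hpy v hv]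
      ext j
      simp only [Pi.add_apply, Pi.sub_apply, Pi.smul_apply, smul_eq_mul, Pi.neg_apply]
      ring
    rw [h3] at h1
    exact fin _ (mul_ne_zero (mul_ne_zero (neg_ne_zero.mpr h2) hQv) hc) h1

end ODMixed

section ODMixed2

variable {F : Type*} [Field F] [Fintype F] {ι : Type} [Fintype ι] [DecidableEq ι]
variable {Q : QuadraticForm F (ι → F)} {t k : ℕ} {D : Fin t → Submodule F (ι → F)}
variable {M : Subgroup ↥(Cfsg.isometryGroup F ⇑Q)}

theorem od_exists_third {t : ℕ} (ht : 3 ≤ t) (i i' : Fin t) : ∃ l : Fin t, l ≠ i ∧ l ≠ i' := by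
  by_contra hcon
  push Not at hcon
  have h3 : (Finset.univ : Finset (Fin t)) ⊆ {i, i'} := by
    intro l _
    simp only [Finset.mem_insert, Finset.mem_singleton]
    by_cases hl : l = i
    · left
      exact hl
    · right
      exact hcon l hl
  have h4 := Finset.card_le_card h3
  rw [Finset.card_univ, Fintype.card_fin] at h4
  have h5 : ({i, i'} : Finset (Fin t)).card ≤ 2 := Finset.card_le_two
  omega

/-- A non-singular block component of `x` with the component of `y` not proportional to it. -/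
theorem InM.mixed_of_nonsing_comp (h : OD Q k D) (hqk : 5 ≤ Fintype.card F ∨ 4 ≤ k) (ht : 3 ≤ t)
    (hn : 7 ≤ Fintype.card ι)
    (hN : ∀ g ∈ Cfsg.Omega F ⇑Q,
      (g : Matrix.GeneralLinearGroup ι F) ∈ Cfsg.Geo.decompositionStabilizer D → g ∈ M)
    {x y : ι → F} (hxy : InM Q M x y) (i : Fin t) (xi x' yi y' : ι → F) (hxi : xi ∈ D i)
    (hx' : ∀ u ∈ D i, QuadraticMap.polar Q x' u = 0) (hx : x = xi + x') (hyi : yi ∈ D i)
    (hy' : ∀ u ∈ D i, QuadraticMap.polar Q y' u = 0) (hy : y = yi + y')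
    (hQxi : Q xi ≠ 0) (hne : ∀ c : F, yi ≠ c • xi) : Mixed Q M D := by
  have h2 := h.two
  have hpx : ∀ u ∈ D i, QuadraticMap.polar Q u x = QuadraticMap.polar Q u xi := by
    intro u hu
    rw [hx, QuadraticMap.polar_add_right, QuadraticMap.polar_comm Q u x', hx' u hu, add_zero]
  have hpy : ∀ u ∈ D i, QuadraticMap.polar Q u y = QuadraticMap.polar Q u yi := by
    intro u hu
    rw [hy, QuadraticMap.polar_add_right, QuadraticMap.polar_comm Q u y', hy' u hu, add_zero]
  obtain ⟨u, v, hu, hv, hxu, hxv, hQu, hQv, hyu, huv⟩ := h.exists_refl_pair hqk i xi yi hxi hyi hQxi hne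
  have hQv0 : Q v ≠ 0 := by rw [hQv]; exact hQu
  have hg : reflG' Q u * reflG' Q v ∈ M := od_refl2_mem h hN i u v hu hv hQu hQv
  have hux : QuadraticMap.polar Q u x = 0 := by rw [hpx u hu, QuadraticMap.polar_comm, hxu]
  have hvx : QuadraticMap.polar Q v x = 0 := by rw [hpx v hv, QuadraticMap.polar_comm, hxv]
  have hgx : isoAct (⇑Q) (reflG' Q u * reflG' Q v) x = x := by
    rw [isoAct_mul, isoAct_reflG'_of_orth Q v x hQv0 hvx, isoAct_reflG'_of_orth Q u x hQu hux]
  have h1 := hxy.comm _ hg hgx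
  obtain ⟨c₁, hc₁⟩ : ∃ c₁ : F, c₁ = (Q v)⁻¹ * QuadraticMap.polar Q v y := ⟨_, rfl⟩
  obtain ⟨c₂, hc₂⟩ : ∃ c₂ : F, c₂ = (Q u)⁻¹ * QuadraticMap.polar Q u (y - c₁ • v) := ⟨_, rfl⟩
  have hw_eq : isoAct (⇑Q) (reflG' Q u * reflG' Q v) y - y = -(c₁ • v) - c₂ • u := by
    rw [isoAct_mul, isoAct_reflG' Q v hQv0, isoAct_reflG' Q u hQu, ← hc₁, ← hc₂]
    abel
  obtain ⟨w, hw⟩ : ∃ w : ι → F, w = -(c₁ • v) - c₂ • u := ⟨_, rfl⟩
  rw [hw_eq, ← hw] at h1
  have hwD : w ∈ D i := by
    rw [hw]
    exact (D i).sub_mem ((D i).neg_mem ((D i).smul_mem _ hv)) ((D i).smul_mem _ hu)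
  have hxw : QuadraticMap.polar Q xi w = 0 := by
    rw [hw, QuadraticMap.polar_sub_right, QuadraticMap.polar_neg_right, QuadraticMap.polar_smul_right, QuadraticMap.polar_smul_right, hxu, hxv]
    simp
  have hw0 : w ≠ 0 := by
    intro h0
    rw [hw] at h0
    by_cases hc₂0 : c₂ = 0
    · rw [hc₂0, zero_smul, sub_zero, neg_eq_zero] at h0
      have hc₁0 : c₁ = 0 := by
        rcases smul_eq_zero.mp h0 with h' | h'
        · exact h'
        · exfalso
          apply hQv0
          rw [h', map_zero]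
      rw [hc₁0, zero_smul, sub_zero, hc₂0] at hc₂
      have h3 : QuadraticMap.polar Q u y = 0 := by
        rcases mul_eq_zero.mp hc₂.symm with h' | h'
        · exact absurd (inv_eq_zero.mp h') hQu
        · exact h'
      apply hyu
      rw [QuadraticMap.polar_comm, ← hpy u hu]
      exact h3
    · apply huv (-(c₁ / c₂))
      ext j
      have h3 := congrFun h0 j
      simp only [Pi.sub_apply, Pi.neg_apply, Pi.smul_apply, smul_eq_mul, Pi.zero_apply] at h3
      simp only [Pi.smul_apply, smul_eq_mul]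
      field_simp
      linear_combination (-1 : F) * h3
  have hQx : Q x = 0 := hxy.1
  have hxx' : QuadraticMap.polar Q xi x' = 0 := by rw [QuadraticMap.polar_comm]; exact hx' xi hxi
  have hQx' : Q x' = -Q xi := by
    have h3 := hQx
    rw [hx, QuadraticMap.map_add Q, hxx', add_zero] at h3
    linear_combination h3
  have hx'0 : x' ≠ 0 := by
    rintro rfl
    rw [map_zero] at hQx'
    exact hQxi (neg_eq_zero.mp hQx'.symm)
  have hxnot : -x ∉ D i := by
    intro hmem
    apply hx'0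
    have hxD : x ∈ D i := by
      have := (D i).neg_mem hmem
      rwa [neg_neg] at this
    have hx'D : x' ∈ D i := by
      have e : x' = x - xi := by rw [hx]; abel
      rw [e]
      exact (D i).sub_mem hxD hxi
    exact h.eq_zero_of_orth i x' hx'D hx'
  have hx0 : x ≠ 0 := by
    rintro rfl
    apply hxnot
    rw [neg_zero]
    exact (D i).zero_mem
  by_cases hc : Q w = 0
  · exact ⟨i, w, -x, hwD, hw0, hxnot, h1.swap hc⟩
  obtain ⟨cx, hcx, hx's⟩ := h.comp x'
  have hcxi : cx i = 0 := h.comp_zero_of_orth cx hcx i (by rw [← hx's]; exact hx')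
  have hQsum : Q x' = ∑ b, Q (cx b) := by
    rw [hx's]
    exact h.Q_sum cx hcx
  obtain ⟨i', -, hi'⟩ : ∃ i' ∈ Finset.univ, Q (cx i') ≠ 0 := by
    apply Finset.exists_ne_zero_of_sum_ne_zero
    rw [← hQsum, hQx']
    exact neg_ne_zero.mpr hQxi
  have hi'i : i' ≠ i := by
    rintro rfl
    apply hi'
    rw [hcxi, map_zero]
  have hpx'' : ∀ b, b ≠ i → ∀ u ∈ D b, QuadraticMap.polar Q x u = QuadraticMap.polar Q (cx b) u := by
    intro b hb u hu
    rw [hx, QuadraticMap.polar_add_left, h.orth i b (Ne.symm hb) xi hxi u hu, zero_add, hx's]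
    exact h.polar_sum_left cx hcx b u hu
  by_cases h3 : ∃ l, l ≠ i ∧ l ≠ i' ∧ cx l ≠ 0
  · obtain ⟨l, hli, hli', hcl⟩ := h3
    have hζ : -(Q w)⁻¹ ≠ 0 := neg_ne_zero.mpr (inv_ne_zero hc)
    obtain ⟨v', hv', hQv', hdist⟩ := h.exists_norm_dist i' (cx i') (hcx i') hi' (-(Q w)⁻¹)
    have hQv'0 : Q v' ≠ 0 := by rw [hQv']; exact hi'
    obtain ⟨n, hnM, hnv, hnD, hnfix⟩ := h.exists_move hN i' (cx i') v' (hcx i') hv' hQv' hQv'0
      (by rw [hdist]; exact hζ)
    obtain ⟨d, hd⟩ : ∃ d : ι → F, d = cx i' - v' := ⟨_, rfl⟩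
    have hdD : d ∈ D i' := by
      rw [hd]
      exact (D i').sub_mem (hcx i') hv'
    have hnx : isoAct (⇑Q) n x = x - d := by
      have e : x = cx i' + (x - cx i') := by abel
      have hfix : isoAct (⇑Q) n (x - cx i') = x - cx i' := by
        apply hnfix
        intro u hu
        rw [QuadraticMap.polar_sub_right, QuadraticMap.polar_comm Q u x, hpx'' i' hi'i u hu,
          QuadraticMap.polar_comm Q u (cx i'), sub_self]
      conv_lhs => rw [e]
      rw [isoAct_add, hnv, hfix, hd]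
      abel
    have hnw : isoAct (⇑Q) n w = w := hnfix w (fun u hu => h.orth i' i hi'i u hu w hwD)
    have h4 := h1.conj n hnM
    rw [hnx, hnw] at h4
    have h5 := h1.conj (eichG Q (x - d) w) h4.2.2
    have hX0 : isoAct (⇑Q) (eichG Q (x - d) w) x ≠ 0 := fun h0 => hx0 ((isoAct_eq_zero_iff (⇑Q) _ x).mp h0)
    have hxd : QuadraticMap.polar Q x d = -(Q w)⁻¹ := by
      rw [hpx'' i' hi'i d hdD, ← hdist, hd, QuadraticMap.polar_sub_right, od_polar_self, od_Q_sub, hQv']
      ring
    have hdw : QuadraticMap.polar Q d w = 0 := h.orth i' i hi'i d hdD w hwD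
    have hmx : isoAct (⇑Q) (eichG Q (x - d) w) x = d + (-(Q w)⁻¹) • w := by
      rw [isoAct_eichG Q (x - d) w h4.1 h4.2.1, QuadraticMap.polar_comm Q w x, h1.2.1,
        QuadraticMap.polar_sub_left, od_polar_self, hQx, QuadraticMap.polar_comm Q d x, hxd]
      ext j
      simp only [Pi.add_apply, Pi.sub_apply, Pi.smul_apply, smul_eq_mul, Pi.neg_apply]
      field_simp
      ring
    have hmw : isoAct (⇑Q) (eichG Q (x - d) w) w = w + (2 * Q w) • (x - d) := by
      rw [isoAct_eichG Q (x - d) w h4.1 h4.2.1, od_polar_self, h4.2.1]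
      ext j
      simp only [Pi.add_apply, Pi.sub_apply, Pi.smul_apply, smul_eq_mul, Pi.neg_apply]
      ring
    rw [hmx] at hX0
    rw [hmx, hmw] at h5
    apply h5.mixed_of_orth h hn hN hX0 l
    · intro u hu
      rw [QuadraticMap.polar_add_left, QuadraticMap.polar_smul_left, h.orth i' l (Ne.symm hli') d hdD u hu,
        h.orth i l (Ne.symm hli) w hwD u hu]
      simp
    · obtain ⟨u, hu, hne'⟩ := h.nondeg l (cx l) (hcx l) hcl
      refine ⟨u, hu, ?_⟩
      rw [QuadraticMap.polar_add_left, QuadraticMap.polar_smul_left, QuadraticMap.polar_sub_left,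
        h.orth i l (Ne.symm hli) w hwD u hu, hpx'' l hli u hu, h.orth i' l (Ne.symm hli') d hdD u hu]
      simp only [smul_eq_mul, sub_zero, zero_add]
      exact mul_ne_zero (mul_ne_zero h2 hc) hne'
  · push Not at h3
    have hx'e : x' = cx i' := by
      rw [hx's]
      apply Finset.sum_eq_single i'
      · intro b _ hb
        by_cases hbi : b = i
        · rw [hbi]
          exact hcxi
        · exact h3 b hbi hb
      · intro hh
        exact absurd (Finset.mem_univ i') hh
    obtain ⟨xi', hxi'e⟩ : ∃ xi' : ι → F, xi' = cx i' := ⟨_, rfl⟩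
    have hxi'D : xi' ∈ D i' := by rw [hxi'e]; exact hcx i'
    have hQxi' : Q xi' ≠ 0 := by rw [hxi'e]; exact hi'
    have hxe : x = xi + xi' := by rw [hx, hx'e, hxi'e]
    obtain ⟨l, hli, hli'⟩ := od_exists_third ht i i'
    obtain ⟨v₀, hv₀, hxv₀, hQv₀, hv₀w⟩ := h.exists_norm_polar_ne hqk i xi w hxi hwD hQxi hxw hc (Q xi')
      hQxi'
    obtain ⟨σ, hσM, hσ1, hσ2, hσx⟩ := h.exists_cycle_move hn hN i' i l hi'i (Ne.symm hli)
      (Ne.symm hli') xi' v₀ hxi'D hv₀ hQv₀ (by rw [hQv₀]; exact hQxi')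
    obtain ⟨v'', hv''⟩ : ∃ v'' : ι → F, v'' = isoAct (⇑Q) σ xi' := ⟨_, rfl⟩
    have hv''D : v'' ∈ D i := by rw [hv'']; exact hσ1 xi' hxi'D
    have hxv'' : QuadraticMap.polar Q xi v'' = 0 := by
      rw [hv'']
      rcases hσx with e | e
      · rw [e]
        exact hxv₀
      · rw [e, QuadraticMap.polar_neg_right, hxv₀, neg_zero]
    have hv''w : QuadraticMap.polar Q v'' w ≠ 0 := by
      rw [hv'']
      rcases hσx with e | e
      · rw [e]
        exact hv₀w
      · rw [e, QuadraticMap.polar_neg_left]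
        exact neg_ne_zero.mpr hv₀w
    have hσxi : isoAct (⇑Q) σ xi ∈ D l := hσ2 xi hxi
    have hσw : isoAct (⇑Q) σ w ∈ D l := hσ2 w hwD
    have hσxe : isoAct (⇑Q) σ x = isoAct (⇑Q) σ xi + v'' := by rw [hxe, isoAct_add, hv'']
    have h4 := h1.conj σ hσM
    have e1 : QuadraticMap.polar Q (isoAct (⇑Q) σ w) x = 0 := by
      rw [hxe, QuadraticMap.polar_add_right, h.orth l i hli _ hσw xi hxi, h.orth l i' hli' _ hσw xi' hxi'D,
        add_zero]
    have e2 : QuadraticMap.polar Q (isoAct (⇑Q) σ x) x = 0 := by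
      rw [hσxe]
      conv_lhs => rw [hxe]
      rw [QuadraticMap.polar_add_left, QuadraticMap.polar_add_right, QuadraticMap.polar_add_right,
        h.orth l i hli _ hσxi xi hxi, h.orth l i' hli' _ hσxi xi' hxi'D, QuadraticMap.polar_comm Q v'' xi,
        hxv'', h.orth i i' (Ne.symm hi'i) v'' hv''D xi' hxi'D]
      ring
    have hmx : isoAct (⇑Q) (eichG Q (isoAct (⇑Q) σ x) (isoAct (⇑Q) σ w)) x = x := by
      rw [isoAct_eichG Q _ _ h4.1 h4.2.1, e1, e2]
      simp
    have h5 := h1.comm _ h4.2.2 hmx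
    have e3 : QuadraticMap.polar Q (isoAct (⇑Q) σ w) w = 0 := h.orth l i hli _ hσw w hwD
    have e4 : QuadraticMap.polar Q (isoAct (⇑Q) σ x) w = QuadraticMap.polar Q v'' w := by
      rw [hσxe, QuadraticMap.polar_add_left, h.orth l i hli _ hσxi w hwD, zero_add]
    have hQσw : Q (isoAct (⇑Q) σ w) = Q w := Q_isoAct (⇑Q) σ w
    have hmw : isoAct (⇑Q) (eichG Q (isoAct (⇑Q) σ x) (isoAct (⇑Q) σ w)) w - w
        = (-(Q w * QuadraticMap.polar Q v'' w)) • isoAct (⇑Q) σ x - QuadraticMap.polar Q v'' w • isoAct (⇑Q) σ w := by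
      rw [isoAct_eichG Q _ _ h4.1 h4.2.1, e3, e4, hQσw]
      ext j
      simp only [Pi.add_apply, Pi.sub_apply, Pi.smul_apply, smul_eq_mul, Pi.neg_apply]
      ring
    rw [hmw] at h5
    apply h5.mixed_of_orth h hn hN hx0 l
    · intro u hu
      rw [hxe, QuadraticMap.polar_add_left, h.orth i l (Ne.symm hli) xi hxi u hu,
        h.orth i' l (Ne.symm hli') xi' hxi'D u hu, add_zero]
    · have hz0 : Q w • xi + w ≠ 0 := by
        intro h0
        have h6 : QuadraticMap.polar Q xi (Q w • xi + w) = 0 := by rw [h0]; simp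
        rw [QuadraticMap.polar_add_right, QuadraticMap.polar_smul_right, od_polar_self, hxw, add_zero, smul_eq_mul] at h6
        rcases mul_eq_zero.mp h6 with h7 | h7
        · exact hc h7
        · exact mul_ne_zero h2 hQxi h7
      have hz : isoAct (⇑Q) σ (Q w • xi + w) ∈ D l := hσ2 _ ((D i).add_mem ((D i).smul_mem _ hxi) hwD)
      have hz0' : isoAct (⇑Q) σ (Q w • xi + w) ≠ 0 := fun h0 => hz0 ((isoAct_eq_zero_iff (⇑Q) σ _).mp h0)
      obtain ⟨u, hu, hne'⟩ := h.nondeg l _ hz hz0'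
      refine ⟨u, hu, ?_⟩
      have e5 : QuadraticMap.polar Q ((-(Q w * QuadraticMap.polar Q v'' w)) • isoAct (⇑Q) σ x - QuadraticMap.polar Q v'' w • isoAct (⇑Q) σ w) u
          = -(QuadraticMap.polar Q v'' w) * QuadraticMap.polar Q (isoAct (⇑Q) σ (Q w • xi + w)) u := by
        rw [hσxe, isoAct_add, isoAct_smul]
        simp only [QuadraticMap.polar_sub_left, QuadraticMap.polar_smul_left, QuadraticMap.polar_add_left, smul_eq_mul,
          h.orth i l (Ne.symm hli) v'' hv''D u hu]
        ring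
      rw [e5]
      exact mul_ne_zero (neg_ne_zero.mpr hv''w) hne'

end ODMixed2

end Cfsg.Agent.Lib.helper17
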