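/-
helper17: orthogonal decompositions: every Eichler transformation in `M` whose parameters do not lie in
a common block yields a mixed Eichler transformation.
-/
import Mathlib
import Cfsg.Agent.Lib.helper17.OrthDec4

set_option autoImplicit false
set_option linter.unusedSectionVars false

namespace Cfsg.Agent.Lib.helper17

open Matrix Module
open Cfsg.Agent.Lib.helper49

section ODMixed3

variable {F : Type*} [Field F] [Fintype F] {ι : Type} [Fintype ι] [DecidableEq ι]
variable {Q : QuadraticForm F (ι → F)} {t k : ℕ} {D : Fin t → Submodule F (ι → F)}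
variable {M : Subgroup ↥(Cfsg.isometryGroup F ⇑Q)}

/-- A non-zero block component of `x` with the component of `y` not proportional to it. -/
theorem InM.mixed_of_indep_comp (h : OD Q k D) (hqk : 5 ≤ Fintype.card F ∨ 4 ≤ k) (ht : 3 ≤ t)
    (hn : 7 ≤ Fintype.card ι)
    (hN : ∀ g ∈ Cfsg.Omega F ⇑Q,
      (g : Matrix.GeneralLinearGroup ι F) ∈ Cfsg.Geo.decompositionStabilizer D → g ∈ M)
    {x y : ι → F} (hxy : InM Q M x y) (i : Fin t) (xi x' yi y' : ι → F) (hxi : xi ∈ D i)
    (hx' : ∀ u ∈ D i, QuadraticMap.polar Q x' u = 0) (hx : x = xi + x') (hyi : yi ∈ D i)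
    (hy' : ∀ u ∈ D i, QuadraticMap.polar Q y' u = 0) (hy : y = yi + y')
    (hxi0 : xi ≠ 0) (hne : ∀ c : F, yi ≠ c • xi) (hnot : ¬ (x ∈ D i ∧ y ∈ D i)) : Mixed Q M D := by
  by_cases hx'0 : x' = 0
  · have hxD : x ∈ D i := by rw [hx, hx'0, add_zero]; exact hxi
    have hx0 : x ≠ 0 := by rw [hx, hx'0, add_zero]; exact hxi0
    exact ⟨i, x, y, hxD, hx0, fun hyD => hnot ⟨hxD, hyD⟩, hxy⟩
  · by_cases hQxi : Q xi = 0
    · exact hxy.mixed_of_sing_comp h hn hN i xi x' yi y' hxi hx' hx hyi hy' hy hxi0 hQxi hx'0 hne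
    · exact hxy.mixed_of_nonsing_comp h hqk ht hn hN i xi x' yi y' hxi hx' hx hyi hy' hy hQxi hne

/-- A non-zero block component of `x` where `y` has zero component. -/
theorem InM.mixed_of_zero_comp (h : OD Q k D) (hqk : 5 ≤ Fintype.card F ∨ 4 ≤ k) (ht : 3 ≤ t)
    (hn : 7 ≤ Fintype.card ι)
    (hN : ∀ g ∈ Cfsg.Omega F ⇑Q,
      (g : Matrix.GeneralLinearGroup ι F) ∈ Cfsg.Geo.decompositionStabilizer D → g ∈ M)
    {x y : ι → F} (hxy : InM Q M x y) (i : Fin t) (xi x' : ι → F) (hxi : xi ∈ D i)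
    (hx' : ∀ u ∈ D i, QuadraticMap.polar Q x' u = 0) (hx : x = xi + x') (hxi0 : xi ≠ 0)
    (hyperp : ∀ u ∈ D i, QuadraticMap.polar Q y u = 0) (hy0 : y ≠ 0)
    (hb : Q y ≠ 0 → ∃ b, b ≠ i ∧ ∃ u ∈ D b, QuadraticMap.polar Q y u + 2 * Q y * QuadraticMap.polar Q x u ≠ 0) : Mixed Q M D := by
  have h2 := h.two
  have hpx : ∀ u ∈ D i, QuadraticMap.polar Q u x = QuadraticMap.polar Q u xi := by
    intro u hu
    rw [hx, QuadraticMap.polar_add_right, QuadraticMap.polar_comm Q u x', hx' u hu, add_zero]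
  obtain ⟨a, ha, hQa, hxa⟩ := h.exists_sing_polar_ne i xi (h.nondeg i xi hxi hxi0)
  have ha0 : a ≠ 0 := by
    rintro rfl
    apply hxa
    simp
  obtain ⟨b₀, hb₀, hab₀, hQb₀⟩ := h.exists_sing_orth_nonsing i a ha ha0 hQa
  have hnM : eichG Q a b₀ ∈ M := od_eich_mem h hn hN i a b₀ ha hb₀
  have hay : QuadraticMap.polar Q a y = 0 := by rw [QuadraticMap.polar_comm]; exact hyperp a ha
  have hb₀y : QuadraticMap.polar Q b₀ y = 0 := by rw [QuadraticMap.polar_comm]; exact hyperp b₀ hb₀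
  have hny : isoAct (⇑Q) (eichG Q a b₀) y = y := od_eich_fix Q a b₀ y hQa hab₀ hay hb₀y
  obtain ⟨α, hα⟩ : ∃ α : F, α = QuadraticMap.polar Q a xi := ⟨_, rfl⟩
  have hα0 : α ≠ 0 := by rw [hα, QuadraticMap.polar_comm]; exact hxa
  obtain ⟨β, hβ⟩ : ∃ β : F, β = QuadraticMap.polar Q b₀ xi := ⟨_, rfl⟩
  obtain ⟨d, hd⟩ : ∃ d : ι → F, d = α • b₀ - (β - Q b₀ * α) • a := ⟨_, rfl⟩
  have hdD : d ∈ D i := by
    rw [hd]
    exact (D i).sub_mem ((D i).smul_mem _ hb₀) ((D i).smul_mem _ ha)
  have hnx : isoAct (⇑Q) (eichG Q a b₀) x = x - d := by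
    rw [isoAct_eichG Q a b₀ hQa hab₀, hpx a ha, hpx b₀ hb₀, ← hα, ← hβ, hd]
    abel
  have hne : ∀ c : F, d ≠ c • xi := by
    intro c hc
    have h3 : QuadraticMap.polar Q a d = 0 := by
      rw [hd, QuadraticMap.polar_sub_right, QuadraticMap.polar_smul_right, QuadraticMap.polar_smul_right, hab₀, od_polar_self, hQa]
      simp
    rw [hc, QuadraticMap.polar_smul_right, ← hα, smul_eq_mul] at h3
    have hc0 : c = 0 := by
      rcases mul_eq_zero.mp h3 with h' | h'
      · exact h'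
      · exact absurd h' hα0
    rw [hc0, zero_smul, hd, sub_eq_zero] at hc
    have h4 := congrArg (fun z => Q z) hc
    simp only [QuadraticMap.map_smul, hQa, smul_eq_mul, mul_zero] at h4
    rcases mul_eq_zero.mp h4 with h' | h'
    · rcases mul_eq_zero.mp h' with h'' | h''
      · exact hα0 h''
      · exact hα0 h''
    · exact hQb₀ h'
  have hd0 : d ≠ 0 := by
    intro h0
    apply hne 0
    rw [h0, zero_smul]
  have h4 := hxy.conj _ hnM
  rw [hnx, hny] at h4
  by_cases hc : Q y = 0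
  · have e1 := hxy.swap hc
    have e2 := h4.swap hc
    have e3 := e1.neg.add e2
    have e4 : - -x + -(x - d) = d := by abel
    rw [e4] at e3
    exact e3.mixed_of_orth h hn hN hy0 i hyperp (h.nondeg i d hdD hd0)
  · obtain ⟨b, hbi, u, hu, hbu⟩ := hb hc
    obtain ⟨ζ, hζ⟩ : ∃ ζ : F, ζ = QuadraticMap.polar Q x d := ⟨_, rfl⟩
    obtain ⟨c, hcdef⟩ : ∃ c : F, c = Q y := ⟨_, rfl⟩
    have hc0 : c ≠ 0 := by rw [hcdef]; exact hc
    have h5 := hxy.conj (eichG Q (x - d) y) h4.2.2
    have hdy : QuadraticMap.polar Q d y = 0 := by rw [QuadraticMap.polar_comm]; exact hyperp d hdD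
    have hmx : isoAct (⇑Q) (eichG Q (x - d) y) x
        = ((1 + c * ζ) • xi - (c * ζ) • d) + ((1 + c * ζ) • x' + ζ • y) := by
      rw [isoAct_eichG Q (x - d) y h4.1 h4.2.1, QuadraticMap.polar_comm Q y x, hxy.2.1, QuadraticMap.polar_sub_left,
        od_polar_self, hxy.1, QuadraticMap.polar_comm Q d x, ← hζ, ← hcdef]
      ext j
      have hxj := congrFun hx j
      simp only [Pi.add_apply] at hxj
      simp only [Pi.add_apply, Pi.sub_apply, Pi.smul_apply, smul_eq_mul, Pi.neg_apply]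
      rw [hxj]
      ring
    have hmy0 : isoAct (⇑Q) (eichG Q (x - d) y) y = y + (2 * c) • (x - d) := by
      rw [isoAct_eichG Q (x - d) y h4.1 h4.2.1, od_polar_self, h4.2.1, ← hcdef]
      ext j
      simp only [Pi.add_apply, Pi.sub_apply, Pi.smul_apply, smul_eq_mul, Pi.neg_apply]
      ring
    have hmy : isoAct (⇑Q) (eichG Q (x - d) y) y = (2 * c) • (xi - d) + (y + (2 * c) • x') := by
      rw [hmy0]
      ext j
      have hxj := congrFun hx j
      simp only [Pi.add_apply] at hxj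
      simp only [Pi.add_apply, Pi.sub_apply, Pi.smul_apply, smul_eq_mul, Pi.neg_apply]
      rw [hxj]
      ring
    apply h5.mixed_of_indep_comp h hqk ht hn hN i ((1 + c * ζ) • xi - (c * ζ) • d)
      ((1 + c * ζ) • x' + ζ • y) ((2 * c) • (xi - d)) (y + (2 * c) • x')
    · exact (D i).sub_mem ((D i).smul_mem _ hxi) ((D i).smul_mem _ hdD)
    · intro u' hu'
      rw [QuadraticMap.polar_add_left, QuadraticMap.polar_smul_left, QuadraticMap.polar_smul_left, hx' u' hu', hyperp u' hu']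
      simp
    · exact hmx
    · exact (D i).smul_mem _ ((D i).sub_mem hxi hdD)
    · intro u' hu'
      rw [QuadraticMap.polar_add_left, QuadraticMap.polar_smul_left, hx' u' hu', hyperp u' hu']
      simp
    · exact hmy
    · intro h0
      by_cases hcz : c * ζ = 0
      · rw [hcz, add_zero, one_smul, zero_smul, sub_zero] at h0
        exact hxi0 h0
      · apply hne ((1 + c * ζ) / (c * ζ))
        ext j
        have h0j := congrFun h0 j
        simp only [Pi.sub_apply, Pi.smul_apply, smul_eq_mul, Pi.zero_apply] at h0j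
        simp only [Pi.smul_apply, smul_eq_mul]
        rw [div_mul_eq_mul_div, eq_div_iff hcz]
        linear_combination (-1 : F) * h0j
    · intro lam hl
      have key : (2 * c - lam * (1 + c * ζ)) • xi = (2 * c - lam * (c * ζ)) • d := by
        ext j
        have hlj := congrFun hl j
        simp only [Pi.sub_apply, Pi.smul_apply, smul_eq_mul] at hlj
        simp only [Pi.smul_apply, smul_eq_mul]
        linear_combination hlj
      by_cases hcoef : 2 * c - lam * (c * ζ) = 0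
      · rw [hcoef, zero_smul] at key
        rcases smul_eq_zero.mp key with h' | h'
        · have hlam : lam = 0 := by linear_combination hcoef - h'
          rw [hlam] at hcoef
          have : 2 * c = 0 := by linear_combination hcoef
          exact mul_ne_zero h2 hc0 this
        · exact hxi0 h'
      · apply hne ((2 * c - lam * (1 + c * ζ)) / (2 * c - lam * (c * ζ)))
        ext j
        have hkj := congrFun key j
        simp only [Pi.smul_apply, smul_eq_mul] at hkj
        simp only [Pi.smul_apply, smul_eq_mul]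
        rw [div_mul_eq_mul_div, eq_div_iff hcoef]
        linear_combination (-1 : F) * hkj
    · rintro ⟨-, hYD⟩
      apply hbu
      have h6 := h.orth i b (Ne.symm hbi) _ hYD u hu
      rw [hmy0, QuadraticMap.polar_add_left, QuadraticMap.polar_smul_left, QuadraticMap.polar_sub_left,
        h.orth i b (Ne.symm hbi) d hdD u hu, smul_eq_mul] at h6
      rw [← hcdef]
      linear_combination h6

end ODMixed3

section ODMixed4

variable {F : Type*} [Field F] [Fintype F] {ι : Type} [Fintype ι] [DecidableEq ι]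
variable {Q : QuadraticForm F (ι → F)} {t k : ℕ} {D : Fin t → Submodule F (ι → F)}
variable {M : Subgroup ↥(Cfsg.isometryGroup F ⇑Q)}

/-- An Eichler transformation in `M` whose parameters do not lie in a common block yields a mixed
Eichler transformation in `M`. -/
theorem InM.mixed_of_bad (h : OD Q k D) (hqk : 5 ≤ Fintype.card F ∨ 4 ≤ k) (ht : 3 ≤ t)
    (hn : 7 ≤ Fintype.card ι)
    (hN : ∀ g ∈ Cfsg.Omega F ⇑Q,
      (g : Matrix.GeneralLinearGroup ι F) ∈ Cfsg.Geo.decompositionStabilizer D → g ∈ M)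
    {x y : ι → F} (hxy : InM Q M x y) (hx0 : x ≠ 0) (hne : ∀ c : F, y ≠ c • x)
    (hbad : ¬ ∃ j, x ∈ D j ∧ y ∈ D j) : Mixed Q M D := by
  have h2 := h.two
  obtain ⟨cx, hcx, hxs⟩ := h.comp x
  obtain ⟨cy, hcy, hys⟩ := h.comp y
  have hpx : ∀ j, ∀ u ∈ D j, QuadraticMap.polar Q x u = QuadraticMap.polar Q (cx j) u := by
    intro j u hu
    conv_lhs => rw [hxs]
    exact h.polar_sum_left cx hcx j u hu
  have hpy : ∀ j, ∀ u ∈ D j, QuadraticMap.polar Q y u = QuadraticMap.polar Q (cy j) u := by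
    intro j u hu
    conv_lhs => rw [hys]
    exact h.polar_sum_left cy hcy j u hu
  have hsx : ∀ j, ∀ u ∈ D j, QuadraticMap.polar Q (x - cx j) u = 0 := by
    intro j u hu
    rw [QuadraticMap.polar_sub_left, hpx j u hu, sub_self]
  have hsy : ∀ j, ∀ u ∈ D j, QuadraticMap.polar Q (y - cy j) u = 0 := by
    intro j u hu
    rw [QuadraticMap.polar_sub_left, hpy j u hu, sub_self]
  by_cases hA : ∃ i, cx i ≠ 0 ∧ ∀ c : F, cy i ≠ c • cx i
  · obtain ⟨i, hi0, hine⟩ := hA
    exact hxy.mixed_of_indep_comp h hqk ht hn hN i (cx i) (x - cx i) (cy i) (y - cy i) (hcx i) (hsx i)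
      (by abel) (hcy i) (hsy i) (by abel) hi0 hine (fun hh => hbad ⟨i, hh⟩)
  by_cases hB : ∃ i, cx i = 0 ∧ cy i ≠ 0
  · obtain ⟨i, hi0, hiy⟩ := hB
    apply hxy.mixed_of_orth h hn hN hx0 i
    · intro u hu
      rw [hpx i u hu, hi0]
      simp
    · obtain ⟨u, hu, hne'⟩ := h.nondeg i (cy i) (hcy i) hiy
      exact ⟨u, hu, by rw [hpy i u hu]; exact hne'⟩
  push Not at hA hB
  have hμ : ∀ i, ∃ μ : F, cy i = μ • cx i := by
    intro i
    by_cases hi : cx i = 0
    · exact ⟨0, by rw [hB i hi, zero_smul]⟩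
    · exact hA i hi
  choose μ hμ using hμ
  obtain ⟨i₁, hi₁⟩ : ∃ i₁, cx i₁ ≠ 0 := by
    by_contra hcon
    push Not at hcon
    apply hx0
    rw [hxs]
    exact Finset.sum_eq_zero (fun b _ => hcon b)
  obtain ⟨i₂, hi₂ne, hi₂⟩ : ∃ i₂, i₂ ≠ i₁ ∧ cx i₂ ≠ 0 := by
    by_contra hcon
    push Not at hcon
    apply hne (μ i₁)
    have e1 : x = cx i₁ := by
      conv_lhs => rw [hxs]
      exact Finset.sum_eq_single i₁ (fun b _ hb => hcon b hb)
        (fun hh => absurd (Finset.mem_univ i₁) hh)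
    have e2 : y = cy i₁ := by
      conv_lhs => rw [hys]
      exact Finset.sum_eq_single i₁ (fun b _ hb => by rw [hμ b, hcon b hb, smul_zero])
        (fun hh => absurd (Finset.mem_univ i₁) hh)
    rw [e2, hμ i₁, ← e1]
  have zapp : ∀ i b, b ≠ i → cx i ≠ 0 → (Q y ≠ 0 → cx b ≠ 0 ∧ μ b - μ i + 2 * Q y ≠ 0) →
      Mixed Q M D := by
    intro i b hbi hi hcond
    have hin := hxy.shift (-(μ i))
    have hQ' : Q (y + (-(μ i)) • x) = Q y := by
      rw [QuadraticMap.map_add Q, QuadraticMap.map_smul, hxy.1, QuadraticMap.polar_smul_right, QuadraticMap.polar_comm Q y x, hxy.2.1]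
      simp
    apply hin.mixed_of_zero_comp h hqk ht hn hN i (cx i) (x - cx i) (hcx i) (hsx i) (by abel) hi
    · intro u hu
      rw [QuadraticMap.polar_add_left, QuadraticMap.polar_smul_left, hpy i u hu, hpx i u hu, hμ i, QuadraticMap.polar_smul_left]
      simp
    · intro h0
      apply hne (μ i)
      rw [neg_smul, ← sub_eq_add_neg, sub_eq_zero] at h0
      exact h0
    · intro hQ0
      rw [hQ'] at hQ0 ⊢
      obtain ⟨hb0, hcoef⟩ := hcond hQ0
      obtain ⟨u, hu, hne'⟩ := h.nondeg b (cx b) (hcx b) hb0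
      refine ⟨b, hbi, u, hu, ?_⟩
      rw [QuadraticMap.polar_add_left, QuadraticMap.polar_smul_left, hpy b u hu, hpx b u hu, hμ b, QuadraticMap.polar_smul_left]
      simp only [smul_eq_mul]
      have e : μ b * QuadraticMap.polar Q (cx b) u + -μ i * QuadraticMap.polar Q (cx b) u + 2 * Q y * QuadraticMap.polar Q (cx b) u
          = (μ b - μ i + 2 * Q y) * QuadraticMap.polar Q (cx b) u := by ring
      rw [e]
      exact mul_ne_zero hcoef hne'
  by_cases hc : Q y = 0
  · exact zapp i₁ i₂ hi₂ne hi₁ (fun hh => absurd hc hh)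
  · by_cases hμ12 : μ i₂ - μ i₁ + 2 * Q y = 0
    · apply zapp i₂ i₁ (Ne.symm hi₂ne) hi₂
      intro _
      refine ⟨hi₁, ?_⟩
      have e : μ i₁ - μ i₂ + 2 * Q y = 4 * Q y := by linear_combination (-1 : F) * hμ12
      rw [e]
      have h4 : (4 : F) ≠ 0 := by
        have : (4 : F) = 2 * 2 := by norm_num
        rw [this]
        exact mul_ne_zero h2 h2
      exact mul_ne_zero h4 hc
    · exact zapp i₁ i₂ hi₂ne hi₁ (fun _ => ⟨hi₂, hμ12⟩)

end ODMixed4

end Cfsg.Agent.Lib.helper17
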