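/-
helper17: orthogonal decompositions: a mixed Eichler transformation in `M` forces `Ω ≤ M`; maximality
of the decomposition stabiliser in `Ω`.
-/
import Mathlib
import Cfsg.Agent.Lib.helper17.OrthDec5

set_option autoImplicit false
set_option linter.unusedSectionVars false

namespace Cfsg.Agent.Lib.helper17

open Matrix Module
open Cfsg.Agent.Lib.helper49

section ODFinal

variable {F : Type*} [Field F] [Fintype F] {ι : Type} [Fintype ι] [DecidableEq ι]
variable {Q : QuadraticForm F (ι → F)} {t k : ℕ} {D : Fin t → Submodule F (ι → F)}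
variable {M : Subgroup ↥(Cfsg.isometryGroup F ⇑Q)}

/-- `M` contains all `E(a, b)` with `a` singular in `D i` and `b` in `D j`. -/
def Linked (Q : QuadraticForm F (ι → F)) (M : Subgroup ↥(Cfsg.isometryGroup F ⇑Q)) {t : ℕ}
    (D : Fin t → Submodule F (ι → F)) (i j : Fin t) : Prop :=
  ∀ a ∈ D i, Q a = 0 → ∀ b ∈ D j, InM Q M a b

omit [Fintype F] in
theorem od_InM_zero_left (Q : QuadraticForm F (ι → F)) (M : Subgroup ↥(Cfsg.isometryGroup F ⇑Q))
    (b : ι → F) : InM Q M 0 b := by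
  refine ⟨map_zero _, by simp, ?_⟩
  rw [eichG_zero_left]
  exact M.one_mem

theorem Linked.symm (h : OD Q k D) (hn : 7 ≤ Fintype.card ι)
    (hN : ∀ g ∈ Cfsg.Omega F ⇑Q,
      (g : Matrix.GeneralLinearGroup ι F) ∈ Cfsg.Geo.decompositionStabilizer D → g ∈ M)
    {i j : Fin t} (hij : i ≠ j) (hL : Linked Q M D i j) : Linked Q M D j i := by
  intro b hb hQb a' ha'
  by_cases hb0 : b = 0
  · rw [hb0]
    exact od_InM_zero_left Q M a'
  obtain ⟨p, q, hp, hq, hQp, hQq, hpq⟩ := h.exists_hyp i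
  have hp0 : p ≠ 0 := by
    rintro rfl
    simp at hpq
  have h1 := (hL p hp hQp b hb).swap hQb
  refine h1.block_of_orth h hn hN i (fun u hu => h.orth j i (Ne.symm hij) b hb u hu) ?_ a' ha'
  obtain ⟨u, hu, hne⟩ := h.nondeg i p hp hp0
  exact ⟨u, hu, by rw [QuadraticMap.polar_neg_left]; exact neg_ne_zero.mpr hne⟩

theorem od_linked_of_mixed (h : OD Q k D) (hn : 7 ≤ Fintype.card ι)
    (hN : ∀ g ∈ Cfsg.Omega F ⇑Q,
      (g : Matrix.GeneralLinearGroup ι F) ∈ Cfsg.Geo.decompositionStabilizer D → g ∈ M)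
    (hmix : Mixed Q M D) : ∃ i j, i ≠ j ∧ Linked Q M D i j := by
  obtain ⟨i, a, w, ha, ha0, hw, hin⟩ := hmix
  obtain ⟨j, hji, u, hu, hwu⟩ : ∃ j, j ≠ i ∧ ∃ u ∈ D j, QuadraticMap.polar Q w u ≠ 0 := by
    by_contra hcon
    push Not at hcon
    exact hw (h.mem_of_orth_others i w hcon)
  have h1 := hin.block_of_orth h hn hN j (fun u' hu' => h.orth i j (Ne.symm hji) a ha u' hu')
    ⟨u, hu, hwu⟩
  refine ⟨j, i, hji, ?_⟩
  intro b hb hQb a' ha'
  by_cases hb0 : b = 0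
  · rw [hb0]
    exact od_InM_zero_left Q M a'
  have h2 := (h1 b hb).swap hQb
  refine h2.block_of_orth h hn hN i (fun u' hu' => h.orth j i hji b hb u' hu') ?_ a' ha'
  obtain ⟨u', hu', hne⟩ := h.nondeg i a ha ha0
  exact ⟨u', hu', by rw [QuadraticMap.polar_neg_left]; exact neg_ne_zero.mpr hne⟩

theorem Linked.perm (h : OD Q k D) {i j i₂ j₂ : Fin t} (hL : Linked Q M D i j)
    (σ : ↥(Cfsg.isometryGroup F ⇑Q)) (hσ : σ ∈ M) (h1 : ∀ u ∈ D i, isoAct (⇑Q) σ u ∈ D i₂)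
    (h2 : ∀ u ∈ D j, isoAct (⇑Q) σ u ∈ D j₂) : Linked Q M D i₂ j₂ := by
  intro a ha hQa b hb
  rw [← od_map_eq h σ i i₂ h1] at ha
  rw [← od_map_eq h σ j j₂ h2] at hb
  obtain ⟨a₀, ha₀, rfl⟩ := Submodule.mem_map.mp ha
  obtain ⟨b₀, hb₀, rfl⟩ := Submodule.mem_map.mp hb
  have hQa₀ : Q a₀ = 0 := by
    have := Q_isoAct (⇑Q) σ a₀
    rw [← this]
    exact hQa
  exact (hL a₀ ha₀ hQa₀ b₀ hb₀).conj σ hσ

theorem od_linked_all (h : OD Q k D) (hn : 7 ≤ Fintype.card ι)
    (hN : ∀ g ∈ Cfsg.Omega F ⇑Q,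
      (g : Matrix.GeneralLinearGroup ι F) ∈ Cfsg.Geo.decompositionStabilizer D → g ∈ M)
    {i j : Fin t} (hij : i ≠ j) (hL : Linked Q M D i j) :
    ∀ p q : Fin t, p ≠ q → Linked Q M D p q := by
  have step : ∀ u v l : Fin t, u ≠ v → l ≠ u → l ≠ v → Linked Q M D u v → Linked Q M D v l := by
    intro u v l huv hlu hlv hL'
    obtain ⟨σ, hσM, h1, h2⟩ := h.exists_cycle_mem hn hN u v l huv (Ne.symm hlv) (Ne.symm hlu)
    exact hL'.perm h σ hσM h1 h2
  have hL' : Linked Q M D j i := hL.symm h hn hN hij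
  intro p q hpq
  by_cases hpi : p = i
  · subst hpi
    by_cases hqj : q = j
    · subst hqj
      exact hL
    · exact step j p q (Ne.symm hij) hqj (Ne.symm hpq) hL'
  by_cases hpj : p = j
  · subst hpj
    by_cases hqi : q = i
    · subst hqi
      exact hL'
    · exact step i p q hij hqi (Ne.symm hpq) hL
  have hip : Linked Q M D i p := step j i p (Ne.symm hij) hpj hpi hL'
  by_cases hqi : q = i
  · subst hqi
    exact hip.symm h hn hN (Ne.symm hpi)
  by_cases hqj : q = j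
  · subst hqj
    exact (step i q p hij hpi hpj hL).symm h hn hN (Ne.symm hpj)
  exact step i p q (Ne.symm hpi) hqi (Ne.symm hpq) hip

theorem od_omega_le_of_mixed (h : OD Q k D) (ht : 3 ≤ t) (hn : 7 ≤ Fintype.card ι)
    (hN : ∀ g ∈ Cfsg.Omega F ⇑Q,
      (g : Matrix.GeneralLinearGroup ι F) ∈ Cfsg.Geo.decompositionStabilizer D → g ∈ M)
    (hmix : Mixed Q M D) : Cfsg.Omega F ⇑Q ≤ M := by
  obtain ⟨i, j, hij, hL⟩ := od_linked_of_mixed h hn hN hmix
  have hall := od_linked_all h hn hN hij hL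
  have key : ∀ p : Fin t, ∀ a ∈ D p, Q a = 0 → ∀ w, QuadraticMap.polar Q a w = 0 → eichG Q a w ∈ M := by
    intro p a ha hQa w haw
    obtain ⟨c, hc, rfl⟩ := h.comp w
    have hin : InM Q M a (∑ b, c b) := by
      apply Finset.sum_induction c (InM Q M a) (fun _ _ h1 h2 => InM.add h1 h2) (InM.zero hQa)
      intro b _
      by_cases hbp : b = p
      · subst hbp
        refine InM.of_block h hn hN b a (c b) ha (hc b) hQa ?_
        rw [QuadraticMap.polar_comm, ← h.polar_sum_left c hc b a ha, QuadraticMap.polar_comm]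
        exact haw
      · exact hall p b (Ne.symm hbp) a ha hQa (c b) (hc b)
    exact hin.2.2
  obtain ⟨p, q, hp, hq, hQp, hQq, hpq⟩ := h.exists_hyp (⟨0, by omega⟩ : Fin t)
  exact Omega_le_of_hyp_pair Q h.nd (by omega) M p q hQp hQq (by rw [hpq]; exact one_ne_zero)
    (key _ p hp hQp) (key _ q hq hQq)

/-- Maximality in `Ω` of the stabiliser of an orthogonal decomposition into `t ≥ 3` non-degenerate
isometric blocks of dimension `k ≥ 3` (odd characteristic, `(q, k) ≠ (3, 3)`). -/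
theorem od_stab_maximal (Q : QuadraticForm F (ι → F)) {t k : ℕ} (D : Fin t → Submodule F (ι → F))
    (h : OD Q k D) (hqk : 5 ≤ Fintype.card F ∨ 4 ≤ k) (ht : 3 ≤ t) (hn : 7 ≤ Fintype.card ι) :
    Cfsg.Geo.IsMaximalIn (Cfsg.Geo.omegaGL ⇑Q)
      (Cfsg.Geo.decompositionStabilizer D ⊓ Cfsg.Geo.omegaGL ⇑Q) := by
  constructor
  · refine lt_of_le_of_ne inf_le_right ?_
    intro heq
    have hi01 : (⟨0, by omega⟩ : Fin t) ≠ ⟨1, by omega⟩ := by
      intro hh
      have := congrArg Fin.val hh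
      simp at this
    obtain ⟨p, q, hp, hq, hQp, hQq, hpq⟩ := h.exists_hyp (⟨0, by omega⟩ : Fin t)
    obtain ⟨w, w', hw, -, -, -, hww'⟩ := h.exists_hyp (⟨1, by omega⟩ : Fin t)
    have hw0 : w ≠ 0 := by
      rintro rfl
      simp at hww'
    have hp0 : p ≠ 0 := by
      rintro rfl
      simp at hpq
    have hpw : QuadraticMap.polar Q p w = 0 := h.orth _ _ hi01 p hp w hw
    have h1 : ((eichG Q p w : ↥(Cfsg.isometryGroup F ⇑Q)) : Matrix.GeneralLinearGroup ι F) ∈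
        Cfsg.Geo.decompositionStabilizer D ⊓ Cfsg.Geo.omegaGL ⇑Q := by
      rw [heq]
      exact ⟨_, eichG_mem_Omega Q h.nd hn p w, rfl⟩
    obtain ⟨σ, hσ⟩ := h1.1
    have hmap : ∀ u ∈ D (⟨0, by omega⟩ : Fin t), isoAct (⇑Q) (eichG Q p w) u ∈ D (σ ⟨0, by omega⟩) := by
      intro u hu
      rw [← hσ ⟨0, by omega⟩]
      exact Submodule.mem_map.mpr ⟨u, hu, Matrix.toLin'_apply _ _⟩
    have hEp : isoAct (⇑Q) (eichG Q p w) p = p := by
      rw [isoAct_eichG Q p w hQp hpw, od_polar_self, hQp, QuadraticMap.polar_comm Q w p, hpw]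
      simp
    have hσ0 : σ ⟨0, by omega⟩ = ⟨0, by omega⟩ := by
      have h2 := hmap p hp
      rw [hEp] at h2
      exact h.eq_of_mem_mem hp0 h2 hp
    have h3 := hmap q hq
    rw [hσ0, isoAct_eichG Q p w hQp hpw, hpq, QuadraticMap.polar_comm Q w q,
      h.orth _ _ hi01 q hq w hw] at h3
    have h4 : w ∈ D (⟨0, by omega⟩ : Fin t) := by
      have h5 := (D (⟨0, by omega⟩ : Fin t)).sub_mem
        ((D (⟨0, by omega⟩ : Fin t)).add_mem hq
          ((D (⟨0, by omega⟩ : Fin t)).smul_mem (0 - Q w * 1) hp)) h3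
      rw [sub_sub_cancel, one_smul] at h5
      exact h5
    exact hi01 (h.eq_of_mem_mem hw0 h4 hw)
  · intro M' hPM hMG
    by_cases hM : M' ≤ Cfsg.Geo.decompositionStabilizer D
    · left
      exact le_antisymm (le_inf hM hMG) hPM
    · right
      refine le_antisymm hMG ?_
      obtain ⟨k₀, hkM, hkU⟩ := SetLike.not_le_iff_exists.mp hM
      obtain ⟨k'', hk''Ω, rfl⟩ := hMG hkM
      have hN : ∀ g ∈ Cfsg.Omega F ⇑Q,
          (g : Matrix.GeneralLinearGroup ι F) ∈ Cfsg.Geo.decompositionStabilizer D →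
          g ∈ M'.comap (Cfsg.isometryGroup F ⇑Q).subtype :=
        fun g hg hgD => hPM ⟨hgD, ⟨g, hg, rfl⟩⟩
      obtain ⟨x, y, hin, hx0, hne, hbad⟩ := od_exists_bad_pair h hn hN k'' hkM hkU
      have hmix := hin.mixed_of_bad h hqk ht hn hN hx0 hne hbad
      have key := od_omega_le_of_mixed h ht hn hN hmix
      rintro _ ⟨g, hg, rfl⟩
      exact key hg

end ODFinal

end Cfsg.Agent.Lib.helper17
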