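import Mathlib
import Cfsg.Prelude.Def_GeometricClasses
import Cfsg.Agent.Lib.helper95.OrthoFrame
import Cfsg.Agent.Lib.helper95.PlusPlane

/-!
# Non-maximality of decomposition stabilisers in `Ω`: hyperbolic planes over `F₃` and `F₅`

The hyperbolic plane over the field with three (five) elements has an orthogonal frame that its
isometry group permutes; the stabiliser of a decomposition into such planes then preserves the
frame weight, and is not maximal.
-/

set_option autoImplicit false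

namespace Cfsg.Agent.Lib.helper17

open Cfsg Cfsg.Geo Matrix Module Cfsg.Agent.Lib.helper49 Cfsg.Agent.Lib.helper95

section NM1

variable {F : Type*} [Field F] [Fintype F] {ι : Type} [Fintype ι] [DecidableEq ι]

omit [Fintype F] [Fintype ι] [DecidableEq ι] in
/-- Two orthogonal non-singular vectors of a plane form a basis (characteristic not two). -/
theorem nm_basis_pair (h2 : (2 : F) ≠ 0) (Qf : QuadraticForm F (ι → F)) (W : Submodule F (ι → F))
    (hdim : Module.finrank F W = 2) (u₀ u₁ : ι → F) (hu₀ : u₀ ∈ W) (hu₁ : u₁ ∈ W)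
    (hp : QuadraticMap.polar Qf u₀ u₁ = 0) (h0 : Qf u₀ ≠ 0) (h1 : Qf u₁ ≠ 0) :
    ∃ c : Basis (Fin 2) F W, (c 0 : ι → F) = u₀ ∧ (c 1 : ι → F) = u₁ := by
  have hp' : QuadraticMap.polar Qf u₁ u₀ = 0 := by
    rw [QuadraticMap.polar_comm]
    exact hp
  have hli : LinearIndependent F ![(⟨u₀, hu₀⟩ : W), ⟨u₁, hu₁⟩] := by
    rw [LinearIndependent.pair_iff]
    intro s t hst
    have hst' : s • u₀ + t • u₁ = 0 := by
      have := congrArg Subtype.val hst
      simpa using this
    have e0 := congrArg (fun x => QuadraticMap.polar Qf u₀ x) hst'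
    have e1 := congrArg (fun x => QuadraticMap.polar Qf u₁ x) hst'
    simp only [QuadraticMap.polar_add_right, QuadraticMap.polar_smul_right, QuadraticMap.polar_self,
      hp, hp', QuadraticMap.polar_zero_right, smul_eq_mul, nsmul_eq_mul, Nat.cast_ofNat,
      mul_zero, add_zero, zero_add] at e0 e1
    constructor
    · rcases mul_eq_zero.mp e0 with h | h
      · exact h
      · exact absurd h (mul_ne_zero h2 h0)
    · rcases mul_eq_zero.mp e1 with h | h
      · exact h
      · exact absurd h (mul_ne_zero h2 h1)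
  refine ⟨basisOfLinearIndependentOfCardEqFinrank hli (by simp [hdim]), ?_, ?_⟩
  · simp [coe_basisOfLinearIndependentOfCardEqFinrank]
  · simp [coe_basisOfLinearIndependentOfCardEqFinrank]

omit [Fintype F] in
/-- Non-maximality from an orthogonal frame of a decomposition into planes whose first vectors have
norm one, when the frame weight of a block component can be read off from an isometry-invariant
function. -/
theorem nm_frame_generic (h2 : (2 : F) ≠ 0) (Qf : QuadraticForm F (ι → F)) {t : ℕ} (s : ℕ)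
    (hs : ((s : ℕ) : F) = 1) (hs3 : 3 ≤ s) (hst : s + 1 ≤ t) (ht : 4 ≤ t)
    (D : Fin t → Submodule F (ι → F)) (E : Basis ((_ : Fin t) × Fin 2) F (ι → F))
    (hblk : ∀ i, blk E i = D i)
    (horth : ∀ a a', a ≠ a' → QuadraticMap.polar Qf (E a) (E a') = 0)
    (hnorm : ∀ i, Qf (E ⟨i, 0⟩) = 1)
    (pw : (ι → F) → ℕ)
    (hpw : ∀ i x, pw (bproj E i x) = ∑ j, cntF (E.repr x ⟨i, j⟩))
    (hpwinv : ∀ g : GL ι F, (∀ u, Qf ((g : Matrix ι ι F) *ᵥ u) = Qf u) →
      ∀ y, pw ((g : Matrix ι ι F) *ᵥ y) = pw y) :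
    ∃ K : Subgroup (GL ι F), decompositionStabilizer D ⊓ omegaGL ⇑Qf < K ∧ K < omegaGL ⇑Qf := by
  classical
  have hinj : Function.Injective (fun i : Fin t => (⟨i, 0⟩ : (_ : Fin t) × Fin 2)) :=
    fun i i' h => congrArg Sigma.fst h
  obtain ⟨S, -, hS⟩ := Finset.exists_subset_card_eq (s := (Finset.univ : Finset (Fin t))) (n := s)
    (by simp; omega)
  obtain ⟨i₅, hi₅⟩ : ∃ i₅ : Fin t, i₅ ∉ S := by
    by_contra hcon
    push Not at hcon
    have : S = Finset.univ := Finset.eq_univ_iff_forall.mpr hcon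
    rw [this, Finset.card_univ, Fintype.card_fin] at hS
    omega
  obtain ⟨i₁, h1, i₂, h2', i₃, h3', h12, h13, h23⟩ := Finset.two_lt_card.mp (by omega : 2 < S.card)
  have hTc : ((S.image (fun i : Fin t => (⟨i, 0⟩ : (_ : Fin t) × Fin 2))).card : F) = 1 := by
    rw [Finset.card_image_of_injective S hinj, hS]
    exact hs
  obtain ⟨τ, hτ, hτx⟩ := exists_refl2_fwt_ne h2 Qf E horth (one_ne_zero (α := F))
    (S.image (fun i : Fin t => (⟨i, 0⟩ : (_ : Fin t) × Fin 2)))
    (fun c hc => by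
      obtain ⟨i, -, rfl⟩ := Finset.mem_image.mp hc
      exact hnorm i)
    (by rw [hTc]; exact one_ne_zero)
    (Finset.mem_image_of_mem _ h1) (Finset.mem_image_of_mem _ h2') (Finset.mem_image_of_mem _ h3')
    (fun h => h12 (hinj h)) (fun h => h13 (hinj h)) (fun h => h23 (hinj h)) (E ⟨i₅, 0⟩)
    (by rw [hTc, one_mul, hnorm])
    (by
      rw [QuadraticMap.polar_comm, polar_basis_left Qf E horth, repr_sum_basis, if_neg, zero_mul]
      intro hmem
      obtain ⟨i, hi, hieq⟩ := Finset.mem_image.mp hmem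
      exact hi₅ (hinj hieq ▸ hi))
    (horth _ _ (fun h => by
      have := hinj h
      exact hi₅ (this ▸ h1)))
  refine frame_not_maximal h2 Qf ht D E hblk horth (one_ne_zero (α := F)) (j₀ := 0) (j₁ := 1)
    (by decide) hnorm ?_ τ hτ hτx
  intro g hgD hg x
  exact fwt_map_of_pw E D hblk pw hpw g hgD (hpwinv g hg) x

omit [Fintype F] [Fintype ι] [DecidableEq ι] in
theorem nm_Q_bproj2 (Qf : QuadraticForm F (ι → F)) {t : ℕ} (E : Basis ((_ : Fin t) × Fin 2) F (ι → F))
    (horth : ∀ a a', a ≠ a' → QuadraticMap.polar Qf (E a) (E a') = 0) (i : Fin t) (x : ι → F) :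
    Qf (bproj E i x) = (E.repr x ⟨i, 0⟩) ^ 2 * Qf (E ⟨i, 0⟩) + (E.repr x ⟨i, 1⟩) ^ 2 * Qf (E ⟨i, 1⟩) := by
  rw [bproj_apply, quad_sum_orth Qf Finset.univ (fun j => E.repr x ⟨i, j⟩) (fun j => E ⟨i, j⟩)
      (fun j l hjl => horth _ _ (by
        intro h
        simp only [Sigma.mk.injEq, heq_eq_eq, true_and] at h
        exact hjl h)), Fin.sum_univ_two]

omit [Fintype F] [Fintype ι] [DecidableEq ι] in
theorem nm_bproj2_zero {t : ℕ} (E : Basis ((_ : Fin t) × Fin 2) F (ι → F)) (i : Fin t) (x : ι → F) :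
    bproj E i x = 0 ↔ E.repr x ⟨i, 0⟩ = 0 ∧ E.repr x ⟨i, 1⟩ = 0 := by
  rw [bproj_eq_zero_iff]
  constructor
  · intro h
    exact ⟨h 0, h 1⟩
  · rintro ⟨h0, h1⟩ j
    fin_cases j
    · exact h0
    · exact h1

open scoped Classical in
/-- Weight of a vector of a hyperbolic plane over `F₃` with respect to its `(1, -1)` frame. -/
noncomputable def nmPwA (Q : (ι → F) → F) (y : ι → F) : ℕ :=
  if y = 0 then 0 else if Q y = 0 then 2 else 1

omit [Fintype F] in
theorem nmPwA_isometry (Q : (ι → F) → F) (g : GL ι F)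
    (hg : ∀ u, Q ((g : Matrix ι ι F) *ᵥ u) = Q u) (y : ι → F) :
    nmPwA Q ((g : Matrix ι ι F) *ᵥ y) = nmPwA Q y := by
  unfold nmPwA
  rw [hg]
  by_cases hy : y = 0
  · rw [if_pos hy, if_pos ((gl_mulVec_eq_zero_iff g y).mpr hy)]
  · rw [if_neg hy, if_neg (fun h => hy ((gl_mulVec_eq_zero_iff g y).mp h))]

theorem nmPwA_bproj (hq : Fintype.card F = 3) (Qf : QuadraticForm F (ι → F)) {t : ℕ}
    (E : Basis ((_ : Fin t) × Fin 2) F (ι → F))
    (horth : ∀ a a', a ≠ a' → QuadraticMap.polar Qf (E a) (E a') = 0)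
    (hn0 : ∀ i, Qf (E ⟨i, 0⟩) = 1) (hn1 : ∀ i, Qf (E ⟨i, 1⟩) = -1) (i : Fin t) (x : ι → F) :
    nmPwA ⇑Qf (bproj E i x) = ∑ j, cntF (E.repr x ⟨i, j⟩) := by
  rw [Fin.sum_univ_two]
  unfold nmPwA
  have hz := nm_bproj2_zero E i x
  have hQ := nm_Q_bproj2 Qf E horth i x
  rw [hn0, hn1] at hQ
  by_cases ha : E.repr x ⟨i, 0⟩ = 0 <;> by_cases hb : E.repr x ⟨i, 1⟩ = 0
  · rw [if_pos (hz.mpr ⟨ha, hb⟩), ha, hb, cntF_zero]
  · have hc : ¬ Qf (bproj E i x) = 0 := by
      rw [hQ, ha, sq_eq_one_of_card_three hq hb]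
      simp
    rw [if_neg (fun h => hb (hz.mp h).2), if_neg hc, ha, cntF_zero, cntF_of_ne hb]
  · have hc : ¬ Qf (bproj E i x) = 0 := by
      rw [hQ, hb, sq_eq_one_of_card_three hq ha]
      simp
    rw [if_neg (fun h => ha (hz.mp h).1), if_neg hc, hb, cntF_zero, cntF_of_ne ha]
  · have hc : Qf (bproj E i x) = 0 := by
      rw [hQ, sq_eq_one_of_card_three hq ha, sq_eq_one_of_card_three hq hb]
      simp
    rw [if_neg (fun h => ha (hz.mp h).1), if_pos hc, cntF_of_ne ha, cntF_of_ne hb]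

/-- Over the field with three elements, the stabiliser in `Ω` of an orthogonal decomposition into at
least five hyperbolic planes is not maximal. -/
theorem plus3_not_maximal (hq : Fintype.card F = 3) (Qf : QuadraticForm F (ι → F)) {t : ℕ}
    (ht : 5 ≤ t) (D : Fin t → Submodule F (ι → F)) (hD : IsOrthogonalMDecomposition ⇑Qf 2 D)
    (hplus : ∀ i, IsPlusTypeOn ⇑Qf (D i)) :
    ∃ K : Subgroup (GL ι F), decompositionStabilizer D ⊓ omegaGL ⇑Qf < K ∧ K < omegaGL ⇑Qf := by
  have h3 := three_eq_zero_of_card_three hq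
  have h2 := two_ne_zero_of_card_three hq
  have hstep : ∀ i, ∃ c : Basis (Fin 2) F (D i), Qf (c 0 : ι → F) = 1 ∧ Qf (c 1 : ι → F) = -1 ∧
      QuadraticMap.polar Qf (c 0 : ι → F) (c 1 : ι → F) = 0 := by
    intro i
    obtain ⟨c, hc0, hc1, hc01⟩ := exists_hyp_basis Qf (D i) (hD.decomp.decomp.finrank_eq i)
      (hD.decomp.nondegenerate i) (hplus i)
    have hc10 : QuadraticMap.polar Qf (c 1 : ι → F) (c 0 : ι → F) = 1 := by
      rw [QuadraticMap.polar_comm]
      exact hc01
    have hq0 : Qf ((c 0 : ι → F) + (c 1 : ι → F)) = 1 := by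
      rw [QuadraticMap.map_add (⇑Qf), hc0, hc1, hc01]
      ring
    have hq1 : Qf ((c 0 : ι → F) - (c 1 : ι → F)) = -1 := by
      rw [quad_sub, hc0, hc1, hc01]
      ring
    have hp : QuadraticMap.polar Qf ((c 0 : ι → F) + (c 1 : ι → F))
        ((c 0 : ι → F) - (c 1 : ι → F)) = 0 := by
      rw [QuadraticMap.polar_add_left, QuadraticMap.polar_sub_right, QuadraticMap.polar_sub_right,
        QuadraticMap.polar_self, QuadraticMap.polar_self, hc0, hc1, hc01, hc10]
      simp
    obtain ⟨c', hc'0, hc'1⟩ := nm_basis_pair h2 Qf (D i) (hD.decomp.decomp.finrank_eq i) _ _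
      ((D i).add_mem (c 0).2 (c 1).2) ((D i).sub_mem (c 0).2 (c 1).2) hp
      (by rw [hq0]; exact one_ne_zero) (by rw [hq1]; exact neg_ne_zero.mpr one_ne_zero)
    exact ⟨c', by rw [hc'0]; exact hq0, by rw [hc'1]; exact hq1, by rw [hc'0, hc'1]; exact hp⟩
  choose c hc0 hc1 hc01 using hstep
  have horth : ∀ a a', a ≠ a' → QuadraticMap.polar Qf (decompBasisOf hD.decomp.decomp c a)
      (decompBasisOf hD.decomp.decomp c a') = 0 := by
    rintro ⟨i, j⟩ ⟨i', j'⟩ hne
    rw [decompBasisOf_apply, decompBasisOf_apply]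
    by_cases hii : i = i'
    · subst hii
      fin_cases j <;> fin_cases j'
      · exact absurd rfl hne
      · exact hc01 i
      · rw [QuadraticMap.polar_comm]
        exact hc01 i
      · exact absurd rfl hne
    · exact hD.decomp.orthogonal i i' hii _ (c i j).2 _ (c i' j').2
  refine nm_frame_generic h2 Qf 4 ?_ (by omega) (by omega) (by omega) D
    (decompBasisOf hD.decomp.decomp c) (blk_decompBasisOf _ c) horth ?_ (nmPwA ⇑Qf) ?_ ?_
  · push_cast
    linear_combination h3
  · intro i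
    rw [decompBasisOf_apply]
    exact hc0 i
  · exact nmPwA_bproj hq Qf _ horth (fun i => by rw [decompBasisOf_apply]; exact hc0 i)
      (fun i => by rw [decompBasisOf_apply]; exact hc1 i)
  · intro g hg y
    exact nmPwA_isometry _ g hg y

open scoped Classical in
/-- Weight of a vector of a hyperbolic plane over `F₅` with respect to its orthonormal frame. -/
noncomputable def nmPwB (Q : (ι → F) → F) (y : ι → F) : ℕ :=
  if y = 0 then 0 else if Q y = 1 ∨ Q y = -1 then 1 else 2

omit [Fintype F] in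
theorem nmPwB_isometry (Q : (ι → F) → F) (g : GL ι F)
    (hg : ∀ u, Q ((g : Matrix ι ι F) *ᵥ u) = Q u) (y : ι → F) :
    nmPwB Q ((g : Matrix ι ι F) *ᵥ y) = nmPwB Q y := by
  unfold nmPwB
  rw [hg]
  by_cases hy : y = 0
  · rw [if_pos hy, if_pos ((gl_mulVec_eq_zero_iff g y).mpr hy)]
  · rw [if_neg hy, if_neg (fun h => hy ((gl_mulVec_eq_zero_iff g y).mp h))]

theorem nm_five_eq_zero (hq : Fintype.card F = 5) : (5 : F) = 0 := by
  have := Nat.cast_card_eq_zero F
  rw [hq] at this
  exact_mod_cast this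

theorem nm_sq_of_card_five (hq : Fintype.card F = 5) {a : F} (ha : a ≠ 0) :
    a ^ 2 = 1 ∨ a ^ 2 = -1 := by
  have h := FiniteField.pow_card_sub_one_eq_one a ha
  rw [hq] at h
  have h4 : a ^ 4 = 1 := h
  have h' : (a ^ 2 - 1) * (a ^ 2 + 1) = 0 := by linear_combination h4
  rcases mul_eq_zero.mp h' with h1 | h1
  · left
    linear_combination h1
  · right
    linear_combination h1

theorem nmPwB_bproj (hq : Fintype.card F = 5) (Qf : QuadraticForm F (ι → F)) {t : ℕ}
    (E : Basis ((_ : Fin t) × Fin 2) F (ι → F))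
    (horth : ∀ a a', a ≠ a' → QuadraticMap.polar Qf (E a) (E a') = 0)
    (hn : ∀ a, Qf (E a) = 1) (i : Fin t) (x : ι → F) :
    nmPwB ⇑Qf (bproj E i x) = ∑ j, cntF (E.repr x ⟨i, j⟩) := by
  have h5 := nm_five_eq_zero hq
  have h1 : (1 : F) ≠ 0 := one_ne_zero
  have h3 : (3 : F) ≠ 0 := by
    intro h
    apply h1
    linear_combination 2 * h - h5
  rw [Fin.sum_univ_two]
  unfold nmPwB
  have hz := nm_bproj2_zero E i x
  have hQ := nm_Q_bproj2 Qf E horth i x
  rw [hn, hn, mul_one, mul_one] at hQ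
  by_cases ha : E.repr x ⟨i, 0⟩ = 0 <;> by_cases hb : E.repr x ⟨i, 1⟩ = 0
  · rw [if_pos (hz.mpr ⟨ha, hb⟩), ha, hb, cntF_zero]
  · have hc : Qf (bproj E i x) = 1 ∨ Qf (bproj E i x) = -1 := by
      rw [hQ, ha]
      rcases nm_sq_of_card_five hq hb with h | h
      · left
        rw [h]
        ring
      · right
        rw [h]
        ring
    rw [if_neg (fun h => hb (hz.mp h).2), if_pos hc, ha, cntF_zero, cntF_of_ne hb]
  · have hc : Qf (bproj E i x) = 1 ∨ Qf (bproj E i x) = -1 := by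
      rw [hQ, hb]
      rcases nm_sq_of_card_five hq ha with h | h
      · left
        rw [h]
        ring
      · right
        rw [h]
        ring
    rw [if_neg (fun h => ha (hz.mp h).1), if_pos hc, hb, cntF_zero, cntF_of_ne ha]
  · have hc : ¬ (Qf (bproj E i x) = 1 ∨ Qf (bproj E i x) = -1) := by
      rw [hQ]
      rintro (h | h) <;> rcases nm_sq_of_card_five hq ha with h' | h' <;>
        rcases nm_sq_of_card_five hq hb with h'' | h'' <;> rw [h', h''] at h
      all_goals first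
        | exact h1 (by linear_combination h)
        | exact h1 (by linear_combination -h)
        | exact h3 (by linear_combination h)
        | exact h3 (by linear_combination -h)
    rw [if_neg (fun h => ha (hz.mp h).1), if_neg hc, cntF_of_ne ha, cntF_of_ne hb]

/-- Over the field with five elements, the stabiliser in `Ω` of an orthogonal decomposition into at
least seven hyperbolic planes is not maximal. -/
theorem plus5_not_maximal (hq : Fintype.card F = 5) (Qf : QuadraticForm F (ι → F)) {t : ℕ}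
    (ht : 7 ≤ t) (D : Fin t → Submodule F (ι → F)) (hD : IsOrthogonalMDecomposition ⇑Qf 2 D)
    (hplus : ∀ i, IsPlusTypeOn ⇑Qf (D i)) :
    ∃ K : Subgroup (GL ι F), decompositionStabilizer D ⊓ omegaGL ⇑Qf < K ∧ K < omegaGL ⇑Qf := by
  have h5 := nm_five_eq_zero hq
  have h2 : (2 : F) ≠ 0 := by
    intro h
    exact one_ne_zero (α := F) (by linear_combination h5 - 2 * h)
  have hstep : ∀ i, ∃ c : Basis (Fin 2) F (D i), Qf (c 0 : ι → F) = 1 ∧ Qf (c 1 : ι → F) = 1 ∧
      QuadraticMap.polar Qf (c 0 : ι → F) (c 1 : ι → F) = 0 := by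
    intro i
    obtain ⟨c, hc0, hc1, hc01⟩ := exists_hyp_basis Qf (D i) (hD.decomp.decomp.finrank_eq i)
      (hD.decomp.nondegenerate i) (hplus i)
    have hc10 : QuadraticMap.polar Qf (c 1 : ι → F) (c 0 : ι → F) = 1 := by
      rw [QuadraticMap.polar_comm]
      exact hc01
    have hq0 : Qf ((c 0 : ι → F) + (c 1 : ι → F)) = 1 := by
      rw [QuadraticMap.map_add (⇑Qf), hc0, hc1, hc01]
      ring
    have hq1 : Qf ((2 : F) • ((c 0 : ι → F) - (c 1 : ι → F))) = 1 := by
      rw [QuadraticMap.map_smul, quad_sub, hc0, hc1, hc01, smul_eq_mul]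
      linear_combination -h5
    have hp : QuadraticMap.polar Qf ((c 0 : ι → F) + (c 1 : ι → F))
        ((2 : F) • ((c 0 : ι → F) - (c 1 : ι → F))) = 0 := by
      rw [QuadraticMap.polar_smul_right, QuadraticMap.polar_add_left, QuadraticMap.polar_sub_right,
        QuadraticMap.polar_sub_right, QuadraticMap.polar_self, QuadraticMap.polar_self, hc0, hc1,
        hc01, hc10]
      simp
    obtain ⟨c', hc'0, hc'1⟩ := nm_basis_pair h2 Qf (D i) (hD.decomp.decomp.finrank_eq i) _ _
      ((D i).add_mem (c 0).2 (c 1).2) ((D i).smul_mem _ ((D i).sub_mem (c 0).2 (c 1).2)) hp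
      (by rw [hq0]; exact one_ne_zero) (by rw [hq1]; exact one_ne_zero)
    exact ⟨c', by rw [hc'0]; exact hq0, by rw [hc'1]; exact hq1, by rw [hc'0, hc'1]; exact hp⟩
  choose c hc0 hc1 hc01 using hstep
  have horth : ∀ a a', a ≠ a' → QuadraticMap.polar Qf (decompBasisOf hD.decomp.decomp c a)
      (decompBasisOf hD.decomp.decomp c a') = 0 := by
    rintro ⟨i, j⟩ ⟨i', j'⟩ hne
    rw [decompBasisOf_apply, decompBasisOf_apply]
    by_cases hii : i = i'
    · subst hii
      fin_cases j <;> fin_cases j'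
      · exact absurd rfl hne
      · exact hc01 i
      · rw [QuadraticMap.polar_comm]
        exact hc01 i
      · exact absurd rfl hne
    · exact hD.decomp.orthogonal i i' hii _ (c i j).2 _ (c i' j').2
  have hnorm : ∀ a, Qf (decompBasisOf hD.decomp.decomp c a) = 1 := by
    rintro ⟨i, j⟩
    rw [decompBasisOf_apply]
    fin_cases j
    · exact hc0 i
    · exact hc1 i
  refine nm_frame_generic h2 Qf 6 ?_ (by omega) (by omega) (by omega) D
    (decompBasisOf hD.decomp.decomp c) (blk_decompBasisOf _ c) horth (fun i => hnorm _)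
    (nmPwB ⇑Qf) ?_ ?_
  · push_cast
    linear_combination h5
  · exact nmPwB_bproj hq Qf _ horth hnorm
  · intro g hg y
    exact nmPwB_isometry _ g hg y

end NM1

end Cfsg.Agent.Lib.helper17
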