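import Mathlib
import Cfsg.Prelude.Def_GeometricClasses
import Cfsg.Agent.Lib.helper95.OrthoFrame
import Cfsg.Agent.Lib.helper95.PlusPlane
import Cfsg.Agent.Lib.helper49.NondegMax
import Cfsg.Agent.Lib.helper17.OrthNM1

/-!
# Non-maximality of decomposition stabilisers in `Ω`: hyperbolic planes over `F₂` and `F₄`

Over a field of characteristic two in which every non-zero element is a cube root of unity, the
vectors of norm one of a hyperbolic plane form, with zero, an additive subgroup.  The stabiliser of a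
decomposition into hyperbolic planes then preserves the sum `V₀` of these subgroups, and so does an
Eichler transformation built from vectors of `V₀`.
-/

set_option autoImplicit false

namespace Cfsg.Agent.Lib.helper17

open Cfsg Cfsg.Geo Matrix Module Cfsg.Agent.Lib.helper49 Cfsg.Agent.Lib.helper95

section Bits

variable {F : Type*} [Field F]

/-- The pair `(a, b)` is zero or has product one. -/
def NmGood (a b : F) : Prop := (a = 0 ∧ b = 0) ∨ a * b = 1

/-- `a` is zero or one. -/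
def NmBit (a : F) : Prop := a = 0 ∨ a = 1

theorem NmBit.add (h2 : (2 : F) = 0) {a b : F} (ha : NmBit a) (hb : NmBit b) : NmBit (a + b) := by
  rcases ha with rfl | rfl <;> rcases hb with rfl | rfl
  · left
    simp
  · right
    simp
  · right
    simp
  · left
    linear_combination h2

theorem NmBit.neg (h2 : (2 : F) = 0) {a : F} (ha : NmBit a) : NmBit (-a) := by
  rcases ha with rfl | rfl
  · left
    simp
  · right
    linear_combination -h2

theorem NmBit.sub (h2 : (2 : F) = 0) {a b : F} (ha : NmBit a) (hb : NmBit b) : NmBit (a - b) := by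
  rw [sub_eq_add_neg]
  exact ha.add h2 (hb.neg h2)

theorem NmBit.mul {a b : F} (ha : NmBit a) (hb : NmBit b) : NmBit (a * b) := by
  rcases ha with rfl | rfl
  · left
    simp
  · rw [one_mul]
    exact hb

theorem NmGood.bit (h2 : (2 : F) = 0) (h3 : ∀ s : F, s ≠ 0 → s ^ 3 = 1) {a b : F}
    (h : NmGood a b) : NmBit (a + b) := by
  rcases h with ⟨rfl, rfl⟩ | h
  · left
    simp
  · have ha : a ≠ 0 := by
      rintro rfl
      simp at h
    have hc := h3 a ha
    have hf : (a - 1) * (a ^ 2 + a + 1) = 0 := by linear_combination hc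
    rcases mul_eq_zero.mp hf with h1 | h1
    · have ha1 : a = 1 := by linear_combination h1
      subst ha1
      have hb1 : b = 1 := by linear_combination h
      subst hb1
      left
      linear_combination h2
    · right
      have hk : a * (a + b - 1) = 0 := by linear_combination h1 + h - a * h2
      rcases mul_eq_zero.mp hk with h0 | h0
      · exact absurd h0 ha
      · linear_combination h0

theorem NmGood.add (h2 : (2 : F) = 0) (h3 : ∀ s : F, s ≠ 0 → s ^ 3 = 1) {a b a' b' : F}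
    (h : NmGood a b) (h' : NmGood a' b') : NmGood (a + a') (b + b') := by
  rcases h with ⟨rfl, rfl⟩ | h
  · simpa using h'
  rcases h' with ⟨rfl, rfl⟩ | h'
  · simp only [add_zero]
    exact Or.inr h
  have ha : a ≠ 0 := by
    rintro rfl
    simp at h
  have hb' : b' ≠ 0 := by
    rintro rfl
    simp at h'
  have hs : a * b' ≠ 0 := mul_ne_zero ha hb'
  have hc := h3 (a * b') hs
  have hf : (a * b' - 1) * ((a * b') ^ 2 + a * b' + 1) = 0 := by linear_combination hc
  rcases mul_eq_zero.mp hf with h1 | h1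
  · left
    have hbb : b' = b := by
      have hk : a * (b' - b) = 0 := by linear_combination h1 - h
      rcases mul_eq_zero.mp hk with h0 | h0
      · exact absurd h0 ha
      · linear_combination h0
    have haa : a' = a := by
      have hk : b' * (a' - a) = 0 := by linear_combination h' - h1
      rcases mul_eq_zero.mp hk with h0 | h0
      · exact absurd h0 hb'
      · linear_combination h0
    constructor
    · rw [haa]
      linear_combination a * h2
    · rw [hbb]
      linear_combination b * h2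
  · right
    have hss : (a * b') * (a' * b) = 1 := by linear_combination a' * b' * h + h'
    have key : (a * b') * (a * b' + a' * b - 1) = 0 := by
      linear_combination h1 + hss - (a * b') * h2
    have hsum : a * b' + a' * b = 1 := by
      rcases mul_eq_zero.mp key with h0 | h0
      · exact absurd h0 hs
      · linear_combination h0
    linear_combination h + h' + hsum + h2

theorem NmGood.shift (h2 : (2 : F) = 0) (h3 : ∀ s : F, s ≠ 0 → s ^ 3 = 1) {a b m : F}
    (h : NmGood a b) (hm : NmBit m) : NmGood (a + m) (b + m) := by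
  rcases hm with rfl | rfl
  · simpa using h
  · exact h.add h2 h3 (Or.inr (by ring))

end Bits

section NM2

variable {F : Type*} [Field F] [Fintype F] {ι : Type} [Fintype ι] [DecidableEq ι]

/-- Non-maximality from a hyperbolic frame of a decomposition into planes, over a field of
characteristic two all of whose non-zero elements are cube roots of unity. -/
theorem hypframe_not_maximal (h2 : (2 : F) = 0) (h3 : ∀ s : F, s ≠ 0 → s ^ 3 = 1)
    (Qf : QuadraticForm F (ι → F)) (hnd : (QuadraticMap.polarBilin Qf).Nondegenerate)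
    (hn : 7 ≤ Fintype.card ι) {t : ℕ} (ht : 3 ≤ t)
    (D : Fin t → Submodule F (ι → F)) (E : Basis ((_ : Fin t) × Fin 2) F (ι → F))
    (hblk : ∀ i, blk E i = D i) (hq0 : ∀ i, Qf (E ⟨i, 0⟩) = 0) (hq1 : ∀ i, Qf (E ⟨i, 1⟩) = 0)
    (h01 : ∀ i, QuadraticMap.polar Qf (E ⟨i, 0⟩) (E ⟨i, 1⟩) = 1)
    (horth : ∀ i i' (j j' : Fin 2), i ≠ i' → QuadraticMap.polar Qf (E ⟨i, j⟩) (E ⟨i', j'⟩) = 0) :
    ∃ K : Subgroup (GL ι F), decompositionStabilizer D ⊓ omegaGL ⇑Qf < K ∧ K < omegaGL ⇑Qf := by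
  classical
  have h11 : (1 : F) + 1 = 0 := by linear_combination h2
  have h10 : ∀ i, QuadraticMap.polar Qf (E ⟨i, 1⟩) (E ⟨i, 0⟩) = 1 := fun i => by
    rw [QuadraticMap.polar_comm]
    exact h01 i
  have hself : ∀ v : ι → F, QuadraticMap.polar Qf v v = 0 := fun v => by
    rw [QuadraticMap.polar_self]
    simp only [nsmul_eq_mul, Nat.cast_ofNat]
    rw [h2, zero_mul]
  -- polar forms with frame vectors
  have hpol : ∀ (a : (_ : Fin t) × Fin 2) (x : ι → F),
      QuadraticMap.polar Qf (E a) x = ∑ b, E.repr x b * QuadraticMap.polar Qf (E b) (E a) := by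
    intro a x
    conv_lhs => rw [← E.sum_repr x]
    rw [QuadraticMap.polar_comm, polar_sum_left]
  have hp0 : ∀ i x, QuadraticMap.polar Qf (E ⟨i, 0⟩) x = E.repr x ⟨i, 1⟩ := by
    intro i x
    rw [hpol, Finset.sum_eq_single (⟨i, 1⟩ : (_ : Fin t) × Fin 2)]
    · rw [h10, mul_one]
    · rintro ⟨i', j'⟩ - hne
      by_cases hii : i' = i
      · subst hii
        fin_cases j'
        · show E.repr x _ * QuadraticMap.polar Qf (E ⟨i', 0⟩) (E ⟨i', 0⟩) = 0
          rw [hself, mul_zero]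
        · exact absurd rfl hne
      · rw [horth i' i j' 0 hii, mul_zero]
    · intro h
      exact absurd (Finset.mem_univ _) h
  have hp1 : ∀ i x, QuadraticMap.polar Qf (E ⟨i, 1⟩) x = E.repr x ⟨i, 0⟩ := by
    intro i x
    rw [hpol, Finset.sum_eq_single (⟨i, 0⟩ : (_ : Fin t) × Fin 2)]
    · rw [h01, mul_one]
    · rintro ⟨i', j'⟩ - hne
      by_cases hii : i' = i
      · subst hii
        fin_cases j'
        · exact absurd rfl hne
        · show E.repr x _ * QuadraticMap.polar Qf (E ⟨i', 1⟩) (E ⟨i', 1⟩) = 0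
          rw [hself, mul_zero]
      · rw [horth i' i j' 1 hii, mul_zero]
    · intro h
      exact absurd (Finset.mem_univ _) h
  have hQb : ∀ i x, Qf (bproj E i x) = E.repr x ⟨i, 0⟩ * E.repr x ⟨i, 1⟩ := by
    intro i x
    rw [bproj_apply, Fin.sum_univ_two, QuadraticMap.map_add (⇑Qf), QuadraticMap.map_smul,
      QuadraticMap.map_smul, hq0, hq1, QuadraticMap.polar_smul_left, QuadraticMap.polar_smul_right,
      h01]
    simp only [smul_eq_mul]
    ring
  -- the invariant
  obtain ⟨N, hN⟩ : ∃ N : (ι → F) → Prop,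
      N = fun x => ∀ i, NmGood (E.repr x ⟨i, 0⟩) (E.repr x ⟨i, 1⟩) := ⟨_, rfl⟩
  have hNP : ∀ x, N x ↔ ∀ i, (bproj E i x = 0 ∨ Qf (bproj E i x) = 1) := by
    intro x
    rw [hN]
    refine forall_congr' (fun i => ?_)
    rw [nm_bproj2_zero, hQb]
    rfl
  -- the three blocks
  obtain ⟨i₁, i₂, i₃, h12, h13, h23⟩ : ∃ i₁ i₂ i₃ : Fin t, i₁ ≠ i₂ ∧ i₁ ≠ i₃ ∧ i₂ ≠ i₃ :=
    ⟨⟨0, by omega⟩, ⟨1, by omega⟩, ⟨2, by omega⟩, by simp [Fin.ext_iff], by simp [Fin.ext_iff],
      by simp [Fin.ext_iff]⟩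
  obtain ⟨y, hy⟩ : ∃ y : Fin t → ι → F, y = fun i => E ⟨i, 0⟩ + E ⟨i, 1⟩ := ⟨_, rfl⟩
  have hyr : ∀ i i' (j : Fin 2), E.repr (y i) ⟨i', j⟩ = if i' = i then 1 else 0 := by
    intro i i' j
    rw [hy]
    simp only [map_add, Basis.repr_self, Finsupp.add_apply, Finsupp.single_apply, Sigma.mk.injEq,
      heq_eq_eq]
    by_cases hii : i' = i
    · subst hii
      fin_cases j <;> simp
    · have hii' : ¬ i = i' := fun h => hii h.symm
      simp [hii, hii']
  have hyQ : ∀ i, Qf (y i) = 1 := by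
    intro i
    rw [hy]
    show Qf (E ⟨i, 0⟩ + E ⟨i, 1⟩) = 1
    rw [QuadraticMap.map_add (⇑Qf), hq0, hq1, h01]
    ring
  have hyp : ∀ i x, QuadraticMap.polar Qf (y i) x = E.repr x ⟨i, 1⟩ + E.repr x ⟨i, 0⟩ := by
    intro i x
    rw [hy]
    show QuadraticMap.polar Qf (E ⟨i, 0⟩ + E ⟨i, 1⟩) x = _
    rw [QuadraticMap.polar_add_left, hp0, hp1]
  have hyy : ∀ i i', i ≠ i' → QuadraticMap.polar Qf (y i) (y i') = 0 := by
    intro i i' hii
    rw [hyp, hyr, hyr, if_neg hii, add_zero]
  -- diagonal vectors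
  have hshift : ∀ (u x : ι → F) (m : F),
      (∀ i, E.repr u ⟨i, 0⟩ = E.repr u ⟨i, 1⟩ ∧ NmBit (E.repr u ⟨i, 0⟩)) → NmBit m → N x →
      N (x + m • u) := by
    intro u x m hu hm hx
    rw [hN] at hx ⊢
    intro i
    simp only [map_add, map_smul, Finsupp.add_apply, Finsupp.smul_apply, smul_eq_mul]
    rw [← (hu i).1]
    exact (hx i).shift h2 h3 (hm.mul (hu i).2)
  have hdy : ∀ i, ∀ i', E.repr (y i) ⟨i', 0⟩ = E.repr (y i) ⟨i', 1⟩ ∧ NmBit (E.repr (y i) ⟨i', 0⟩) := by
    intro i i'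
    rw [hyr, hyr]
    refine ⟨rfl, ?_⟩
    split_ifs
    · exact Or.inr rfl
    · exact Or.inl rfl
  -- the Eichler transformation
  have he : Qf (y i₁ + y i₂) = 0 := by
    rw [QuadraticMap.map_add (⇑Qf), hyQ, hyQ, hyy i₁ i₂ h12]
    linear_combination h2
  have hez : QuadraticMap.polar Qf (y i₁ + y i₂) (y i₃) = 0 := by
    rw [QuadraticMap.polar_add_left, hyy i₁ i₃ h13, hyy i₂ i₃ h23, add_zero]
  have hde : ∀ i', E.repr (y i₁ + y i₂) ⟨i', 0⟩ = E.repr (y i₁ + y i₂) ⟨i', 1⟩ ∧
      NmBit (E.repr (y i₁ + y i₂) ⟨i', 0⟩) := by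
    intro i'
    simp only [map_add, Finsupp.add_apply]
    rw [(hdy i₁ i').1, (hdy i₂ i').1]
    refine ⟨rfl, ?_⟩
    rw [← (hdy i₁ i').1, ← (hdy i₂ i').1]
    exact (hdy i₁ i').2.add h2 (hdy i₂ i').2
  have hgact : ∀ x, isoAct (⇑Qf) (eichG Qf (y i₁ + y i₂) (y i₃)) x =
      x + (QuadraticMap.polar Qf (y i₃) x - QuadraticMap.polar Qf (y i₁ + y i₂) x) • (y i₁ + y i₂) +
        (-QuadraticMap.polar Qf (y i₁ + y i₂) x) • y i₃ := by
    intro x
    rw [isoAct_eichG Qf _ _ he hez, hyQ, one_mul, neg_smul, sub_eq_add_neg]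
  have hstep : ∀ x, N x → N (isoAct (⇑Qf) (eichG Qf (y i₁ + y i₂) (y i₃)) x) := by
    intro x hx
    have hxi : ∀ i, NmBit (QuadraticMap.polar Qf (y i) x) := by
      intro i
      rw [hyp, add_comm]
      rw [hN] at hx
      exact (hx i).bit h2 h3
    have hb12 : NmBit (QuadraticMap.polar Qf (y i₁ + y i₂) x) := by
      rw [QuadraticMap.polar_add_left]
      exact (hxi i₁).add h2 (hxi i₂)
    rw [hgact]
    exact hshift _ _ _ (hdy i₃) (hb12.neg h2) (hshift _ _ _ hde ((hxi i₃).sub h2 hb12) hx)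
  have hgg : ∀ x, isoAct (⇑Qf) (eichG Qf (y i₁ + y i₂) (y i₃))
      (isoAct (⇑Qf) (eichG Qf (y i₁ + y i₂) (y i₃)) x) = x := by
    intro x
    rw [← isoAct_mul, eichG_mul Qf _ _ _ he hez hez]
    have hzz : y i₃ + y i₃ = 0 := by
      rw [← two_smul F (y i₃), h2, zero_smul]
    rw [hzz, eichG_zero, isoAct_one]
  have hH : ∀ g ∈ decompositionStabilizer D ⊓ omegaGL ⇑Qf, ∀ x,
      N ((g : Matrix ι ι F) *ᵥ x) = N x := by
    intro g hg x
    obtain ⟨σ, hσ⟩ := hg.1
    have hiso := fun u => isometry_of_mem_omegaGL hg.2 u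
    have hσ' : ∀ i, (blk E i).map (Matrix.toLin' (g : Matrix ι ι F)) = blk E (σ i) := fun i => by
      rw [hblk, hblk]
      exact hσ i
    have hP : ∀ z : ι → F, ((g : Matrix ι ι F) *ᵥ z = 0 ∨ Qf ((g : Matrix ι ι F) *ᵥ z) = 1) ↔
        (z = 0 ∨ Qf z = 1) := by
      intro z
      rw [gl_mulVec_eq_zero_iff, hiso]
    apply propext
    rw [hNP, hNP]
    constructor
    · intro h i
      have := h (σ i)
      rw [bproj_map E g σ hσ' x i] at this
      exact (hP _).mp this
    · intro h i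
      have := (hP _).mpr (h (σ.symm i))
      rw [← bproj_map E g σ hσ' x (σ.symm i), Equiv.apply_symm_apply] at this
      exact this
  refine not_maximal_of_fn N (decompositionStabilizer D) (omegaGL ⇑Qf) hH
    ((eichG Qf (y i₁ + y i₂) (y i₃) : isometryGroup F ⇑Qf) : GL ι F)
    (mem_omegaGL_of_mem _ _ (eichG_mem_Omega Qf hnd hn _ _)) ?_ ?_
    ((eichG Qf (E ⟨i₁, 0⟩) (E ⟨i₂, 0⟩) : isometryGroup F ⇑Qf) : GL ι F)
    (mem_omegaGL_of_mem _ _ (eichG_mem_Omega Qf hnd hn _ _)) ?_
  · intro x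
    apply propext
    constructor
    · intro h
      have h' : N (isoAct (⇑Qf) (eichG Qf (y i₁ + y i₂) (y i₃))
          (isoAct (⇑Qf) (eichG Qf (y i₁ + y i₂) (y i₃)) x)) := hstep _ h
      rw [hgg] at h'
      exact h'
    · exact hstep x
  · rintro ⟨σ, hσ⟩
    have hσ' : ∀ i, (blk E i).map (Matrix.toLin'
        (((eichG Qf (y i₁ + y i₂) (y i₃) : isometryGroup F ⇑Qf) : GL ι F) : Matrix ι ι F)) =
        blk E (σ i) := fun i => by
      rw [hblk, hblk]
      exact hσ i
    have hb := bwt_map E _ σ hσ' (E ⟨i₁, 0⟩)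
    rw [bwt_of_mem_blk E (basis_mem_blk E i₁ 0) (E.ne_zero _)] at hb
    have hact := hgact (E ⟨i₁, 0⟩)
    have hr : ∀ (i : Fin t), i ≠ i₁ → E.repr (isoAct (⇑Qf) (eichG Qf (y i₁ + y i₂) (y i₃)) (E ⟨i₁, 0⟩)) ⟨i, 0⟩ =
        (QuadraticMap.polar Qf (y i₃) (E ⟨i₁, 0⟩) - QuadraticMap.polar Qf (y i₁ + y i₂) (E ⟨i₁, 0⟩)) *
          E.repr (y i₁ + y i₂) ⟨i, 0⟩ +
        (-QuadraticMap.polar Qf (y i₁ + y i₂) (E ⟨i₁, 0⟩)) * E.repr (y i₃) ⟨i, 0⟩ := by
      intro i hi
      rw [hact]
      simp only [map_add, map_smul, Finsupp.add_apply, Finsupp.smul_apply, smul_eq_mul,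
        Basis.repr_self, Finsupp.single_apply, Sigma.mk.injEq, heq_eq_eq]
      rw [if_neg (fun h => hi h.1.symm), zero_add]
    have hpe : QuadraticMap.polar Qf (y i₁ + y i₂) (E ⟨i₁, 0⟩) = 1 := by
      rw [QuadraticMap.polar_add_left, hyp, hyp]
      simp [Finsupp.single_apply, h12]
    have hpz : QuadraticMap.polar Qf (y i₃) (E ⟨i₁, 0⟩) = 0 := by
      rw [hyp]
      simp [Finsupp.single_apply, h13]
    have hlt : 1 < bwt E (isoAct (⇑Qf) (eichG Qf (y i₁ + y i₂) (y i₃)) (E ⟨i₁, 0⟩)) := by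
      apply one_lt_bwt E h23
      · rw [Ne, nm_bproj2_zero]
        intro h
        have h' := h.1
        rw [hr i₂ (Ne.symm h12), hpe, hpz] at h'
        simp only [map_add, Finsupp.add_apply] at h'
        rw [hyr, hyr, hyr, if_neg (Ne.symm h12), if_pos rfl, if_neg h23] at h'
        simp at h'
      · rw [Ne, nm_bproj2_zero]
        intro h
        have h' := h.1
        rw [hr i₃ (Ne.symm h13), hpe, hpz] at h'
        simp only [map_add, Finsupp.add_apply] at h'
        rw [hyr, hyr, hyr, if_neg (Ne.symm h13), if_neg (Ne.symm h23), if_pos rfl] at h'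
        simp at h'
    have hb' : bwt E (isoAct (⇑Qf) (eichG Qf (y i₁ + y i₂) (y i₃)) (E ⟨i₁, 0⟩)) = 1 := hb
    omega
  · refine ⟨y i₁, ?_⟩
    have hNy : N (y i₁) := by
      rw [hN]
      intro i
      rw [hyr, hyr]
      split_ifs
      · exact Or.inr (one_mul 1)
      · exact Or.inl ⟨rfl, rfl⟩
    have hnot : ¬ N (isoAct (⇑Qf) (eichG Qf (E ⟨i₁, 0⟩) (E ⟨i₂, 0⟩)) (y i₁)) := by
      rw [hN]
      intro h
      have h' := h i₂
      rw [isoAct_eichG Qf _ _ (hq0 i₁) (horth i₁ i₂ 0 0 h12), hq0, zero_mul, sub_zero, hp0, hp0,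
        hyr, hyr, if_neg (Ne.symm h12), if_pos rfl, zero_smul, add_zero, one_smul] at h'
      simp only [map_sub, Finsupp.sub_apply, Basis.repr_self, Finsupp.single_apply, Sigma.mk.injEq,
        heq_eq_eq] at h'
      rw [hyr, hyr, if_neg (Ne.symm h12)] at h'
      simp [NmGood] at h'
    intro h
    exact hnot ((iff_of_eq h).mpr hNy)

/-- Over a field of characteristic two all of whose non-zero elements are cube roots of unity (the
fields with two and four elements), the stabiliser in `Ω` of an orthogonal decomposition into at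
least three hyperbolic planes is not maximal. -/
theorem plus24_not_maximal (h2 : (2 : F) = 0) (h3 : ∀ s : F, s ≠ 0 → s ^ 3 = 1)
    (Qf : QuadraticForm F (ι → F)) (hnd : (QuadraticMap.polarBilin Qf).Nondegenerate)
    (hn : 7 ≤ Fintype.card ι) {t : ℕ} (ht : 3 ≤ t)
    (D : Fin t → Submodule F (ι → F)) (hD : IsOrthogonalMDecomposition ⇑Qf 2 D)
    (hplus : ∀ i, IsPlusTypeOn ⇑Qf (D i)) :
    ∃ K : Subgroup (GL ι F), decompositionStabilizer D ⊓ omegaGL ⇑Qf < K ∧ K < omegaGL ⇑Qf := by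
  choose c hc0 hc1 hc01 using fun i => exists_hyp_basis Qf (D i) (hD.decomp.decomp.finrank_eq i)
      (hD.decomp.nondegenerate i) (hplus i)
  refine hypframe_not_maximal h2 h3 Qf hnd hn ht D (decompBasisOf hD.decomp.decomp c)
    (blk_decompBasisOf _ c) ?_ ?_ ?_ ?_
  · intro i
    rw [decompBasisOf_apply]
    exact hc0 i
  · intro i
    rw [decompBasisOf_apply]
    exact hc1 i
  · intro i
    rw [decompBasisOf_apply, decompBasisOf_apply]
    exact hc01 i
  · intro i i' j j' hii
    rw [decompBasisOf_apply, decompBasisOf_apply]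
    exact hD.decomp.orthogonal i i' hii _ (c i j).2 _ (c i' j').2

end NM2

end Cfsg.Agent.Lib.helper17
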