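import Mathlib
import Cfsg.Prelude.Def_GeometricClasses
import Cfsg.Agent.Lib.helper95.OrthoFrame
import Cfsg.Agent.Lib.helper95.PlusPlane
import Cfsg.Agent.Lib.helper49.NondegMax
import Cfsg.Agent.Lib.helper17.OrthNM2

/-!
# Non-maximality of decomposition stabilisers in `Ω`: plus-type 4-spaces over `F₂`

A non-degenerate 4-space of plus type over the field with two elements is the orthogonal sum of two
anisotropic planes, and its six non-singular vectors are the non-zero vectors of these planes.  An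
Eichler transformation exchanging two such planes taken in different members of a decomposition
preserves the set of non-singular vectors lying in a member, without stabilising the decomposition.
-/

set_option autoImplicit false

namespace Cfsg.Agent.Lib.helper17

open Cfsg Cfsg.Geo Matrix Module Cfsg.Agent.Lib.helper49 Cfsg.Agent.Lib.helper95

section NM3

variable {F : Type*} [Field F] {ι : Type} [Fintype ι] [DecidableEq ι]

/-- A non-degenerate 4-space of plus type has a basis of two orthogonal hyperbolic pairs. -/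
theorem nm_hyp4 (Qf : QuadraticForm F (ι → F)) (W : Submodule F (ι → F))
    (hdim : Module.finrank F W = 4) (hW : IsNondegenerateOn (QuadraticMap.polar ⇑Qf) W)
    (hplus : IsPlusTypeOn ⇑Qf W) :
    ∃ e₁ f₁ e₂ f₂ : ι → F, e₁ ∈ W ∧ f₁ ∈ W ∧ e₂ ∈ W ∧ f₂ ∈ W ∧
      Qf e₁ = 0 ∧ Qf f₁ = 0 ∧ Qf e₂ = 0 ∧ Qf f₂ = 0 ∧
      QuadraticMap.polar Qf e₁ f₁ = 1 ∧ QuadraticMap.polar Qf e₂ f₂ = 1 ∧
      QuadraticMap.polar Qf e₁ e₂ = 0 ∧ QuadraticMap.polar Qf e₁ f₂ = 0 ∧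
      QuadraticMap.polar Qf f₁ e₂ = 0 ∧ QuadraticMap.polar Qf f₁ f₂ = 0 ∧
      ∀ x ∈ W, ∃ a b c d : F, x = a • e₁ + b • f₁ + c • e₂ + d • f₂ := by
  obtain ⟨U, hUW, hUs, hUd⟩ := hplus
  have hU2 : Module.finrank F U = 2 := by omega
  have hUp : ∀ u ∈ U, ∀ u' ∈ U, QuadraticMap.polar Qf u u' = 0 := by
    intro u hu u' hu'
    unfold QuadraticMap.polar
    rw [hUs _ (U.add_mem hu hu'), hUs u hu, hUs u' hu']
    simp
  obtain ⟨bU⟩ : Nonempty (Basis (Fin 2) F U) := ⟨Module.finBasisOfFinrankEq F U hU2⟩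
  obtain ⟨u₁, hu₁⟩ : ∃ u₁ : ι → F, u₁ = (bU 0 : ι → F) := ⟨_, rfl⟩
  obtain ⟨u₂, hu₂⟩ : ∃ u₂ : ι → F, u₂ = (bU 1 : ι → F) := ⟨_, rfl⟩
  have hu₁U : u₁ ∈ U := by rw [hu₁]; exact (bU 0).2
  have hu₂U : u₂ ∈ U := by rw [hu₂]; exact (bU 1).2
  have hu₁0 : u₁ ≠ 0 := by
    rw [hu₁]
    intro h
    exact bU.ne_zero 0 (Subtype.ext h)
  have hQu₁ : Qf u₁ = 0 := hUs u₁ hu₁U
  have hu₁u₁ : QuadraticMap.polar Qf u₁ u₁ = 0 := hUp u₁ hu₁U u₁ hu₁U
  -- the partner of `u₁`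
  obtain ⟨⟨x, hxW, hxe⟩, -⟩ := hW u₁ (hUW hu₁U) hu₁0
  obtain ⟨x', hx'⟩ : ∃ x' : ι → F, x' = (QuadraticMap.polar Qf x u₁)⁻¹ • x := ⟨_, rfl⟩
  have hx'e : QuadraticMap.polar Qf x' u₁ = 1 := by
    rw [hx', QuadraticMap.polar_smul_left, smul_eq_mul, inv_mul_cancel₀ hxe]
  have hx'W : x' ∈ W := by
    rw [hx']
    exact W.smul_mem _ hxW
  obtain ⟨f₁, hf₁⟩ : ∃ f₁ : ι → F, f₁ = x' - Qf x' • u₁ := ⟨_, rfl⟩
  have hf₁W : f₁ ∈ W := by
    rw [hf₁]
    exact W.sub_mem hx'W (W.smul_mem _ (hUW hu₁U))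
  have hf₁u₁ : QuadraticMap.polar Qf f₁ u₁ = 1 := by
    rw [hf₁, QuadraticMap.polar_sub_left, QuadraticMap.polar_smul_left, hu₁u₁, hx'e]
    simp
  have hu₁f₁ : QuadraticMap.polar Qf u₁ f₁ = 1 := by
    rw [QuadraticMap.polar_comm]
    exact hf₁u₁
  have hQf₁ : Qf f₁ = 0 := by
    rw [hf₁, quad_sub, QuadraticMap.map_smul, hQu₁, QuadraticMap.polar_smul_right, hx'e]
    simp
  have hf₁f₁ : QuadraticMap.polar Qf f₁ f₁ = 0 := by
    rw [QuadraticMap.polar_self, hQf₁, smul_zero]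
  -- the second singular vector
  obtain ⟨e₂, he₂⟩ : ∃ e₂ : ι → F, e₂ = u₂ - QuadraticMap.polar Qf u₂ f₁ • u₁ := ⟨_, rfl⟩
  have he₂U : e₂ ∈ U := by
    rw [he₂]
    exact U.sub_mem hu₂U (U.smul_mem _ hu₁U)
  have hQe₂ : Qf e₂ = 0 := hUs e₂ he₂U
  have hu₁e₂ : QuadraticMap.polar Qf u₁ e₂ = 0 := hUp u₁ hu₁U e₂ he₂U
  have he₂u₁ : QuadraticMap.polar Qf e₂ u₁ = 0 := hUp e₂ he₂U u₁ hu₁U
  have he₂e₂ : QuadraticMap.polar Qf e₂ e₂ = 0 := hUp e₂ he₂U e₂ he₂U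
  have he₂f₁ : QuadraticMap.polar Qf e₂ f₁ = 0 := by
    rw [he₂, QuadraticMap.polar_sub_left, QuadraticMap.polar_smul_left, hu₁f₁]
    simp
  have hf₁e₂ : QuadraticMap.polar Qf f₁ e₂ = 0 := by
    rw [QuadraticMap.polar_comm]
    exact he₂f₁
  have he₂0 : e₂ ≠ 0 := by
    intro h0
    rw [he₂, sub_eq_zero, hu₁, hu₂] at h0
    have h1 : bU 1 = QuadraticMap.polar Qf ((bU 1 : U) : ι → F) f₁ • bU 0 := Subtype.ext (by
      rw [Submodule.coe_smul]
      exact h0)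
    have h2 := congrArg (fun v => bU.repr v 1) h1
    simp [Finsupp.single_apply] at h2
  -- the partner of `e₂`
  obtain ⟨⟨y, hyW, hye⟩, -⟩ := hW e₂ (hUW he₂U) he₂0
  obtain ⟨y', hy'⟩ : ∃ y' : ι → F, y' = y - QuadraticMap.polar Qf y f₁ • u₁
      - QuadraticMap.polar Qf y u₁ • f₁ := ⟨_, rfl⟩
  have hy'W : y' ∈ W := by
    rw [hy']
    exact W.sub_mem (W.sub_mem hyW (W.smul_mem _ (hUW hu₁U))) (W.smul_mem _ hf₁W)
  have hy'u₁ : QuadraticMap.polar Qf y' u₁ = 0 := by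
    rw [hy', QuadraticMap.polar_sub_left, QuadraticMap.polar_sub_left, QuadraticMap.polar_smul_left,
      QuadraticMap.polar_smul_left, hu₁u₁, hf₁u₁]
    simp
  have hy'f₁ : QuadraticMap.polar Qf y' f₁ = 0 := by
    rw [hy', QuadraticMap.polar_sub_left, QuadraticMap.polar_sub_left, QuadraticMap.polar_smul_left,
      QuadraticMap.polar_smul_left, hu₁f₁, hf₁f₁]
    simp
  have hy'e₂ : QuadraticMap.polar Qf y' e₂ ≠ 0 := by
    rw [hy', QuadraticMap.polar_sub_left, QuadraticMap.polar_sub_left, QuadraticMap.polar_smul_left,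
      QuadraticMap.polar_smul_left, hu₁e₂, hf₁e₂]
    simpa using hye
  obtain ⟨y'', hy''⟩ : ∃ y'' : ι → F, y'' = (QuadraticMap.polar Qf y' e₂)⁻¹ • y' := ⟨_, rfl⟩
  have hy''W : y'' ∈ W := by
    rw [hy'']
    exact W.smul_mem _ hy'W
  have hy''e₂ : QuadraticMap.polar Qf y'' e₂ = 1 := by
    rw [hy'', QuadraticMap.polar_smul_left, smul_eq_mul, inv_mul_cancel₀ hy'e₂]
  have hy''u₁ : QuadraticMap.polar Qf y'' u₁ = 0 := by
    rw [hy'', QuadraticMap.polar_smul_left, hy'u₁, smul_zero]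
  have hy''f₁ : QuadraticMap.polar Qf y'' f₁ = 0 := by
    rw [hy'', QuadraticMap.polar_smul_left, hy'f₁, smul_zero]
  obtain ⟨f₂, hf₂⟩ : ∃ f₂ : ι → F, f₂ = y'' - Qf y'' • e₂ := ⟨_, rfl⟩
  have hf₂W : f₂ ∈ W := by
    rw [hf₂]
    exact W.sub_mem hy''W (W.smul_mem _ (hUW he₂U))
  have hf₂e₂ : QuadraticMap.polar Qf f₂ e₂ = 1 := by
    rw [hf₂, QuadraticMap.polar_sub_left, QuadraticMap.polar_smul_left, he₂e₂, hy''e₂]
    simp
  have he₂f₂ : QuadraticMap.polar Qf e₂ f₂ = 1 := by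
    rw [QuadraticMap.polar_comm]
    exact hf₂e₂
  have hQf₂ : Qf f₂ = 0 := by
    rw [hf₂, quad_sub, QuadraticMap.map_smul, hQe₂, QuadraticMap.polar_smul_right, hy''e₂]
    simp
  have hf₂f₂ : QuadraticMap.polar Qf f₂ f₂ = 0 := by
    rw [QuadraticMap.polar_self, hQf₂, smul_zero]
  have hf₂u₁ : QuadraticMap.polar Qf f₂ u₁ = 0 := by
    rw [hf₂, QuadraticMap.polar_sub_left, QuadraticMap.polar_smul_left, he₂u₁, hy''u₁]
    simp
  have hu₁f₂ : QuadraticMap.polar Qf u₁ f₂ = 0 := by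
    rw [QuadraticMap.polar_comm]
    exact hf₂u₁
  have hf₂f₁ : QuadraticMap.polar Qf f₂ f₁ = 0 := by
    rw [hf₂, QuadraticMap.polar_sub_left, QuadraticMap.polar_smul_left, he₂f₁, hy''f₁]
    simp
  have hf₁f₂ : QuadraticMap.polar Qf f₁ f₂ = 0 := by
    rw [QuadraticMap.polar_comm]
    exact hf₂f₁
  -- spanning
  have hli : LinearIndependent F ![(⟨u₁, hUW hu₁U⟩ : W), ⟨f₁, hf₁W⟩, ⟨e₂, hUW he₂U⟩, ⟨f₂, hf₂W⟩] := by
    rw [Fintype.linearIndependent_iff]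
    intro g hg
    rw [Fin.sum_univ_four] at hg
    have hg' : g 0 • u₁ + g 1 • f₁ + g 2 • e₂ + g 3 • f₂ = 0 := by
      have := congrArg Subtype.val hg
      simpa using this
    have k0 := congrArg (fun v => QuadraticMap.polar Qf v f₁) hg'
    have k1 := congrArg (fun v => QuadraticMap.polar Qf v u₁) hg'
    have k2 := congrArg (fun v => QuadraticMap.polar Qf v f₂) hg'
    have k3 := congrArg (fun v => QuadraticMap.polar Qf v e₂) hg'
    simp only [QuadraticMap.polar_add_left, QuadraticMap.polar_smul_left, hu₁f₁, hf₁f₁, he₂f₁,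
      hf₂f₁, hu₁u₁, hf₁u₁, he₂u₁, hf₂u₁, hu₁f₂, hf₁f₂, he₂f₂, hf₂f₂, hu₁e₂, hf₁e₂, he₂e₂, hf₂e₂,
      QuadraticMap.polar_zero_left, smul_eq_mul, mul_one, mul_zero, add_zero, zero_add] at k0 k1 k2 k3
    intro i
    fin_cases i
    · exact k0
    · exact k1
    · exact k2
    · exact k3
  obtain ⟨bW, hbW⟩ : ∃ bW : Basis (Fin 4) F W, (bW : Fin 4 → W) =
      ![(⟨u₁, hUW hu₁U⟩ : W), ⟨f₁, hf₁W⟩, ⟨e₂, hUW he₂U⟩, ⟨f₂, hf₂W⟩] :=
    ⟨basisOfLinearIndependentOfCardEqFinrank hli (by simp [hdim]),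
      coe_basisOfLinearIndependentOfCardEqFinrank _ _⟩
  refine ⟨u₁, f₁, e₂, f₂, hUW hu₁U, hf₁W, hUW he₂U, hf₂W, hQu₁, hQf₁, hQe₂, hQf₂, hu₁f₁, he₂f₂,
    hu₁e₂, hu₁f₂, hf₁e₂, hf₁f₂, ?_⟩
  intro x hx
  refine ⟨bW.repr ⟨x, hx⟩ 0, bW.repr ⟨x, hx⟩ 1, bW.repr ⟨x, hx⟩ 2, bW.repr ⟨x, hx⟩ 3, ?_⟩
  have h := bW.sum_repr ⟨x, hx⟩
  rw [Fin.sum_univ_four, hbW] at h
  have h' := congrArg Subtype.val h
  simpa using h'.symm

variable [Fintype F]

/-- The structure of a plus-type 4-space over the field with two elements: an anisotropic plane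
`⟨a, b⟩` and a vector `c` orthogonal to it such that each vector of norm one lies in `⟨a, b⟩` or is
orthogonal to it. -/
theorem nm_plus4_struct (hq : Fintype.card F = 2) (Qf : QuadraticForm F (ι → F))
    (W : Submodule F (ι → F)) (hdim : Module.finrank F W = 4)
    (hW : IsNondegenerateOn (QuadraticMap.polar ⇑Qf) W) (hplus : IsPlusTypeOn ⇑Qf W) :
    ∃ a b c : ι → F, a ∈ W ∧ b ∈ W ∧ c ∈ W ∧ Qf a = 1 ∧ Qf b = 1 ∧ Qf c = 1 ∧
      QuadraticMap.polar Qf a b = 1 ∧ QuadraticMap.polar Qf a c = 0 ∧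
      QuadraticMap.polar Qf b c = 0 ∧
      ∀ x ∈ W, Qf x = 1 → (QuadraticMap.polar Qf a x = 0 ∧ QuadraticMap.polar Qf b x = 0) ∨
        x = QuadraticMap.polar Qf b x • a + QuadraticMap.polar Qf a x • b := by
  have h2 := two_eq_zero_of_card_two hq
  obtain ⟨e₁, f₁, e₂, f₂, he₁W, hf₁W, he₂W, hf₂W, hQe₁, hQf₁, hQe₂, hQf₂, h11, h22, hee, hef, hfe,
    hff, hspan⟩ := nm_hyp4 Qf W hdim hW hplus
  have h11' : QuadraticMap.polar Qf f₁ e₁ = 1 := by rw [QuadraticMap.polar_comm]; exact h11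
  have h22' : QuadraticMap.polar Qf f₂ e₂ = 1 := by rw [QuadraticMap.polar_comm]; exact h22
  have hee' : QuadraticMap.polar Qf e₂ e₁ = 0 := by rw [QuadraticMap.polar_comm]; exact hee
  have hef' : QuadraticMap.polar Qf f₂ e₁ = 0 := by rw [QuadraticMap.polar_comm]; exact hef
  have hfe' : QuadraticMap.polar Qf e₂ f₁ = 0 := by rw [QuadraticMap.polar_comm]; exact hfe
  have hff' : QuadraticMap.polar Qf f₂ f₁ = 0 := by rw [QuadraticMap.polar_comm]; exact hff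
  have hs1 : QuadraticMap.polar Qf e₁ e₁ = 0 := by rw [QuadraticMap.polar_self, hQe₁, smul_zero]
  have hs2 : QuadraticMap.polar Qf f₁ f₁ = 0 := by rw [QuadraticMap.polar_self, hQf₁, smul_zero]
  have hs3 : QuadraticMap.polar Qf e₂ e₂ = 0 := by rw [QuadraticMap.polar_self, hQe₂, smul_zero]
  have hs4 : QuadraticMap.polar Qf f₂ f₂ = 0 := by rw [QuadraticMap.polar_self, hQf₂, smul_zero]
  refine ⟨e₁ + f₁, e₂ + f₂ + e₁, e₂ + f₂, W.add_mem he₁W hf₁W, W.add_mem (W.add_mem he₂W hf₂W) he₁W,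
    W.add_mem he₂W hf₂W, ?_, ?_, ?_, ?_, ?_, ?_, ?_⟩
  · rw [QuadraticMap.map_add (⇑Qf), hQe₁, hQf₁, h11]
    ring
  · rw [QuadraticMap.map_add (⇑Qf), QuadraticMap.map_add (⇑Qf), hQe₂, hQf₂, hQe₁, h22,
      QuadraticMap.polar_add_left, hee', hef']
    ring
  · rw [QuadraticMap.map_add (⇑Qf), hQe₂, hQf₂, h22]
    ring
  · simp only [QuadraticMap.polar_add_left, QuadraticMap.polar_add_right, hee, hef, hfe, hff, hs1,
      h11']
    ring
  · simp only [QuadraticMap.polar_add_left, QuadraticMap.polar_add_right, hee, hef, hfe, hff]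
    ring
  · simp only [QuadraticMap.polar_add_left, QuadraticMap.polar_add_right, hee, hef, hs3, hs4, h22,
      h22']
    linear_combination h2
  · intro x hx hQ1
    obtain ⟨x1, y1, x2, y2, rfl⟩ := hspan x hx
    have hQx : Qf (x1 • e₁ + y1 • f₁ + x2 • e₂ + y2 • f₂) = x1 * y1 + x2 * y2 := by
      simp only [QuadraticMap.map_add (⇑Qf), QuadraticMap.map_smul, QuadraticMap.polar_add_left,
        QuadraticMap.polar_smul_left, QuadraticMap.polar_smul_right, hQe₁, hQf₁, hQe₂, hQf₂, h11, h22,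
        hee, hef, hfe, hff, smul_eq_mul]
      ring
    have hpa : QuadraticMap.polar Qf (e₁ + f₁) (x1 • e₁ + y1 • f₁ + x2 • e₂ + y2 • f₂) = x1 + y1 := by
      simp only [QuadraticMap.polar_add_left, QuadraticMap.polar_add_right,
        QuadraticMap.polar_smul_right, hs1, hs2, h11, h11', hee, hef, hfe, hff, smul_eq_mul]
      ring
    have hpb : QuadraticMap.polar Qf (e₂ + f₂ + e₁) (x1 • e₁ + y1 • f₁ + x2 • e₂ + y2 • f₂) =
        x2 + y2 + y1 := by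
      simp only [QuadraticMap.polar_add_left, QuadraticMap.polar_add_right,
        QuadraticMap.polar_smul_right, hs1, hs3, hs4, h11, h22, h22', hee, hef, hee', hef', hfe',
        hff', smul_eq_mul]
      ring
    rw [hQx] at hQ1
    rw [hpa, hpb]
    have hvec : (x2 + y2 = 0 ∧ x2 + x1 + y1 = 0) →
        x1 • e₁ + y1 • f₁ + x2 • e₂ + y2 • f₂ =
          (x2 + y2 + y1) • (e₁ + f₁) + (x1 + y1) • (e₂ + f₂ + e₁) := by
      rintro ⟨hA, hB⟩
      have c1 : x2 + y2 + y1 + (x1 + y1) = x1 := by linear_combination hA + y1 * h2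
      have c2 : x2 + y2 + y1 = y1 := by linear_combination hA
      have c3 : x1 + y1 = x2 := by linear_combination hB - x2 * h2
      have c4 : x1 + y1 = y2 := by linear_combination hB - hA
      have hr : (x2 + y2 + y1) • (e₁ + f₁) + (x1 + y1) • (e₂ + f₂ + e₁) =
          (x2 + y2 + y1 + (x1 + y1)) • e₁ + (x2 + y2 + y1) • f₁ + (x1 + y1) • e₂ + (x1 + y1) • f₂ := by
        module
      rw [hr, c1, c2]
      nth_rewrite 1 [c3]
      rw [c4]
    have hcase : (x1 + y1 = 0 ∧ x2 + y2 + y1 = 0) ∨ (x2 + y2 = 0 ∧ x2 + x1 + y1 = 0) := by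
      rcases eq_zero_or_one_of_card_two hq x1 with rfl | rfl <;>
      rcases eq_zero_or_one_of_card_two hq y1 with rfl | rfl <;>
      rcases eq_zero_or_one_of_card_two hq x2 with rfl | rfl <;>
      rcases eq_zero_or_one_of_card_two hq y2 with rfl | rfl <;>
      simp [h2, one_add_one_eq_two] at hQ1 ⊢
    rcases hcase with h | h
    · left
      exact h
    · right
      exact hvec h

omit [Fintype ι] [DecidableEq ι] [Fintype F] in
/-- Two non-zero vectors taken in different members of a decomposition do not add up to a vector of a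
member. -/
theorem nm_two_blocks {t m : ℕ} {D : Fin t → Submodule F (ι → F)} (hD : IsMDecomposition m D)
    {i j : Fin t} (hij : i ≠ j) {p r : ι → F} (hp : p ∈ D i) (hr : r ∈ D j) (hp0 : p ≠ 0)
    (hr0 : r ≠ 0) (l : Fin t) : p + r ∉ D l := by
  have hdis : ∀ a b : Fin t, a ≠ b → ∀ x, x ∈ D a → x ∈ D b → x = 0 := by
    intro a b hab x hxa hxb
    exact Submodule.disjoint_def.mp (hD.indep.pairwiseDisjoint hab) x hxa hxb
  intro hl
  by_cases hli : l = i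
  · subst hli
    have hr' : r ∈ D l := by
      have := (D l).sub_mem hl hp
      simpa using this
    exact hr0 (hdis l j hij r hr' hr)
  by_cases hlj : l = j
  · subst hlj
    have hp' : p ∈ D l := by
      have := (D l).sub_mem hl hr
      simpa using this
    exact hp0 (hdis i l hij p hp hp')
  · have hsup : p + r ∈ ⨆ (k : Fin t) (_ : k ≠ l), D k := by
      apply Submodule.add_mem
      · exact Submodule.mem_iSup_of_mem i (Submodule.mem_iSup_of_mem (Ne.symm hli) hp)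
      · exact Submodule.mem_iSup_of_mem j (Submodule.mem_iSup_of_mem (Ne.symm hlj) hr)
    have h0 : p + r = 0 := Submodule.disjoint_def.mp (hD.indep l) (p + r) hl hsup
    have hp' : p ∈ D j := by
      have : p = -r := eq_neg_of_add_eq_zero_left h0
      rw [this]
      exact (D j).neg_mem hr
    exact hp0 (hdis i j hij p hp hp')

/-- Over the field with two elements, the stabiliser in `Ω` of an orthogonal decomposition into
non-degenerate 4-spaces of plus type is not maximal. -/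
theorem plus42_not_maximal (hq : Fintype.card F = 2) (Qf : QuadraticForm F (ι → F))
    (hnd : (QuadraticMap.polarBilin Qf).Nondegenerate) (hn : 7 ≤ Fintype.card ι) {t : ℕ}
    (ht : 2 ≤ t) (D : Fin t → Submodule F (ι → F)) (hD : IsOrthogonalMDecomposition ⇑Qf 4 D)
    (hplus : ∀ i, IsPlusTypeOn ⇑Qf (D i)) :
    ∃ K : Subgroup (GL ι F), decompositionStabilizer D ⊓ omegaGL ⇑Qf < K ∧ K < omegaGL ⇑Qf := by
  classical
  have h2 := two_eq_zero_of_card_two hq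
  have hdec := hD.decomp.decomp
  have hdis : ∀ a b : Fin t, a ≠ b → ∀ x, x ∈ D a → x ∈ D b → x = 0 := by
    intro a b hab x hxa hxb
    exact Submodule.disjoint_def.mp (hdec.indep.pairwiseDisjoint hab) x hxa hxb
  have ho : ∀ i j, i ≠ j → ∀ u ∈ D i, ∀ v ∈ D j, QuadraticMap.polar Qf u v = 0 :=
    fun i j hij u hu v hv => hD.decomp.orthogonal i j hij u hu v hv
  have hself : ∀ v : ι → F, QuadraticMap.polar Qf v v = 0 := fun v => by
    rw [QuadraticMap.polar_self]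
    simp only [nsmul_eq_mul, Nat.cast_ofNat]
    rw [h2, zero_mul]
  obtain ⟨i₁, i₂, h12⟩ : ∃ i₁ i₂ : Fin t, i₁ ≠ i₂ :=
    ⟨⟨0, by omega⟩, ⟨1, by omega⟩, by simp [Fin.ext_iff]⟩
  obtain ⟨a₁, b₁, c₁, ha₁, hb₁, hc₁, hQa₁, hQb₁, hQc₁, hab₁, hac₁, hbc₁, hst₁⟩ :=
    nm_plus4_struct hq Qf (D i₁) (hdec.finrank_eq i₁) (hD.decomp.nondegenerate i₁) (hplus i₁)
  obtain ⟨a₂, b₂, c₂, ha₂, hb₂, hc₂, hQa₂, hQb₂, hQc₂, hab₂, hac₂, hbc₂, hst₂⟩ :=
    nm_plus4_struct hq Qf (D i₂) (hdec.finrank_eq i₂) (hD.decomp.nondegenerate i₂) (hplus i₂)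
  have hba₁ : QuadraticMap.polar Qf b₁ a₁ = 1 := by
    rw [QuadraticMap.polar_comm]
    exact hab₁
  have hne1 : ∀ v : ι → F, Qf v = 1 → v ≠ 0 := by
    rintro v hv rfl
    rw [map_zero] at hv
    exact zero_ne_one hv
  -- the Eichler transformation
  have he : Qf (a₁ + a₂) = 0 := by
    rw [QuadraticMap.map_add (⇑Qf), hQa₁, hQa₂, ho i₁ i₂ h12 a₁ ha₁ a₂ ha₂]
    linear_combination h2
  have hQz : Qf (b₁ + b₂) = 0 := by
    rw [QuadraticMap.map_add (⇑Qf), hQb₁, hQb₂, ho i₁ i₂ h12 b₁ hb₁ b₂ hb₂]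
    linear_combination h2
  have hez : QuadraticMap.polar Qf (a₁ + a₂) (b₁ + b₂) = 0 := by
    rw [QuadraticMap.polar_add_left, QuadraticMap.polar_add_right, QuadraticMap.polar_add_right,
      hab₁, hab₂, ho i₁ i₂ h12 a₁ ha₁ b₂ hb₂, ho i₂ i₁ h12.symm a₂ ha₂ b₁ hb₁]
    linear_combination h2
  have hgact : ∀ x, isoAct (⇑Qf) (eichG Qf (a₁ + a₂) (b₁ + b₂)) x =
      x + QuadraticMap.polar Qf (b₁ + b₂) x • (a₁ + a₂) -
        QuadraticMap.polar Qf (a₁ + a₂) x • (b₁ + b₂) := by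
    intro x
    rw [isoAct_eichG Qf _ _ he hez, hQz, zero_mul, sub_zero]
  obtain ⟨N, hN⟩ : ∃ N : (ι → F) → Prop, N = fun x => ∃ i, x ∈ D i ∧ Qf x = 1 := ⟨_, rfl⟩
  have hstep : ∀ x, N x → N (isoAct (⇑Qf) (eichG Qf (a₁ + a₂) (b₁ + b₂)) x) := by
    intro x hx
    rw [hN] at hx ⊢
    obtain ⟨i, hxi, hQx⟩ := hx
    have hQg : Qf (isoAct (⇑Qf) (eichG Qf (a₁ + a₂) (b₁ + b₂)) x) = 1 := by
      rw [Q_isoAct (⇑Qf)]
      exact hQx
    by_cases h1 : i = i₁
    · rw [h1] at hxi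
      have e1 : QuadraticMap.polar Qf (b₁ + b₂) x = QuadraticMap.polar Qf b₁ x := by
        rw [QuadraticMap.polar_add_left, ho i₂ i₁ h12.symm b₂ hb₂ x hxi, add_zero]
      have e2 : QuadraticMap.polar Qf (a₁ + a₂) x = QuadraticMap.polar Qf a₁ x := by
        rw [QuadraticMap.polar_add_left, ho i₂ i₁ h12.symm a₂ ha₂ x hxi, add_zero]
      rcases hst₁ x hxi hQx with ⟨hpa, hpb⟩ | hx'
      · refine ⟨i₁, ?_, hQg⟩
        rw [hgact, e1, e2, hpa, hpb, zero_smul, zero_smul, add_zero, sub_zero]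
        exact hxi
      · refine ⟨i₂, ?_, hQg⟩
        rw [hgact, e1, e2]
        obtain ⟨lam, hlam⟩ : ∃ lam, lam = QuadraticMap.polar Qf b₁ x := ⟨_, rfl⟩
        obtain ⟨mu, hmu⟩ : ∃ mu, mu = QuadraticMap.polar Qf a₁ x := ⟨_, rfl⟩
        rw [← hlam, ← hmu] at hx' ⊢
        have hd : lam • a₁ + lam • a₁ = 0 := by rw [← two_smul F (lam • a₁), h2, zero_smul]
        have hcalc : x + lam • (a₁ + a₂) - mu • (b₁ + b₂) =
            (lam • a₁ + lam • a₁) + (lam • a₂ - mu • b₂) := by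
          rw [hx']
          module
        rw [hcalc, hd, zero_add]
        exact (D i₂).sub_mem ((D i₂).smul_mem _ ha₂) ((D i₂).smul_mem _ hb₂)
    · by_cases h2' : i = i₂
      · rw [h2'] at hxi
        have e1 : QuadraticMap.polar Qf (b₁ + b₂) x = QuadraticMap.polar Qf b₂ x := by
          rw [QuadraticMap.polar_add_left, ho i₁ i₂ h12 b₁ hb₁ x hxi, zero_add]
        have e2 : QuadraticMap.polar Qf (a₁ + a₂) x = QuadraticMap.polar Qf a₂ x := by
          rw [QuadraticMap.polar_add_left, ho i₁ i₂ h12 a₁ ha₁ x hxi, zero_add]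
        rcases hst₂ x hxi hQx with ⟨hpa, hpb⟩ | hx'
        · refine ⟨i₂, ?_, hQg⟩
          rw [hgact, e1, e2, hpa, hpb, zero_smul, zero_smul, add_zero, sub_zero]
          exact hxi
        · refine ⟨i₁, ?_, hQg⟩
          rw [hgact, e1, e2]
          obtain ⟨lam, hlam⟩ : ∃ lam, lam = QuadraticMap.polar Qf b₂ x := ⟨_, rfl⟩
          obtain ⟨mu, hmu⟩ : ∃ mu, mu = QuadraticMap.polar Qf a₂ x := ⟨_, rfl⟩
          rw [← hlam, ← hmu] at hx' ⊢
          have hd : lam • a₂ + lam • a₂ = 0 := by rw [← two_smul F (lam • a₂), h2, zero_smul]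
          have hcalc : x + lam • (a₁ + a₂) - mu • (b₁ + b₂) =
              (lam • a₂ + lam • a₂) + (lam • a₁ - mu • b₁) := by
            rw [hx']
            module
          rw [hcalc, hd, zero_add]
          exact (D i₁).sub_mem ((D i₁).smul_mem _ ha₁) ((D i₁).smul_mem _ hb₁)
      · refine ⟨i, ?_, hQg⟩
        rw [hgact, QuadraticMap.polar_add_left, QuadraticMap.polar_add_left,
          ho i₁ i (Ne.symm h1) b₁ hb₁ x hxi, ho i₂ i (Ne.symm h2') b₂ hb₂ x hxi,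
          ho i₁ i (Ne.symm h1) a₁ ha₁ x hxi, ho i₂ i (Ne.symm h2') a₂ ha₂ x hxi]
        simpa using hxi
  have hgg : ∀ x, isoAct (⇑Qf) (eichG Qf (a₁ + a₂) (b₁ + b₂))
      (isoAct (⇑Qf) (eichG Qf (a₁ + a₂) (b₁ + b₂)) x) = x := by
    intro x
    rw [← isoAct_mul, eichG_mul Qf _ _ _ he hez hez]
    have hzz : b₁ + b₂ + (b₁ + b₂) = 0 := by
      rw [← two_smul F (b₁ + b₂), h2, zero_smul]
    rw [hzz, eichG_zero, isoAct_one]
  have hH : ∀ g ∈ decompositionStabilizer D ⊓ omegaGL ⇑Qf, ∀ x,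
      N ((g : Matrix ι ι F) *ᵥ x) = N x := by
    intro g hg x
    obtain ⟨σ, hσ⟩ := hg.1
    have hiso := fun u => isometry_of_mem_omegaGL hg.2 u
    apply propext
    rw [hN]
    beta_reduce
    constructor
    · rintro ⟨j, hj, hQ⟩
      refine ⟨σ.symm j, ?_, by rw [← hiso x]; exact hQ⟩
      have hj' : (g : Matrix ι ι F) *ᵥ x ∈
          (D (σ.symm j)).map (Matrix.toLin' (g : Matrix ι ι F)) := by
        rw [hσ, Equiv.apply_symm_apply]
        exact hj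
      obtain ⟨y, hy, hyx⟩ := hj'
      rw [Matrix.toLin'_apply] at hyx
      have := gl_mulVec_injective g hyx
      rw [← this]
      exact hy
    · rintro ⟨i, hi, hQ⟩
      refine ⟨σ i, ?_, by rw [hiso x]; exact hQ⟩
      rw [← hσ i]
      exact ⟨x, hi, by rw [Matrix.toLin'_apply]⟩
  refine not_maximal_of_fn N (decompositionStabilizer D) (omegaGL ⇑Qf) hH
    ((eichG Qf (a₁ + a₂) (b₁ + b₂) : isometryGroup F ⇑Qf) : GL ι F)
    (mem_omegaGL_of_mem _ _ (eichG_mem_Omega Qf hnd hn _ _)) ?_ ?_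
    ((eichG Qf (a₁ + a₂) c₁ : isometryGroup F ⇑Qf) : GL ι F)
    (mem_omegaGL_of_mem _ _ (eichG_mem_Omega Qf hnd hn _ _)) ?_
  · intro x
    apply propext
    constructor
    · intro h
      have h' : N (isoAct (⇑Qf) (eichG Qf (a₁ + a₂) (b₁ + b₂))
          (isoAct (⇑Qf) (eichG Qf (a₁ + a₂) (b₁ + b₂)) x)) := hstep _ h
      rw [hgg] at h'
      exact h'
    · exact hstep x
  · rintro ⟨σ, hσ⟩
    have hga : isoAct (⇑Qf) (eichG Qf (a₁ + a₂) (b₁ + b₂)) a₁ = a₂ := by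
      rw [hgact, QuadraticMap.polar_add_left, QuadraticMap.polar_add_left, hba₁, hself,
        ho i₂ i₁ h12.symm b₂ hb₂ a₁ ha₁, ho i₂ i₁ h12.symm a₂ ha₂ a₁ ha₁]
      have hd : a₁ + a₁ = 0 := by rw [← two_smul F a₁, h2, zero_smul]
      calc a₁ + ((1 : F) + 0) • (a₁ + a₂) - ((0 : F) + 0) • (b₁ + b₂) = (a₁ + a₁) + a₂ := by module
        _ = a₂ := by rw [hd, zero_add]
    have hgc : isoAct (⇑Qf) (eichG Qf (a₁ + a₂) (b₁ + b₂)) c₁ = c₁ := by
      rw [hgact, QuadraticMap.polar_add_left, QuadraticMap.polar_add_left, hbc₁, hac₁,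
        ho i₂ i₁ h12.symm b₂ hb₂ c₁ hc₁, ho i₂ i₁ h12.symm a₂ ha₂ c₁ hc₁]
      simp
    have m1 : a₂ ∈ D (σ i₁) := by
      rw [← hσ i₁]
      exact ⟨a₁, ha₁, by rw [Matrix.toLin'_apply]; exact hga⟩
    have m2 : c₁ ∈ D (σ i₁) := by
      rw [← hσ i₁]
      exact ⟨c₁, hc₁, by rw [Matrix.toLin'_apply]; exact hgc⟩
    have e1 : σ i₁ = i₂ := by
      by_contra hne
      exact hne1 a₂ hQa₂ (hdis (σ i₁) i₂ hne a₂ m1 ha₂)
    have e2 : σ i₁ = i₁ := by
      by_contra hne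
      exact hne1 c₁ hQc₁ (hdis (σ i₁) i₁ hne c₁ m2 hc₁)
    exact h12 (e2.symm.trans e1)
  · refine ⟨b₁, ?_⟩
    have hNb : N b₁ := by
      rw [hN]
      exact ⟨i₁, hb₁, hQb₁⟩
    have hτw : QuadraticMap.polar Qf (a₁ + a₂) c₁ = 0 := by
      rw [QuadraticMap.polar_add_left, hac₁, ho i₂ i₁ h12.symm a₂ ha₂ c₁ hc₁, add_zero]
    have hcb : QuadraticMap.polar Qf c₁ b₁ = 0 := by
      rw [QuadraticMap.polar_comm]
      exact hbc₁
    have hτb : isoAct (⇑Qf) (eichG Qf (a₁ + a₂) c₁) b₁ = (b₁ - a₁ - c₁) + (-a₂) := by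
      rw [isoAct_eichG Qf _ _ he hτw, hQc₁, one_mul, QuadraticMap.polar_add_left, hab₁,
        ho i₂ i₁ h12.symm a₂ ha₂ b₁ hb₁, hcb]
      module
    have hnot : ¬ N (isoAct (⇑Qf) (eichG Qf (a₁ + a₂) c₁) b₁) := by
      rw [hN, hτb]
      rintro ⟨j, hj, -⟩
      have hp0 : b₁ - a₁ - c₁ ≠ 0 := by
        intro h0
        have h3 := congrArg (fun v => QuadraticMap.polar Qf a₁ v) h0
        simp only [QuadraticMap.polar_sub_right, hab₁, hself, hac₁,
          QuadraticMap.polar_zero_right] at h3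
        simp at h3
      exact nm_two_blocks hdec h12 ((D i₁).sub_mem ((D i₁).sub_mem hb₁ ha₁) hc₁)
        ((D i₂).neg_mem ha₂) hp0 (neg_ne_zero.mpr (hne1 a₂ hQa₂)) j hj
    intro h
    exact hnot ((iff_of_eq h).mpr hNb)

end NM3

end Cfsg.Agent.Lib.helper17
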