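import Mathlib
import Cfsg.Agent.Lib.helper75.PQDefs
import Cfsg.Agent.Lib.helper66.S3B

/-!
# S4306 piece PRE, core (helper17): a good weight of `Z(R)`, with the pieces C5, B1, B2, B3, A7
as hypotheses.
-/

set_option autoImplicit false

namespace Cfsg.Agent.Lib.helper17.PQ

open Cfsg.Agent.Lib.helper75.PQ
open Cfsg.Agent.Lib.helper66 (WtV Fx cw)
open scoped commutatorElement

theorem pre_Fx_zpow {Γ : Type*} [Group Γ] {F : Type*} [Field F] (Z : Subgroup Γ) (μ : Γ → F)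
    (g : Γ) (hg : g ∈ Subgroup.normalizer (Z : Set Γ)) (h1 : Fx Z g μ) (i : ℤ) :
    Fx Z (g ^ i) μ := by
  obtain ⟨n, rfl | rfl⟩ := Int.eq_nat_or_neg i
  · rw [zpow_natCast]
    exact Cfsg.Agent.Lib.helper66.Fx_pow Z μ g hg h1 n
  · rw [zpow_neg, zpow_natCast]
    exact Cfsg.Agent.Lib.helper66.Fx_inv Z μ _ (Subgroup.pow_mem _ hg n)
      (Cfsg.Agent.Lib.helper66.Fx_pow Z μ g hg h1 n)

theorem pre_normalizer_ZR {Γ : Type*} [Group Γ] (R : Subgroup Γ) (g : Γ)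
    (hg : g ∈ Subgroup.normalizer (R : Set Γ)) :
    g ∈ Subgroup.normalizer ((ZR R : Subgroup Γ) : Set Γ) := by
  rw [Subgroup.mem_normalizer_iff]
  have hR := Subgroup.mem_normalizer_iff.mp hg
  have hR' : ∀ x, x ∈ R → g⁻¹ * x * g ∈ R := by
    intro x hx
    apply (hR (g⁻¹ * x * g)).mpr
    have e : g * (g⁻¹ * x * g) * g⁻¹ = x := by group
    rw [e]
    exact hx
  intro z
  simp only [mem_ZR]
  constructor
  · rintro ⟨hzR, hzc⟩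
    refine ⟨(hR z).mp hzR, ?_⟩
    intro x hx
    have h1 := hzc (g⁻¹ * x * g) (hR' x hx)
    have e1 : x * (g * z * g⁻¹) = g * ((g⁻¹ * x * g) * z) * g⁻¹ := by group
    have e2 : g * (z * (g⁻¹ * x * g)) * g⁻¹ = (g * z * g⁻¹) * x := by group
    rw [e1, h1, e2]
  · rintro ⟨hzR, hzc⟩
    refine ⟨(hR z).mpr hzR, ?_⟩
    intro x hx
    have h1 := hzc (g * x * g⁻¹) ((hR x).mp hx)
    have e1 : x * z = g⁻¹ * ((g * x * g⁻¹) * (g * z * g⁻¹)) * g := by group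
    have e2 : g⁻¹ * ((g * z * g⁻¹) * (g * x * g⁻¹)) * g = z * x := by group
    rw [e1, h1, e2]

theorem good_weight_core {Γ : Type*} [Group Γ] [Finite Γ] {F : Type*} [Field F]
    {W : Type*} [AddCommGroup W] [Module F W]
    {ρ : Γ →* Module.End F W} {K H S R : Subgroup Γ} {p q s r : ℕ}
    (T : Tower ρ K H S R p q s r)
    (hnab : ¬ ∀ x ∈ R, ∀ x' ∈ R, x * x' = x' * x)
    (hC5 : ∀ x ∈ R, ∀ x' ∈ R, ∀ u ∈ R, ⁅x, x'⁆ * u = u * ⁅x, x'⁆)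
    (hB1 : ∀ g ∈ ZR R, ∀ m : ℕ, g ^ m = 1 → (m : F) ≠ 0 →
      (∃ w ∈ (⊤ : Submodule F W), ρ g w ≠ w) →
      ∃ (μ : Γ → F) (w : W), WtV ρ ⊤ (ZR R) μ w ∧ μ g ≠ 1)
    (hB2 : ∀ (μ : Γ → F) (w : W), WtV ρ ⊤ (ZR R) μ w →
      (∀ k ∈ K, Fx (ZR R) k μ) ∨ (∃ k ∈ K, ∀ h ∈ H, Fx (ZR R) h (cw μ k)))
    (hB3 : ∀ (μ : Γ → F) (w : W), WtV ρ ⊤ (ZR R) μ w →
      (∀ k ∈ K, Fx (ZR R) k μ) → (∀ h ∈ H, Fx (ZR R) h μ) → ∀ b ∈ ZR R, μ b = 1)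
    (hA7K : ∀ k ∈ K, k ≠ 1 → K = Subgroup.zpowers k)
    (hA7H : ∀ h ∈ H, h ≠ 1 → H = Subgroup.zpowers h) :
    ∃ (μ : Γ → F) (w : W), WtV ρ ⊤ (ZR R) μ w ∧ (∃ x₁ ∈ R, ∃ x₂ ∈ R, μ ⁅x₁, x₂⁆ ≠ 1) ∧
      (((∀ k ∈ K, Fx (ZR R) k μ) ∧ (∀ h ∈ H, h ≠ 1 → ¬ Fx (ZR R) h μ)) ∨
       ((∀ h ∈ H, Fx (ZR R) h μ) ∧ (∀ k ∈ K, k ≠ 1 → ¬ Fx (ZR R) k μ))) := by
  classical
  have hKZ : K ≤ Subgroup.normalizer ((ZR R : Subgroup Γ) : Set Γ) :=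
    fun k hk => pre_normalizer_ZR R k (T.KR hk)
  have hHZ : H ≤ Subgroup.normalizer ((ZR R : Subgroup Γ) : Set Γ) :=
    fun h hh => pre_normalizer_ZR R h (T.HR hh)
  push Not at hnab
  obtain ⟨x1, hx1, x2, hx2, hne⟩ := hnab
  have hcomR : ∀ a ∈ R, ∀ b ∈ R, ⁅a, b⁆ ∈ R := by
    intro a ha b hb
    rw [commutatorElement_def]
    exact R.mul_mem (R.mul_mem (R.mul_mem ha hb) (R.inv_mem ha)) (R.inv_mem hb)
  have hcomZ : ∀ a ∈ R, ∀ b ∈ R, ⁅a, b⁆ ∈ ZR R := by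
    intro a ha b hb
    rw [mem_ZR]
    exact ⟨hcomR a ha b hb, fun u hu => (hC5 a ha b hb u hu).symm⟩
  have hg0R := hcomR x1 hx1 x2 hx2
  have hg0Z := hcomZ x1 hx1 x2 hx2
  have hg01 : ⁅x1, x2⁆ ≠ 1 := by
    intro h
    apply hne
    exact commutatorElement_eq_one_iff_mul_comm.mp h
  have hρ : ∃ w ∈ (⊤ : Submodule F W), ρ ⁅x1, x2⁆ w ≠ w := by
    by_contra hcon
    push Not at hcon
    apply hg01
    apply T.faith _ hg0R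
    ext w
    rw [Module.End.one_apply]
    exact hcon w Submodule.mem_top
  obtain ⟨n, hn⟩ := T.Rgrp ⟨⁅x1, x2⁆, hg0R⟩
  have hpow : ⁅x1, x2⁆ ^ (r ^ n) = 1 := by
    have := congrArg Subtype.val hn
    simpa using this
  have hrF : ((r ^ n : ℕ) : F) ≠ 0 := by
    rw [Nat.cast_pow]
    exact pow_ne_zero n T.rF
  obtain ⟨μ, w, hw, hμ⟩ := hB1 _ hg0Z (r ^ n) hpow hrF hρ
  rcases hB2 μ w hw with hK | ⟨k, hk, hH⟩
  · refine ⟨μ, w, hw, ⟨x1, hx1, x2, hx2, hμ⟩, Or.inl ⟨hK, ?_⟩⟩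
    intro h hh hh1 hfx
    apply hμ
    apply hB3 μ w hw hK _ _ hg0Z
    intro h' hh'
    rw [hA7H h hh hh1] at hh'
    obtain ⟨i, rfl⟩ := Subgroup.mem_zpowers_iff.mp hh'
    exact pre_Fx_zpow (ZR R) μ h (hHZ hh) hfx i
  · have hkZ := hKZ hk
    have hw' : WtV ρ ⊤ (ZR R) (cw μ k) (ρ k w) :=
      Cfsg.Agent.Lib.helper66.wt_conj ρ ⊤ (ZR R) μ w hw k hkZ (fun _ _ => Submodule.mem_top)
    have hkR := Subgroup.mem_normalizer_iff.mp (T.KR hk)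
    have hx1' : k * x1 * k⁻¹ ∈ R := (hkR x1).mp hx1
    have hx2' : k * x2 * k⁻¹ ∈ R := (hkR x2).mp hx2
    have hval : cw μ k ⁅k * x1 * k⁻¹, k * x2 * k⁻¹⁆ = μ ⁅x1, x2⁆ := by
      rw [Cfsg.Agent.Lib.helper66.cw_apply]
      congr 1
      rw [commutatorElement_def, commutatorElement_def]
      group
    have hμ' : cw μ k ⁅k * x1 * k⁻¹, k * x2 * k⁻¹⁆ ≠ 1 := by
      rw [hval]
      exact hμ
    have hZ' := hcomZ _ hx1' _ hx2'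
    refine ⟨cw μ k, ρ k w, hw', ⟨_, hx1', _, hx2', hμ'⟩, Or.inr ⟨hH, ?_⟩⟩
    intro k' hk' hk'1 hfx
    apply hμ'
    apply hB3 (cw μ k) (ρ k w) hw' _ hH _ hZ'
    intro k'' hk''
    rw [hA7K k' hk' hk'1] at hk''
    obtain ⟨i, rfl⟩ := Subgroup.mem_zpowers_iff.mp hk''
    exact pre_Fx_zpow (ZR R) (cw μ k) k' (hKZ hk') hfx i

end Cfsg.Agent.Lib.helper17.PQ
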