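import Mathlib
import Cfsg.Agent.Lib.helper75.PQDefs
import Cfsg.Agent.Lib.helper66.S3B
import Cfsg.Agent.Lib.helper18.PQ_A
import Cfsg.Agent.Lib.helper49.PQ_B1
import Cfsg.Agent.Lib.helper49.PQ_B2
import Cfsg.Agent.Lib.helper49.PQ_B3
import Cfsg.Agent.Lib.helper50.PQ_C5
import Cfsg.Agent.Lib.helper17.PQ_PRECore

/-!
# S4306 piece PRE (helper17): `MinTower.good_weight`
-/

set_option autoImplicit false

namespace Cfsg.Agent.Lib.helper75.PQ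

open Cfsg.Agent.Lib.helper66 (WtV Fx cw)
open scoped commutatorElement

variable {Γ : Type*} [Group Γ] [Finite Γ] {F : Type*} [Field F] [IsAlgClosed F]
  {W : Type*} [AddCommGroup W] [Module F W] [FiniteDimensional F W]
  {ρ : Γ →* Module.End F W} {K H S R : Subgroup Γ} {p q s r : ℕ}

/-- PRE: a weight of `Z(R)` nontrivial on a commutator, of `K`-type or of `H`-type. -/
theorem MinTower.good_weight (T : MinTower ρ K H S R p q s r)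
    (hnab : ¬ ∀ x ∈ R, ∀ x' ∈ R, x * x' = x' * x) :
    ∃ (μ : Γ → F) (w : W), WtV ρ ⊤ (ZR R) μ w ∧ (∃ x₁ ∈ R, ∃ x₂ ∈ R, μ ⁅x₁, x₂⁆ ≠ 1) ∧
      (((∀ k ∈ K, Fx (ZR R) k μ) ∧ (∀ h ∈ H, h ≠ 1 → ¬ Fx (ZR R) h μ)) ∨
       ((∀ h ∈ H, Fx (ZR R) h μ) ∧ (∀ k ∈ K, k ≠ 1 → ¬ Fx (ZR R) k μ))) := by
  have hT : Tower ρ K H S R p q s r := T.toTower
  have hZab : ∀ b ∈ ZR R, ∀ b' ∈ ZR R, b * b' = b' * b :=
    fun b hb b' hb' => (mem_ZR.mp hb').2 b (mem_ZR.mp hb).1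
  have hKZ : K ≤ Subgroup.normalizer ((ZR R : Subgroup Γ) : Set Γ) :=
    fun k hk => Cfsg.Agent.Lib.helper17.PQ.pre_normalizer_ZR R k (hT.KR hk)
  have hHZ : H ≤ Subgroup.normalizer ((ZR R : Subgroup Γ) : Set Γ) :=
    fun h hh => Cfsg.Agent.Lib.helper17.PQ.pre_normalizer_ZR R h (hT.HR hh)
  exact Cfsg.Agent.Lib.helper17.PQ.good_weight_core hT hnab (T.center_R hnab).2
    (fun g hg m hm hmF hne =>
      exists_wt_ne_one ρ ⊤ (ZR R) (fun _ _ _ _ => Submodule.mem_top) hZab g hg m hm hmF hne)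
    (fun μ w hw => hT.wt_stab (ZR R) hKZ hHZ μ w hw)
    (fun μ w hw hK hH =>
      hT.wt_trivial_of_fixed (ZR R) (fun z hz => (mem_ZR.mp hz).1) hZab hKZ hHZ μ w hw hK hH)
    (fun k hk hk1 => hT.frob.zpowers_K k hk hk1)
    (fun h hh hh1 => hT.frob.zpowers_H h hh hh1)

end Cfsg.Agent.Lib.helper75.PQ
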