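import Mathlib
import Cfsg.Agent.Lib.helper75.PQDefs

/-!
# S4306 piece TOP, core (helper17): the external form from the internal one, given the
structure of the acting group (piece PQA) as a hypothesis.
-/

set_option autoImplicit false

namespace Cfsg.Agent.Lib.helper17.PQ

open Cfsg.Agent.Lib.helper75.PQ

universe u v

theorem pq_top_of_int_core (hint : PQIntStmt.{max u v}) {G : Type u} {A : Type v} [Group G]
    [Finite G] [Group.IsSolvable G] [Group A] [Finite A] [MulDistribMulAction A G] (p q : ℕ)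
    (hKH : ∃ (K H : Subgroup A) (p' q' : ℕ), p' * q' = p * q ∧ FrobPQ K H p' q' ∧ K ⊔ H = ⊤)
    (hcop : (Nat.card G).Coprime (p * q))
    (hfpf : ∀ g : G, (∀ a : A, a • g = g) → g = 1) :
    ∃ F : Subgroup G, ∃ hF : F.Normal, Group.IsNilpotent ↥F ∧ Group.IsNilpotent (G ⧸ F) := by
  classical
  obtain ⟨K, H, p', q', hpq', hFr, hKHtop⟩ := hKH
  obtain ⟨φ₀, hφ₀⟩ : ∃ φ₀ : A →* MulAut G, ∀ a g, φ₀ a g = a • g :=
    ⟨MulDistribMulAction.toMulAut A G, fun a g => rfl⟩
  have hfin : Finite (G ⋊[φ₀] A) := Finite.of_equiv _ SemidirectProduct.equivProd.symm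
  obtain ⟨il, hil, hilinj⟩ : ∃ il : G →* G ⋊[φ₀] A,
      il = SemidirectProduct.inl ∧ Function.Injective il :=
    ⟨_, rfl, SemidirectProduct.inl_injective⟩
  obtain ⟨ir, hir, hirinj⟩ : ∃ ir : A →* G ⋊[φ₀] A,
      ir = SemidirectProduct.inr ∧ Function.Injective ir :=
    ⟨_, rfl, SemidirectProduct.inr_injective⟩
  have haut : ∀ (a : A) (g : G), il (a • g) = ir a * il g * ir a⁻¹ := by
    intro a g
    rw [hil, hir, ← hφ₀]
    exact SemidirectProduct.inl_aut a g
  have hNn : (il.range).Normal := by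
    rw [hil, SemidirectProduct.range_inl_eq_ker_rightHom]
    infer_instance
  have hNs : Group.IsSolvable il.range :=
    Group.isSolvable_of_surjective (il.rangeRestrict_surjective)
  have hNcard : Nat.card il.range = Nat.card G :=
    Nat.card_congr (MonoidHom.ofInjective hilinj).toEquiv.symm
  have hcardmap : ∀ L : Subgroup A, Nat.card (L.map ir) = Nat.card L := fun L =>
    Nat.card_congr (L.equivMapOfInjective ir hirinj).toEquiv.symm
  have hFr' : FrobPQ (K.map ir) (H.map ir) p' q' := by
    refine ⟨hFr.hp, hFr.hq, hFr.hpq, ?_, ?_, ?_, ?_⟩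
    · rw [hcardmap]
      exact hFr.cardK
    · rw [hcardmap]
      exact hFr.cardH
    · rintro _ ⟨h, hh, rfl⟩
      rw [Subgroup.mem_normalizer_iff]
      intro x
      have hn := Subgroup.mem_normalizer_iff.mp (hFr.HK hh)
      constructor
      · rintro ⟨k, hk, rfl⟩
        refine ⟨h * k * h⁻¹, (hn k).mp hk, ?_⟩
        rw [map_mul, map_mul, map_inv]
      · rintro ⟨k, hk, hkx⟩
        refine ⟨h⁻¹ * k * h, ?_, ?_⟩
        · apply (hn (h⁻¹ * k * h)).mpr
          have e : h * (h⁻¹ * k * h) * h⁻¹ = k := by group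
          rw [e]
          exact hk
        · rw [map_mul, map_mul, hkx, map_inv]
          group
    · intro hcz
      apply hFr.nab
      intro k hk h hh
      apply hirinj
      rw [map_mul, map_mul]
      exact hcz _ ⟨k, hk, rfl⟩ _ ⟨h, hh, rfl⟩
  have hSetup : PQSetup il.range (K.map ir) (H.map ir) p' q' := by
    refine ⟨hFr', hNn, hNs, ?_, ?_⟩
    · rw [hNcard, hpq']
      exact hcop
    · rintro _ ⟨g, rfl⟩ h1 h2
      have hK : K ≤ MulAction.stabilizer A g := by
        intro k hk
        rw [MulAction.mem_stabilizer_iff]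
        apply hilinj
        rw [haut, h1 _ ⟨k, hk, rfl⟩, map_inv, mul_inv_cancel_right]
      have hH : H ≤ MulAction.stabilizer A g := by
        intro k hk
        rw [MulAction.mem_stabilizer_iff]
        apply hilinj
        rw [haut, h2 _ ⟨k, hk, rfl⟩, map_inv, mul_inv_cancel_right]
      have hg1 : g = 1 := by
        apply hfpf g
        intro a
        have ha : a ∈ K ⊔ H := by
          rw [hKHtop]
          exact Subgroup.mem_top a
        exact MulAction.mem_stabilizer_iff.mp ((sup_le hK hH) ha)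
      rw [hg1, map_one]
  obtain ⟨k, m, hkm⟩ := hint (G ⋊[φ₀] A) il.range (K.map ir) (H.map ir) p' q' hSetup
  have hk' : ((⊤ : Subgroup G).lowerCentralSeries k).lowerCentralSeries m = ⊥ := by
    rw [MonoidHom.range_eq_map, ← Subgroup.map_lowerCentralSeries,
      ← Subgroup.map_lowerCentralSeries] at hkm
    exact (Subgroup.map_eq_bot_iff_of_injective _ hilinj).mp hkm
  refine ⟨(⊤ : Subgroup G).lowerCentralSeries k, inferInstance,
    Subgroup.isNilpotent_of_lowerCentralSeries_eq_bot hk', ?_⟩
  rw [Subgroup.nilpotent_iff_lowerCentralSeries]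
  refine ⟨k, ?_⟩
  have h1 : (⊤ : Subgroup (G ⧸ (⊤ : Subgroup G).lowerCentralSeries k)) =
      (⊤ : Subgroup G).map (QuotientGroup.mk' ((⊤ : Subgroup G).lowerCentralSeries k)) := by
    rw [← MonoidHom.range_eq_map]
    exact (MonoidHom.range_eq_top.mpr (QuotientGroup.mk'_surjective _)).symm
  rw [h1, ← Subgroup.map_lowerCentralSeries, QuotientGroup.map_mk'_self]

end Cfsg.Agent.Lib.helper17.PQ
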