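import Mathlib
import Cfsg.Agent.Lib.helper75.PQDefs
import Cfsg.Agent.Lib.helper63.PQ_PQA
import Cfsg.Agent.Lib.helper17.PQ_TOPCore

/-!
# S4306 piece TOP (helper17): `pq_top_of_int`
-/

set_option autoImplicit false

namespace Cfsg.Agent.Lib.helper75.PQ

universe u v

/-- TOP: the external form (an action by automorphisms) from the internal one, via the
semidirect product. -/
theorem pq_top_of_int (hint : PQIntStmt.{max u v}) {G : Type u} {A : Type v} [Group G]
    [Finite G] [Group.IsSolvable G] [Group A] [Finite A] [MulDistribMulAction A G] (p q : ℕ)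
    (hp : p.Prime) (hq : q.Prime) (hpq : p ≠ q) (hA : Nat.card A = p * q)
    (hAna : ¬ IsMulCommutative A) (hcop : (Nat.card G).Coprime (p * q))
    (hfpf : ∀ g : G, (∀ a : A, a • g = g) → g = 1) :
    ∃ F : Subgroup G, ∃ hF : F.Normal, Group.IsNilpotent ↥F ∧ Group.IsNilpotent (G ⧸ F) :=
  Cfsg.Agent.Lib.helper17.PQ.pq_top_of_int_core hint p q
    (nonabelian_pq_structure p q hp hq hpq hA hAna) hcop hfpf

end Cfsg.Agent.Lib.helper75.PQ
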