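import Mathlib
import Cfsg.Agent.Lib.helper68.HallPet

/-!
S5238 block G, leaf A1 (`range_ncard`), helper17.
-/

set_option autoImplicit false

namespace Cfsg.Agent.Lib.helper33.PearlG

open Cfsg.Agent.Lib.helper68

variable {G : Type*} [Group G] [Finite G]

/-- A1. The fibres of `g ↦ com x g` are the cosets of the centralizer of `x`. -/
theorem range_ncard (p : ℕ) [Fact p.Prime] (n : ℕ) (hG : Nat.card G = p ^ n) (x : G)
    (hC : Nat.card (Subgroup.centralizer ({x} : Set G)) = p ^ 2) :
    (Set.range (fun g : G => com x g)).ncard * p ^ 2 = p ^ n := by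
  classical
  have hwd : ∀ a b : G, a⁻¹ * b ∈ Subgroup.centralizer ({x} : Set G) →
      x⁻¹ * a * x * a⁻¹ = x⁻¹ * b * x * b⁻¹ := by
    intro a b hab
    have hc : x * (a⁻¹ * b) = (a⁻¹ * b) * x :=
      Subgroup.mem_centralizer_iff.mp hab x (Set.mem_singleton x)
    have h1 : b * x * b⁻¹ = a * x * a⁻¹ := by
      have e : b * x * b⁻¹ = a * ((a⁻¹ * b) * x) * (a⁻¹ * b)⁻¹ * a⁻¹ := by group
      rw [e, ← hc]; group
    calc x⁻¹ * a * x * a⁻¹ = x⁻¹ * (a * x * a⁻¹) := by group
      _ = x⁻¹ * (b * x * b⁻¹) := by rw [h1]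
      _ = x⁻¹ * b * x * b⁻¹ := by group
  let φ : G ⧸ Subgroup.centralizer ({x} : Set G) → G :=
    Quotient.lift (s := QuotientGroup.leftRel (Subgroup.centralizer ({x} : Set G)))
      (fun g : G => x⁻¹ * g * x * g⁻¹)
      (fun a b h => hwd a b (QuotientGroup.leftRel_apply.mp h))
  have hφ : ∀ g : G, φ (g : G ⧸ Subgroup.centralizer ({x} : Set G)) = x⁻¹ * g * x * g⁻¹ :=
    fun g => rfl
  have hinj : Function.Injective φ := by
    intro u v huv
    induction u using QuotientGroup.induction_on with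
    | H a =>
      induction v using QuotientGroup.induction_on with
      | H b =>
        rw [hφ, hφ] at huv
        rw [QuotientGroup.eq, Subgroup.mem_centralizer_iff]
        intro y hy
        rw [Set.mem_singleton_iff] at hy
        rw [hy]
        have h1 : a * x * a⁻¹ = b * x * b⁻¹ := by
          have e1 : a * x * a⁻¹ = x * (x⁻¹ * a * x * a⁻¹) := by group
          have e2 : b * x * b⁻¹ = x * (x⁻¹ * b * x * b⁻¹) := by group
          rw [e1, e2, huv]
        calc x * (a⁻¹ * b) = a⁻¹ * (a * x * a⁻¹) * b := by group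
          _ = a⁻¹ * (b * x * b⁻¹) * b := by rw [h1]
          _ = a⁻¹ * b * x := by group
  have hrange : Set.range (fun g : G => com x g) = Set.range φ := by
    ext y
    constructor
    · rintro ⟨g, rfl⟩
      refine ⟨((g⁻¹ : G) : G ⧸ Subgroup.centralizer ({x} : Set G)), ?_⟩
      rw [hφ]
      show x⁻¹ * g⁻¹ * x * g⁻¹⁻¹ = com x g
      unfold com
      rw [inv_inv]
    · rintro ⟨u, rfl⟩
      induction u using QuotientGroup.induction_on with
      | H a =>
        refine ⟨a⁻¹, ?_⟩
        rw [hφ]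
        show com x a⁻¹ = x⁻¹ * a * x * a⁻¹
        unfold com
        rw [inv_inv]
  have hcard : (Set.range φ).ncard = (Subgroup.centralizer ({x} : Set G)).index := by
    rw [← Set.image_univ, Set.ncard_image_of_injective _ hinj, Set.ncard_univ]
    rfl
  rw [hrange, hcard, ← hC, Subgroup.index_mul_card, hG]

end Cfsg.Agent.Lib.helper33.PearlG
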