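import Mathlib
import Cfsg.Agent.Lib.helper68.HallPet

/-!
S5238 block G, leaf F4S (`f4_step`), helper17 racer copy `h17_f4_step`.
-/

set_option autoImplicit false

namespace Cfsg.Agent.Lib.helper33.PearlG

open Cfsg.Agent.Lib.helper68

variable {G : Type*} [Group G] [Finite G]

/-- F4S (racer copy of `f4_step`). -/
theorem h17_f4_step (p : ℕ) [Fact p.Prime] (n : ℕ) (x : G)
    (huni : ∀ i, 2 ≤ i → i + 2 ≤ n → ∀ m ∈ gam G i, m ∉ gam G (i + 1) →
      com m x ∉ gam G (i + 2))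
    (hhp : ∀ i, 2 ≤ i → ∀ a ∈ gam G i, ∀ b ∈ gam G i,
      ∃ z ∈ gam G (i + p + 1), (a * b) ^ p = a ^ p * b ^ p * z)
    (i : ℕ) (hi : 2 ≤ i) (hin : i + 1 + p ≤ n)
    (hIH : ∀ c ∈ gam G (i + 1), c ∉ gam G (i + 2) → c ^ p ∉ gam G (i + 1 + p))
    (m : G) (hm : m ∈ gam G i) (hm' : m ∉ gam G (i + 1)) : m ^ p ∉ gam G (i + p) := by
  intro hmp
  have hp2 : 2 ≤ p := (Fact.out : p.Prime).two_le
  have hx1 : x ∈ gam G 1 := by
    unfold gam
    simp
  have hc : com m x ∈ gam G (i + 1) := com_mem hm hx1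
  have hc' : com m x ∉ gam G (i + 2) := huni i hi (by omega) m hm hm'
  have hcp : (com m x) ^ p ∉ gam G (i + 1 + p) := hIH _ hc hc'
  have hci : com m x ∈ gam G i := gam_antitone (by omega) hc
  obtain ⟨z, hz, hzeq⟩ := hhp i hi m hm (com m x) hci
  have e1 : m * com m x = x⁻¹ * m * x := by unfold com; group
  have e2 : (x⁻¹ * m * x) ^ p = x⁻¹ * m ^ p * x := by
    have h0 := conj_pow (a := x⁻¹) (b := m) (i := p)
    rwa [inv_inv] at h0
  have h3 : com (m ^ p) x = (com m x) ^ p * z := by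
    have h0 : com (m ^ p) x = (m ^ p)⁻¹ * (x⁻¹ * m ^ p * x) := by unfold com; group
    rw [h0, ← e2, ← e1, hzeq]; group
  have h4 : com (m ^ p) x ∈ gam G (i + p + 1) := com_mem hmp hx1
  rw [h3] at h4
  have h5 : (com m x) ^ p ∈ gam G (i + p + 1) := by
    have h0 := (gam G (i + p + 1)).mul_mem h4 ((gam G (i + p + 1)).inv_mem hz)
    rwa [mul_inv_cancel_right] at h0
  apply hcp
  have e : i + 1 + p = i + p + 1 := by omega
  rw [e]
  exact h5

end Cfsg.Agent.Lib.helper33.PearlG
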