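import Mathlib
import Cfsg.Agent.Lib.helper17.ReeDefs

/-!
Certificates for the data of `ReeDefs`, first part: the root elements with parameter one on the
728 vectors, by evaluation.
-/

set_option autoImplicit false
set_option maxRecDepth 1000000

namespace Cfsg.Agent.Lib.helper17

open Cfsg Matrix

theorem ree_cert1a : ∀ k : Fin 12, ∀ j : Fin 728, ∀ a : Fin 14,
    (reeS14 fun b => reeXn k.val a.val b * reeVn j.val b) % 3 =
      reeVn (reeactn k.val j.val) a.val := by
  decide +kernel

end Cfsg.Agent.Lib.helper17
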