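import Mathlib
import Cfsg.Agent.Lib.helper17.ReeDefs

/-!
Certificates for the data of `ReeDefs`, third part, all by evaluation.
-/

set_option autoImplicit false
set_option maxRecDepth 1000000

namespace Cfsg.Agent.Lib.helper17

open Cfsg Matrix
open Cfsg.Agent.Lib.helper17.H8

theorem ree_xMat : ∀ r : Fin 12, ∀ c : ZMod 3, reexm r c = if c = 0 then 1 else reeX r c := by
  decide +kernel

theorem ree_act_lt : ∀ k : Fin 24, ∀ j : Fin 728, reeactn k.val j.val < 728 := by
  decide +kernel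

theorem ree_wcertU : ∀ t u v : ZMod 3, ∀ i : Fin 56,
    reeWordAct (Cfsg.Lie.reeWordU 1 t u v) i.val = (reesigF (reeCodeU t u v) i).val := by
  decide +kernel

theorem ree_wcertV : ∀ t u v : ZMod 3, ∀ i : Fin 56,
    reeWordAct (Cfsg.Lie.reeWordV 1 t u v) i.val = (reesigF (reeCodeV t u v) i).val := by
  decide +kernel

theorem ree_wrootU : ∀ t u v : ZMod 3, ∀ q ∈ Cfsg.Lie.reeWordU 1 t u v, q.1 < 12 := by
  decide +kernel

theorem ree_wrootV : ∀ t u v : ZMod 3, ∀ q ∈ Cfsg.Lie.reeWordV 1 t u v, q.1 < 12 := by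
  decide +kernel

theorem ree_word_mem : ∀ k : Fin 54, (∃ t u v : ZMod 3, reeWord k = Cfsg.Lie.reeWordU 1 t u v ∧
    reeCodeU t u v = k) ∨ (∃ t u v : ZMod 3, reeWord k = Cfsg.Lie.reeWordV 1 t u v ∧
    reeCodeV t u v = k) := by
  decide +kernel

theorem ree_V_inj : ∀ i j : Fin 56, reeV i = reeV j → i = j := by
  decide +kernel

theorem ree_B_inv : reeBm * reeBinv = 1 := by
  decide +kernel

theorem ree_sig_inv : ∀ k : Fin 54, ∀ i : Fin 56,
    reesigF (reeinv k) (reesigF k i) = i ∧ reesigF k (reesigF (reeinv k) i) = i := by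
  decide +kernel

theorem ree_cert2 : ∀ j : Fin 16, ∀ i : Fin 56, reeE j * reeM i = reeM (reetauF j i) * reeE j := by
  decide +kernel

theorem ree_M_inj : ∀ i j : Fin 56, reeM i = reeM j → i = j := by
  decide +kernel

theorem ree_tau_inv : ∀ j : Fin 16, ∀ i : Fin 56, reetauF j (reetauF j i) = i := by
  decide +kernel

theorem ree_E_sq : ∀ j : Fin 16, reeE j * reeE j = 1 := by
  decide +kernel

theorem ree_cent : ∀ a b c d : H8, a * d + b * c = 1 →
    (∀ i : Fin 56, !![a, b; c, d] * reeM i = reeM i * !![a, b; c, d]) →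
    (a = 1 ∧ b = 0 ∧ c = 0 ∧ d = 1) := by
  decide +kernel

theorem ree_dec1 : ∀ a b c d : H8, a * d + b * c = 1 → c ≠ 0 →
    (!![a, b; c, d] : Matrix (Fin 2) (Fin 2) H8) =
      reeUm ((a + 1) * c⁻¹) * reeLm c * reeUm ((d + 1) * c⁻¹) := by
  decide +kernel

theorem ree_dec2 : ∀ a b d : H8, a * d = 1 →
    (!![a, b; 0, d] : Matrix (Fin 2) (Fin 2) H8) =
      reeLm 1 * (reeUm ((a + 1) * a⁻¹) * reeLm a * reeUm ((b + d + 1) * a⁻¹)) := by
  decide +kernel

theorem ree_M_det : ∀ i : Fin 56,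
    reeM i 0 0 * reeM i 1 1 + reeM i 0 1 * reeM i 1 0 = 1 := by
  decide +kernel

theorem ree_sub : ∀ x y : H8, x - y = x + y := by decide

theorem ree_Um_code : ∀ x : H8, reeUm x = reeE (Fin.ofNat 16 (reeCode x)) := by
  decide +kernel

theorem ree_Lm_code : ∀ x : H8, reeLm x = reeE (Fin.ofNat 16 (8 + reeCode x)) := by
  decide +kernel

theorem ree_E_det : ∀ j : Fin 16, reeE j 0 0 * reeE j 1 1 + reeE j 0 1 * reeE j 1 0 = 1 := by
  decide +kernel

theorem ree_c1 : ∀ k : Fin 54, ∀ i : Fin 56,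
    reesigF k i = (reeWA k).foldr (fun j acc => reetauF j acc) ((reesigF reeRho)^[reeEA k] i) := by
  decide +kernel

theorem ree_c2 : ∀ j : Fin 16, ∀ i : Fin 56,
    reesigF reeRho (reetauF j i) =
      (reeWN j).foldr (fun j acc => reetauF j acc) (reesigF reeRho i) := by
  decide +kernel

theorem ree_c2' : ∀ j : Fin 16, ∀ i : Fin 56,
    reetauF j (reesigF reeRho i) =
      reesigF reeRho ((reeWN2 j).foldr (fun j acc => reetauF j acc) i) := by
  decide +kernel

theorem ree_c3 : ∀ j : Fin 16, ∀ i : Fin 56,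
    reetauF j ((reeQ j).foldr (fun k acc => reesigF k acc)
      ((reeP j).foldr (fun k acc => reesigF k acc) i)) =
    (reeP j).foldr (fun k acc => reesigF k acc)
      ((reeQ j).foldr (fun k acc => reesigF k acc) i) := by
  decide +kernel

end Cfsg.Agent.Lib.helper17
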