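import Mathlib
import Cfsg.Agent.Lib.helper17.ReeCertC

/-!
The derived group of the Ree group over the field with three elements, first part: general lemmas
on subgroups of a product and on commutator subgroups, and the two groups of permutations of 56
points.
-/

set_option autoImplicit false

namespace Cfsg.Agent.Lib.helper17

open Cfsg Matrix
open scoped commutatorElement

/-- a subgroup of a product which projects onto the first factor and meets the second factor
trivially is the graph of a homomorphism -/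
theorem ree_graph_hom {G H : Type*} [Group G] [Group H] (R : Subgroup (G × H))
    (h1 : ∀ g, ∃ h, (g, h) ∈ R) (h2 : ∀ h, ((1 : G), h) ∈ R → h = 1) :
    ∃ φ : G →* H, (∀ g, (g, φ g) ∈ R) ∧ ∀ g h, (g, h) ∈ R → h = φ g := by
  classical
  choose f hf using h1
  have huniq : ∀ g h, (g, h) ∈ R → h = f g := by
    intro g h hgh
    have h3 : ((g, h))⁻¹ * (g, f g) ∈ R := R.mul_mem (R.inv_mem hgh) (hf g)
    have h4 : ((g, h))⁻¹ * (g, f g) = ((1 : G), h⁻¹ * f g) := by
      ext1
      · simp
      · simp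
    rw [h4] at h3
    exact inv_mul_eq_one.mp (h2 _ h3)
  have hmul : ∀ a b, f (a * b) = f a * f b := by
    intro a b
    exact (huniq (a * b) (f a * f b) (R.mul_mem (hf a) (hf b))).symm
  exact ⟨MonoidHom.mk' f hmul, hf, huniq⟩

/-- the commutator subgroup of a group generated by `S` lies in `N` as soon as `S` normalises
`N` and the commutators of the elements of `S` lie in `N` -/
theorem ree_commutator_le {G : Type*} [Group G] (S : Set G) (N : Subgroup G)
    (hS : ∀ a ∈ S, ∀ n ∈ N, a * n * a⁻¹ ∈ N ∧ a⁻¹ * n * a ∈ N)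
    (hc : ∀ a ∈ S, ∀ b ∈ S, ⁅a, b⁆ ∈ N) :
    ⁅Subgroup.closure S, Subgroup.closure S⁆ ≤ N := by
  have hconj : ∀ g ∈ Subgroup.closure S, ∀ n ∈ N, g * n * g⁻¹ ∈ N ∧ g⁻¹ * n * g ∈ N := by
    intro g hg
    induction hg using Subgroup.closure_induction with
    | mem a ha => exact hS a ha
    | one =>
      intro n hn
      simpa using hn
    | mul x y _ _ hx hy =>
      intro n hn
      constructor
      · have h1 := (hx _ (hy n hn).1).1
        have e : x * y * n * (x * y)⁻¹ = x * (y * n * y⁻¹) * x⁻¹ := by group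
        rw [e]
        exact h1
      · have h1 := (hy _ (hx n hn).2).2
        have e : (x * y)⁻¹ * n * (x * y) = y⁻¹ * (x⁻¹ * n * x) * y := by group
        rw [e]
        exact h1
    | inv x _ hx =>
      intro n hn
      constructor
      · have h1 := (hx n hn).2
        simpa using h1
      · have h1 := (hx n hn).1
        simpa using h1
  have key : ∀ h : G, (∀ n ∈ N, h * n * h⁻¹ ∈ N ∧ h⁻¹ * n * h ∈ N) → (∀ a ∈ S, ⁅a, h⁆ ∈ N) →
      ∀ g ∈ Subgroup.closure S, ⁅g, h⁆ ∈ N := by
    intro h _ ha g hg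
    induction hg using Subgroup.closure_induction with
    | mem a has => exact ha a has
    | one =>
      have e : ⁅(1 : G), h⁆ = 1 := by
        rw [commutatorElement_def]
        group
      rw [e]
      exact N.one_mem
    | mul x y hx _ ihx ihy =>
      have e : ⁅x * y, h⁆ = (x * ⁅y, h⁆ * x⁻¹) * ⁅x, h⁆ := by
        rw [commutatorElement_def, commutatorElement_def, commutatorElement_def]
        group
      rw [e]
      exact N.mul_mem (hconj x hx _ ihy).1 ihx
    | inv x hx ihx =>
      have e : ⁅x⁻¹, h⁆ = x⁻¹ * (⁅x, h⁆)⁻¹ * x := by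
        rw [commutatorElement_def, commutatorElement_def]
        group
      rw [e]
      exact (hconj x hx _ (N.inv_mem ihx)).2
  rw [Subgroup.commutator_le]
  intro g hg h hh
  apply key h (hconj h hh) _ g hg
  intro a ha
  have h1 : ⁅h, a⁆ ∈ N := key a (hS a ha) (fun b hb => hc b hb a ha) h hh
  rw [← commutatorElement_inv]
  exact N.inv_mem h1

/-- the commutator subgroup of a group generated by elements of the cosets `B ρ ^ e` lies in
`B` when `ρ` normalises `B` -/
theorem ree_commutator_le_of_cyclic {G : Type*} [Group G] (B : Subgroup G) (ρ : G)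
    (hρ : ∀ n ∈ B, ρ * n * ρ⁻¹ ∈ B ∧ ρ⁻¹ * n * ρ ∈ B) (S : Set G)
    (hS : ∀ a ∈ S, ∃ β ∈ B, ∃ e : ℕ, a = β * ρ ^ e) :
    ⁅Subgroup.closure S, Subgroup.closure S⁆ ≤ B := by
  have hpow : ∀ e : ℕ, ∀ n ∈ B, ρ ^ e * n * (ρ ^ e)⁻¹ ∈ B ∧ (ρ ^ e)⁻¹ * n * ρ ^ e ∈ B := by
    intro e
    induction e with
    | zero =>
      intro n hn
      simpa using hn
    | succ e ih =>
      intro n hn
      rw [pow_succ]
      generalize ρ ^ e = r at ih ⊢
      constructor
      · have h1 := (ih _ (hρ n hn).1).1
        have e1 : r * ρ * n * (r * ρ)⁻¹ = r * (ρ * n * ρ⁻¹) * r⁻¹ := by group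
        rw [e1]
        exact h1
      · have h1 := (hρ _ (ih n hn).2).2
        have e1 : (r * ρ)⁻¹ * n * (r * ρ) = ρ⁻¹ * (r⁻¹ * n * r) * ρ := by group
        rw [e1]
        exact h1
  apply ree_commutator_le S B
  · intro a ha n hn
    obtain ⟨β, hβ, e, rfl⟩ := hS a ha
    generalize hr : ρ ^ e = r
    have hp := hpow e
    rw [hr] at hp
    constructor
    · have e1 : β * r * n * (β * r)⁻¹ = β * (r * n * r⁻¹) * β⁻¹ := by group
      rw [e1]
      exact B.mul_mem (B.mul_mem hβ (hp n hn).1) (B.inv_mem hβ)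
    · have e1 : (β * r)⁻¹ * n * (β * r) = r⁻¹ * (β⁻¹ * n * β) * r := by group
      rw [e1]
      exact (hp _ (B.mul_mem (B.mul_mem (B.inv_mem hβ) hn) hβ)).2
  · intro a ha b hb
    obtain ⟨β, hβ, e, rfl⟩ := hS a ha
    obtain ⟨β', hβ', f, rfl⟩ := hS b hb
    have hcomm : ρ ^ f * (ρ ^ e)⁻¹ = (ρ ^ e)⁻¹ * ρ ^ f :=
      (((Commute.refl ρ).pow_pow f e).inv_right).eq
    have hpe := hpow e
    have hpf := hpow f
    generalize ρ ^ e = r at hcomm hpe ⊢
    generalize ρ ^ f = s at hcomm hpf ⊢
    have e1 : ⁅β * r, β' * s⁆ = β * (r * β' * r⁻¹) * (s * β⁻¹ * s⁻¹) * β'⁻¹ := by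
      rw [commutatorElement_def]
      calc β * r * (β' * s) * (β * r)⁻¹ * (β' * s)⁻¹
          = β * r * β' * (s * r⁻¹) * β⁻¹ * s⁻¹ * β'⁻¹ := by group
        _ = β * r * β' * (r⁻¹ * s) * β⁻¹ * s⁻¹ * β'⁻¹ := by rw [hcomm]
        _ = β * (r * β' * r⁻¹) * (s * β⁻¹ * s⁻¹) * β'⁻¹ := by group
    rw [e1]
    exact B.mul_mem (B.mul_mem (B.mul_mem hβ (hpe β' hβ').1) (hpf _ (B.inv_mem hβ)).1)
      (B.inv_mem hβ')

/-! ### The two groups of permutations -/

/-- the permutation of the `k`-th generating word -/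
def reesig (k : Fin 54) : Equiv.Perm (Fin 56) :=
  ⟨reesigF k, reesigF (reeinv k), fun i => (ree_sig_inv k i).1, fun i => (ree_sig_inv k i).2⟩

/-- the permutation of the `j`-th elementary matrix -/
def reetau (j : Fin 16) : Equiv.Perm (Fin 56) :=
  ⟨reetauF j, reetauF j, ree_tau_inv j, ree_tau_inv j⟩

theorem reesig_apply (k : Fin 54) (i : Fin 56) : reesig k i = reesigF k i := rfl

theorem reetau_apply (j : Fin 16) (i : Fin 56) : reetau j i = reetauF j i := rfl

theorem ree_word_tau (L : List (Fin 16)) (i : Fin 56) :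
    ((L.map reetau).prod) i = L.foldr (fun j acc => reetauF j acc) i := by
  induction L with
  | nil => rfl
  | cons j L ih =>
    rw [List.map_cons, List.prod_cons, Equiv.Perm.mul_apply, ih, List.foldr_cons, reetau_apply]

theorem ree_word_sig (L : List (Fin 54)) (i : Fin 56) :
    ((L.map reesig).prod) i = L.foldr (fun k acc => reesigF k acc) i := by
  induction L with
  | nil => rfl
  | cons k L ih =>
    rw [List.map_cons, List.prod_cons, Equiv.Perm.mul_apply, ih, List.foldr_cons, reesig_apply]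

/-- the group generated by the permutations of the generating words -/
def reeSg : Subgroup (Equiv.Perm (Fin 56)) := Subgroup.closure (Set.range reesig)

/-- the group generated by the permutations of the elementary matrices -/
def reeTg : Subgroup (Equiv.Perm (Fin 56)) := Subgroup.closure (Set.range reetau)

theorem ree_word_tau_mem (L : List (Fin 16)) : (L.map reetau).prod ∈ reeTg := by
  apply Subgroup.list_prod_mem
  intro x hx
  rw [List.mem_map] at hx
  obtain ⟨j, _, rfl⟩ := hx
  exact Subgroup.subset_closure ⟨j, rfl⟩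

theorem ree_word_sig_mem (L : List (Fin 54)) : (L.map reesig).prod ∈ reeSg := by
  apply Subgroup.list_prod_mem
  intro x hx
  rw [List.mem_map] at hx
  obtain ⟨k, _, rfl⟩ := hx
  exact Subgroup.subset_closure ⟨k, rfl⟩

theorem ree_sig_eq (k : Fin 54) :
    reesig k = ((reeWA k).map reetau).prod * reesig reeRho ^ reeEA k := by
  ext i
  rw [Equiv.Perm.mul_apply, ree_word_tau, ← Equiv.Perm.iterate_eq_pow]
  exact congrArg Fin.val (ree_c1 k i)

theorem ree_rho_conj (j : Fin 16) :
    reesig reeRho * reetau j * (reesig reeRho)⁻¹ = ((reeWN j).map reetau).prod := by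
  rw [mul_inv_eq_iff_eq_mul]
  ext i
  rw [Equiv.Perm.mul_apply, Equiv.Perm.mul_apply, ree_word_tau, reesig_apply, reesig_apply,
    reetau_apply]
  exact congrArg Fin.val (ree_c2 j i)

theorem ree_rho_conj' (j : Fin 16) :
    (reesig reeRho)⁻¹ * reetau j * reesig reeRho = ((reeWN2 j).map reetau).prod := by
  rw [mul_assoc, inv_mul_eq_iff_eq_mul]
  ext i
  rw [Equiv.Perm.mul_apply, Equiv.Perm.mul_apply, ree_word_tau, reesig_apply, reesig_apply,
    reetau_apply]
  exact congrArg Fin.val (ree_c2' j i)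

theorem ree_tau_comm (j : Fin 16) :
    reetau j = ⁅((reeP j).map reesig).prod, ((reeQ j).map reesig).prod⁆ := by
  have h : reetau j * (((reeQ j).map reesig).prod * ((reeP j).map reesig).prod) =
      ((reeP j).map reesig).prod * ((reeQ j).map reesig).prod := by
    ext i
    rw [Equiv.Perm.mul_apply, Equiv.Perm.mul_apply, Equiv.Perm.mul_apply, ree_word_sig,
      ree_word_sig, ree_word_sig, ree_word_sig, reetau_apply]
    exact congrArg Fin.val (ree_c3 j i)
  rw [commutatorElement_def, eq_mul_inv_of_mul_eq h, _root_.mul_inv_rev]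
  group

theorem ree_T_le : reeTg ≤ ⁅reeSg, reeSg⁆ := by
  unfold reeTg
  rw [Subgroup.closure_le]
  rintro _ ⟨j, rfl⟩
  rw [ree_tau_comm]
  exact Subgroup.commutator_mem_commutator (ree_word_sig_mem _) (ree_word_sig_mem _)

theorem ree_rho_norm : ∀ n ∈ reeTg, reesig reeRho * n * (reesig reeRho)⁻¹ ∈ reeTg ∧
    (reesig reeRho)⁻¹ * n * reesig reeRho ∈ reeTg := by
  intro n hn
  constructor
  · unfold reeTg at hn
    induction hn using Subgroup.closure_induction with
    | mem a ha =>
      obtain ⟨j, rfl⟩ := ha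
      rw [ree_rho_conj]
      exact ree_word_tau_mem _
    | one =>
      rw [mul_one, mul_inv_cancel]
      exact Subgroup.one_mem _
    | mul x y _ _ hx hy =>
      rw [← conj_mul]
      exact Subgroup.mul_mem _ hx hy
    | inv x _ hx =>
      rw [← conj_inv]
      exact Subgroup.inv_mem _ hx
  · unfold reeTg at hn
    induction hn using Subgroup.closure_induction with
    | mem a ha =>
      obtain ⟨j, rfl⟩ := ha
      rw [ree_rho_conj']
      exact ree_word_tau_mem _
    | one =>
      rw [mul_one, inv_mul_cancel]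
      exact Subgroup.one_mem _
    | mul x y _ _ hx hy =>
      have e : (reesig reeRho)⁻¹ * (x * y) * reesig reeRho =
          ((reesig reeRho)⁻¹ * x * reesig reeRho) * ((reesig reeRho)⁻¹ * y * reesig reeRho) := by
        group
      rw [e]
      exact Subgroup.mul_mem _ hx hy
    | inv x _ hx =>
      have e : (reesig reeRho)⁻¹ * x⁻¹ * reesig reeRho =
          ((reesig reeRho)⁻¹ * x * reesig reeRho)⁻¹ := by
        group
      rw [e]
      exact Subgroup.inv_mem _ hx

theorem ree_S_le : ⁅reeSg, reeSg⁆ ≤ reeTg := by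
  apply ree_commutator_le_of_cyclic reeTg (reesig reeRho) ree_rho_norm (Set.range reesig)
  rintro _ ⟨k, rfl⟩
  exact ⟨_, ree_word_tau_mem (reeWA k), reeEA k, ree_sig_eq k⟩

theorem ree_comm_eq : ⁅reeSg, reeSg⁆ = reeTg := le_antisymm ree_S_le ree_T_le

end Cfsg.Agent.Lib.helper17
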