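import Mathlib

/-!
The field with eight elements as a concrete type: `hN` stands for the polynomial over the field
with two elements whose coefficients are the binary digits of `N`, modulo `X ^ 3 + X + 1`.
-/

set_option autoImplicit false
set_option maxRecDepth 100000

namespace Cfsg.Agent.Lib.helper17

/-- the field with eight elements -/
inductive H8
  | h0
  | h1
  | h2
  | h3
  | h4
  | h5
  | h6
  | h7
  deriving DecidableEq

namespace H8

/-- addition -/
def add : H8 → H8 → H8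
  | h0, h0 => h0
  | h0, h1 => h1
  | h0, h2 => h2
  | h0, h3 => h3
  | h0, h4 => h4
  | h0, h5 => h5
  | h0, h6 => h6
  | h0, h7 => h7
  | h1, h0 => h1
  | h1, h1 => h0
  | h1, h2 => h3
  | h1, h3 => h2
  | h1, h4 => h5
  | h1, h5 => h4
  | h1, h6 => h7
  | h1, h7 => h6
  | h2, h0 => h2
  | h2, h1 => h3
  | h2, h2 => h0
  | h2, h3 => h1
  | h2, h4 => h6
  | h2, h5 => h7
  | h2, h6 => h4
  | h2, h7 => h5
  | h3, h0 => h3
  | h3, h1 => h2
  | h3, h2 => h1
  | h3, h3 => h0
  | h3, h4 => h7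
  | h3, h5 => h6
  | h3, h6 => h5
  | h3, h7 => h4
  | h4, h0 => h4
  | h4, h1 => h5
  | h4, h2 => h6
  | h4, h3 => h7
  | h4, h4 => h0
  | h4, h5 => h1
  | h4, h6 => h2
  | h4, h7 => h3
  | h5, h0 => h5
  | h5, h1 => h4
  | h5, h2 => h7
  | h5, h3 => h6
  | h5, h4 => h1
  | h5, h5 => h0
  | h5, h6 => h3
  | h5, h7 => h2
  | h6, h0 => h6
  | h6, h1 => h7
  | h6, h2 => h4
  | h6, h3 => h5
  | h6, h4 => h2
  | h6, h5 => h3
  | h6, h6 => h0
  | h6, h7 => h1
  | h7, h0 => h7
  | h7, h1 => h6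
  | h7, h2 => h5
  | h7, h3 => h4
  | h7, h4 => h3
  | h7, h5 => h2
  | h7, h6 => h1
  | h7, h7 => h0

/-- multiplication -/
def mul : H8 → H8 → H8
  | h0, h0 => h0
  | h0, h1 => h0
  | h0, h2 => h0
  | h0, h3 => h0
  | h0, h4 => h0
  | h0, h5 => h0
  | h0, h6 => h0
  | h0, h7 => h0
  | h1, h0 => h0
  | h1, h1 => h1
  | h1, h2 => h2
  | h1, h3 => h3
  | h1, h4 => h4
  | h1, h5 => h5
  | h1, h6 => h6
  | h1, h7 => h7
  | h2, h0 => h0
  | h2, h1 => h2
  | h2, h2 => h4
  | h2, h3 => h6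
  | h2, h4 => h3
  | h2, h5 => h1
  | h2, h6 => h7
  | h2, h7 => h5
  | h3, h0 => h0
  | h3, h1 => h3
  | h3, h2 => h6
  | h3, h3 => h5
  | h3, h4 => h7
  | h3, h5 => h4
  | h3, h6 => h1
  | h3, h7 => h2
  | h4, h0 => h0
  | h4, h1 => h4
  | h4, h2 => h3
  | h4, h3 => h7
  | h4, h4 => h6
  | h4, h5 => h2
  | h4, h6 => h5
  | h4, h7 => h1
  | h5, h0 => h0
  | h5, h1 => h5
  | h5, h2 => h1
  | h5, h3 => h4
  | h5, h4 => h2
  | h5, h5 => h7
  | h5, h6 => h3
  | h5, h7 => h6
  | h6, h0 => h0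
  | h6, h1 => h6
  | h6, h2 => h7
  | h6, h3 => h1
  | h6, h4 => h5
  | h6, h5 => h3
  | h6, h6 => h2
  | h6, h7 => h4
  | h7, h0 => h0
  | h7, h1 => h7
  | h7, h2 => h5
  | h7, h3 => h2
  | h7, h4 => h1
  | h7, h5 => h6
  | h7, h6 => h4
  | h7, h7 => h3

/-- inverse -/
def inv : H8 → H8
  | h0 => h0
  | h1 => h1
  | h2 => h5
  | h3 => h6
  | h4 => h7
  | h5 => h2
  | h6 => h3
  | h7 => h4

instance instFintype : Fintype H8 :=
  ⟨⟨[h0, h1, h2, h3, h4, h5, h6, h7], by decide⟩, by intro x; cases x <;> decide⟩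

instance instZero : Zero H8 := ⟨h0⟩

instance instOne : One H8 := ⟨h1⟩

instance instAdd : Add H8 := ⟨add⟩

instance instMul : Mul H8 := ⟨mul⟩

instance instNeg : Neg H8 := ⟨id⟩

instance instInv : Inv H8 := ⟨inv⟩

instance instCommRing : CommRing H8 where
  add_assoc := by decide
  zero_add := by decide
  add_zero := by decide
  nsmul := nsmulRec
  zsmul := zsmulRec
  neg_add_cancel := by decide
  add_comm := by decide
  left_distrib := by decide
  right_distrib := by decide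
  zero_mul := by decide
  mul_zero := by decide
  mul_assoc := by decide
  one_mul := by decide
  mul_one := by decide
  mul_comm := by decide

instance instField : Field H8 where
  exists_pair_ne := ⟨h0, h1, by decide⟩
  mul_inv_cancel := by decide
  inv_zero := rfl
  nnqsmul := _
  qsmul := _

theorem card : Fintype.card H8 = 8 := rfl

theorem zero_eq : (0 : H8) = h0 := rfl

theorem one_eq : (1 : H8) = h1 := rfl

end H8

end Cfsg.Agent.Lib.helper17
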