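import Mathlib
import Cfsg.Agent.Lib.helper17.ReeCore
import Cfsg.Agent.Lib.helper17.ReeCertA
import Cfsg.Agent.Lib.helper17.ReeCertB
import Cfsg.Agent.Lib.helper7.CardSL
import Cfsg.Agent.Lib.helper18.PSLCongr

/-!
The derived group of the Ree group over the field with three elements, second part: the special
linear group of dimension two over the field with eight elements and the Ree group as groups of
permutations of 56 points, and the isomorphism.
-/

set_option autoImplicit false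
set_option maxRecDepth 100000

namespace Cfsg.Agent.Lib.helper17

open Cfsg Matrix
open scoped commutatorElement

/-! ### The side of the special linear group -/

/-- the matrix of an element of `SL₂(8)` -/
def reem2 (g : Matrix.SpecialLinearGroup (Fin 2) H8) : Matrix (Fin 2) (Fin 2) H8 :=
  (g : Matrix (Fin 2) (Fin 2) H8)

theorem reem2_mul (g h : Matrix.SpecialLinearGroup (Fin 2) H8) :
    reem2 (g * h) = reem2 g * reem2 h := rfl

theorem reem2_one : reem2 1 = 1 := rfl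

theorem reem2_inv_mul (g : Matrix.SpecialLinearGroup (Fin 2) H8) : reem2 g⁻¹ * reem2 g = 1 := by
  rw [← reem2_mul, inv_mul_cancel, reem2_one]

theorem reem2_mul_inv (g : Matrix.SpecialLinearGroup (Fin 2) H8) : reem2 g * reem2 g⁻¹ = 1 := by
  rw [← reem2_mul, mul_inv_cancel, reem2_one]

theorem reem2_ext (g h : Matrix.SpecialLinearGroup (Fin 2) H8) (e : reem2 g = reem2 h) : g = h :=
  Subtype.ext e

theorem reem2_det (g : Matrix.SpecialLinearGroup (Fin 2) H8) :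
    reem2 g 0 0 * reem2 g 1 1 + reem2 g 0 1 * reem2 g 1 0 = 1 := by
  have h := g.2
  rw [Matrix.det_fin_two, ree_sub] at h
  exact h

theorem reem2_eta (g : Matrix.SpecialLinearGroup (Fin 2) H8) :
    reem2 g = !![reem2 g 0 0, reem2 g 0 1; reem2 g 1 0, reem2 g 1 1] :=
  Matrix.eta_fin_two _

/-- pairs of a matrix and a permutation acting alike on the 56 matrices -/
def reeR2 : Subgroup (Matrix.SpecialLinearGroup (Fin 2) H8 × Equiv.Perm (Fin 56)) where
  carrier := {p | ∀ i, reem2 p.1 * reeM i = reeM (p.2 i) * reem2 p.1}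
  mul_mem' := by
    intro a b ha hb i
    show reem2 (a.1 * b.1) * reeM i = reeM (a.2 (b.2 i)) * reem2 (a.1 * b.1)
    rw [reem2_mul, mul_assoc, hb i, ← mul_assoc, ha (b.2 i), mul_assoc]
  one_mem' := by
    intro i
    show reem2 1 * reeM i = reeM i * reem2 1
    rw [reem2_one, one_mul, mul_one]
  inv_mem' := by
    intro a ha i
    show reem2 a.1⁻¹ * reeM i = reeM (a.2⁻¹ i) * reem2 a.1⁻¹
    have h1 := ha (a.2⁻¹ i)
    have e1 : a.2 (a.2⁻¹ i) = i := Equiv.apply_symm_apply a.2 i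
    rw [e1] at h1
    calc reem2 a.1⁻¹ * reeM i = reem2 a.1⁻¹ * (reeM i * reem2 a.1) * reem2 a.1⁻¹ := by
          rw [mul_assoc, mul_assoc, reem2_mul_inv, mul_one]
      _ = reem2 a.1⁻¹ * (reem2 a.1 * reeM (a.2⁻¹ i)) * reem2 a.1⁻¹ := by rw [h1]
      _ = reeM (a.2⁻¹ i) * reem2 a.1⁻¹ := by rw [← mul_assoc, reem2_inv_mul, one_mul]

/-- the elementary matrices as elements of `SL₂(8)` -/
def reeEs (j : Fin 16) : Matrix.SpecialLinearGroup (Fin 2) H8 :=
  ⟨reeE j, by rw [Matrix.det_fin_two, ree_sub]; exact ree_E_det j⟩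

theorem reem2_Es (j : Fin 16) : reem2 (reeEs j) = reeE j := rfl

theorem ree_sl_gen (g : Matrix.SpecialLinearGroup (Fin 2) H8) :
    g ∈ Subgroup.closure (Set.range reeEs) := by
  have hdet := reem2_det g
  have heta := reem2_eta g
  have hmem : ∀ j, reeEs j ∈ Subgroup.closure (Set.range reeEs) :=
    fun j => Subgroup.subset_closure ⟨j, rfl⟩
  by_cases hc : reem2 g 1 0 = 0
  · rw [hc, mul_zero, add_zero] at hdet
    have h2 := ree_dec2 _ (reem2 g 0 1) _ hdet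
    have e : g = reeEs (Fin.ofNat 16 (8 + reeCode 1)) *
        (reeEs (Fin.ofNat 16 (reeCode ((reem2 g 0 0 + 1) * (reem2 g 0 0)⁻¹))) *
          reeEs (Fin.ofNat 16 (8 + reeCode (reem2 g 0 0))) *
          reeEs (Fin.ofNat 16 (reeCode ((reem2 g 0 1 + reem2 g 1 1 + 1) * (reem2 g 0 0)⁻¹)))) := by
      apply reem2_ext
      have heta' := heta
      rw [hc] at heta'
      rw [reem2_mul, reem2_mul, reem2_mul, reem2_Es, reem2_Es, reem2_Es, reem2_Es,
        ← ree_Lm_code, ← ree_Um_code, ← ree_Lm_code, ← ree_Um_code, ← h2]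
      exact heta'
    rw [e]
    exact Subgroup.mul_mem _ (hmem _) (Subgroup.mul_mem _ (Subgroup.mul_mem _ (hmem _) (hmem _))
      (hmem _))
  · have h1 := ree_dec1 _ _ _ _ hdet hc
    have e : g = reeEs (Fin.ofNat 16 (reeCode ((reem2 g 0 0 + 1) * (reem2 g 1 0)⁻¹))) *
          reeEs (Fin.ofNat 16 (8 + reeCode (reem2 g 1 0))) *
          reeEs (Fin.ofNat 16 (reeCode ((reem2 g 1 1 + 1) * (reem2 g 1 0)⁻¹))) := by
      apply reem2_ext
      rw [reem2_mul, reem2_mul, reem2_Es, reem2_Es, reem2_Es,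
        ← ree_Um_code, ← ree_Lm_code, ← ree_Um_code, ← h1]
      exact heta
    rw [e]
    exact Subgroup.mul_mem _ (Subgroup.mul_mem _ (hmem _) (hmem _)) (hmem _)

theorem ree_Es_R2 (j : Fin 16) : (reeEs j, reetau j) ∈ reeR2 := by
  intro i
  show reem2 (reeEs j) * reeM i = reeM (reetauF j i) * reem2 (reeEs j)
  rw [reem2_Es]
  exact ree_cert2 j i

theorem ree_fst2 : ∀ g : Matrix.SpecialLinearGroup (Fin 2) H8,
    ∃ π : Equiv.Perm (Fin 56), (g, π) ∈ reeR2 ∧ π ∈ reeTg := by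
  have hle : Subgroup.closure (Set.range reeEs) ≤
      (reeR2 ⊓ Subgroup.prod ⊤ reeTg).map (MonoidHom.fst _ _) := by
    rw [Subgroup.closure_le]
    rintro _ ⟨j, rfl⟩
    exact ⟨(reeEs j, reetau j), Subgroup.mem_inf.mpr ⟨ree_Es_R2 j,
      Subgroup.mem_prod.mpr ⟨Subgroup.mem_top _, Subgroup.subset_closure ⟨j, rfl⟩⟩⟩, rfl⟩
  intro g
  have hg : g ∈ (reeR2 ⊓ Subgroup.prod ⊤ reeTg).map (MonoidHom.fst _ _) := hle (ree_sl_gen g)
  obtain ⟨⟨g', π⟩, hp, rfl⟩ := hg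
  exact ⟨π, (Subgroup.mem_inf.mp hp).1, (Subgroup.mem_prod.mp (Subgroup.mem_inf.mp hp).2).2⟩

theorem ree_m2_eq_one (g : Matrix.SpecialLinearGroup (Fin 2) H8)
    (hfix : ∀ i, reem2 g * reeM i = reeM i * reem2 g) : g = 1 := by
  have heta := reem2_eta g
  have hfix' : ∀ i : Fin 56, !![reem2 g 0 0, reem2 g 0 1; reem2 g 1 0, reem2 g 1 1] * reeM i =
      reeM i * !![reem2 g 0 0, reem2 g 0 1; reem2 g 1 0, reem2 g 1 1] := by
    intro i
    rw [← heta]
    exact hfix i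
  obtain ⟨h00, h01, h10, h11⟩ := ree_cent _ _ _ _ (reem2_det g) hfix'
  apply reem2_ext
  rw [heta, h00, h01, h10, h11, reem2_one]
  exact Matrix.one_fin_two.symm

theorem ree_phi2 : ∃ φ : Matrix.SpecialLinearGroup (Fin 2) H8 →* Equiv.Perm (Fin 56),
    Function.Injective φ ∧ φ.range = reeTg := by
  obtain ⟨φ, hφ, huniq⟩ := ree_graph_hom reeR2
    (fun g => (ree_fst2 g).imp fun π h => h.1) (by
      intro π hπ
      ext i
      have h := hπ i
      have h' : reeM i = reeM (π i) := by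
        have h2 : reem2 1 * reeM i = reeM (π i) * reem2 1 := h
        rw [reem2_one, one_mul, mul_one] at h2
        exact h2
      exact congrArg Fin.val (ree_M_inj _ _ h').symm)
  refine ⟨φ, ?_, le_antisymm ?_ ?_⟩
  · rw [injective_iff_map_eq_one]
    intro g hg
    have hR := hφ g
    rw [hg] at hR
    exact ree_m2_eq_one g hR
  · rintro _ ⟨g, rfl⟩
    obtain ⟨π, h1, h2⟩ := ree_fst2 g
    rw [← huniq g π h1]
    exact h2
  · unfold reeTg
    rw [Subgroup.closure_le]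
    rintro _ ⟨j, rfl⟩
    exact ⟨reeEs j, (huniq _ _ (ree_Es_R2 j)).symm⟩

theorem ree_center : Subgroup.center (Matrix.SpecialLinearGroup (Fin 2) H8) = ⊥ := by
  rw [Subgroup.eq_bot_iff_forall]
  intro z hz
  apply ree_m2_eq_one
  intro i
  have hd : (reeM i).det = 1 := by
    rw [Matrix.det_fin_two, ree_sub]
    exact ree_M_det i
  have h := Subgroup.mem_center_iff.mp hz (⟨reeM i, hd⟩ : Matrix.SpecialLinearGroup (Fin 2) H8)
  have h2 : reeM i * reem2 z = reem2 z * reeM i := congrArg reem2 h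
  exact h2.symm

/-! ### The side of the Ree group -/

theorem ree_mulVec (M : ℕ → ℕ → ℕ) (v : ℕ → ℕ) :
    reeNatMat M *ᵥ reeNatVec v = reeNatVec (fun a => reeS14 fun b => M a b * v b) := by
  funext a
  simp only [Matrix.mulVec, dotProduct, reeNatMat, reeNatVec, Matrix.of_apply,
    Fintype.sum_sum_type, Fin.sum_univ_two, reeS14]
  simp only [Fin.sum_univ_succ, Fin.sum_univ_zero, reePos, Sum.elim_inl, Sum.elim_inr]
  push_cast
  simp
  ring

theorem ree_cert1 (k j a : ℕ) (hk : k < 24) (hj : j < 728) (ha : a < 14) :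
    (reeS14 fun b => reeXn k a b * reeVn j b) % 3 = reeVn (reeactn k j) a := by
  by_cases h : k < 12
  · exact ree_cert1a ⟨k, h⟩ ⟨j, hj⟩ ⟨a, ha⟩
  · have h1 := ree_cert1b ⟨k - 12, by omega⟩ ⟨j, hj⟩ ⟨a, ha⟩
    have e : 12 + (k - 12) = k := by omega
    simp only [e] at h1
    exact h1

theorem reePos_lt (a : Fin 2 ⊕ Fin 12) : reePos a < 14 := by
  rcases a with a | u
  · show a.val < 14
    omega
  · show 2 + u.val < 14
    omega

theorem ree_x_act (r : Fin 12) (c : ZMod 3) (j : ℕ) (hj : j < 728) :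
    reexm r c *ᵥ reeVV j = reeVV (reeAct r.val c j) ∧ reeAct r.val c j < 728 := by
  rw [ree_xMat]
  by_cases hc : c = 0
  · rw [if_pos hc, Matrix.one_mulVec]
    unfold reeAct
    rw [if_pos hc]
    exact ⟨rfl, hj⟩
  · rw [if_neg hc]
    unfold reeAct
    rw [if_neg hc]
    have hv : c.val ≠ 0 := fun h => hc ((ZMod.val_eq_zero c).mp h)
    have hv3 : c.val < 3 := ZMod.val_lt c
    have hk : 12 * (c.val - 1) + r.val < 24 := by omega
    refine ⟨?_, ree_act_lt ⟨_, hk⟩ ⟨j, hj⟩⟩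
    unfold reeX reeVV
    rw [ree_mulVec]
    funext a
    unfold reeNatVec
    rw [← ree_cert1 _ j _ hk hj (reePos_lt a)]
    exact (ZMod.natCast_mod _ 3).symm

/-- the matrix of a word in the root elements -/
def reeWM (w : List (ℕ × ZMod 3)) : Matrix (Fin 2 ⊕ Fin 12) (Fin 2 ⊕ Fin 12) (ZMod 3) :=
  Cfsg.Lie.chevG2.wordMat (ZMod 3) w

theorem ree_word_act (w : List (ℕ × ZMod 3)) (hw : ∀ q ∈ w, q.1 < 12) (j : ℕ) (hj : j < 728) :
    reeWM w *ᵥ reeVV j = reeVV (reeWordAct w j) ∧ reeWordAct w j < 728 := by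
  induction w with
  | nil =>
    refine ⟨?_, hj⟩
    show (1 : Matrix (Fin 2 ⊕ Fin 12) (Fin 2 ⊕ Fin 12) (ZMod 3)) *ᵥ reeVV j = reeVV j
    exact Matrix.one_mulVec _
  | cons q w ih =>
    obtain ⟨ih1, ih2⟩ := ih (fun q' hq' => hw q' (List.mem_cons_of_mem _ hq'))
    have hq : q.1 < 12 := hw q List.mem_cons_self
    have hx : (Cfsg.Lie.chevG2.x (ZMod 3) q.1 q.2 :
        Matrix (Fin 2 ⊕ Fin 12) (Fin 2 ⊕ Fin 12) (ZMod 3)) = reexm ⟨q.1, hq⟩ q.2 := by
      unfold Cfsg.Lie.ChevalleyDatum.x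
      rw [dif_pos (show q.1 < Cfsg.Lie.chevG2.nroots from hq)]
      rfl
    have hcons : reeWM (q :: w) = reexm ⟨q.1, hq⟩ q.2 * reeWM w := by
      rw [← hx]
      unfold reeWM Cfsg.Lie.ChevalleyDatum.wordMat
      rw [List.map_cons, List.prod_cons]
      rfl
    have h3 := ree_x_act ⟨q.1, hq⟩ q.2 (reeWordAct w j) ih2
    constructor
    · rw [hcons, ← Matrix.mulVec_mulVec, ih1]
      exact h3.1
    · exact h3.2

/-- the matrix of an element of the Ree group -/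
def reem1 (g : ↥(Cfsg.Lie.twistedG2 (ZMod 3) 1)) :
    Matrix (Fin 2 ⊕ Fin 12) (Fin 2 ⊕ Fin 12) (ZMod 3) :=
  ((g : GL Cfsg.Lie.chevG2.Idx (ZMod 3)) :
    Matrix Cfsg.Lie.chevG2.Idx Cfsg.Lie.chevG2.Idx (ZMod 3))

theorem reem1_mul (g h : ↥(Cfsg.Lie.twistedG2 (ZMod 3) 1)) :
    reem1 (g * h) = reem1 g * reem1 h := rfl

theorem reem1_one : reem1 1 = 1 := rfl

/-- pairs of an element of the Ree group and a permutation acting alike on the 56 vectors -/
def reeR1 : Subgroup (↥(Cfsg.Lie.twistedG2 (ZMod 3) 1) × Equiv.Perm (Fin 56)) where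
  carrier := {p | ∀ i, reem1 p.1 *ᵥ reeV i = reeV (p.2 i)}
  mul_mem' := by
    intro a b ha hb i
    show reem1 (a.1 * b.1) *ᵥ reeV i = reeV (a.2 (b.2 i))
    rw [reem1_mul, ← Matrix.mulVec_mulVec, hb i, ha (b.2 i)]
  one_mem' := by
    intro i
    show reem1 1 *ᵥ reeV i = reeV i
    rw [reem1_one, Matrix.one_mulVec]
  inv_mem' := by
    intro a ha i
    show reem1 a.1⁻¹ *ᵥ reeV i = reeV (a.2⁻¹ i)
    have h1 := ha (a.2⁻¹ i)
    have e1 : a.2 (a.2⁻¹ i) = i := Equiv.apply_symm_apply a.2 i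
    rw [e1] at h1
    rw [← h1, Matrix.mulVec_mulVec, ← reem1_mul, inv_mul_cancel, reem1_one, Matrix.one_mulVec]

theorem ree_wordU_act (t u v : ZMod 3) (i : Fin 56) :
    reeWM (Cfsg.Lie.reeWordU 1 t u v) *ᵥ reeV i =
      reeV (reesigF (reeCodeU t u v) i) := by
  have h := (ree_word_act _ (ree_wrootU t u v) i.val (by omega)).1
  rw [ree_wcertU t u v i] at h
  exact h

theorem ree_wordV_act (t u v : ZMod 3) (i : Fin 56) :
    reeWM (Cfsg.Lie.reeWordV 1 t u v) *ᵥ reeV i =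
      reeV (reesigF (reeCodeV t u v) i) := by
  have h := (ree_word_act _ (ree_wrootV t u v) i.val (by omega)).1
  rw [ree_wcertV t u v i] at h
  exact h

theorem ree_word_k_act (k : Fin 54) (i : Fin 56) :
    reeWM (reeWord k) *ᵥ reeV i = reeV (reesigF k i) := by
  rcases ree_word_mem k with ⟨t, u, v, hw, hk⟩ | ⟨t, u, v, hw, hk⟩
  · rw [hw, ← hk]
    exact ree_wordU_act t u v i
  · rw [hw, ← hk]
    exact ree_wordV_act t u v i

theorem ree_word_k_mem (k : Fin 54) : reeWord k ∈ Cfsg.Lie.g2Words (ZMod 3) 1 := by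
  rcases ree_word_mem k with ⟨t, u, v, hw, _⟩ | ⟨t, u, v, hw, _⟩
  · exact ⟨t, u, v, Or.inl hw⟩
  · exact ⟨t, u, v, Or.inr hw⟩

theorem ree_gen1 (A : ↥(Cfsg.Lie.twistedG2 (ZMod 3) 1)) (w : List (ℕ × ZMod 3))
    (hw : w ∈ Cfsg.Lie.g2Words (ZMod 3) 1)
    (hA : ((A : GL Cfsg.Lie.chevG2.Idx (ZMod 3)) :
      Matrix Cfsg.Lie.chevG2.Idx Cfsg.Lie.chevG2.Idx (ZMod 3)) =
      Cfsg.Lie.chevG2.wordMat (ZMod 3) w) :
    ∃ π : Equiv.Perm (Fin 56), (A, π) ∈ reeR1 ∧ π ∈ reeSg := by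
  obtain ⟨t, u, v, h | h⟩ := hw
  · refine ⟨reesig (reeCodeU t u v), ?_, Subgroup.subset_closure ⟨_, rfl⟩⟩
    intro i
    show reem1 A *ᵥ reeV i = reeV (reesigF (reeCodeU t u v) i)
    rw [← ree_wordU_act t u v i, ← h]
    have hA' : reem1 A = reeWM w := hA
    rw [hA']
  · refine ⟨reesig (reeCodeV t u v), ?_, Subgroup.subset_closure ⟨_, rfl⟩⟩
    intro i
    show reem1 A *ᵥ reeV i = reeV (reesigF (reeCodeV t u v) i)
    rw [← ree_wordV_act t u v i, ← h]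
    have hA' : reem1 A = reeWM w := hA
    rw [hA']

theorem ree_fst1 : ∀ g : ↥(Cfsg.Lie.twistedG2 (ZMod 3) 1),
    ∃ π : Equiv.Perm (Fin 56), (g, π) ∈ reeR1 ∧ π ∈ reeSg := by
  have hcl : Subgroup.closure
      (((↑) : ↥(Cfsg.Lie.twistedG2 (ZMod 3) 1) → GL Cfsg.Lie.chevG2.Idx (ZMod 3)) ⁻¹'
      {g | ∃ w ∈ Cfsg.Lie.g2Words (ZMod 3) 1,
        (g : Matrix Cfsg.Lie.chevG2.Idx Cfsg.Lie.chevG2.Idx (ZMod 3)) =
          Cfsg.Lie.chevG2.wordMat (ZMod 3) w}) = ⊤ :=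
    Subgroup.closure_closure_coe_preimage
  have hle : Subgroup.closure
      (((↑) : ↥(Cfsg.Lie.twistedG2 (ZMod 3) 1) → GL Cfsg.Lie.chevG2.Idx (ZMod 3)) ⁻¹'
      {g | ∃ w ∈ Cfsg.Lie.g2Words (ZMod 3) 1,
        (g : Matrix Cfsg.Lie.chevG2.Idx Cfsg.Lie.chevG2.Idx (ZMod 3)) =
          Cfsg.Lie.chevG2.wordMat (ZMod 3) w}) ≤
      (reeR1 ⊓ Subgroup.prod ⊤ reeSg).map (MonoidHom.fst _ _) := by
    rw [Subgroup.closure_le]
    rintro A ⟨w, hw, hA⟩
    obtain ⟨π, h1, h2⟩ := ree_gen1 A w hw hA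
    exact ⟨(A, π), Subgroup.mem_inf.mpr ⟨h1, Subgroup.mem_prod.mpr ⟨Subgroup.mem_top _, h2⟩⟩,
      rfl⟩
  intro g
  have hg : g ∈ (reeR1 ⊓ Subgroup.prod ⊤ reeSg).map (MonoidHom.fst _ _) :=
    hle (by rw [hcl]; trivial)
  obtain ⟨⟨g', π⟩, hp, rfl⟩ := hg
  exact ⟨π, (Subgroup.mem_inf.mp hp).1, (Subgroup.mem_prod.mp (Subgroup.mem_inf.mp hp).2).2⟩

theorem ree_fix_one (M : Matrix (Fin 2 ⊕ Fin 12) (Fin 2 ⊕ Fin 12) (ZMod 3))
    (hfix : ∀ i, M *ᵥ reeV i = reeV i) : M = 1 := by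
  have hMB : M * reeBm = reeBm := by
    ext a b
    show (M *ᵥ reeV (reeC b)) a = reeV (reeC b) a
    rw [hfix]
  calc M = M * 1 := (mul_one _).symm
    _ = M * (reeBm * reeBinv) := by rw [ree_B_inv]
    _ = M * reeBm * reeBinv := (mul_assoc _ _ _).symm
    _ = 1 := by rw [hMB, ree_B_inv]

theorem ree_m1_eq_one (g : ↥(Cfsg.Lie.twistedG2 (ZMod 3) 1))
    (hfix : ∀ i, reem1 g *ᵥ reeV i = reeV i) : g = 1 := by
  have h1 : reem1 g = 1 := ree_fix_one _ hfix
  apply Subtype.ext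
  apply Units.ext
  exact h1

theorem ree_gen_mem (k : Fin 54) :
    ∃ A : ↥(Cfsg.Lie.twistedG2 (ZMod 3) 1), reem1 A = reeWM (reeWord k) := by
  have h1 : reeWM (reeWord k) * reeWM (reeWord (reeinv k)) = 1 := by
    apply ree_fix_one
    intro i
    rw [← Matrix.mulVec_mulVec, ree_word_k_act, ree_word_k_act, (ree_sig_inv k i).2]
  have h2 : reeWM (reeWord (reeinv k)) * reeWM (reeWord k) = 1 := by
    apply ree_fix_one
    intro i
    rw [← Matrix.mulVec_mulVec, ree_word_k_act, ree_word_k_act, (ree_sig_inv k i).1]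
  exact ⟨⟨⟨reeWM (reeWord k), reeWM (reeWord (reeinv k)), h1, h2⟩,
    Subgroup.subset_closure ⟨reeWord k, ree_word_k_mem k, rfl⟩⟩, rfl⟩

theorem ree_phi1 : ∃ φ : ↥(Cfsg.Lie.twistedG2 (ZMod 3) 1) →* Equiv.Perm (Fin 56),
    Function.Injective φ ∧ φ.range = reeSg := by
  obtain ⟨φ, hφ, huniq⟩ := ree_graph_hom reeR1
    (fun g => (ree_fst1 g).imp fun π h => h.1) (by
      intro π hπ
      ext i
      have h := hπ i
      have h' : reeV i = reeV (π i) := by
        rw [← h]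
        show reeV i = reem1 1 *ᵥ reeV i
        rw [reem1_one, Matrix.one_mulVec]
      exact congrArg Fin.val (ree_V_inj _ _ h').symm)
  refine ⟨φ, ?_, le_antisymm ?_ ?_⟩
  · rw [injective_iff_map_eq_one]
    intro g hg
    have hR := hφ g
    rw [hg] at hR
    exact ree_m1_eq_one g hR
  · rintro _ ⟨g, rfl⟩
    obtain ⟨π, h1, h2⟩ := ree_fst1 g
    rw [← huniq g π h1]
    exact h2
  · unfold reeSg
    rw [Subgroup.closure_le]
    rintro _ ⟨k, rfl⟩
    obtain ⟨A, hA⟩ := ree_gen_mem k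
    have hR : (A, reesig k) ∈ reeR1 := by
      intro i
      show reem1 A *ᵥ reeV i = reeV (reesigF k i)
      rw [hA]
      exact ree_word_k_act k i
    exact ⟨A, (huniq A _ hR).symm⟩

theorem ree_main {L : Type*} [Field L] [Fintype L] (hL : Fintype.card L = 8) :
    Nat.card ↥(commutator ↥(Cfsg.Lie.twistedG2 (ZMod 3) 1)) = 504 ∧
      Nonempty (↥(commutator ↥(Cfsg.Lie.twistedG2 (ZMod 3) 1)) ≃*
        Matrix.ProjectiveSpecialLinearGroup (Fin 2) L) := by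
  obtain ⟨φ1, hinj1, hr1⟩ := ree_phi1
  obtain ⟨φ2, hinj2, hr2⟩ := ree_phi2
  have hmap : (commutator ↥(Cfsg.Lie.twistedG2 (ZMod 3) 1)).map φ1 = φ2.range := by
    rw [commutator_def, Subgroup.map_commutator, ← MonoidHom.range_eq_map, hr1, hr2]
    exact ree_comm_eq
  have e1 : ↥(commutator ↥(Cfsg.Lie.twistedG2 (ZMod 3) 1)) ≃*
      ↥((commutator ↥(Cfsg.Lie.twistedG2 (ZMod 3) 1)).map φ1) :=
    Subgroup.equivMapOfInjective _ φ1 hinj1
  have e2 : ↥((commutator ↥(Cfsg.Lie.twistedG2 (ZMod 3) 1)).map φ1) ≃* ↥φ2.range :=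
    MulEquiv.subgroupCongr hmap
  have e3 : Matrix.SpecialLinearGroup (Fin 2) H8 ≃* ↥φ2.range := MonoidHom.ofInjective hinj2
  have e4 : Matrix.ProjectiveSpecialLinearGroup (Fin 2) H8 ≃*
      Matrix.SpecialLinearGroup (Fin 2) H8 :=
    (QuotientGroup.quotientMulEquivOfEq ree_center).trans QuotientGroup.quotientBot
  have e5 : ↥(commutator ↥(Cfsg.Lie.twistedG2 (ZMod 3) 1)) ≃*
      Matrix.SpecialLinearGroup (Fin 2) H8 := (e1.trans e2).trans e3.symm
  constructor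
  · rw [Nat.card_congr e5.toEquiv, Cfsg.Agent.Lib.helper7.card_SL2 (F := H8) (q := 8) H8.card]
    norm_num
  · obtain ⟨e6⟩ := Cfsg.Agent.Lib.helper18.nonempty_pslCongr_of_card_eq (n := Fin 2)
      (K := H8) (K' := L) (by rw [H8.card, hL])
    exact ⟨(e5.trans e4.symm).trans e6⟩

end Cfsg.Agent.Lib.helper17
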