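import Mathlib
import Cfsg.Prelude.Def_PLocal
import Cfsg.Agent.S4225

/-!
Regular p-groups: a subgroup generated by elements of order dividing `p` has exponent dividing `p`
(helper17; for step F3 of the S5238 plan).  Immediate from the landed S4225.
-/

set_option autoImplicit false

namespace Cfsg.Agent.Lib.helper17

/-- In a regular `p`-group, the subgroup generated by a set of elements with `x ^ p = 1` has exponent
dividing `p`. -/
theorem h17_regular_exp {R : Type*} [Group R] [Finite R] (p : ℕ) [Fact p.Prime]
    (hR : Cfsg.IsRegularPGroup p R) (X : Set R) (hX : ∀ x ∈ X, x ^ p = 1) :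
    ∀ k ∈ Subgroup.closure X, k ^ p = 1 := by
  obtain ⟨H, -, hH⟩ := Cfsg.Agent.S4225.result hR 1
  have hXH : Subgroup.closure X ≤ H := by
    rw [Subgroup.closure_le]
    intro x hx
    have h1 : x ∈ {x : R | x ^ p ^ 1 = 1} := by simpa using hX x hx
    rw [← hH] at h1
    exact h1
  intro k hk
  have h1 : k ∈ {x : R | x ^ p ^ 1 = 1} := by rw [← hH]; exact hXH hk
  simpa using h1

/-- In a regular `p`-group, a product of two elements of order dividing `p` has order dividing `p`. -/
theorem h17_regular_mul_pow {R : Type*} [Group R] [Finite R] (p : ℕ) [Fact p.Prime]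
    (hR : Cfsg.IsRegularPGroup p R) (a b : R) (ha : a ^ p = 1) (hb : b ^ p = 1) : (a * b) ^ p = 1 := by
  apply h17_regular_exp p hR {a, b}
  · intro x hx
    rcases hx with rfl | rfl
    · exact ha
    · exact hb
  · exact Subgroup.mul_mem _ (Subgroup.subset_closure (by simp)) (Subgroup.subset_closure (by simp))

end Cfsg.Agent.Lib.helper17
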