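import Mathlib
import Cfsg.Agent.Lib.helper94.G23Defs

/-!
S2518 piece A (helper17): the prime graph of a group of order `2^a 3^b 7 13` with self-centralizing
elements of orders `7` and `13` and an element of order `6`.
-/

set_option autoImplicit false

namespace Cfsg.Agent.Lib.helper17

open Cfsg.Agent.Lib.helper94

/-- Two elements of order `p` are conjugate into each other's cyclic group when `p ^ 2` does not
divide the group order. -/
theorem pgA_conj {G : Type*} [Group G] [Finite G] (p : ℕ) [hp : Fact p.Prime]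
    (hp2 : ¬ p ^ 2 ∣ Nat.card G) (y xp : G) (hy : orderOf y = p) (hxp : orderOf xp = p) :
    ∃ g : G, g⁻¹ * xp * g ∈ Subgroup.zpowers y := by
  have key : ∀ w : G, orderOf w = p → ∃ P : Sylow p G, (P : Subgroup G) = Subgroup.zpowers w := by
    intro w hw
    have hpg : IsPGroup p (Subgroup.zpowers w) := by
      apply IsPGroup.of_card (n := 1)
      rw [Nat.card_zpowers, hw, pow_one]
    obtain ⟨P, hP⟩ := hpg.exists_le_sylow
    refine ⟨P, ?_⟩
    obtain ⟨n, hn⟩ := IsPGroup.iff_card.1 P.2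
    have hdvd : p ^ n ∣ Nat.card G := by
      rw [← hn]
      exact Subgroup.card_subgroup_dvd_card _
    have hn1 : n ≤ 1 := by
      by_contra hcon
      push Not at hcon
      exact hp2 ((pow_dvd_pow p hcon).trans hdvd)
    symm
    apply Subgroup.eq_of_le_of_card_ge hP
    rw [Nat.card_zpowers, hw, hn]
    calc p ^ n ≤ p ^ 1 := Nat.pow_le_pow_right hp.out.pos hn1
      _ = p := pow_one p
  obtain ⟨P, hP⟩ := key y hy
  obtain ⟨Q, hQ⟩ := key xp hxp
  obtain ⟨g, hg⟩ := MulAction.exists_smul_eq G P Q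
  refine ⟨g, ?_⟩
  have h1 : xp ∈ (Q : Subgroup G) := by
    rw [hQ]
    exact Subgroup.mem_zpowers xp
  rw [← hg, Sylow.coe_subgroup_smul, Subgroup.mem_pointwise_smul_iff_inv_smul_mem] at h1
  rw [← hP]
  have h2 : (MulAut.conj g)⁻¹ • xp = g⁻¹ * xp * g := by
    rw [← map_inv, MulAut.smul_def, MulAut.conj_apply, inv_inv]
  rw [← h2]
  exact h1

/-- No element of order `p * k` when a Sylow `p`-subgroup of order `p` is self-centralizing. -/
theorem pgA_no {G : Type*} [Group G] [Finite G] (p : ℕ) [hp : Fact p.Prime]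
    (hp2 : ¬ p ^ 2 ∣ Nat.card G) (xp : G) (hxp : orderOf xp = p)
    (hc : ∀ g : G, g * xp = xp * g → g ∈ Subgroup.zpowers xp)
    (x : G) (k : ℕ) (hk : k.Prime) (hx : orderOf x = p * k) : False := by
  have hy : orderOf (x ^ k) = p := by
    rw [orderOf_pow' x hk.ne_zero, hx, Nat.gcd_mul_left_left, Nat.mul_div_cancel _ hk.pos]
  obtain ⟨g, hg⟩ := pgA_conj p hp2 (x ^ k) xp hy hxp
  obtain ⟨j, hj⟩ := Subgroup.mem_zpowers_iff.1 hg
  -- g⁻¹ xp g commutes with x
  have h1 : (g⁻¹ * xp * g) * x = x * (g⁻¹ * xp * g) := by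
    rw [← hj, ← zpow_natCast, ← zpow_mul]
    exact ((Commute.refl x).zpow_left _).eq
  have h2 : (g * x * g⁻¹) * xp = xp * (g * x * g⁻¹) := by
    calc (g * x * g⁻¹) * xp = g * (x * (g⁻¹ * xp * g)) * g⁻¹ := by group
      _ = g * ((g⁻¹ * xp * g) * x) * g⁻¹ := by rw [h1]
      _ = xp * (g * x * g⁻¹) := by group
  have h3 := hc _ h2
  have h4 : orderOf (g * x * g⁻¹) ∣ p := by
    rw [← hxp]
    exact orderOf_dvd_of_mem_zpowers h3
  have h5 : orderOf (g * x * g⁻¹) = p * k := by
    have := (MulAut.conj g).orderOf_eq x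
    rw [MulAut.conj_apply] at this
    rw [this, hx]
  rw [h5] at h4
  have h6 : k ∣ 1 := by
    have : p * k ∣ p * 1 := by rwa [mul_one]
    exact (Nat.mul_dvd_mul_iff_left hp.out.pos).1 this
  exact hk.one_lt.ne' (Nat.dvd_one.1 h6)

/-- PIECE A -/
theorem pg_of_data {G : Type*} [Group G] [Finite G] (a b : ℕ)
    (hcard : Nat.card G = 2 ^ a * 3 ^ b * 7 * 13)
    (x6 x7 x13 : G) (h6 : orderOf x6 = 6) (h7 : orderOf x7 = 7) (h13 : orderOf x13 = 13)
    (hc7 : ∀ g : G, g * x7 = x7 * g → g ∈ Subgroup.zpowers x7)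
    (hc13 : ∀ g : G, g * x13 = x13 * g → g ∈ Subgroup.zpowers x13) :
    (∀ r : ℕ, r.Prime → (r ∣ Nat.card G ↔ r = 2 ∨ r = 3 ∨ r = 7 ∨ r = 13)) ∧
    (∀ r s : ℕ, r.Prime → s.Prime → r ≠ s → ((∃ x : G, orderOf x = r * s) ↔ r * s = 6)) := by
  have hprimes : ∀ r : ℕ, r.Prime → (r ∣ Nat.card G ↔ r = 2 ∨ r = 3 ∨ r = 7 ∨ r = 13) := by
    intro r hr
    constructor
    · intro hdvd
      rw [hcard] at hdvd
      rcases (Nat.Prime.dvd_mul hr).1 hdvd with h | h
      · rcases (Nat.Prime.dvd_mul hr).1 h with h | h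
        · rcases (Nat.Prime.dvd_mul hr).1 h with h | h
          · left
            exact (Nat.prime_dvd_prime_iff_eq hr Nat.prime_two).1 (hr.dvd_of_dvd_pow h)
          · right; left
            exact (Nat.prime_dvd_prime_iff_eq hr Nat.prime_three).1 (hr.dvd_of_dvd_pow h)
        · right; right; left
          exact (Nat.prime_dvd_prime_iff_eq hr (by norm_num)).1 h
      · right; right; right
        exact (Nat.prime_dvd_prime_iff_eq hr (by norm_num)).1 h
    · have d6 : 6 ∣ Nat.card G := h6 ▸ orderOf_dvd_natCard x6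
      have d7 : 7 ∣ Nat.card G := h7 ▸ orderOf_dvd_natCard x7
      have d13 : 13 ∣ Nat.card G := h13 ▸ orderOf_dvd_natCard x13
      rintro (rfl | rfl | rfl | rfl)
      · exact (by norm_num : 2 ∣ 6).trans d6
      · exact (by norm_num : 3 ∣ 6).trans d6
      · exact d7
      · exact d13
  refine ⟨hprimes, ?_⟩
  have hn7 : ¬ 7 ^ 2 ∣ Nat.card G := by
    intro hdvd
    have h1 : Nat.card G = (2 ^ a * 3 ^ b * 13) * 7 := by rw [hcard]; ring
    rw [h1] at hdvd
    have h2 : 7 ∣ 2 ^ a * 3 ^ b * 13 := by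
      have : 7 * 7 ∣ (2 ^ a * 3 ^ b * 13) * 7 := by simpa [pow_two] using hdvd
      exact (Nat.mul_dvd_mul_iff_right (by norm_num : 0 < 7)).1 this
    have p7 : Nat.Prime 7 := by norm_num
    rcases (Nat.Prime.dvd_mul p7).1 h2 with h | h
    · rcases (Nat.Prime.dvd_mul p7).1 h with h | h
      · have := (Nat.prime_dvd_prime_iff_eq p7 Nat.prime_two).1 (p7.dvd_of_dvd_pow h)
        omega
      · have := (Nat.prime_dvd_prime_iff_eq p7 Nat.prime_three).1 (p7.dvd_of_dvd_pow h)
        omega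
    · omega
  have hn13 : ¬ 13 ^ 2 ∣ Nat.card G := by
    intro hdvd
    have h1 : Nat.card G = (2 ^ a * 3 ^ b * 7) * 13 := by rw [hcard]
    rw [h1] at hdvd
    have h2 : 13 ∣ 2 ^ a * 3 ^ b * 7 := by
      have : 13 * 13 ∣ (2 ^ a * 3 ^ b * 7) * 13 := by simpa [pow_two] using hdvd
      exact (Nat.mul_dvd_mul_iff_right (by norm_num : 0 < 13)).1 this
    have p13 : Nat.Prime 13 := by norm_num
    rcases (Nat.Prime.dvd_mul p13).1 h2 with h | h
    · rcases (Nat.Prime.dvd_mul p13).1 h with h | h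
      · have := (Nat.prime_dvd_prime_iff_eq p13 Nat.prime_two).1 (p13.dvd_of_dvd_pow h)
        omega
      · have := (Nat.prime_dvd_prime_iff_eq p13 Nat.prime_three).1 (p13.dvd_of_dvd_pow h)
        omega
    · omega
  have f7 : Fact (Nat.Prime 7) := ⟨by norm_num⟩
  have f13 : Fact (Nat.Prime 13) := ⟨by norm_num⟩
  intro r s hr hs hrs
  constructor
  · rintro ⟨x, hx⟩
    have hdvd : r * s ∣ Nat.card G := hx ▸ orderOf_dvd_natCard x
    have hr' := (hprimes r hr).1 ((Dvd.intro s rfl).trans hdvd)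
    have hs' := (hprimes s hs).1 ((Dvd.intro_left r rfl).trans hdvd)
    have no7 : ∀ k : ℕ, k.Prime → orderOf x ≠ 7 * k := fun k hk hxk =>
      pgA_no 7 hn7 x7 h7 hc7 x k hk hxk
    have no13 : ∀ k : ℕ, k.Prime → orderOf x ≠ 13 * k := fun k hk hxk =>
      pgA_no 13 hn13 x13 h13 hc13 x k hk hxk
    rcases hr' with rfl | rfl | rfl | rfl <;> rcases hs' with rfl | rfl | rfl | rfl
    · exact absurd rfl hrs
    · rfl
    · exact absurd (by rw [hx]) (no7 2 hr)
    · exact absurd (by rw [hx]) (no13 2 hr)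
    · rfl
    · exact absurd rfl hrs
    · exact absurd (by rw [hx]) (no7 3 hr)
    · exact absurd (by rw [hx]) (no13 3 hr)
    · exact absurd hx (no7 2 hs)
    · exact absurd hx (no7 3 hs)
    · exact absurd rfl hrs
    · exact absurd hx (no7 13 hs)
    · exact absurd hx (no13 2 hs)
    · exact absurd hx (no13 3 hs)
    · exact absurd hx (no13 7 hs)
    · exact absurd rfl hrs
  · intro h
    exact ⟨x6, by rw [h6, h]⟩

end Cfsg.Agent.Lib.helper17
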