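import Mathlib
import Cfsg.Agent.Lib.helper94.G23Defs
import Cfsg.Agent.Lib.helper7.CardSL

/-!
S2518 piece B (helper17): `PSL₂` over a field with `13` elements has order `2^2 * 3 * 7 * 13`,
contains an element of order `6` and self-centralizing elements of orders `7` and `13`.
-/

set_option autoImplicit false

namespace Cfsg.Agent.Lib.helper17

open Cfsg.Agent.Lib.helper94 Matrix

theorem pgb_D7 : ∀ a c : ZMod 13, a ^ 2 + 7 * a * c + c ^ 2 = 1 → ∃ j : Fin 7,
    (!![a, -c; c, a + 7 * c] : Matrix (Fin 2) (Fin 2) (ZMod 13)) = (!![0, -1; 1, 7]) ^ (j : ℕ) ∨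
    (!![a, -c; c, a + 7 * c] : Matrix (Fin 2) (Fin 2) (ZMod 13)) =
      -(!![0, -1; 1, 7]) ^ (j : ℕ) := by
  decide

theorem pgb_D13 : ∀ a b : ZMod 13, a ^ 2 = 1 → ∃ j : Fin 13,
    (!![a, b; 0, a] : Matrix (Fin 2) (Fin 2) (ZMod 13)) = (!![1, 1; 0, 1]) ^ (j : ℕ) ∨
    (!![a, b; 0, a] : Matrix (Fin 2) (Fin 2) (ZMod 13)) = -(!![1, 1; 0, 1]) ^ (j : ℕ) := by
  decide

theorem pgb_pow7 : ((!![0, -1; 1, 7] : Matrix (Fin 2) (Fin 2) (ZMod 13))) ^ 7 = 1 := by decide

theorem pgb_pow13 : ((!![1, 1; 0, 1] : Matrix (Fin 2) (Fin 2) (ZMod 13))) ^ 13 = 1 := by decide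

theorem pgb_pow6 : ((!![0, -1; 1, 4] : Matrix (Fin 2) (Fin 2) (ZMod 13))) ^ 6 = -1 := by decide

theorem pgb_pow3 : (((!![0, -1; 1, 4] : Matrix (Fin 2) (Fin 2) (ZMod 13))) ^ 3) 1 0 ≠ 0 := by
  decide

theorem pgb_pow2 : (((!![0, -1; 1, 4] : Matrix (Fin 2) (Fin 2) (ZMod 13))) ^ 2) 1 0 ≠ 0 := by
  decide

/-- Elements of `SL₂` with the same image in `PSL₂` differ by a sign. -/
theorem pgb_mk_eq_iff {E : Type*} [Field E] (A B : Matrix.SpecialLinearGroup (Fin 2) E) :
    (QuotientGroup.mk A : Matrix.ProjectiveSpecialLinearGroup (Fin 2) E) = QuotientGroup.mk B ↔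
      (B : Matrix (Fin 2) (Fin 2) E) = A ∨ (B : Matrix (Fin 2) (Fin 2) E) = -A := by
  rw [QuotientGroup.eq, Matrix.SpecialLinearGroup.mem_center_iff]
  have hsc : (Matrix.scalar (Fin 2)) (-1 : E) = -1 := by rw [map_neg, map_one]
  have hsc1 : (Matrix.scalar (Fin 2)) (1 : E) = 1 := map_one _
  constructor
  · rintro ⟨r, hr, hs⟩
    have hB : (B : Matrix (Fin 2) (Fin 2) E) =
        (A : Matrix (Fin 2) (Fin 2) E) * ((A⁻¹ * B : Matrix.SpecialLinearGroup (Fin 2) E) :
          Matrix (Fin 2) (Fin 2) E) := by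
      have : A * (A⁻¹ * B) = B := by rw [mul_inv_cancel_left]
      rw [← Matrix.SpecialLinearGroup.coe_mul, this]
    rw [← hs] at hB
    have hr' : r = 1 ∨ r = -1 := by
      have hr2 : r ^ 2 = 1 := by simpa using hr
      have : (r - 1) * (r + 1) = 0 := by linear_combination hr2
      rcases mul_eq_zero.1 this with h | h
      · left
        linear_combination h
      · right
        linear_combination h
    rcases hr' with rfl | rfl
    · left
      rw [hB, hsc1, Matrix.mul_one]
    · right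
      rw [hB, hsc, Matrix.mul_neg, Matrix.mul_one]
  · rintro (h | h)
    · refine ⟨1, by simp, ?_⟩
      have : B = A := Subtype.ext h
      subst this
      rw [hsc1, inv_mul_cancel]
      rfl
    · refine ⟨-1, by simp, ?_⟩
      rw [Matrix.SpecialLinearGroup.coe_mul, h, Matrix.mul_neg,
        ← Matrix.SpecialLinearGroup.coe_mul, inv_mul_cancel, hsc]
      rfl

theorem pgb_C7 {E : Type*} [Field E] (t : E) (ht : t ≠ 0) (h2 : (2 : E) ≠ 0)
    (X G : Matrix (Fin 2) (Fin 2) E) (hX : X = !![0, -1; 1, t]) (hdet : G.det = 1)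
    (h : X * G = G * X ∨ X * G = -(G * X)) :
    ∃ a c : E, a ^ 2 + t * a * c + c ^ 2 = 1 ∧ G = !![a, -c; c, a + t * c] := by
  rw [Matrix.det_fin_two] at hdet
  rcases h with h | h
  · have e00 := congrFun (congrFun h 0) 0
    have e10 := congrFun (congrFun h 1) 0
    simp [hX, Matrix.mul_apply, Fin.sum_univ_two] at e00 e10
    refine ⟨G 0 0, G 1 0, ?_, ?_⟩
    · linear_combination hdet + G 0 0 * e10 - G 1 0 * e00
    · ext i j
      fin_cases i <;> fin_cases j
      · rfl
      · show G 0 1 = -G 1 0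
        exact e00.symm
      · rfl
      · show G 1 1 = G 0 0 + t * G 1 0
        exact e10.symm
  · exfalso
    have e00 := congrFun (congrFun h 0) 0
    have e01 := congrFun (congrFun h 0) 1
    have e10 := congrFun (congrFun h 1) 0
    have e11 := congrFun (congrFun h 1) 1
    simp [hX, Matrix.mul_apply, Fin.sum_univ_two] at e00 e01 e10 e11
    have hc : G 1 0 = 0 := by
      have h1 : 2 * t * G 1 0 = 0 := by linear_combination e10 + e01 + t * e00
      rcases mul_eq_zero.1 h1 with h1 | h1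
      · rcases mul_eq_zero.1 h1 with h1 | h1
        · exact absurd h1 h2
        · exact absurd h1 ht
      · exact h1
    have hd : G 1 1 = 0 := by
      have h1 : 2 * t * G 1 1 = 0 := by linear_combination e11 + e00
      rcases mul_eq_zero.1 h1 with h1 | h1
      · rcases mul_eq_zero.1 h1 with h1 | h1
        · exact absurd h1 h2
        · exact absurd h1 ht
      · exact h1
    rw [hc, hd] at hdet
    simp at hdet

theorem pgb_C13 {E : Type*} [Field E] (h2 : (2 : E) ≠ 0)
    (X G : Matrix (Fin 2) (Fin 2) E) (hX : X = !![1, 1; 0, 1]) (hdet : G.det = 1)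
    (h : X * G = G * X ∨ X * G = -(G * X)) :
    ∃ a b : E, a ^ 2 = 1 ∧ G = !![a, b; 0, a] := by
  rw [Matrix.det_fin_two] at hdet
  rcases h with h | h
  · have e00 := congrFun (congrFun h 0) 0
    have e01 := congrFun (congrFun h 0) 1
    simp [hX, Matrix.mul_apply, Fin.sum_univ_two] at e00 e01
    have hd : G 1 1 = G 0 0 := by linear_combination e01
    refine ⟨G 0 0, G 0 1, ?_, ?_⟩
    · rw [hd, e00] at hdet
      linear_combination hdet
    · ext i j
      fin_cases i <;> fin_cases j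
      · rfl
      · rfl
      · show G 1 0 = 0
        exact e00
      · show G 1 1 = G 0 0
        exact hd
  · exfalso
    have e10 := congrFun (congrFun h 1) 0
    have e11 := congrFun (congrFun h 1) 1
    simp [hX, Matrix.mul_apply, Fin.sum_univ_two] at e10 e11
    have hc : G 1 0 = 0 := by
      have h1 : 2 * G 1 0 = 0 := by linear_combination e10
      rcases mul_eq_zero.1 h1 with h1 | h1
      · exact absurd h1 h2
      · exact h1
    have hd : G 1 1 = 0 := by
      have h1 : 2 * G 1 1 = 0 := by linear_combination e11 - hc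
      rcases mul_eq_zero.1 h1 with h1 | h1
      · exact absurd h1 h2
      · exact h1
    rw [hc, hd] at hdet
    simp at hdet

/-- PIECE B -/
theorem psl2_13_data {E : Type*} [Field E] [Fintype E] (hE : Fintype.card E = 13) :
    Nat.card (Matrix.ProjectiveSpecialLinearGroup (Fin 2) E) = 2 ^ 2 * 3 ^ 1 * 7 * 13 ∧
    ∃ x6 x7 x13 : Matrix.ProjectiveSpecialLinearGroup (Fin 2) E,
      orderOf x6 = 6 ∧ orderOf x7 = 7 ∧ orderOf x13 = 13 ∧
      (∀ g : Matrix.ProjectiveSpecialLinearGroup (Fin 2) E, g * x7 = x7 * g →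
        g ∈ Subgroup.zpowers x7) ∧
      (∀ g : Matrix.ProjectiveSpecialLinearGroup (Fin 2) E, g * x13 = x13 * g →
        g ∈ Subgroup.zpowers x13) := by
  classical
  have h13 : Nat.Prime 13 := by norm_num
  let φ : ZMod 13 ≃+* E := ZMod.ringEquivOfPrime E h13 hE
  let f : ZMod 13 →+* E := φ
  have hf : Function.Injective f := φ.injective
  have hfs : ∀ e : E, f (φ.symm e) = e := fun e => φ.apply_symm_apply e
  have h2 : (2 : E) ≠ 0 := by
    intro h
    have h' : f 2 = f 0 := by rw [map_ofNat, map_zero]; exact h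
    exact absurd (hf h') (by decide)
  have h7 : (7 : E) ≠ 0 := by
    intro h
    have h' : f 7 = f 0 := by rw [map_ofNat, map_zero]; exact h
    exact absurd (hf h') (by decide)
  refine ⟨?_, ?_⟩
  · have := Cfsg.Agent.Lib.helper7.two_mul_card_PSL2 (F := E) hE h2
    norm_num at this ⊢
    omega
  have hf7 : f 7 = 7 := map_ofNat f 7
  have hf4 : f 4 = 4 := map_ofNat f 4
  -- transport of the concrete matrices
  have hmap7 : f.mapMatrix (!![0, -1; 1, 7] : Matrix (Fin 2) (Fin 2) (ZMod 13)) =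
      !![0, -1; 1, 7] := by
    ext i j
    fin_cases i <;> fin_cases j <;> simp [hf7]
  have hmap13 : f.mapMatrix (!![1, 1; 0, 1] : Matrix (Fin 2) (Fin 2) (ZMod 13)) =
      !![1, 1; 0, 1] := by
    ext i j
    fin_cases i <;> fin_cases j <;> simp
  have hmap6 : f.mapMatrix (!![0, -1; 1, 4] : Matrix (Fin 2) (Fin 2) (ZMod 13)) =
      !![0, -1; 1, 4] := by
    ext i j
    fin_cases i <;> fin_cases j <;> simp [hf4]
  let X7 : Matrix.SpecialLinearGroup (Fin 2) E := ⟨!![0, -1; 1, 7], by simp [Matrix.det_fin_two]⟩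
  let X13 : Matrix.SpecialLinearGroup (Fin 2) E := ⟨!![1, 1; 0, 1], by simp [Matrix.det_fin_two]⟩
  let X6 : Matrix.SpecialLinearGroup (Fin 2) E := ⟨!![0, -1; 1, 4], by simp [Matrix.det_fin_two]⟩
  have hX7 : (X7 : Matrix (Fin 2) (Fin 2) E) = !![0, -1; 1, 7] := rfl
  have hX13 : (X13 : Matrix (Fin 2) (Fin 2) E) = !![1, 1; 0, 1] := rfl
  have hX6 : (X6 : Matrix (Fin 2) (Fin 2) E) = !![0, -1; 1, 4] := rfl
  have hX7pow : ∀ j : ℕ, ((X7 ^ j : Matrix.SpecialLinearGroup (Fin 2) E) :
      Matrix (Fin 2) (Fin 2) E) =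
        f.mapMatrix ((!![0, -1; 1, 7] : Matrix (Fin 2) (Fin 2) (ZMod 13)) ^ j) := by
    intro j
    rw [Matrix.SpecialLinearGroup.coe_pow, hX7, map_pow, hmap7]
  have hX13pow : ∀ j : ℕ, ((X13 ^ j : Matrix.SpecialLinearGroup (Fin 2) E) :
      Matrix (Fin 2) (Fin 2) E) =
        f.mapMatrix ((!![1, 1; 0, 1] : Matrix (Fin 2) (Fin 2) (ZMod 13)) ^ j) := by
    intro j
    rw [Matrix.SpecialLinearGroup.coe_pow, hX13, map_pow, hmap13]
  have hX6pow : ∀ j : ℕ, ((X6 ^ j : Matrix.SpecialLinearGroup (Fin 2) E) :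
      Matrix (Fin 2) (Fin 2) E) =
        f.mapMatrix ((!![0, -1; 1, 4] : Matrix (Fin 2) (Fin 2) (ZMod 13)) ^ j) := by
    intro j
    rw [Matrix.SpecialLinearGroup.coe_pow, hX6, map_pow, hmap6]
  have hone : ((1 : Matrix.SpecialLinearGroup (Fin 2) E) : Matrix (Fin 2) (Fin 2) E) = 1 := rfl
  -- not in the centre
  have hne : ∀ A : Matrix.SpecialLinearGroup (Fin 2) E, (A : Matrix (Fin 2) (Fin 2) E) 1 0 ≠ 0 →
      (QuotientGroup.mk A : Matrix.ProjectiveSpecialLinearGroup (Fin 2) E) ≠ 1 := by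
    intro A hA hcon
    rw [← QuotientGroup.mk_one, pgb_mk_eq_iff] at hcon
    rcases hcon with hcon | hcon
    · apply hA
      rw [← hcon, hone]
      simp
    · apply hA
      have := congrFun (congrFun hcon 1) 0
      rw [hone] at this
      simp at this
      exact this
  refine ⟨QuotientGroup.mk X6, QuotientGroup.mk X7, QuotientGroup.mk X13, ?_, ?_, ?_, ?_, ?_⟩
  · -- order 6
    apply orderOf_eq_of_pow_and_pow_div_prime (by norm_num)
    · rw [← QuotientGroup.mk_pow, ← QuotientGroup.mk_one, pgb_mk_eq_iff]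
      right
      rw [hX6pow, pgb_pow6, map_neg, map_one, neg_neg, hone]
    · intro p hp hpd
      have hp6 : p ≤ 6 := Nat.le_of_dvd (by norm_num) hpd
      have hcases : p = 2 ∨ p = 3 := by
        interval_cases p
        · exact absurd hp (by norm_num)
        · exact absurd hp (by norm_num)
        · left; rfl
        · right; rfl
        · exact absurd hpd (by norm_num)
        · exact absurd hpd (by norm_num)
        · exact absurd hp (by norm_num)
      rcases hcases with rfl | rfl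
      · rw [← QuotientGroup.mk_pow]
        apply hne
        rw [hX6pow]
        show f (((!![0, -1; 1, 4] : Matrix (Fin 2) (Fin 2) (ZMod 13)) ^ (6 / 2)) 1 0) ≠ 0
        intro h0
        rw [← map_zero f] at h0
        exact pgb_pow3 (hf h0)
      · rw [← QuotientGroup.mk_pow]
        apply hne
        rw [hX6pow]
        show f (((!![0, -1; 1, 4] : Matrix (Fin 2) (Fin 2) (ZMod 13)) ^ (6 / 3)) 1 0) ≠ 0
        intro h0
        rw [← map_zero f] at h0
        exact pgb_pow2 (hf h0)
  · -- order 7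
    have : Fact (Nat.Prime 7) := ⟨by norm_num⟩
    apply orderOf_eq_prime
    · rw [← QuotientGroup.mk_pow]
      have : X7 ^ 7 = 1 := by
        apply Subtype.ext
        rw [hX7pow, pgb_pow7, map_one]
        rfl
      rw [this, QuotientGroup.mk_one]
    · apply hne
      rw [hX7]
      simp
  · -- order 13
    have : Fact (Nat.Prime 13) := ⟨h13⟩
    apply orderOf_eq_prime
    · rw [← QuotientGroup.mk_pow]
      have : X13 ^ 13 = 1 := by
        apply Subtype.ext
        rw [hX13pow, pgb_pow13, map_one]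
        rfl
      rw [this, QuotientGroup.mk_one]
    · intro hcon
      rw [← QuotientGroup.mk_one, pgb_mk_eq_iff] at hcon
      rcases hcon with hcon | hcon
      · have := congrFun (congrFun hcon 0) 1
        rw [hone, hX13] at this
        simp at this
      · have := congrFun (congrFun hcon 0) 1
        rw [hone, hX13] at this
        simp at this
  · -- centralizer of x7
    intro g hg
    obtain ⟨G, rfl⟩ := QuotientGroup.mk_surjective g
    have hg' : (QuotientGroup.mk (G * X7) : Matrix.ProjectiveSpecialLinearGroup (Fin 2) E) =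
        QuotientGroup.mk (X7 * G) := hg
    rw [pgb_mk_eq_iff, Matrix.SpecialLinearGroup.coe_mul, Matrix.SpecialLinearGroup.coe_mul]
      at hg'
    obtain ⟨a, c, heq, hG⟩ := pgb_C7 7 h7 h2 _ _ hX7 G.2 hg'
    have h' : (φ.symm a) ^ 2 + 7 * (φ.symm a) * (φ.symm c) + (φ.symm c) ^ 2 = 1 := by
      apply hf
      rw [map_add, map_add, map_mul, map_mul, map_pow, map_pow, map_ofNat, map_one, hfs, hfs]
      exact heq
    obtain ⟨j, hj⟩ := pgb_D7 _ _ h'
    have hmapG : f.mapMatrix (!![φ.symm a, -φ.symm c; φ.symm c, φ.symm a + 7 * φ.symm c] :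
        Matrix (Fin 2) (Fin 2) (ZMod 13)) = (G : Matrix (Fin 2) (Fin 2) E) := by
      rw [hG]
      ext i j
      fin_cases i <;> fin_cases j <;> simp [hfs, hf7]
    have key : (QuotientGroup.mk (X7 ^ (j : ℕ)) :
        Matrix.ProjectiveSpecialLinearGroup (Fin 2) E) = QuotientGroup.mk G := by
      rw [pgb_mk_eq_iff, hX7pow, ← hmapG]
      rcases hj with hj | hj
      · left
        rw [hj]
      · right
        rw [hj, map_neg]
    rw [Subgroup.mem_zpowers_iff]
    refine ⟨(j : ℕ), ?_⟩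
    rw [zpow_natCast, ← QuotientGroup.mk_pow, key]
  · -- centralizer of x13
    intro g hg
    obtain ⟨G, rfl⟩ := QuotientGroup.mk_surjective g
    have hg' : (QuotientGroup.mk (G * X13) : Matrix.ProjectiveSpecialLinearGroup (Fin 2) E) =
        QuotientGroup.mk (X13 * G) := hg
    rw [pgb_mk_eq_iff, Matrix.SpecialLinearGroup.coe_mul, Matrix.SpecialLinearGroup.coe_mul]
      at hg'
    obtain ⟨a, b, heq, hG⟩ := pgb_C13 h2 _ _ hX13 G.2 hg'
    have h' : (φ.symm a) ^ 2 = 1 := by
      apply hf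
      rw [map_pow, map_one, hfs]
      exact heq
    obtain ⟨j, hj⟩ := pgb_D13 (φ.symm a) (φ.symm b) h'
    have hmapG : f.mapMatrix (!![φ.symm a, φ.symm b; 0, φ.symm a] :
        Matrix (Fin 2) (Fin 2) (ZMod 13)) = (G : Matrix (Fin 2) (Fin 2) E) := by
      rw [hG]
      ext i j
      fin_cases i <;> fin_cases j <;> simp [hfs]
    have key : (QuotientGroup.mk (X13 ^ (j : ℕ)) :
        Matrix.ProjectiveSpecialLinearGroup (Fin 2) E) = QuotientGroup.mk G := by
      rw [pgb_mk_eq_iff, hX13pow, ← hmapG]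
      rcases hj with hj | hj
      · left
        rw [hj]
      · right
        rw [hj, map_neg]
    rw [Subgroup.mem_zpowers_iff]
    refine ⟨(j : ℕ), ?_⟩
    rw [zpow_natCast, ← QuotientGroup.mk_pow, key]

end Cfsg.Agent.Lib.helper17
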