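import Mathlib
import Cfsg.Agent.Lib.helper37.ThreeCyc

/-!
# S2930 piece D2 (helper17): `full_grow`
-/

set_option autoImplicit false
open Equiv Equiv.Perm

namespace Cfsg.Agent.Lib.helper17.S2930

open Cfsg.Agent.Lib.helper37

theorem fg_full_univ_top (n : ℕ) (M : Subgroup (Perm (Fin n)))
    (h : Full M (Finset.univ : Finset (Fin n))) : alternatingGroup (Fin n) ≤ M := by
  rw [← closure_three_cycles_eq_alternating, Subgroup.closure_le]
  intro σ hσ
  obtain ⟨a, b, c, hab, hac, hbc, rfl⟩ := exists_c3_of_isThreeCycle hσ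
  exact h a b c (Finset.mem_univ _) (Finset.mem_univ _) (Finset.mem_univ _) hab hac hbc

/-- the `z`-orbit of a point (for `z` of order 3) -/
def fgo {n : ℕ} (z : Perm (Fin n)) (p : Fin n) : Finset (Fin n) := {p, z p, z (z p)}

theorem fgo_self {n : ℕ} (z : Perm (Fin n)) (p : Fin n) : p ∈ fgo z p := by
  simp [fgo]

theorem fgo_z {n : ℕ} (z : Perm (Fin n)) (hzzz : ∀ p, z (z (z p)) = p) (p : Fin n) :
    fgo z (z p) = fgo z p := by
  unfold fgo
  rw [hzzz]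
  ext q
  simp only [Finset.mem_insert, Finset.mem_singleton]
  tauto

theorem fg_ne {n : ℕ} (z : Perm (Fin n)) {p q p' q' : Fin n} (hp : fgo z p' = fgo z p)
    (hq : fgo z q' = fgo z q) (h : fgo z p ≠ fgo z q) : p' ≠ q' := by
  rintro rfl
  exact h (hp.symm.trans hq)

theorem fg_c3_comm {α : Type*} [DecidableEq α] {a b c d e f : α}
    (h1 : a ≠ d) (h2 : a ≠ e) (h3 : a ≠ f) (h4 : b ≠ d) (h5 : b ≠ e) (h6 : b ≠ f)
    (h7 : c ≠ d) (h8 : c ≠ e) (h9 : c ≠ f) :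
    c3 a b c * c3 d e f = c3 d e f * c3 a b c := by
  have h := c3_conj (c3 d e f) a b c
  rw [c3_apply_of_ne h1 h2 h3, c3_apply_of_ne h4 h5 h6, c3_apply_of_ne h7 h8 h9] at h
  exact (mul_inv_eq_iff_eq_mul.mp h).symm

theorem fg_conj3 {G : Type*} [Group G] (z A B C : G) (hA : z * A * z⁻¹ = B)
    (hB : z * B * z⁻¹ = C) (hC : z * C * z⁻¹ = A) (hAB : A * B = B * A)
    (hAC : A * C = C * A) : (A * B * C) * z = z * (A * B * C) := by
  have h1 : z * (A * B * C) * z⁻¹ = (z * A * z⁻¹) * (z * B * z⁻¹) * (z * C * z⁻¹) := by group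
  rw [hA, hB, hC] at h1
  have h2 : B * C * A = A * B * C := by rw [mul_assoc, ← hAC, ← mul_assoc, ← hAB]
  rw [h2] at h1
  exact (mul_inv_eq_iff_eq_mul.mp h1).symm

/-- PIECE D2. -/
theorem full_grow (n : ℕ) (hn : 12 ≤ n) (M : Subgroup (Perm (Fin n)))
    (z : Perm (Fin n)) (hz : ∀ x, z x ≠ x) (hz3 : z ^ 3 = 1)
    (hzM : ∀ g ∈ alternatingGroup (Fin n), g * z = z * g → g ∈ M)
    (Γ : Finset (Fin n)) (hΓ : Full M Γ) (hc : 3 < Γ.card) : alternatingGroup (Fin n) ≤ M := by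
  classical
  have hzzz : ∀ p, z (z (z p)) = p := by
    intro p
    have := congrArg (fun f => f p) hz3
    simpa [pow_succ] using this
  have hz2 : ∀ p, z (z p) ≠ p := by
    intro p h
    have h1 := hzzz p
    rw [h] at h1
    exact hz p h1
  obtain ⟨x, hx⟩ : Γ.Nonempty := Finset.card_pos.mp (by omega)
  obtain ⟨b, hb, hbx⟩ : ∃ b ∈ Γ, b ≠ x := Finset.exists_mem_ne (by omega) x
  obtain ⟨c, hc', hcb⟩ : ∃ c ∈ Γ.erase x, c ≠ b :=
    Finset.exists_mem_ne (by rw [Finset.card_erase_of_mem hx]; omega) b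
  rw [Finset.mem_erase] at hc'
  obtain ⟨hcx, hcΓ⟩ := hc'
  have habc : c3 x b c ∈ M := hΓ x b c hx hb hcΓ hbx.symm hcx.symm hcb.symm
  obtain ⟨Γ', hF, hxΓ, hbΓ, hcΓ', hdich⟩ := exists_max_full hbx.symm hcx.symm hcb.symm habc
  have hsub : Γ ⊆ Γ' := by
    intro d hd
    by_cases hdx : d = x
    · rw [hdx]; exact hxΓ
    by_cases hdb : d = b
    · rw [hdb]; exact hbΓ
    have h1 := hΓ x b d hx hb hd hbx.symm (Ne.symm hdx) (Ne.symm hdb)
    rcases hdich x b d hbx.symm (Ne.symm hdx) (Ne.symm hdb) h1 with h2 | h2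
    · exact h2.2.2
    · exact absurd hxΓ h2.1
  have hcard : 3 < Γ'.card := lt_of_lt_of_le hc (Finset.card_le_card hsub)
  have hinv : ∀ p, p ∈ Γ' → z p ∈ Γ' := by
    intro p hp
    have h1 : c3 p (z p) (z (z p)) ∈ M := by
      apply hzM
      · rw [mem_alternatingGroup]
        exact (isThreeCycle_c3 (hz p).symm (hz2 p).symm (hz (z p)).symm).sign
      · have h2 := c3_conj z p (z p) (z (z p))
        rw [hzzz, ← c3_rot (hz p).symm (hz2 p).symm (hz (z p)).symm] at h2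
        exact (mul_inv_eq_iff_eq_mul.mp h2).symm
    rcases hdich p (z p) (z (z p)) (hz p).symm (hz2 p).symm (hz (z p)).symm h1 with h2 | h2
    · exact h2.2.1
    · exact absurd hp h2.1
  have hoΓ : ∀ p, p ∈ Γ' → fgo z p ⊆ Γ' := by
    intro p hp q hq
    unfold fgo at hq
    simp only [Finset.mem_insert, Finset.mem_singleton] at hq
    rcases hq with rfl | rfl | rfl
    · exact hp
    · exact hinv _ hp
    · exact hinv _ (hinv _ hp)
  by_contra hnot
  have hne : Γ' ≠ Finset.univ := by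
    intro h
    rw [h] at hF
    exact hnot (fg_full_univ_top n M hF)
  obtain ⟨y, hy⟩ : ∃ y, y ∉ Γ' := by
    by_contra hcon
    push Not at hcon
    exact hne (Finset.eq_univ_iff_forall.mpr hcon)
  obtain ⟨u, huΓ, hux⟩ : ∃ u ∈ Γ', u ∉ fgo z x :=
    Finset.exists_mem_notMem_of_card_lt_card (lt_of_le_of_lt Finset.card_le_three hcard)
  obtain ⟨w, hw⟩ : ∃ w, w ∉ fgo z x ∪ fgo z y ∪ fgo z u := by
    by_contra hcon
    push Not at hcon
    have h1 : (Finset.univ : Finset (Fin n)) ⊆ fgo z x ∪ fgo z y ∪ fgo z u := fun p _ => hcon p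
    have h2 := Finset.card_le_card h1
    rw [Finset.card_univ, Fintype.card_fin] at h2
    have h3 := Finset.card_union_le (fgo z x ∪ fgo z y) (fgo z u)
    have h4 := Finset.card_union_le (fgo z x) (fgo z y)
    have h5 : (fgo z x).card ≤ 3 := Finset.card_le_three
    have h6 : (fgo z y).card ≤ 3 := Finset.card_le_three
    have h7 : (fgo z u).card ≤ 3 := Finset.card_le_three
    omega
  rw [Finset.mem_union, Finset.mem_union] at hw
  push Not at hw
  obtain ⟨⟨hwx, hwy⟩, hwu⟩ := hw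
  -- orbits pairwise distinct
  have oxy : fgo z x ≠ fgo z y := fun h => hy (hoΓ x hxΓ (h ▸ fgo_self z y))
  have oxw : fgo z x ≠ fgo z w := fun h => hwx (h ▸ fgo_self z w)
  have oyw : fgo z y ≠ fgo z w := fun h => hwy (h ▸ fgo_self z w)
  have oux : fgo z u ≠ fgo z x := fun h => hux (h ▸ fgo_self z u)
  have ouy : fgo z u ≠ fgo z y := fun h => hy (hoΓ u huΓ (h ▸ fgo_self z y))
  have ouw : fgo z u ≠ fgo z w := fun h => hwu (h ▸ fgo_self z w)
  have oyx := oxy.symm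
  have owx := oxw.symm
  have owy := oyw.symm
  have oxu := oux.symm
  have o0 : ∀ p, fgo z p = fgo z p := fun p => rfl
  have o1 : ∀ p, fgo z (z p) = fgo z p := fun p => fgo_z z hzzz p
  have o2 : ∀ p, fgo z (z (z p)) = fgo z p := fun p => (o1 (z p)).trans (o1 p)
  have hAB : c3 x y w * c3 (z x) (z y) (z w) = c3 (z x) (z y) (z w) * c3 x y w :=
    fg_c3_comm (hz x).symm (fg_ne z (o0 x) (o1 y) oxy) (fg_ne z (o0 x) (o1 w) oxw)
      (fg_ne z (o0 y) (o1 x) oyx) (hz y).symm (fg_ne z (o0 y) (o1 w) oyw)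
      (fg_ne z (o0 w) (o1 x) owx) (fg_ne z (o0 w) (o1 y) owy) (hz w).symm
  have hAC : c3 x y w * c3 (z (z x)) (z (z y)) (z (z w)) =
      c3 (z (z x)) (z (z y)) (z (z w)) * c3 x y w :=
    fg_c3_comm (hz2 x).symm (fg_ne z (o0 x) (o2 y) oxy) (fg_ne z (o0 x) (o2 w) oxw)
      (fg_ne z (o0 y) (o2 x) oyx) (hz2 y).symm (fg_ne z (o0 y) (o2 w) oyw)
      (fg_ne z (o0 w) (o2 x) owx) (fg_ne z (o0 w) (o2 y) owy) (hz2 w).symm
  have hcomm : (c3 x y w * c3 (z x) (z y) (z w) * c3 (z (z x)) (z (z y)) (z (z w))) * z =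
      z * (c3 x y w * c3 (z x) (z y) (z w) * c3 (z (z x)) (z (z y)) (z (z w))) := by
    apply fg_conj3 z _ _ _ (c3_conj z x y w) (c3_conj z _ _ _) _ hAB hAC
    rw [c3_conj, hzzz, hzzz, hzzz]
  have hsign : c3 x y w * c3 (z x) (z y) (z w) * c3 (z (z x)) (z (z y)) (z (z w)) ∈
      alternatingGroup (Fin n) := by
    rw [mem_alternatingGroup, map_mul, map_mul,
      (isThreeCycle_c3 (fg_ne z (o0 x) (o0 y) oxy) (fg_ne z (o0 x) (o0 w) oxw)
        (fg_ne z (o0 y) (o0 w) oyw)).sign,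
      (isThreeCycle_c3 (fg_ne z (o1 x) (o1 y) oxy) (fg_ne z (o1 x) (o1 w) oxw)
        (fg_ne z (o1 y) (o1 w) oyw)).sign,
      (isThreeCycle_c3 (fg_ne z (o2 x) (o2 y) oxy) (fg_ne z (o2 x) (o2 w) oxw)
        (fg_ne z (o2 y) (o2 w) oyw)).sign]
    rfl
  have hhM := hzM _ hsign hcomm
  have hhx : (c3 x y w * c3 (z x) (z y) (z w) * c3 (z (z x)) (z (z y)) (z (z w))) x = y := by
    rw [Perm.mul_apply, Perm.mul_apply,
      c3_apply_of_ne (hz2 x).symm (fg_ne z (o0 x) (o2 y) oxy) (fg_ne z (o0 x) (o2 w) oxw),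
      c3_apply_of_ne (hz x).symm (fg_ne z (o0 x) (o1 y) oxy) (fg_ne z (o0 x) (o1 w) oxw),
      c3_apply_left (fg_ne z (o0 x) (o0 y) oxy) (fg_ne z (o0 x) (o0 w) oxw)]
  have hhzx : (c3 x y w * c3 (z x) (z y) (z w) * c3 (z (z x)) (z (z y)) (z (z w))) (z x)
      = z y := by
    rw [Perm.mul_apply, Perm.mul_apply,
      c3_apply_of_ne (hz (z x)).symm (fg_ne z (o1 x) (o2 y) oxy) (fg_ne z (o1 x) (o2 w) oxw),
      c3_apply_left (fg_ne z (o1 x) (o1 y) oxy) (fg_ne z (o1 x) (o1 w) oxw),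
      c3_apply_of_ne (fg_ne z (o1 y) (o0 x) oyx) (hz y) (fg_ne z (o1 y) (o0 w) oyw)]
  have hhu : (c3 x y w * c3 (z x) (z y) (z w) * c3 (z (z x)) (z (z y)) (z (z w))) u = u := by
    rw [Perm.mul_apply, Perm.mul_apply,
      c3_apply_of_ne (fg_ne z (o0 u) (o2 x) oux) (fg_ne z (o0 u) (o2 y) ouy)
        (fg_ne z (o0 u) (o2 w) ouw),
      c3_apply_of_ne (fg_ne z (o0 u) (o1 x) oux) (fg_ne z (o0 u) (o1 y) ouy)
        (fg_ne z (o0 u) (o1 w) ouw),
      c3_apply_of_ne (fg_ne z (o0 u) (o0 x) oux) (fg_ne z (o0 u) (o0 y) ouy)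
        (fg_ne z (o0 u) (o0 w) ouw)]
  have htM : c3 x (z x) u ∈ M :=
    hF x (z x) u hxΓ (hinv x hxΓ) huΓ (hz x).symm (fg_ne z (o0 x) (o0 u) oxu)
      (fg_ne z (o1 x) (o0 u) oxu)
  have h1 := M.mul_mem (M.mul_mem hhM htM) (M.inv_mem hhM)
  rw [c3_conj, hhx, hhzx, hhu] at h1
  rcases hdich y (z y) u (hz y).symm (fg_ne z (o0 u) (o0 y) ouy).symm
    (fg_ne z (o0 u) (o1 y) ouy).symm h1 with h2 | h2
  · exact hy h2.1
  · exact h2.2.2 huΓ

end Cfsg.Agent.Lib.helper17.S2930
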