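import Mathlib
import Cfsg.Agent.Lib.helper37.ThreeCyc

/-!
# S2930 piece D5 (helper17): `exists_block_subgroup`
-/

set_option autoImplicit false
open Equiv Equiv.Perm

namespace Cfsg.Agent.Lib.helper17.S2930

open Cfsg.Agent.Lib.helper37

/-- a transitive 3-group on `n ≥ 2` points has a subgroup `K'`, normalised by `P`, whose orbit
of a point has exactly `n / 3` points. -/
theorem bs_exists_K (n : ℕ) (hn : 2 ≤ n) (P : Subgroup (Perm (Fin n)))
    (hP : IsPGroup 3 P) (htr : ∀ x y : Fin n, ∃ g ∈ P, g x = y) (x₀ : Fin n) :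
    ∃ K' : Subgroup (Perm (Fin n)), (∀ g ∈ P, ∀ u ∈ K', g * u * g⁻¹ ∈ K') ∧
      ∃ Γ : Finset (Fin n), (∀ y, y ∈ Γ ↔ ∃ u ∈ K', u x₀ = y) ∧ Γ.card * 3 = n := by
  classical
  have hprime : Fact (Nat.Prime 3) := ⟨Nat.prime_three⟩
  have : MulAction.IsPretransitive ↥P (Fin n) := ⟨fun x y => by
    obtain ⟨g, hg, h⟩ := htr x y
    exact ⟨⟨g, hg⟩, h⟩⟩
  set S : Subgroup ↥P := MulAction.stabilizer ↥P x₀ with hS
  have hidx : S.index = n := by
    have := MulAction.index_stabilizer_of_transitive ↥P x₀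
    rw [hS, this, Nat.card_eq_fintype_card, Fintype.card_fin]
  obtain ⟨a, ha⟩ := IsPGroup.iff_card.mp hP
  obtain ⟨b, hb⟩ := IsPGroup.iff_card.mp (hP.to_subgroup S)
  have hmul : Nat.card S * S.index = Nat.card ↥P := S.card_mul_index
  rw [hb, ha, hidx] at hmul
  have hba : b < a := by
    by_contra hcon
    have h1 : 3 ^ a ≤ 3 ^ b := Nat.pow_le_pow_right (by norm_num) (by omega)
    have h2 : 3 ^ b * 2 ≤ 3 ^ b * n := Nat.mul_le_mul_left _ hn
    have h3 : 0 < 3 ^ b := by positivity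
    omega
  obtain ⟨K, hK, hSK⟩ := Sylow.exists_subgroup_card_pow_prime_le 3 (n := b) (m := a - 1)
    (by rw [ha]; exact pow_dvd_pow 3 (by omega)) S hb (by omega)
  have hKidx : K.index = 3 := by
    have h := K.card_mul_index
    rw [hK, ha] at h
    have h2 : 3 ^ a = 3 ^ (a - 1) * 3 := by
      rw [← pow_succ]; congr 1; omega
    rw [h2] at h
    exact Nat.eq_of_mul_eq_mul_left (by positivity) h
  have hKn : K.Normal := by
    apply Subgroup.normal_of_index_eq_minFac_card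
    rw [hKidx, ha, Nat.pow_minFac (by omega)]
    exact (Nat.Prime.minFac_eq Nat.prime_three).symm
  have hstab : MulAction.stabilizer (↥K) x₀ = S.subgroupOf K := by
    ext ⟨k, hk⟩
    simp only [MulAction.mem_stabilizer_iff, Subgroup.mem_subgroupOf, hS]
    rfl
  have hXcard : (MulAction.orbit (↥K) x₀).ncard * 3 = n := by
    have h := Subgroup.relIndex_mul_index hSK
    rw [hKidx, hidx] at h
    have h' : (MulAction.orbit (↥K) x₀).ncard = S.relIndex K := by
      rw [← MulAction.index_stabilizer, hstab]; rfl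
    rw [h']; exact h
  refine ⟨K.map P.subtype, ?_, Finset.univ.filter (fun y => ∃ u ∈ K.map P.subtype, u x₀ = y),
    fun y => by simp, ?_⟩
  · rintro g hg _ ⟨u, hu, rfl⟩
    exact ⟨⟨g, hg⟩ * u * ⟨g, hg⟩⁻¹, hKn.conj_mem u hu ⟨g, hg⟩, rfl⟩
  · refine Eq.trans ?_ hXcard
    congr 1
    rw [← Set.ncard_coe_finset]
    congr 1
    ext y
    simp only [Finset.coe_filter, Finset.mem_univ, true_and, Set.mem_ofPred_eq,
      MulAction.mem_orbit_iff]
    constructor
    · rintro ⟨_, ⟨u, hu, rfl⟩, h⟩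
      exact ⟨⟨u, hu⟩, h⟩
    · rintro ⟨⟨u, hu⟩, h⟩
      exact ⟨_, ⟨u, hu, rfl⟩, h⟩

/-- PIECE D5. -/
theorem exists_block_subgroup (n : ℕ) (hn : 10 ≤ n) (P : Subgroup (Perm (Fin n)))
    (hP : IsPGroup 3 P) (htr : ∀ x y : Fin n, ∃ g ∈ P, g x = y) :
    ∃ (H : Subgroup (Perm (Fin n))) (Γ : Finset (Fin n)), P ≤ H ∧
      ¬ alternatingGroup (Fin n) ≤ H ∧ 3 < Γ.card ∧ Full (H ⊓ alternatingGroup (Fin n)) Γ := by
  classical
  obtain ⟨K', hKn, Γ, hΓ, hcard⟩ := bs_exists_K n (by omega) P hP htr ⟨0, by omega⟩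
  set x₀ : Fin n := ⟨0, by omega⟩ with hx₀
  have hinv : ∀ (f : Perm (Fin n)) (t : Fin n), f⁻¹ (f t) = t := fun f t => by simp
  have hinv' : ∀ (f : Perm (Fin n)) (t : Fin n), f (f⁻¹ t) = t := fun f t => by simp
  -- the orbit relation
  have Rrefl : ∀ x : Fin n, ∃ u ∈ K', u x = x := fun x => ⟨1, K'.one_mem, rfl⟩
  have Rsymm : ∀ x y : Fin n, (∃ u ∈ K', u x = y) → ∃ u ∈ K', u y = x := by
    rintro x y ⟨u, hu, rfl⟩
    exact ⟨u⁻¹, K'.inv_mem hu, hinv u x⟩
  have Rtrans : ∀ x y w : Fin n, (∃ u ∈ K', u x = y) → (∃ u ∈ K', u y = w) →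
      ∃ u ∈ K', u x = w := by
    rintro x y w ⟨u, hu, rfl⟩ ⟨v, hv, rfl⟩
    exact ⟨v * u, K'.mul_mem hv hu, rfl⟩
  have hΓR : ∀ p q, p ∈ Γ → q ∈ Γ → ∃ u ∈ K', u p = q := by
    intro p q hp hq
    exact Rtrans p x₀ q (Rsymm _ _ ((hΓ p).mp hp)) ((hΓ q).mp hq)
  let H : Subgroup (Perm (Fin n)) :=
    { carrier := {g | ∀ x y : Fin n, (∃ u ∈ K', u x = y) ↔ (∃ u ∈ K', u (g x) = g y)}
      mul_mem' := fun {g h} hg hh x y => by
        rw [Perm.mul_apply, Perm.mul_apply]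
        exact (hh x y).trans (hg (h x) (h y))
      one_mem' := fun x y => Iff.rfl
      inv_mem' := fun {g} hg x y => by
        have h := hg (g⁻¹ x) (g⁻¹ y)
        rw [hinv', hinv'] at h
        exact h.symm }
  have hHmem : ∀ g : Perm (Fin n), g ∈ H ↔
      ∀ x y : Fin n, (∃ u ∈ K', u x = y) ↔ (∃ u ∈ K', u (g x) = g y) := fun g => Iff.rfl
  have hΓ4 : 3 < Γ.card := by omega
  refine ⟨H, Γ, ?_, ?_, hΓ4, ?_⟩
  · intro g hg
    rw [hHmem]
    intro x y
    constructor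
    · rintro ⟨u, hu, rfl⟩
      refine ⟨g * u * g⁻¹, hKn g hg u hu, ?_⟩
      rw [Perm.mul_apply, Perm.mul_apply, hinv]
    · rintro ⟨u, hu, h⟩
      refine ⟨g⁻¹ * u * g, ?_, ?_⟩
      · have h1 := hKn g⁻¹ (P.inv_mem hg) u hu
        rw [inv_inv] at h1
        exact h1
      · rw [Perm.mul_apply, Perm.mul_apply, h, hinv]
  · intro hle
    obtain ⟨a, ha⟩ : Γ.Nonempty := Finset.card_pos.mp (by omega)
    obtain ⟨b, hb, hba⟩ : ∃ b ∈ Γ, b ≠ a := Finset.exists_mem_ne (by omega) a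
    obtain ⟨y, hy⟩ : ∃ y, y ∉ Γ := by
      by_contra hcon
      push Not at hcon
      have h1 : Γ = Finset.univ := Finset.eq_univ_iff_forall.mpr hcon
      rw [h1, Finset.card_univ, Fintype.card_fin] at hcard
      omega
    have hay : a ≠ y := fun h => hy (h ▸ ha)
    have hby : b ≠ y := fun h => hy (h ▸ hb)
    have h1 : c3 a b y ∈ H := hle (by
      rw [mem_alternatingGroup]
      exact (isThreeCycle_c3 hba.symm hay hby).sign)
    have h2 := ((hHmem _).mp h1 a b).mp (hΓR a b ha hb)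
    rw [c3_apply_left hba.symm hay, c3_apply_mid hay hby] at h2
    exact hy ((hΓ y).mpr (Rtrans _ _ _ ((hΓ b).mp hb) h2))
  · intro a b c ha hb hc hab hac hbc
    refine Subgroup.mem_inf.mpr ⟨?_, ?_⟩
    · have key : ∀ x : Fin n, ∃ u ∈ K', u x = c3 a b c x := by
        intro x
        by_cases hxa : x = a
        · rw [hxa, c3_apply_left hab hac]
          exact hΓR a b ha hb
        by_cases hxb : x = b
        · rw [hxb, c3_apply_mid hac hbc]
          exact hΓR b c hb hc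
        by_cases hxc : x = c
        · rw [hxc, c3_apply_right]
          exact hΓR c a hc ha
        rw [c3_apply_of_ne hxa hxb hxc]
        exact Rrefl x
      rw [hHmem]
      intro x y
      constructor
      · intro h
        exact Rtrans _ _ _ (Rsymm _ _ (key x)) (Rtrans _ _ _ h (key y))
      · intro h
        exact Rtrans _ _ _ (key x) (Rtrans _ _ _ h (Rsymm _ _ (key y)))
    · rw [mem_alternatingGroup]
      exact (isThreeCycle_c3 hab hac hbc).sign

end Cfsg.Agent.Lib.helper17.S2930
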