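import Mathlib

/-!
# S3174 piece FIX (helper17): `cprime_fixed`
-/

set_option autoImplicit false

namespace Cfsg.Agent.Lib.helper17.S3174

/-- the norm element of a dihedral action on an elementary abelian `2`-group is fixed -/
theorem norm_fix {V : Type*} [CommGroup V] (α β : V →* V)
    (hinv : ∀ v : V, v⁻¹ = v)
    (hα2 : ∀ v, α (α v) = v) (hβ4 : ∀ v, β (β (β (β v))) = v)
    (hαβ : ∀ v, α (β v) = β (β (β (α v)))) (w : V) :
    α (β (β ((w * α w) * β (w * α w))) * ((w * α w) * β (w * α w))⁻¹) =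
        β (β ((w * α w) * β (w * α w))) * ((w * α w) * β (w * α w))⁻¹ ∧
    β (β (β ((w * α w) * β (w * α w))) * ((w * α w) * β (w * α w))⁻¹) =
        β (β ((w * α w) * β (w * α w))) * ((w * α w) * β (w * α w))⁻¹ := by
  constructor
  · simp only [map_mul, hinv, hαβ, hα2, hβ4]
    ac_rfl
  · simp only [map_mul, hinv, hβ4]
    ac_rfl

open scoped IsMulCommutative in
/-- the abstract statement in a group `Q` with an elementary abelian normal `2`-subgroup `A` -/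
theorem fix_core {Q : Type*} [Group Q] (A : Subgroup Q) [A.Normal]
    (hAc : ∀ x ∈ A, ∀ y ∈ A, x * y = y * x) (hA2 : ∀ x ∈ A, x * x = 1)
    (a r : Q) (ha2 : a ^ 2 ∈ A) (hr4 : r ^ 4 ∈ A) (hara : a * r * a⁻¹ * r ∈ A)
    (w : Q) (hw : w ∈ A) :
    (r ^ 2 * ((w * (a * w * a⁻¹)) * (r * (w * (a * w * a⁻¹)) * r⁻¹)) * (r ^ 2)⁻¹ *
        ((w * (a * w * a⁻¹)) * (r * (w * (a * w * a⁻¹)) * r⁻¹))⁻¹) ∈ A ∧
    a * (r ^ 2 * ((w * (a * w * a⁻¹)) * (r * (w * (a * w * a⁻¹)) * r⁻¹)) * (r ^ 2)⁻¹ *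
        ((w * (a * w * a⁻¹)) * (r * (w * (a * w * a⁻¹)) * r⁻¹))⁻¹) * a⁻¹ =
      (r ^ 2 * ((w * (a * w * a⁻¹)) * (r * (w * (a * w * a⁻¹)) * r⁻¹)) * (r ^ 2)⁻¹ *
        ((w * (a * w * a⁻¹)) * (r * (w * (a * w * a⁻¹)) * r⁻¹))⁻¹) ∧
    r * (r ^ 2 * ((w * (a * w * a⁻¹)) * (r * (w * (a * w * a⁻¹)) * r⁻¹)) * (r ^ 2)⁻¹ *
        ((w * (a * w * a⁻¹)) * (r * (w * (a * w * a⁻¹)) * r⁻¹))⁻¹) * r⁻¹ =
      (r ^ 2 * ((w * (a * w * a⁻¹)) * (r * (w * (a * w * a⁻¹)) * r⁻¹)) * (r ^ 2)⁻¹ *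
        ((w * (a * w * a⁻¹)) * (r * (w * (a * w * a⁻¹)) * r⁻¹))⁻¹) := by
  classical
  have hcm : IsMulCommutative ↥A := ⟨⟨fun x y => Subtype.ext (hAc x x.2 y y.2)⟩⟩
  have hφA : ∀ u ∈ A, (MulAut.conjNormal u : MulAut ↥A) = 1 := by
    intro u hu
    ext v
    show u * v * u⁻¹ = v
    rw [hAc u hu v v.2, mul_inv_cancel_right]
  have hinv : ∀ v : ↥A, v⁻¹ = v := fun v => inv_eq_of_mul_eq_one_left (Subtype.ext (hA2 v v.2))
  obtain ⟨α, hα⟩ : ∃ α : MulAut ↥A, α = MulAut.conjNormal a := ⟨_, rfl⟩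
  obtain ⟨β, hβ⟩ : ∃ β : MulAut ↥A, β = MulAut.conjNormal r := ⟨_, rfl⟩
  have hα2 : ∀ v, α (α v) = v := by
    intro v
    have h := hφA _ ha2
    rw [map_pow, ← hα] at h
    have h2 := DFunLike.congr_fun h v
    simpa [pow_two] using h2
  have hβ4 : ∀ v, β (β (β (β v))) = v := by
    intro v
    have h := hφA _ hr4
    rw [map_pow, ← hβ] at h
    have h2 := DFunLike.congr_fun h v
    simpa [pow_succ] using h2
  have hαβ : ∀ v, α (β v) = β (β (β (α v))) := by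
    intro v
    have h := hφA _ hara
    rw [map_mul, map_mul, map_mul, map_inv, ← hα, ← hβ] at h
    have h2 := DFunLike.congr_fun h (β (β (β (α v))))
    simp only [MulAut.mul_apply, MulAut.one_apply, hβ4, MulAut.inv_apply_self] at h2
    exact h2
  obtain ⟨w', hw'⟩ : ∃ w' : ↥A, (w' : Q) = w := ⟨⟨w, hw⟩, rfl⟩
  have key := norm_fix α.toMonoidHom β.toMonoidHom hinv hα2 hβ4 hαβ w'
  have hC : ((β.toMonoidHom (β.toMonoidHom ((w' * α.toMonoidHom w') *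
      β.toMonoidHom (w' * α.toMonoidHom w'))) *
      ((w' * α.toMonoidHom w') * β.toMonoidHom (w' * α.toMonoidHom w'))⁻¹ : ↥A) : Q) =
      r ^ 2 * ((w * (a * w * a⁻¹)) * (r * (w * (a * w * a⁻¹)) * r⁻¹)) * (r ^ 2)⁻¹ *
        ((w * (a * w * a⁻¹)) * (r * (w * (a * w * a⁻¹)) * r⁻¹))⁻¹ := by
    rw [hα, hβ]
    simp only [Subgroup.coe_mul, Subgroup.coe_inv, MulEquiv.coe_toMonoidHom,
      MulAut.conjNormal_apply, hw', pow_two, mul_inv_rev, mul_assoc]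
  rw [← hC]
  refine ⟨Subtype.property _, ?_, ?_⟩
  · have h1 := congrArg Subtype.val key.1
    rw [hα] at h1 ⊢
    exact h1
  · have h1 := congrArg Subtype.val key.2
    rw [hβ] at h1 ⊢
    exact h1

/-- FIX -/
theorem cprime_fixed {T : Type*} [Group T] [Finite T] (W Z3 : Subgroup T) [W.Normal] [Z3.Normal]
    (hZ3W : Z3 ≤ W) (hcomm : ∀ x ∈ W, ∀ y ∈ W, x * y * x⁻¹ * y⁻¹ ∈ Z3) (hsq : ∀ x ∈ W, x ^ 2 ∈ Z3)
    (a r : T) (ha2 : a ^ 2 ∈ W) (hr4 : r ^ 4 ∈ W) (hara : a * r * a⁻¹ * r ∈ W)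
    (hrep : ∀ τ : T, ∃ ρ ∈ ({1, a, r, r * a, r ^ 2, r ^ 2 * a, r ^ 3, r ^ 3 * a} : Set T), ρ⁻¹ * τ ∈ W)
    (w₀ : T) (hw₀ : w₀ ∈ W) (τ : T) :
    (r ^ 2 * ((w₀ * (a * w₀ * a⁻¹)) * (r * (w₀ * (a * w₀ * a⁻¹)) * r⁻¹)) * (r ^ 2)⁻¹ *
        ((w₀ * (a * w₀ * a⁻¹)) * (r * (w₀ * (a * w₀ * a⁻¹)) * r⁻¹))⁻¹) * τ *
      (r ^ 2 * ((w₀ * (a * w₀ * a⁻¹)) * (r * (w₀ * (a * w₀ * a⁻¹)) * r⁻¹)) * (r ^ 2)⁻¹ *
        ((w₀ * (a * w₀ * a⁻¹)) * (r * (w₀ * (a * w₀ * a⁻¹)) * r⁻¹))⁻¹)⁻¹ * τ⁻¹ ∈ Z3 := by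
  classical
  obtain ⟨π, hπ⟩ : ∃ π : T →* T ⧸ Z3, π = QuotientGroup.mk' Z3 := ⟨_, rfl⟩
  have hπs : Function.Surjective π := by
    rw [hπ]
    exact QuotientGroup.mk'_surjective Z3
  have hker : ∀ x : T, π x = 1 ↔ x ∈ Z3 := by
    intro x
    rw [hπ]
    exact QuotientGroup.eq_one_iff x
  have hAn : (W.map π).Normal := Subgroup.Normal.map inferInstance π hπs
  have hAc : ∀ x ∈ W.map π, ∀ y ∈ W.map π, x * y = y * x := by
    rintro _ ⟨x, hx, rfl⟩ _ ⟨y, hy, rfl⟩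
    have h := (hker _).mpr (hcomm x hx y hy)
    rw [map_mul, map_mul, map_mul, map_inv, map_inv] at h
    have h2 : π x * π y = (π x * π y * (π x)⁻¹ * (π y)⁻¹) * (π y * π x) := by group
    rw [h2, h, one_mul]
  have hA2 : ∀ x ∈ W.map π, x * x = 1 := by
    rintro _ ⟨x, hx, rfl⟩
    have h := (hker _).mpr (hsq x hx)
    rw [map_pow, pow_two] at h
    exact h
  have key := fix_core (W.map π) hAc hA2 (π a) (π r)
    (by rw [← map_pow]; exact Subgroup.mem_map_of_mem π ha2)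
    (by rw [← map_pow]; exact Subgroup.mem_map_of_mem π hr4)
    (by rw [← map_inv, ← map_mul, ← map_mul, ← map_mul]; exact Subgroup.mem_map_of_mem π hara)
    (π w₀) (Subgroup.mem_map_of_mem π hw₀)
  obtain ⟨c, hc⟩ : ∃ c : T, c = r ^ 2 * ((w₀ * (a * w₀ * a⁻¹)) * (r * (w₀ * (a * w₀ * a⁻¹)) * r⁻¹)) *
      (r ^ 2)⁻¹ * ((w₀ * (a * w₀ * a⁻¹)) * (r * (w₀ * (a * w₀ * a⁻¹)) * r⁻¹))⁻¹ := ⟨_, rfl⟩
  rw [← hc]
  have hπc : π c = π r ^ 2 * ((π w₀ * (π a * π w₀ * (π a)⁻¹)) *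
      (π r * (π w₀ * (π a * π w₀ * (π a)⁻¹)) * (π r)⁻¹)) * (π r ^ 2)⁻¹ *
      ((π w₀ * (π a * π w₀ * (π a)⁻¹)) * (π r * (π w₀ * (π a * π w₀ * (π a)⁻¹)) * (π r)⁻¹))⁻¹ := by
    rw [hc]
    simp only [map_mul, map_inv, map_pow]
  rw [← hπc] at key
  obtain ⟨kA, ka, kr⟩ := key
  have hcen_a : π a ∈ Subgroup.centralizer {π c} := by
    rw [Subgroup.mem_centralizer_iff]
    intro h hh
    rw [Set.mem_singleton_iff] at hh
    subst hh
    calc π c * π a = (π a * π c * (π a)⁻¹) * π a := by rw [ka]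
      _ = π a * π c := by group
  have hcen_r : π r ∈ Subgroup.centralizer {π c} := by
    rw [Subgroup.mem_centralizer_iff]
    intro h hh
    rw [Set.mem_singleton_iff] at hh
    subst hh
    calc π c * π r = (π r * π c * (π r)⁻¹) * π r := by rw [kr]
      _ = π r * π c := by group
  have hcen_A : ∀ u ∈ W, π u ∈ Subgroup.centralizer {π c} := by
    intro u hu
    rw [Subgroup.mem_centralizer_iff]
    intro h hh
    rw [Set.mem_singleton_iff] at hh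
    subst hh
    exact hAc _ kA _ (Subgroup.mem_map_of_mem π hu)
  obtain ⟨ρ, hρ, hρτ⟩ := hrep τ
  have hρc : π ρ ∈ Subgroup.centralizer {π c} := by
    simp only [Set.mem_insert_iff, Set.mem_singleton_iff] at hρ
    rcases hρ with h | h | h | h | h | h | h | h
    · rw [h, map_one]
      exact one_mem _
    · rw [h]
      exact hcen_a
    · rw [h]
      exact hcen_r
    · rw [h, map_mul]
      exact mul_mem hcen_r hcen_a
    · rw [h, map_pow]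
      exact pow_mem hcen_r 2
    · rw [h, map_mul, map_pow]
      exact mul_mem (pow_mem hcen_r 2) hcen_a
    · rw [h, map_pow]
      exact pow_mem hcen_r 3
    · rw [h, map_mul, map_pow]
      exact mul_mem (pow_mem hcen_r 3) hcen_a
  have hτc : π τ ∈ Subgroup.centralizer {π c} := by
    have h1 : τ = ρ * (ρ⁻¹ * τ) := by group
    rw [h1, map_mul]
    exact mul_mem hρc (hcen_A _ hρτ)
  rw [← hker, map_mul, map_mul, map_mul, map_inv, map_inv]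
  have h := Subgroup.mem_centralizer_iff.mp hτc (π c) rfl
  rw [h]
  group

end Cfsg.Agent.Lib.helper17.S3174
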