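import Mathlib

/-!
# S3174 piece MB2 (helper17): `card_le_of_K0`
-/

set_option autoImplicit false

namespace Cfsg.Agent.Lib.helper17.S3174

/-- the image of a normal subgroup under an inner automorphism -/
theorem map_conj_normal {T : Type*} [Group T] (W : Subgroup T) [W.Normal] (ρ : T) :
    W.map (MulAut.conj ρ).toMonoidHom = W := by
  ext x
  rw [Subgroup.mem_map]
  constructor
  · rintro ⟨y, hy, rfl⟩
    exact Subgroup.Normal.conj_mem inferInstance y hy ρ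
  · intro hx
    refine ⟨ρ⁻¹ * x * ρ, ?_, ?_⟩
    · have := Subgroup.Normal.conj_mem (inferInstance : W.Normal) x hx ρ⁻¹
      rwa [inv_inv] at this
    · show ρ * (ρ⁻¹ * x * ρ) * ρ⁻¹ = x
      group

/-- the conjugate `{w | ρ w ρ⁻¹ ∈ K0}` of an index-two subgroup of a normal subgroup `W` has
relative index two in `W` -/
theorem relIndex_conj_two {T : Type*} [Group T] [Finite T] (W K0 : Subgroup T) [W.Normal]
    (hKW : K0 ≤ W) (hK2 : Nat.card ↥W = 2 * Nat.card ↥K0) (ρ : T) :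
    (K0.comap (MulAut.conj ρ).toMonoidHom).relIndex W = 2 := by
  rw [Subgroup.relIndex_comap, map_conj_normal]
  have h := Subgroup.relIndex_mul_relIndex (⊥ : Subgroup T) K0 W bot_le hKW
  rw [Subgroup.relIndex_bot_left, Subgroup.relIndex_bot_left, hK2] at h
  have hpos : 0 < Nat.card ↥K0 := Nat.card_pos
  have h2 : Nat.card ↥K0 * K0.relIndex W = Nat.card ↥K0 * 2 := by rw [h, mul_comm]
  exact Nat.eq_of_mul_eq_mul_left hpos h2

/-- MB2 -/
theorem card_le_of_K0 {T : Type*} [Group T] [Finite T] (W N K0 : Subgroup T) [W.Normal] (hidx : W.index ≤ 8)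
    (hNW : N ≤ W) (hcomm : ∀ x ∈ W, ∀ y ∈ W, x * y * x⁻¹ * y⁻¹ ∈ N) (hNK : N ≤ K0) (hKW : K0 ≤ W)
    (hK2 : Nat.card ↥W = 2 * Nat.card ↥K0) (hcore : ∀ w ∈ W, (∀ τ : T, τ * w * τ⁻¹ ∈ K0) → w ∈ N) :
    Nat.card ↥W ≤ 2 ^ 8 * Nat.card ↥N := by
  classical
  obtain ⟨f, hf⟩ : ∃ f : T ⧸ W → Subgroup T,
      f = fun q => K0.comap (MulAut.conj (Quotient.out q)).toMonoidHom := ⟨_, rfl⟩
  have hfin : Fintype (T ⧸ W) := Fintype.ofFinite _
  have hrel : ∀ q, (f q).relIndex W = 2 := by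
    intro q
    rw [hf]
    exact relIndex_conj_two W K0 hKW hK2 _
  have hJ : (⨅ q, f q).relIndex W ≤ 2 ^ 8 := by
    refine (Subgroup.relIndex_iInf_le f).trans ?_
    simp only [hrel]
    rw [Finset.prod_const, Finset.card_univ]
    apply Nat.pow_le_pow_right (by norm_num)
    rw [← Nat.card_eq_fintype_card]
    exact hidx
  have hJN : (⨅ q, f q) ⊓ W ≤ N := by
    intro w hw
    obtain ⟨hw1, hw2⟩ := Subgroup.mem_inf.mp hw
    apply hcore w hw2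
    intro τ
    obtain ⟨h, hh⟩ := QuotientGroup.mk_out_eq_mul W τ
    have h1 := Subgroup.mem_iInf.mp hw1 (QuotientGroup.mk τ)
    rw [hf] at h1
    have h2 : Quotient.out (QuotientGroup.mk τ : T ⧸ W) * w *
        (Quotient.out (QuotientGroup.mk τ : T ⧸ W))⁻¹ ∈ K0 := h1
    rw [hh] at h2
    -- x := τ h w h⁻¹ τ⁻¹ ∈ K0 ; τ w τ⁻¹ = u x u⁻¹ with u = τ h⁻¹ τ⁻¹
    have hu : τ * (h : T)⁻¹ * τ⁻¹ ∈ W :=
      Subgroup.Normal.conj_mem inferInstance _ (Subgroup.inv_mem _ h.2) τ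
    have hxW : τ * ↑h * w * (τ * ↑h)⁻¹ ∈ W :=
      Subgroup.Normal.conj_mem inferInstance _ hw2 _
    have h3 := hcomm _ hu _ hxW
    have h4 := Subgroup.mul_mem _ (hNK h3) h2
    have h5 : τ * (h : T)⁻¹ * τ⁻¹ * (τ * ↑h * w * (τ * ↑h)⁻¹) * (τ * (h : T)⁻¹ * τ⁻¹)⁻¹ *
        (τ * ↑h * w * (τ * ↑h)⁻¹)⁻¹ * (τ * ↑h * w * (τ * ↑h)⁻¹) = τ * w * τ⁻¹ := by group
    rw [h5] at h4
    exact h4
  have h1 := Subgroup.relIndex_mul_relIndex (⊥ : Subgroup T) ((⨅ q, f q) ⊓ W) W bot_le inf_le_right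
  rw [Subgroup.relIndex_bot_left, Subgroup.relIndex_bot_left, Subgroup.inf_relIndex_right] at h1
  rw [← h1]
  calc Nat.card ↥((⨅ q, f q) ⊓ W) * (⨅ q, f q).relIndex W
      ≤ Nat.card ↥N * 2 ^ 8 := Nat.mul_le_mul (Subgroup.card_le_of_le hJN) hJ
    _ = 2 ^ 8 * Nat.card ↥N := mul_comm _ _

end Cfsg.Agent.Lib.helper17.S3174
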