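import Mathlib
import Cfsg.Agent.Lib.helper17.S3174MB2

/-!
# S3174 piece GEN (helper17): `exists_w0`
-/

set_option autoImplicit false

namespace Cfsg.Agent.Lib.helper17.S3174

/-- GEN -/
theorem exists_w0 {T : Type*} [Group T] [Finite T] (W Z3 K0 : Subgroup T) [W.Normal] [Z3.Normal]
    (hZ3W : Z3 ≤ W) (hcomm : ∀ x ∈ W, ∀ y ∈ W, x * y * x⁻¹ * y⁻¹ ∈ Z3) (hsq : ∀ x ∈ W, x ^ 2 ∈ Z3)
    (hZK : Z3 ≤ K0) (hKW : K0 ≤ W) (hK2 : Nat.card ↥W = 2 * Nat.card ↥K0)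
    (hcore : ∀ w ∈ W, (∀ τ : T, τ * w * τ⁻¹ ∈ K0) → w ∈ Z3)
    (hcard : Nat.card ↥W = 2 ^ 8 * Nat.card ↥Z3)
    (a r : T)
    (hrep : ∀ τ : T, ∃ ρ ∈ ({1, a, r, r * a, r ^ 2, r ^ 2 * a, r ^ 3, r ^ 3 * a} : Set T), ρ⁻¹ * τ ∈ W) :
    ∃ w₀ ∈ W, r ^ 2 * ((w₀ * (a * w₀ * a⁻¹)) * (r * (w₀ * (a * w₀ * a⁻¹)) * r⁻¹)) * (r ^ 2)⁻¹ *
        ((w₀ * (a * w₀ * a⁻¹)) * (r * (w₀ * (a * w₀ * a⁻¹)) * r⁻¹))⁻¹ ∉ Z3 := by
  classical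
  have hJ : (⨅ i : Fin 7, K0.comap (MulAut.conj
      (![a, r, r * a, r ^ 2, r ^ 2 * a, r ^ 3, r ^ 3 * a] i)).toMonoidHom).relIndex W ≤ 2 ^ 7 := by
    refine (Subgroup.relIndex_iInf_le _).trans ?_
    simp only [relIndex_conj_two W K0 hKW hK2]
    simp
  obtain ⟨J, hJdef⟩ : ∃ J : Subgroup T, J = ⨅ i : Fin 7, K0.comap (MulAut.conj
      (![a, r, r * a, r ^ 2, r ^ 2 * a, r ^ 3, r ^ 3 * a] i)).toMonoidHom := ⟨_, rfl⟩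
  rw [← hJdef] at hJ
  have hmem : ∀ w ∈ J, ∀ i : Fin 7,
      (![a, r, r * a, r ^ 2, r ^ 2 * a, r ^ 3, r ^ 3 * a] i) * w *
        (![a, r, r * a, r ^ 2, r ^ 2 * a, r ^ 3, r ^ 3 * a] i)⁻¹ ∈ K0 := by
    intro w hw i
    rw [hJdef] at hw
    exact Subgroup.mem_iInf.mp hw i
  obtain ⟨w₀, hw₀J, hw₀K⟩ : ∃ w₀ ∈ J ⊓ W, w₀ ∉ K0 := by
    by_contra hcon
    push Not at hcon
    have hJZ : J ⊓ W ≤ Z3 := by
      intro w hw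
      obtain ⟨hw1, hw2⟩ := Subgroup.mem_inf.mp hw
      apply hcore w hw2
      intro τ
      obtain ⟨ρ, hρ, hρτ⟩ := hrep τ
      have hρw : ρ * w * ρ⁻¹ ∈ K0 := by
        simp only [Set.mem_insert_iff, Set.mem_singleton_iff] at hρ
        rcases hρ with h | h | h | h | h | h | h | h
        · rw [h]
          simpa using hcon w hw
        · rw [h]
          exact hmem w hw1 0
        · rw [h]
          exact hmem w hw1 1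
        · rw [h]
          exact hmem w hw1 2
        · rw [h]
          exact hmem w hw1 3
        · rw [h]
          exact hmem w hw1 4
        · rw [h]
          exact hmem w hw1 5
        · rw [h]
          exact hmem w hw1 6
      have h1 : ρ * ((ρ⁻¹ * τ) * w * (ρ⁻¹ * τ)⁻¹ * w⁻¹) * ρ⁻¹ ∈ Z3 :=
        Subgroup.Normal.conj_mem inferInstance _ (hcomm _ hρτ _ hw2) ρ
      have h2 := Subgroup.mul_mem _ (hZK h1) hρw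
      have h3 : ρ * ((ρ⁻¹ * τ) * w * (ρ⁻¹ * τ)⁻¹ * w⁻¹) * ρ⁻¹ * (ρ * w * ρ⁻¹) = τ * w * τ⁻¹ := by
        group
      rw [h3] at h2
      exact h2
    have h1 := Subgroup.relIndex_mul_relIndex (⊥ : Subgroup T) (J ⊓ W) W bot_le inf_le_right
    rw [Subgroup.relIndex_bot_left, Subgroup.relIndex_bot_left, Subgroup.inf_relIndex_right] at h1
    have h2 := Subgroup.card_le_of_le hJZ
    have h3 : 0 < Nat.card ↥Z3 := Nat.card_pos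
    have h4 : Nat.card ↥(J ⊓ W) * J.relIndex W ≤ Nat.card ↥Z3 * 2 ^ 7 := Nat.mul_le_mul h2 hJ
    rw [h1, hcard] at h4
    norm_num at h4
    omega
  obtain ⟨hw1, hw2⟩ := Subgroup.mem_inf.mp hw₀J
  refine ⟨w₀, hw2, ?_⟩
  intro hc
  apply hw₀K
  have hcK := hZK hc
  have e : w₀ = (r ^ 2 * ((w₀ * (a * w₀ * a⁻¹)) * (r * (w₀ * (a * w₀ * a⁻¹)) * r⁻¹)) * (r ^ 2)⁻¹ *
        ((w₀ * (a * w₀ * a⁻¹)) * (r * (w₀ * (a * w₀ * a⁻¹)) * r⁻¹))⁻¹)⁻¹ *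
      (r ^ 2 * w₀ * (r ^ 2)⁻¹ * ((r ^ 2 * a) * w₀ * (r ^ 2 * a)⁻¹) * (r ^ 3 * w₀ * (r ^ 3)⁻¹) *
        ((r ^ 3 * a) * w₀ * (r ^ 3 * a)⁻¹)) *
      (a * w₀ * a⁻¹ * (r * w₀ * r⁻¹) * ((r * a) * w₀ * (r * a)⁻¹))⁻¹ := by
    group
  rw [e]
  exact mul_mem (mul_mem (inv_mem hcK) (mul_mem (mul_mem (mul_mem (hmem w₀ hw1 3) (hmem w₀ hw1 4))
    (hmem w₀ hw1 5)) (hmem w₀ hw1 6)))
    (inv_mem (mul_mem (mul_mem (hmem w₀ hw1 0) (hmem w₀ hw1 1)) (hmem w₀ hw1 2)))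

end Cfsg.Agent.Lib.helper17.S3174
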