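import Mathlib

/-!
# S3174 piece UCS (helper17): `ucs_cards`
-/

set_option autoImplicit false

namespace Cfsg.Agent.Lib.helper17.S3174

/-- a proper term of the upper central series of a finite `2`-group grows strictly -/
theorem ucs_step_lt {T : Type*} [Group T] [Finite T] (hT : IsPGroup 2 T) (i : ℕ)
    (hi : Subgroup.upperCentralSeries T i ≠ ⊤) :
    Nat.card ↥(Subgroup.upperCentralSeries T i) < Nat.card ↥(Subgroup.upperCentralSeries T (i + 1)) := by
  classical
  have hle : Subgroup.upperCentralSeries T i ≤ Subgroup.upperCentralSeries T (i + 1) :=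
    Subgroup.upperCentralSeries_mono T (Nat.le_succ i)
  have : Nontrivial (T ⧸ Subgroup.upperCentralSeries T i) := by
    rw [← not_subsingleton_iff_nontrivial]
    intro h
    exact hi (QuotientGroup.subgroup_eq_top_of_subsingleton _ h)
  have : Nontrivial (Subgroup.center (T ⧸ Subgroup.upperCentralSeries T i)) :=
    (hT.to_quotient (Subgroup.upperCentralSeries T i)).center_nontrivial
  obtain ⟨q, hq⟩ := exists_ne (1 : Subgroup.center (T ⧸ Subgroup.upperCentralSeries T i))
  obtain ⟨x, hx⟩ := QuotientGroup.mk_surjective (q : T ⧸ Subgroup.upperCentralSeries T i)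
  have hx1 : x ∈ Subgroup.upperCentralSeries T (i + 1) := by
    rw [Subgroup.mem_upperCentralSeries_succ_iff]
    intro y
    rw [← QuotientGroup.eq_one_iff, commutatorElement_def]
    have hc := Subgroup.mem_center_iff.mp q.2 (y : T ⧸ Subgroup.upperCentralSeries T i)
    rw [← hx] at hc
    rw [QuotientGroup.mk_mul, QuotientGroup.mk_mul, QuotientGroup.mk_mul, QuotientGroup.mk_inv,
      QuotientGroup.mk_inv, ← hc, mul_inv_cancel_right, mul_inv_cancel]
  have hx2 : x ∉ Subgroup.upperCentralSeries T i := by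
    intro h
    apply hq
    apply Subtype.ext
    rw [← hx]
    exact (QuotientGroup.eq_one_iff x).mpr h
  by_contra hcon
  have heq := Subgroup.eq_of_le_of_card_ge hle (not_lt.mp hcon)
  rw [heq] at hx2
  exact hx2 hx1

/-- UCS -/
theorem ucs_cards {T : Type*} [Group T] [Finite T] (hT : IsPGroup 2 T) (ha : 2 ^ 14 ≤ Nat.card T)
    (hb : Nat.card ↥(Subgroup.upperCentralSeries T 4) = 16) :
    Nat.card ↥(Subgroup.upperCentralSeries T 1) = 2 ∧ Nat.card ↥(Subgroup.upperCentralSeries T 2) = 4 ∧
    Nat.card ↥(Subgroup.upperCentralSeries T 3) = 8 := by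
  classical
  have : Fact (Nat.Prime 2) := ⟨Nat.prime_two⟩
  have hne : ∀ i, i ≤ 4 → Subgroup.upperCentralSeries T i ≠ ⊤ := by
    intro i hi h
    have h1 : Nat.card ↥(Subgroup.upperCentralSeries T i) ≤ Nat.card ↥(Subgroup.upperCentralSeries T 4) :=
      Subgroup.card_le_of_le (Subgroup.upperCentralSeries_mono T hi)
    rw [h, Subgroup.card_top, hb] at h1
    omega
  have h0 : Nat.card ↥(Subgroup.upperCentralSeries T 0) = 1 := by
    rw [Subgroup.upperCentralSeries_zero, Subgroup.card_bot]
  have s0 := ucs_step_lt hT 0 (hne 0 (by norm_num))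
  have s1 := ucs_step_lt hT 1 (hne 1 (by norm_num))
  have s2 := ucs_step_lt hT 2 (hne 2 (by norm_num))
  have s3 := ucs_step_lt hT 3 (hne 3 (by norm_num))
  obtain ⟨a, ha1⟩ := IsPGroup.iff_card.mp (hT.to_subgroup (Subgroup.upperCentralSeries T 1))
  obtain ⟨b, hb1⟩ := IsPGroup.iff_card.mp (hT.to_subgroup (Subgroup.upperCentralSeries T 2))
  obtain ⟨c, hc1⟩ := IsPGroup.iff_card.mp (hT.to_subgroup (Subgroup.upperCentralSeries T 3))
  simp only [zero_add, Nat.reduceAdd] at s0 s1 s2 s3
  rw [h0, ha1] at s0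
  rw [ha1, hb1] at s1
  rw [hb1, hc1] at s2
  rw [hc1, hb, show (16 : ℕ) = 2 ^ 4 by norm_num] at s3
  rw [ha1, hb1, hc1]
  have e0 : 0 < a := by
    rw [show (1 : ℕ) = 2 ^ 0 by norm_num] at s0
    exact (Nat.pow_lt_pow_iff_right (by norm_num)).mp s0
  have e1 : a < b := (Nat.pow_lt_pow_iff_right (by norm_num)).mp s1
  have e2 : b < c := (Nat.pow_lt_pow_iff_right (by norm_num)).mp s2
  have e3 : c < 4 := (Nat.pow_lt_pow_iff_right (by norm_num)).mp s3
  have ea : a = 1 := by omega
  have eb : b = 2 := by omega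
  have ec : c = 3 := by omega
  subst ea eb ec
  norm_num

end Cfsg.Agent.Lib.helper17.S3174
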