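import Mathlib
import Cfsg.Agent.Lib.helper39.S3174FP

/-!
# S3175 piece ODD3 (helper17): `odd_aut_W`
-/

set_option autoImplicit false

namespace Cfsg.Agent.Lib.helper17.S3175

/-- ODD3 -/
theorem odd_aut_W {T : Type*} [Group T] [Finite T] (hT : IsPGroup 2 T) (W Z3 Z4 : Subgroup T) [W.Normal] [Z3.Normal]
    (hZ3W : Z3 ≤ W) (hcomm : ∀ x ∈ W, ∀ y ∈ W, x * y * x⁻¹ * y⁻¹ ∈ Z3) (hZ34 : Z3 ≤ Z4)
    (hZ4 : Nat.card ↥Z4 = 2 * Nat.card ↥Z3)
    (hfix : ∀ v : T, (∀ τ : T, v * τ * v⁻¹ * τ⁻¹ ∈ Z3) → v ∈ Z4)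
    (φ : MulAut T) (n : ℕ) (hn : Odd n) (hφ : φ ^ n = 1)
    (hφW : ∀ w ∈ W, φ w ∈ W) (hφ3 : ∀ z ∈ Z3, φ z ∈ Z3) (hφ4 : ∀ z ∈ Z4, φ z ∈ Z4)
    (hφT : ∀ t : T, φ t * t⁻¹ ∈ W) : ∀ w ∈ W, φ w * w⁻¹ ∈ Z3 := by
  classical
  obtain ⟨π, hπ⟩ : ∃ π : T →* T ⧸ Z3, π = QuotientGroup.mk' Z3 := ⟨_, rfl⟩
  have hker : ∀ x : T, π x = 1 ↔ x ∈ Z3 := by
    intro x
    rw [hπ]
    exact QuotientGroup.eq_one_iff x
  have hAc : ∀ x ∈ W, ∀ y ∈ W, π x * π y = π y * π x := by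
    intro x hx y hy
    have h := (hker _).mpr (hcomm x hx y hy)
    rw [map_mul, map_mul, map_mul, map_inv, map_inv] at h
    have h2 : π x * π y = (π x * π y * (π x)⁻¹ * (π y)⁻¹) * (π y * π x) := by group
    rw [h2, h, one_mul]
  have hφπ : ∀ x y : T, π x = π y → π (φ x) = π (φ y) := by
    intro x y hxy
    have h1 : x * y⁻¹ ∈ Z3 := by
      rw [← hker, map_mul, map_inv, hxy, mul_inv_cancel]
    have h2 := (hker _).mpr (hφ3 _ h1)
    rw [map_mul φ, map_inv φ, map_mul, map_inv] at h2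
    exact mul_inv_eq_one.mp h2
  obtain ⟨M, hM⟩ : ∃ M : Subgroup T, ∀ m, m ∈ M ↔ (m ∈ W ∧ ∃ w ∈ W, π m = π (φ w * w⁻¹)) :=
    ⟨{ carrier := {m | m ∈ W ∧ ∃ w ∈ W, π m = π (φ w * w⁻¹)}
       mul_mem' := by
        rintro m1 m2 ⟨h1, w1, hw1, e1⟩ ⟨h2, w2, hw2, e2⟩
        refine ⟨mul_mem h1 h2, w1 * w2, mul_mem hw1 hw2, ?_⟩
        rw [map_mul, e1, e2, map_mul φ, mul_inv_rev]
        have hc := hAc (φ w2 * w2⁻¹) (mul_mem (hφW _ hw2) (inv_mem hw2)) (w1⁻¹) (inv_mem hw1)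
        calc π (φ w1 * w1⁻¹) * π (φ w2 * w2⁻¹)
            = π (φ w1) * (π w1⁻¹ * π (φ w2 * w2⁻¹)) := by rw [map_mul, mul_assoc]
          _ = π (φ w1) * (π (φ w2 * w2⁻¹) * π w1⁻¹) := by rw [hc]
          _ = π (φ w1 * φ w2 * (w2⁻¹ * w1⁻¹)) := by simp only [map_mul, mul_assoc]
       one_mem' := ⟨one_mem _, 1, one_mem _, by simp⟩
       inv_mem' := by
        rintro m ⟨h1, w1, hw1, e1⟩
        refine ⟨inv_mem h1, w1⁻¹, inv_mem hw1, ?_⟩
        rw [map_inv, e1, map_inv φ, inv_inv]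
        have hc := hAc w1 hw1 (φ w1)⁻¹ (inv_mem (hφW _ hw1))
        rw [map_mul, mul_inv_rev, ← map_inv, ← map_inv, inv_inv, hc, map_mul] },
      fun m => Iff.rfl⟩
  have hZM : Z3 ≤ M := by
    intro z hz
    rw [hM]
    exact ⟨hZ3W hz, 1, one_mem _, by rw [(hker z).mpr hz]; simp⟩
  have hMn : M.Normal := by
    constructor
    intro m hm τ
    rw [hM] at hm ⊢
    obtain ⟨h1, w, hw, e⟩ := hm
    obtain ⟨σ, hσ⟩ : ∃ σ, σ = φ.symm τ := ⟨_, rfl⟩
    have hφσ : φ σ = τ := by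
      rw [hσ]
      exact φ.apply_symm_apply τ
    refine ⟨Subgroup.Normal.conj_mem inferInstance m h1 τ, σ * w * σ⁻¹,
      Subgroup.Normal.conj_mem inferInstance w hw _, ?_⟩
    have hu : τ * σ⁻¹ ∈ W := by
      have := hφT σ
      rwa [hφσ] at this
    rw [map_mul φ, map_mul φ, map_inv φ, hφσ]
    have hx : σ * w⁻¹ * σ⁻¹ ∈ W := Subgroup.Normal.conj_mem inferInstance _ (inv_mem hw) σ
    have hc := hAc _ hu _ hx
    have e2 : π (τ * w⁻¹ * τ⁻¹) = π (σ * w⁻¹ * σ⁻¹) := by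
      have h3 : τ * w⁻¹ * τ⁻¹ = (τ * σ⁻¹) * (σ * w⁻¹ * σ⁻¹) * (τ * σ⁻¹)⁻¹ := by group
      rw [h3, map_mul, map_mul, hc, map_inv, mul_inv_cancel_right]
    calc π (τ * m * τ⁻¹) = π τ * π m * (π τ)⁻¹ := by simp only [map_mul, map_inv]
      _ = π τ * π (φ w * w⁻¹) * (π τ)⁻¹ := by rw [e]
      _ = π (τ * φ w * τ⁻¹) * π (τ * w⁻¹ * τ⁻¹) := by
        simp only [map_mul, map_inv]
        group
      _ = π (τ * φ w * τ⁻¹) * π (σ * w⁻¹ * σ⁻¹) := by rw [e2]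
      _ = π (τ * φ w * τ⁻¹ * (σ * w * σ⁻¹)⁻¹) := by
        simp only [map_mul, map_inv, mul_inv_rev, inv_inv, mul_assoc]
  have hMZ : M ≤ Z3 := by
    by_contra hcon
    have hlt : Z3 < M := lt_of_le_of_ne hZM (fun h => hcon (h ▸ le_refl _))
    obtain ⟨v, hvM, hvZ, hvT⟩ := Cfsg.Agent.Lib.helper39.S3174.exists_fixed_mod hT Z3 M hlt
    have hv4 : v ∈ Z4 := hfix v hvT
    rw [hM] at hvM
    obtain ⟨hvW, w, hw, e⟩ := hvM
    have hidx : (Z3.subgroupOf Z4).index = 2 := by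
      have h := Subgroup.relIndex_mul_relIndex (⊥ : Subgroup T) Z3 Z4 bot_le hZ34
      rw [Subgroup.relIndex_bot_left, Subgroup.relIndex_bot_left, hZ4] at h
      have hpos : 0 < Nat.card ↥Z3 := Nat.card_pos
      have h2 : Nat.card ↥Z3 * Z3.relIndex Z4 = Nat.card ↥Z3 * 2 := by rw [h, mul_comm]
      exact Nat.eq_of_mul_eq_mul_left hpos h2
    have hmul : ∀ x ∈ Z4, ∀ y ∈ Z4, x ∉ Z3 → y ∉ Z3 → x * y ∈ Z3 := by
      intro x hx y hy hx3 hy3
      have h := (Subgroup.mul_mem_iff_of_index_two hidx (a := ⟨x, hx⟩) (b := ⟨y, hy⟩))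
      simp only [Subgroup.mem_subgroupOf] at h
      exact h.mpr ⟨fun h => absurd h hx3, fun h => absurd h hy3⟩
    have hpow3 : ∀ j : ℕ, ∀ z ∈ Z3, (φ ^ j) z ∈ Z3 := by
      intro j
      induction j with
      | zero =>
        intro z hz
        simpa using hz
      | succ j ih =>
        intro z hz
        rw [pow_succ', MulAut.mul_apply]
        exact hφ3 _ (ih z hz)
    have hφv3 : φ v ∉ Z3 := by
      intro h
      apply hvZ
      obtain ⟨k, hk⟩ := hn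
      have h1 := hpow3 (2 * k) (φ v) h
      have h2 : (φ ^ (2 * k)) (φ v) = v := by
        have h3 : (φ ^ n) v = v := by
          rw [hφ]
          rfl
        rw [hk, pow_succ, MulAut.mul_apply] at h3
        exact h3
      rwa [h2] at h1
    have hv2 : π v * π v = 1 := by
      rw [← map_mul, hker]
      exact hmul v hv4 v hv4 hvZ hvZ
    have hφv : π (φ v) = π v := by
      have h1 := hmul (φ v) (hφ4 v hv4) v⁻¹ (inv_mem hv4) hφv3
        (fun h => hvZ (by simpa using inv_mem h))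
      have h2 := (hker _).mpr h1
      rw [map_mul, map_inv] at h2
      exact mul_inv_eq_one.mp h2
    have hφw : π (φ w) = π v * π w := by
      rw [e, map_mul, map_inv, inv_mul_cancel_right]
    have hiter : ∀ j : ℕ, π ((φ ^ j) w) = π v ^ j * π w := by
      intro j
      induction j with
      | zero => simp
      | succ j ih =>
        rw [pow_succ', MulAut.mul_apply]
        have h1 : π ((φ ^ j) w) = π (v ^ j * w) := by rw [ih, map_mul, map_pow]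
        rw [hφπ _ _ h1, map_mul φ, map_pow φ, map_mul, map_pow, hφv, hφw, ← mul_assoc, ← pow_succ]
    have hn1 := hiter n
    rw [hφ] at hn1
    have hvn : π v ^ n = 1 := by
      have h3 : π v ^ n * π w = π w := hn1.symm
      exact mul_eq_right.mp h3
    obtain ⟨k, hk⟩ := hn
    have hv1 : π v = 1 := by
      rw [hk, pow_succ, pow_mul, pow_two, hv2, one_pow, one_mul] at hvn
      exact hvn
    exact hvZ ((hker v).mp hv1)
  intro w hw
  apply hMZ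
  rw [hM]
  exact ⟨mul_mem (hφW w hw) (inv_mem hw), w, hw, rfl⟩

end Cfsg.Agent.Lib.helper17.S3175
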