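import Mathlib
import Cfsg.Agent.Lib.helper17.S3175ODD3
import Cfsg.Agent.Lib.helper52.S3175STEP

/-!
# S3175 piece ODD, core (helper17): `odd_aut_trivial_core` (ODD1 as a hypothesis)
-/

set_option autoImplicit false

namespace Cfsg.Agent.Lib.helper17.S3175

/-- ODD with the conclusion of ODD1 as a hypothesis -/
theorem odd_aut_trivial_core {T : Type*} [Group T] [Finite T] (hT : IsPGroup 2 T)
    (h3 : Nat.card ↥(Subgroup.upperCentralSeries T 3) = 8) (h4 : Nat.card ↥(Subgroup.upperCentralSeries T 4) = 16)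
    (hZ3W : Subgroup.upperCentralSeries T 3 ≤
      Subgroup.centralizer ((Subgroup.upperCentralSeries T 3 : Subgroup T) : Set T))
    (hcomm : ∀ x ∈ Subgroup.centralizer ((Subgroup.upperCentralSeries T 3 : Subgroup T) : Set T),
      ∀ y ∈ Subgroup.centralizer ((Subgroup.upperCentralSeries T 3 : Subgroup T) : Set T),
      x * y * x⁻¹ * y⁻¹ ∈ Subgroup.upperCentralSeries T 3)
    (φ : MulAut T) (n : ℕ) (hn : Odd n) (hφ : φ ^ n = 1)
    (hODD1 : ∀ z ∈ Subgroup.upperCentralSeries T 3, φ z = z) : φ = 1 := by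
  classical
  have hφT : ∀ t : T, φ t * t⁻¹ ∈
      Subgroup.centralizer ((Subgroup.upperCentralSeries T 3 : Subgroup T) : Set T) := by
    intro t
    rw [Subgroup.mem_centralizer_iff]
    intro z hz
    have hz' : t⁻¹ * z * t ∈ Subgroup.upperCentralSeries T 3 := by
      have := Subgroup.Normal.conj_mem (inferInstance : (Subgroup.upperCentralSeries T 3).Normal)
        z hz t⁻¹
      rwa [inv_inv] at this
    have e1 : φ (t * (t⁻¹ * z * t) * t⁻¹) = t * (t⁻¹ * z * t) * t⁻¹ := by
      apply hODD1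
      have h5 : t * (t⁻¹ * z * t) * t⁻¹ = z := by group
      rw [h5]
      exact hz
    rw [map_mul φ, map_mul φ, hODD1 _ hz', map_inv φ] at e1
    -- e1 : φ t * (t⁻¹ * z * t) * (φ t)⁻¹ = t * (t⁻¹ * z * t) * t⁻¹
    have e2 : φ t * t⁻¹ * z = (φ t * (t⁻¹ * z * t) * (φ t)⁻¹) * (φ t * t⁻¹) := by group
    rw [e2, e1]
    group
  have hφW : ∀ w ∈ Subgroup.centralizer ((Subgroup.upperCentralSeries T 3 : Subgroup T) : Set T),
      φ w ∈ Subgroup.centralizer ((Subgroup.upperCentralSeries T 3 : Subgroup T) : Set T) := by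
    intro w hw
    rw [Subgroup.mem_centralizer_iff] at hw ⊢
    intro z hz
    have h5 := hw z hz
    have h6 := congrArg φ h5
    rw [map_mul φ, map_mul φ, hODD1 z hz] at h6
    exact h6
  have hφ4 : ∀ z ∈ Subgroup.upperCentralSeries T 4, φ z ∈ Subgroup.upperCentralSeries T 4 := by
    intro z hz
    have h5 := (inferInstance : (Subgroup.upperCentralSeries T 4).Characteristic).fixed φ
    have h6 : z ∈ (Subgroup.upperCentralSeries T 4).comap φ.toMonoidHom := by
      rw [h5]
      exact hz
    exact h6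
  have hW3 := odd_aut_W hT
    (Subgroup.centralizer ((Subgroup.upperCentralSeries T 3 : Subgroup T) : Set T))
    (Subgroup.upperCentralSeries T 3) (Subgroup.upperCentralSeries T 4) hZ3W hcomm
    (Subgroup.upperCentralSeries_mono T (by norm_num)) (by rw [h3, h4])
    (by
      intro v hv
      rw [Subgroup.mem_upperCentralSeries_succ_iff]
      intro y
      rw [commutatorElement_def]
      exact hv y)
    φ n hn hφ hφW (fun z hz => by rw [hODD1 z hz]; exact hz) hφ4 hφT
  have hWfix := Cfsg.Agent.Lib.helper52.S3175.step_fixed hT φ n hn hφ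
    (Subgroup.upperCentralSeries T 3)
    (Subgroup.centralizer ((Subgroup.upperCentralSeries T 3 : Subgroup T) : Set T)) hODD1 hW3
  have hall := Cfsg.Agent.Lib.helper52.S3175.step_fixed hT φ n hn hφ
    (Subgroup.centralizer ((Subgroup.upperCentralSeries T 3 : Subgroup T) : Set T)) ⊤ hWfix
    (fun k _ => hφT k)
  ext t
  exact hall t (Subgroup.mem_top t)

end Cfsg.Agent.Lib.helper17.S3175
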