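import Mathlib
import Cfsg.Agent.Lib.helper17.S3175ODDCore
import Cfsg.Agent.Lib.helper52.S3175ODD1

/-!
# S3175 piece ODD (helper17): `odd_aut_trivial`
-/

set_option autoImplicit false

namespace Cfsg.Agent.Lib.helper17.S3175

/-- ODD -/
theorem odd_aut_trivial {T : Type*} [Group T] [Finite T] (hT : IsPGroup 2 T)
    (h1 : Nat.card ↥(Subgroup.upperCentralSeries T 1) = 2) (h2 : Nat.card ↥(Subgroup.upperCentralSeries T 2) = 4)
    (h3 : Nat.card ↥(Subgroup.upperCentralSeries T 3) = 8) (h4 : Nat.card ↥(Subgroup.upperCentralSeries T 4) = 16)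
    (hZ3W : Subgroup.upperCentralSeries T 3 ≤
      Subgroup.centralizer ((Subgroup.upperCentralSeries T 3 : Subgroup T) : Set T))
    (hcomm : ∀ x ∈ Subgroup.centralizer ((Subgroup.upperCentralSeries T 3 : Subgroup T) : Set T),
      ∀ y ∈ Subgroup.centralizer ((Subgroup.upperCentralSeries T 3 : Subgroup T) : Set T),
      x * y * x⁻¹ * y⁻¹ ∈ Subgroup.upperCentralSeries T 3)
    (φ : MulAut T) (n : ℕ) (hn : Odd n) (hφ : φ ^ n = 1) : φ = 1 :=
  odd_aut_trivial_core hT h3 h4 hZ3W hcomm φ n hn hφ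
    (Cfsg.Agent.Lib.helper52.S3175.odd_aut_fix_Z3 hT h1 h2 h3 φ n hn hφ)

end Cfsg.Agent.Lib.helper17.S3175
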