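import Mathlib
import Cfsg.Agent.Lib.helper39.S3174HYP

/-!
# S3175 piece WC (helper17): `weakly_closed`
-/

set_option autoImplicit false

namespace Cfsg.Agent.Lib.helper17.S3175

/-- the weak closure statement inside the ambient group -/
theorem wc_core {G : Type*} [Group G] [Finite G] (T WG Z : Subgroup G)
    (hidx : WG.relIndex T ≤ 8)
    (hW : ∀ x ∈ T, (∀ z ∈ Z, x * z = z * x) → x ∈ WG)
    (hWc : ∀ x ∈ WG, ∀ z ∈ Z, x * z = z * x)
    (hsq : ∀ x ∈ WG, x ^ 2 ∈ Z) (hcomm : ∀ x ∈ WG, ∀ y ∈ WG, x * y * x⁻¹ * y⁻¹ ∈ Z)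
    (hd : ∀ U : Subgroup G, U ≤ WG → Nat.card ↥WG ≤ 16 * Nat.card ↥U → Z ≤ U)
    (g : G) (hg : WG.map (MulAut.conj g).toMonoidHom ≤ T) :
    WG.map (MulAut.conj g).toMonoidHom = WG := by
  classical
  obtain ⟨c, hc⟩ : ∃ c : G →* G, c = (MulAut.conj g).toMonoidHom := ⟨_, rfl⟩
  rw [← hc] at hg ⊢
  have hinj : Function.Injective c := by
    rw [hc]
    exact (MulAut.conj g).injective
  have hsurj : Function.Surjective c := by
    rw [hc]
    exact (MulAut.conj g).surjective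
  have hcW : Nat.card ↥(WG.map c) = Nat.card ↥WG := Subgroup.card_map_of_injective hinj
  have hcZ : Nat.card ↥(Z.map c) = Nat.card ↥Z := Subgroup.card_map_of_injective hinj
  -- transported `hd`
  have hd1 : ∀ U' : Subgroup G, U' ≤ WG.map c → Nat.card ↥(WG.map c) ≤ 16 * Nat.card ↥U' →
      Z.map c ≤ U' := by
    intro U' hU' hcard
    rw [Subgroup.map_le_iff_le_comap]
    apply hd
    · intro x hx
      obtain ⟨w, hw, hwx⟩ := hU' (Subgroup.mem_comap.mp hx)
      rw [← hinj hwx]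
      exact hw
    · have h1 : Nat.card ↥((U'.comap c).map c) = Nat.card ↥(U'.comap c) :=
        Subgroup.card_map_of_injective hinj
      rw [Subgroup.map_comap_eq_self_of_surjective hsurj] at h1
      rw [← h1, ← hcW]
      exact hcard
  -- D
  have hD8 : Nat.card ↥(WG.map c) ≤ 8 * Nat.card ↥(WG ⊓ WG.map c) := by
    have h1 := Subgroup.relIndex_mul_relIndex (⊥ : Subgroup G) (WG ⊓ WG.map c) (WG.map c) bot_le
      inf_le_right
    rw [Subgroup.relIndex_bot_left, Subgroup.relIndex_bot_left, Subgroup.inf_relIndex_right] at h1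
    have h2 : WG.relIndex (WG.map c) ≤ WG.relIndex T :=
      Subgroup.relIndex_le_of_le_right hg
        (Subgroup.index_ne_zero_of_finite : (WG.subgroupOf T).index ≠ 0)
    rw [← h1, mul_comm]
    exact Nat.mul_le_mul_right _ (h2.trans hidx)
  have hYD : Z.map c ≤ WG ⊓ WG.map c := hd1 _ inf_le_right (by omega)
  have hZD : Z ≤ WG ⊓ WG.map c := hd _ inf_le_left (by omega)
  by_cases hYZ : Z.map c = Z
  · have hle : WG.map c ≤ WG := by
      intro x hx
      apply hW x (hg hx)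
      intro z hz
      rw [← hYZ] at hz
      obtain ⟨w, hw, rfl⟩ := hx
      obtain ⟨z0, hz0, rfl⟩ := hz
      rw [← map_mul, ← map_mul, hWc w hw z0 hz0]
    exact Subgroup.eq_of_le_of_card_ge hle (le_of_eq hcW.symm)
  · exfalso
    obtain ⟨y, hyY, hyZ⟩ : ∃ y ∈ Z.map c, y ∉ Z := by
      by_contra hcon
      push Not at hcon
      exact hYZ (Subgroup.eq_of_le_of_card_ge hcon (le_of_eq hcZ.symm))
    have hsqD : ∀ x ∈ WG ⊓ WG.map c, x ^ 2 ∈ Z ⊓ Z.map c := by
      intro x hx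
      obtain ⟨hx1, hx2⟩ := Subgroup.mem_inf.mp hx
      refine Subgroup.mem_inf.mpr ⟨hsq x hx1, ?_⟩
      obtain ⟨w, hw, rfl⟩ := hx2
      rw [← map_pow]
      exact Subgroup.mem_map_of_mem c (hsq w hw)
    have hcommD : ∀ x ∈ WG ⊓ WG.map c, ∀ y ∈ WG ⊓ WG.map c,
        x * y * x⁻¹ * y⁻¹ ∈ Z ⊓ Z.map c := by
      intro x hx y hy
      obtain ⟨hx1, hx2⟩ := Subgroup.mem_inf.mp hx
      obtain ⟨hy1, hy2⟩ := Subgroup.mem_inf.mp hy
      refine Subgroup.mem_inf.mpr ⟨hcomm x hx1 y hy1, ?_⟩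
      obtain ⟨w, hw, rfl⟩ := hx2
      obtain ⟨w', hw', rfl⟩ := hy2
      rw [← map_inv, ← map_inv, ← map_mul, ← map_mul, ← map_mul]
      exact Subgroup.mem_map_of_mem c (hcomm w hw w' hw')
    obtain ⟨K, -, hKD, hyK, hK2⟩ := Cfsg.Agent.Lib.helper39.S3174.exists_index_two_avoiding
      (WG ⊓ WG.map c) (Z ⊓ Z.map c) (inf_le_left.trans hZD) hsqD hcommD y (hYD hyY)
      (fun h => hyZ (Subgroup.mem_inf.mp h).1)
    exact hyK (hd1 K (hKD.trans inf_le_right) (by omega) hyY)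

/-- WC -/
theorem weakly_closed {G : Type*} [Group G] [Finite G] (T : Subgroup G) (W Z3 : Subgroup ↥T)
    (hZ3W : Z3 ≤ W) (hidx : W.index ≤ 8)
    (hW : ∀ x : ↥T, x ∈ W ↔ ∀ z ∈ Z3, x * z = z * x)
    (hsq : ∀ x ∈ W, x ^ 2 ∈ Z3) (hcomm : ∀ x ∈ W, ∀ y ∈ W, x * y * x⁻¹ * y⁻¹ ∈ Z3)
    (hd : ∀ U : Subgroup ↥T, U ≤ W → Nat.card ↥W ≤ 16 * Nat.card ↥U → Z3 ≤ U) :
    W.map T.subtype ≤ T ∧ ∀ g : G, (W.map T.subtype).map (MulAut.conj g).toMonoidHom ≤ T →
      (W.map T.subtype).map (MulAut.conj g).toMonoidHom = W.map T.subtype := by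
  classical
  refine ⟨Subgroup.map_subtype_le W, ?_⟩
  intro g hg
  have hcW : Nat.card ↥(W.map T.subtype) = Nat.card ↥W :=
    Subgroup.card_map_of_injective (Subgroup.subtype_injective T)
  refine wc_core T (W.map T.subtype) (Z3.map T.subtype) ?_ ?_ ?_ ?_ ?_ ?_ g hg
  · show ((W.map T.subtype).comap T.subtype).index ≤ 8
    rw [Subgroup.comap_map_eq_self_of_injective (Subgroup.subtype_injective T)]
    exact hidx
  · intro x hx hxz
    have h1 : (⟨x, hx⟩ : ↥T) ∈ W := by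
      rw [hW]
      intro z hz
      apply Subtype.ext
      exact hxz z (Subgroup.mem_map_of_mem T.subtype hz)
    exact Subgroup.mem_map_of_mem T.subtype h1
  · rintro _ ⟨w, hw, rfl⟩ _ ⟨z, hz, rfl⟩
    exact congrArg Subtype.val ((hW w).mp hw z hz)
  · rintro _ ⟨w, hw, rfl⟩
    rw [← map_pow]
    exact Subgroup.mem_map_of_mem T.subtype (hsq w hw)
  · rintro _ ⟨w, hw, rfl⟩ _ ⟨w', hw', rfl⟩
    rw [← map_inv, ← map_inv, ← map_mul, ← map_mul, ← map_mul]
    exact Subgroup.mem_map_of_mem T.subtype (hcomm w hw w' hw')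
  · intro U hU hcard
    rw [Subgroup.map_le_iff_le_comap]
    apply hd
    · intro x hx
      obtain ⟨w, hw, hwx⟩ := hU (Subgroup.mem_comap.mp hx)
      rw [← Subgroup.subtype_injective T hwx]
      exact hw
    · have hUT : U ≤ T := hU.trans (Subgroup.map_subtype_le W)
      have h1 : Nat.card ↥(U.comap T.subtype) = Nat.card ↥U :=
        Nat.card_congr (Subgroup.subgroupOfEquivOfLe hUT).toEquiv
      rw [h1, ← hcW]
      exact hcard

end Cfsg.Agent.Lib.helper17.S3175
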