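import Mathlib
import Cfsg.Agent.Lib.helper6.S3313Defs

/-!
S3313 piece S1 (helper17): the count `960 = 15 * 8 * 8` of pairs `(x, y)` in `C(z) = Q:K`.
-/

set_option autoImplicit false

namespace Cfsg.Agent.Lib.helper17.S3313

open Cfsg.Agent.Lib.helper6.S3313

variable {G : Type*} [Group G]

theorem s1_K1 {z : G} {Q K : Subgroup G} (h : QK z Q K) (q k : G) (hq : q ∈ Q) (hk : k ∈ K)
    (hqk : q * k ∈ Q) : k = 1 := by
  apply h.K_inf k hk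
  have : k = q⁻¹ * (q * k) := by group
  rw [this]
  exact Q.mul_mem (Q.inv_mem hq) hqk

theorem s1_K2 {z : G} {Q K : Subgroup G} (h : QK z Q K) (q q' k k' : G) (hq : q ∈ Q)
    (hq' : q' ∈ Q) (hk : k ∈ K) (hk' : k' ∈ K) (heq : q * k = q' * k') : q = q' ∧ k = k' := by
  have h1 : q'⁻¹ * q = k' * k⁻¹ := by
    calc q'⁻¹ * q = q'⁻¹ * (q * k) * k⁻¹ := by group
      _ = q'⁻¹ * (q' * k') * k⁻¹ := by rw [heq]
      _ = k' * k⁻¹ := by group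
  have h2 : k' * k⁻¹ = 1 := by
    apply h.K_inf _ (K.mul_mem hk' (K.inv_mem hk))
    rw [← h1]
    exact Q.mul_mem (Q.inv_mem hq') hq
  have h3 : k' = k := by
    calc k' = k' * k⁻¹ * k := by group
      _ = k := by rw [h2, one_mul]
  have h4 : q'⁻¹ * q = 1 := by rw [h1, h2]
  have h5 : q = q' := by
    calc q = q' * (q'⁻¹ * q) := by group
      _ = q' := by rw [h4, mul_one]
  exact ⟨h5, h3.symm⟩

theorem s1_K3 {z : G} {Q K : Subgroup G} (h : QK z Q K) (q k : G) (hq : q ∈ Q) (hk : k ∈ K)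
    (hqk : (q * k) ^ 2 = 1) : k ^ 2 = 1 := by
  apply h.K_inf _ (K.pow_mem hk 2)
  have h1 : k ^ 2 = (q * (k * q * k⁻¹))⁻¹ * (q * k) ^ 2 := by
    rw [pow_two, pow_two]
    group
  rw [h1, hqk, mul_one]
  exact Q.inv_mem (Q.mul_mem hq (h.K_norm k hk q hq))

/-- S1 -/
theorem card_pairs_z [Finite G] {z : G} {Q K : Subgroup G} (h : QK z Q K)
    (h15 : Nat.card {k : G // k ∈ K ∧ orderOf k = 2} = 15)
    (hT : ∀ k ∈ K, orderOf k = 2 → Nat.card {q : G // q ∈ Q ∧ (q * k) ^ 2 = 1} = 8)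
    (hN : ∀ k ∈ K, orderOf k = 2 → ∀ w ∈ Q, (w * k) ^ 2 = 1 →
      Nat.card {x : G // x ∈ Q ∧ orderOf x = 2 ∧ z ∈ Subgroup.zpowers (x * (w * k))} = 8) :
    Nat.card {p : G × G // p.1 ∈ Q ∧ orderOf p.1 = 2 ∧ (∃ q ∈ Q, ∃ k ∈ K, p.2 = q * k) ∧
      p.2 ∉ Q ∧ orderOf p.2 = 2 ∧ z ∈ Subgroup.zpowers (p.1 * p.2)} = 960 := by
  classical
  have : Fintype G := Fintype.ofFinite G
  have hprime : Fact (Nat.Prime 2) := ⟨Nat.prime_two⟩
  let f : (Σ k : {k : G // k ∈ K ∧ orderOf k = 2},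
      Σ w : {q : G // q ∈ Q ∧ (q * k.1) ^ 2 = 1},
        {x : G // x ∈ Q ∧ orderOf x = 2 ∧ z ∈ Subgroup.zpowers (x * (w.1 * k.1))}) →
      {p : G × G // p.1 ∈ Q ∧ orderOf p.1 = 2 ∧ (∃ q ∈ Q, ∃ k ∈ K, p.2 = q * k) ∧
        p.2 ∉ Q ∧ orderOf p.2 = 2 ∧ z ∈ Subgroup.zpowers (p.1 * p.2)} := fun s =>
    ⟨(s.2.2.1, s.2.1.1 * s.1.1), by
      obtain ⟨⟨k, hkK, hk2⟩, ⟨w, hwQ, hwk⟩, ⟨x, hxQ, hx2, hxz⟩⟩ := s
      have hk1 : k ≠ 1 := by
        intro hk1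
        rw [hk1, orderOf_one] at hk2
        omega
      have hnot : w * k ∉ Q := fun hmem => hk1 (s1_K1 h w k hwQ hkK hmem)
      refine ⟨hxQ, hx2, ⟨w, hwQ, k, hkK, rfl⟩, hnot, ?_, hxz⟩
      apply orderOf_eq_prime hwk
      intro h1
      apply hnot
      show w * k ∈ Q
      rw [h1]
      exact Q.one_mem⟩
  have hf : Function.Bijective f := by
    constructor
    · rintro ⟨⟨k, hkK, hk2⟩, ⟨w, hwQ, hwk⟩, ⟨x, hxQ, hx2, hxz⟩⟩
        ⟨⟨k', hkK', hk2'⟩, ⟨w', hwQ', hwk'⟩, ⟨x', hxQ', hx2', hxz'⟩⟩ heq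
      have h1 := congrArg Subtype.val heq
      have h2 : x = x' := congrArg Prod.fst h1
      have h3 : w * k = w' * k' := congrArg Prod.snd h1
      obtain ⟨h4, h5⟩ := s1_K2 h w w' k k' hwQ hwQ' hkK hkK' h3
      subst h2
      subst h4
      subst h5
      rfl
    · rintro ⟨⟨x, y⟩, hxQ, hx2, ⟨q, hqQ, k, hkK, hy⟩, hyQ, hy2, hxz⟩
      simp only at hxQ hx2 hy hyQ hy2 hxz
      subst hy
      have hqk2 : (q * k) ^ 2 = 1 := by
        rw [← hy2]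
        exact pow_orderOf_eq_one _
      have hk1 : k ≠ 1 := by
        intro hk1
        apply hyQ
        rw [hk1, mul_one]
        exact hqQ
      have hk2 : orderOf k = 2 := orderOf_eq_prime (s1_K3 h q k hqQ hkK hqk2) hk1
      exact ⟨⟨⟨k, hkK, hk2⟩, ⟨q, hqQ, hqk2⟩, ⟨x, hxQ, hx2, hxz⟩⟩, rfl⟩
  rw [← Nat.card_congr (Equiv.ofBijective f hf), Nat.card_sigma]
  have hinner : ∀ k : {k : G // k ∈ K ∧ orderOf k = 2},
      Nat.card (Σ w : {q : G // q ∈ Q ∧ (q * k.1) ^ 2 = 1},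
        {x : G // x ∈ Q ∧ orderOf x = 2 ∧ z ∈ Subgroup.zpowers (x * (w.1 * k.1))}) = 64 := by
    intro k
    rw [Nat.card_sigma]
    have : ∀ w : {q : G // q ∈ Q ∧ (q * k.1) ^ 2 = 1},
        Nat.card {x : G // x ∈ Q ∧ orderOf x = 2 ∧ z ∈ Subgroup.zpowers (x * (w.1 * k.1))}
          = 8 := fun w => hN k.1 k.2.1 k.2.2 w.1 w.2.1 w.2.2
    rw [Finset.sum_congr rfl (fun w _ => this w), Finset.sum_const, Finset.card_univ,
      ← Nat.card_eq_fintype_card, hT k.1 k.2.1 k.2.2]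
    rfl
  rw [Finset.sum_congr rfl (fun k _ => hinner k), Finset.sum_const, Finset.card_univ,
    ← Nat.card_eq_fintype_card, h15]
  rfl

end Cfsg.Agent.Lib.helper17.S3313
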