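import Mathlib
import Cfsg.Agent.Lib.helper6.S3313Defs

/-!
S3313 piece T1a (helper17): for an involution `k` of `K`, exactly eight elements `q` of `Q` have
`(q * k) ^ 2 = 1`, and `k * q * k⁻¹ = q * z` forces `q ^ 2 = z`.
-/

set_option autoImplicit false

namespace Cfsg.Agent.Lib.helper17.S3313

open Cfsg.Agent.Lib.helper6.S3313

variable {G : Type*} [Group G]

theorem t1a_natcard_filter {α : Type*} [Fintype α] (p : α → Prop) [DecidablePred p] :
    Nat.card {x : α // p x} = (Finset.univ.filter p).card := by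
  rw [Nat.card_eq_fintype_card, Fintype.card_subtype]

/-- T1a -/
theorem card_T [Finite G] {z : G} {Q K : Subgroup G} (h : QK z Q K) (k : G) (hk : k ∈ K)
    (hk2 : orderOf k = 2) :
    Nat.card {q : G // q ∈ Q ∧ (q * k) ^ 2 = 1} = 8 ∧
    ∀ q ∈ Q, k * q * k⁻¹ = q * z → q ^ 2 = z := by
  classical
  have : Fintype G := Fintype.ofFinite G
  have hkk : k ^ 2 = 1 := by
    rw [← hk2]
    exact pow_orderOf_eq_one k
  have hkinv : k⁻¹ = k := by
    rw [inv_eq_iff_mul_eq_one, ← pow_two, hkk]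
  have hzinv : z⁻¹ = z := by
    rw [inv_eq_iff_mul_eq_one, ← pow_two, h.z_sq]
  -- (q k)^2 = 1 iff k inverts q
  have hTiff : ∀ q : G, (q * k) ^ 2 = 1 ↔ k * q * k⁻¹ = q⁻¹ := by
    intro q
    have h1 : (q * k) ^ 2 = q * (k * q * k⁻¹) * k ^ 2 := by
      rw [pow_two, pow_two]
      group
    rw [h1, hkk, mul_one]
    constructor
    · intro h2
      exact (eq_inv_of_mul_eq_one_right h2)
    · intro h2
      rw [h2, mul_inv_cancel]
  set Qf : Finset G := Finset.univ.filter (fun q => q ∈ Q) with hQf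
  set A : Finset G := Finset.univ.filter (fun q => q ∈ Q ∧ q * k = k * q) with hA
  set T : Finset G := Finset.univ.filter (fun q => q ∈ Q ∧ (q * k) ^ 2 = 1) with hT
  set W2 : Finset G := Finset.univ.filter (fun q => q ∈ Q ∧ k * q * k⁻¹ = q * z) with hW2
  have hQcard : Qf.card = 32 := by
    rw [hQf, ← t1a_natcard_filter]
    exact h.card_Q
  have hAcard : A.card = 4 := by
    rw [hA, ← t1a_natcard_filter]
    exact (h.cent k hk hk2).1
  -- T ⊆ A ∪ W2
  have hTsub : T ⊆ A ∪ W2 := by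
    intro q hq
    rw [hT, Finset.mem_filter] at hq
    obtain ⟨-, hqQ, hq2⟩ := hq
    have hinv := (hTiff q).1 hq2
    rw [Finset.mem_union]
    rcases h.sq q hqQ with hs | hs
    · left
      rw [hA, Finset.mem_filter]
      refine ⟨Finset.mem_univ _, hqQ, ?_⟩
      have h1 : q⁻¹ = q := by
        rw [inv_eq_iff_mul_eq_one, ← pow_two, hs]
      rw [h1] at hinv
      calc q * k = (k * q * k⁻¹) * k := by rw [hinv]
        _ = k * q := by group
    · right
      rw [hW2, Finset.mem_filter]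
      refine ⟨Finset.mem_univ _, hqQ, ?_⟩
      rw [hinv, inv_eq_iff_mul_eq_one, ← mul_assoc, ← pow_two, hs, ← pow_two, h.z_sq]
  -- |W2| ≤ 4
  have hW2card : W2.card ≤ 4 := by
    rcases Finset.eq_empty_or_nonempty W2 with hemp | ⟨w0, hw0⟩
    · rw [hemp]
      simp
    · rw [← hAcard]
      apply Finset.card_le_card_of_injOn (fun q => w0⁻¹ * q)
      · intro q hq
        rw [Finset.mem_coe, hW2, Finset.mem_filter] at hq
        have hw0' := hw0
        rw [hW2, Finset.mem_filter] at hw0'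
        obtain ⟨-, hqQ, hqz⟩ := hq
        obtain ⟨-, hw0Q, hw0z⟩ := hw0'
        rw [Finset.mem_coe, hA, Finset.mem_filter]
        have hmem : w0⁻¹ * q ∈ Q := Q.mul_mem (Q.inv_mem hw0Q) hqQ
        refine ⟨Finset.mem_univ _, hmem, ?_⟩
        have h1 : k * (w0⁻¹ * q) * k⁻¹ = w0⁻¹ * q := by
          calc k * (w0⁻¹ * q) * k⁻¹ = (k * w0 * k⁻¹)⁻¹ * (k * q * k⁻¹) := by group
            _ = (w0 * z)⁻¹ * (q * z) := by rw [hw0z, hqz]
            _ = z⁻¹ * ((w0⁻¹ * q) * z) := by group
            _ = z⁻¹ * (z * (w0⁻¹ * q)) := by rw [h.z_comm _ hmem]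
            _ = w0⁻¹ * q := by group
        calc w0⁻¹ * q * k = (k * (w0⁻¹ * q) * k⁻¹) * k := by rw [h1]
          _ = k * (w0⁻¹ * q) := by group
      · intro q _ q' _ heq
        exact mul_left_cancel heq
  -- |T| ≥ 8
  have hTcard8 : 8 ≤ T.card := by
    have himg : Qf.image (fun u => u * k * u⁻¹ * k⁻¹) ⊆ T := by
      intro a ha
      rw [Finset.mem_image] at ha
      obtain ⟨u, hu, rfl⟩ := ha
      rw [hQf, Finset.mem_filter] at hu
      rw [hT, Finset.mem_filter]
      refine ⟨Finset.mem_univ _, ?_, ?_⟩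
      · have : u * k * u⁻¹ * k⁻¹ = u * (k * u⁻¹ * k⁻¹) := by group
        rw [this]
        exact Q.mul_mem hu.2 (h.K_norm k hk _ (Q.inv_mem hu.2))
      · have : (u * k * u⁻¹ * k⁻¹ * k) ^ 2 = u * k ^ 2 * u⁻¹ := by
          rw [pow_two, pow_two]
          group
        rw [this, hkk]
        group
    have hfib : ∀ a ∈ Qf.image (fun u => u * k * u⁻¹ * k⁻¹),
        (Qf.filter (fun u => u * k * u⁻¹ * k⁻¹ = a)).card ≤ 4 := by
      intro a ha
      rw [Finset.mem_image] at ha
      obtain ⟨u0, hu0, rfl⟩ := ha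
      rw [hQf, Finset.mem_filter] at hu0
      rw [← hAcard]
      apply Finset.card_le_card_of_injOn (fun u => u0⁻¹ * u)
      · intro u hu
        rw [Finset.mem_coe, Finset.mem_filter, hQf, Finset.mem_filter] at hu
        obtain ⟨⟨-, huQ⟩, hueq⟩ := hu
        rw [Finset.mem_coe, hA, Finset.mem_filter]
        refine ⟨Finset.mem_univ _, Q.mul_mem (Q.inv_mem hu0.2) huQ, ?_⟩
        have h1 : u * k * u⁻¹ = u0 * k * u0⁻¹ := by
          calc u * k * u⁻¹ = (u * k * u⁻¹ * k⁻¹) * k := by group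
            _ = (u0 * k * u0⁻¹ * k⁻¹) * k := by rw [hueq]
            _ = u0 * k * u0⁻¹ := by group
        calc u0⁻¹ * u * k = u0⁻¹ * (u * k * u⁻¹) * u := by group
          _ = u0⁻¹ * (u0 * k * u0⁻¹) * u := by rw [h1]
          _ = k * (u0⁻¹ * u) := by group
      · intro q _ q' _ heq
        exact mul_left_cancel heq
    have h1 := Finset.card_le_mul_card_image Qf 4 hfib
    have h2 := Finset.card_le_card himg
    omega
  have hunion : (A ∪ W2).card ≤ 8 := by
    have := Finset.card_union_le A W2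
    omega
  have hTle : T.card ≤ 8 := (Finset.card_le_card hTsub).trans hunion
  have hTeq : T.card = 8 := le_antisymm hTle hTcard8
  have hTW : T = A ∪ W2 := Finset.eq_of_subset_of_card_le hTsub (by omega)
  refine ⟨?_, ?_⟩
  · rw [t1a_natcard_filter]
    exact hTeq
  · intro q hqQ hqz
    have hqW : q ∈ T := by
      rw [hTW, Finset.mem_union]
      right
      rw [hW2, Finset.mem_filter]
      exact ⟨Finset.mem_univ _, hqQ, hqz⟩
    rw [hT, Finset.mem_filter] at hqW
    have hinv := (hTiff q).1 hqW.2.2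
    rw [hqz] at hinv
    -- q * z = q⁻¹
    have h1 : q ^ 2 * z = 1 := by
      calc q ^ 2 * z = q * (q * z) := by rw [pow_two, mul_assoc]
        _ = q * q⁻¹ := by rw [hinv]
        _ = 1 := mul_inv_cancel q
    calc q ^ 2 = q ^ 2 * z * z⁻¹ := by group
      _ = z := by rw [h1, one_mul, hzinv]

end Cfsg.Agent.Lib.helper17.S3313
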