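import Mathlib
import Cfsg.Prelude.Def_Perm
import Cfsg.Prelude.Def_Solvable

set_option autoImplicit false

/-!
# S4025, piece P2 (helper17): the arithmetic of the number of planes
-/

namespace Cfsg.Agent.Lib.helper17.S4025

theorem pow_bound (A : ℤ) (hA : 2 ≤ A) (m : ℕ) (hm : 5 ≤ m) : ((m : ℤ) + 1) * A ^ 2 ≤ A ^ m := by
  induction m, hm using Nat.le_induction with
  | base =>
    have h3 : (2 : ℤ) ^ 3 ≤ A ^ 3 := pow_le_pow_left₀ (by norm_num) hA 3
    have h2 : 0 ≤ A ^ 2 := by positivity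
    have : A ^ 5 = A ^ 2 * A ^ 3 := by ring
    push_cast
    nlinarith
  | succ m hm ih =>
    have h2 : 0 ≤ A ^ 2 := by positivity
    have hm0 : (0 : ℤ) ≤ m := by positivity
    have : A ^ (m + 1) = A * A ^ m := by ring
    rw [this]
    push_cast
    have h4 : 2 * A ^ m ≤ A * A ^ m := by
      have : 0 ≤ A ^ m := by positivity
      nlinarith
    nlinarith

/-- P2: arithmetic. -/
theorem arith_planes {p n N₂ : ℕ} (hp : p.Prime) (hn : 3 ≤ n)
    (h1 : N₂ * ((p ^ 2 - 1) * (p ^ 2 - p)) = (p ^ n - 1) * (p ^ n - p))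
    (h2 : N₂ * (p - 1) ∣ n * (p ^ n - 1)) : n = 3 ∨ (n = 5 ∧ p = 2) := by
  have hp2 : 2 ≤ p := hp.two_le
  obtain ⟨m, rfl⟩ : ∃ m, n = m + 1 := ⟨n - 1, by omega⟩
  obtain ⟨k, hk⟩ := h2
  obtain ⟨A, hA⟩ : ∃ A : ℤ, A = p := ⟨_, rfl⟩
  obtain ⟨Q, hQ⟩ : ∃ Q : ℤ, Q = (p : ℤ) ^ m := ⟨_, rfl⟩
  have hA2 : 2 ≤ A := by rw [hA]; exact_mod_cast hp2
  have hQA : A ^ 2 ≤ Q := by
    rw [hQ, hA]
    exact pow_le_pow_right₀ (by exact_mod_cast hp.one_le) (by omega)
  have hA22 : 4 ≤ A ^ 2 := by nlinarith [mul_self_nonneg (A - 2)]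
  have l1 : 1 ≤ p ^ 2 := Nat.one_le_pow _ _ hp.pos
  have l2 : p ≤ p ^ 2 := by nlinarith
  have l3 : 1 ≤ p ^ (m + 1) := Nat.one_le_pow _ _ hp.pos
  have l4 : p ≤ p ^ (m + 1) := by
    calc p = p ^ 1 := (pow_one p).symm
      _ ≤ p ^ (m + 1) := Nat.pow_le_pow_right hp.pos (by omega)
  have l5 : 1 ≤ p := hp.one_le
  have e1 : (N₂ : ℤ) * ((A ^ 2 - 1) * (A ^ 2 - A)) = (A * Q - 1) * (A * Q - A) := by
    have h1' := congrArg (Nat.cast : ℕ → ℤ) h1
    push_cast [Nat.cast_sub l1, Nat.cast_sub l2, Nat.cast_sub l3, Nat.cast_sub l4] at h1'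
    rw [hA, hQ]
    rw [pow_succ] at h1'
    linear_combination h1'
  have e2 : ((m : ℤ) + 1) * (A * Q - 1) = (N₂ : ℤ) * (A - 1) * (k : ℤ) := by
    have hk' := congrArg (Nat.cast : ℕ → ℤ) hk
    push_cast [Nat.cast_sub l3, Nat.cast_sub l5] at hk'
    rw [hA, hQ]
    rw [pow_succ] at hk'
    linear_combination hk'
  have e3 : (Q - 1) * (k : ℤ) = ((m : ℤ) + 1) * (A ^ 2 - 1) := by
    have h0 : (A * Q - 1) * A * ((Q - 1) * (k : ℤ) - ((m : ℤ) + 1) * (A ^ 2 - 1)) = 0 := by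
      linear_combination (-(k : ℤ)) * e1 - A * (A ^ 2 - 1) * e2
    have hAQ : A * Q - 1 ≠ 0 := by
      have : 0 ≤ (A - 2) * Q := mul_nonneg (by linarith) (by linarith)
      have h12 : (A - 2) * Q = A * Q - 2 * Q := by ring
      intro h
      linarith
    have hA0 : A ≠ 0 := by omega
    have := (mul_eq_zero.mp h0).resolve_left (mul_ne_zero hAQ hA0)
    linarith
  have hk1 : (1 : ℤ) ≤ k := by
    by_contra hcon
    have hk0 : (k : ℤ) = 0 := by omega
    rw [hk0, mul_zero] at e3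
    have hm0 : (0 : ℤ) ≤ m := by positivity
    have : 0 < ((m : ℤ) + 1) * (A ^ 2 - 1) := mul_pos (by linarith) (by linarith)
    linarith
  have hm2 : 2 ≤ m := by omega
  rcases Nat.lt_or_ge m 5 with hm5 | hm5
  · interval_cases m
    · left; rfl
    · exfalso
      have hQ3 : Q = A ^ 3 := by rw [hQ, hA]
      rw [hQ3] at e3
      have h0 : (A - 1) * ((A ^ 2 + A + 1) * (k : ℤ) - 4 * (A + 1)) = 0 := by
        push_cast at e3
        linear_combination e3
      have h5 : (A ^ 2 + A + 1) * (k : ℤ) = 4 * (A + 1) := by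
        have := (mul_eq_zero.mp h0).resolve_left (by omega)
        linarith
      have hA3 : A ≤ 3 := by
        by_contra hc
        have h4 : 4 ≤ A := by omega
        linarith [mul_nonneg (by linarith [sq_nonneg A] : (0 : ℤ) ≤ A ^ 2 + A + 1)
          (sub_nonneg.mpr hk1), mul_nonneg (sub_nonneg.mpr h4) (by linarith : (0 : ℤ) ≤ A)]
      have hA23 : A = 2 ∨ A = 3 := by omega
      rcases hA23 with h | h
      · rw [h] at h5; omega
      · rw [h] at h5; omega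
    · right
      refine ⟨rfl, ?_⟩
      have hQ4 : Q = A ^ 4 := by rw [hQ, hA]
      rw [hQ4] at e3
      have h0 : (A ^ 2 - 1) * ((A ^ 2 + 1) * (k : ℤ) - 5) = 0 := by
        push_cast at e3
        linear_combination e3
      have h5 : (A ^ 2 + 1) * (k : ℤ) = 5 := by
        have := (mul_eq_zero.mp h0).resolve_left (by intro h; linarith)
        linarith
      have hA3 : A ≤ 2 := by
        by_contra hc
        have h3 : 3 ≤ A := by omega
        linarith [mul_nonneg (by linarith [sq_nonneg A] : (0 : ℤ) ≤ A ^ 2 + 1)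
          (sub_nonneg.mpr hk1), mul_nonneg (sub_nonneg.mpr h3) (sub_nonneg.mpr h3)]
      have : A = 2 := le_antisymm hA3 hA2
      rw [hA] at this
      exact_mod_cast this
  · exfalso
    have hb := pow_bound A hA2 m hm5
    have hQ' : Q = A ^ m := by rw [hQ, hA]
    rw [← hQ'] at hb
    have hm0 : (5 : ℤ) ≤ m := by exact_mod_cast hm5
    have hQ1 : 0 ≤ Q - 1 := by linarith
    have h9 := mul_nonneg hQ1 (sub_nonneg.mpr hk1)
    have h10 : ((m : ℤ) + 1) * (A ^ 2 - 1) = ((m : ℤ) + 1) * A ^ 2 - (m : ℤ) - 1 := by ring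
    have h11 : (Q - 1) * ((k : ℤ) - 1) = (Q - 1) * (k : ℤ) - Q + 1 := by ring
    linarith

end Cfsg.Agent.Lib.helper17.S4025
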