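import Mathlib

/-!
S4706 piece ARITH (helper17): the counting argument with falling factorials.
-/

set_option autoImplicit false

namespace Cfsg.Agent.Lib.helper17.S4706

theorem arith_desc2 (j : ℕ) : ((j.descFactorial 2 : ℕ) : ℤ) = (j : ℤ) * ((j : ℤ) - 1) := by
  rcases j with _ | m
  · simp
  · simp [Nat.descFactorial]
    ring

theorem arith_desc3 (j : ℕ) :
    ((j.descFactorial 3 : ℕ) : ℤ) = (j : ℤ) * ((j : ℤ) - 1) * ((j : ℤ) - 2) := by
  rcases j with _ | _ | m
  · simp
  · simp [Nat.descFactorial]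
  · simp [Nat.descFactorial]
    ring

/-- (ARITH) the counting argument. -/
theorem count_arith {ι : Type*} [Fintype ι] (f : ι → ℕ) (n : ℕ) (hn : 3 ≤ n)
    (hf : ∀ i, f i ≤ n) (h1 : ∑ i, f i = Fintype.card ι)
    (h2 : ∑ i, (f i).descFactorial 2 = Fintype.card ι)
    (h3 : ∑ i, (f i).descFactorial 3 = Fintype.card ι)
    (hD : (n - 1) * Fintype.card ι ≤ 2 * n * (Finset.univ.filter (fun i => f i = 0)).card) :
    ∀ i, f i ≤ 2 ∨ f i = n := by
  classical
  set N : ℤ := (Fintype.card ι : ℤ) with hN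
  have S1 : ∑ i, (f i : ℤ) = N := by
    rw [hN, ← h1]
    push_cast
    rfl
  have S2 : ∑ i, (((f i).descFactorial 2 : ℕ) : ℤ) = N := by
    rw [hN, ← h2]
    push_cast
    rfl
  have S3 : ∑ i, (((f i).descFactorial 3 : ℕ) : ℤ) = N := by
    rw [hN, ← h3]
    push_cast
    rfl
  let φ : ℕ → ℤ := fun j => ((j : ℤ) - 1) * ((j : ℤ) - 2) * ((n : ℤ) - j)
  have hφ : ∀ j : ℕ, φ j = -(((j.descFactorial 3 : ℕ) : ℤ)) + (n : ℤ) * ((j.descFactorial 2 : ℕ) : ℤ)
      - 2 * (n : ℤ) * (j : ℤ) + 2 * (n : ℤ) := by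
    intro j
    rw [arith_desc2, arith_desc3]
    show ((j : ℤ) - 1) * ((j : ℤ) - 2) * ((n : ℤ) - j) = _
    ring
  have htotal : ∑ i, φ (f i) = ((n : ℤ) - 1) * N := by
    rw [Finset.sum_congr rfl (fun i _ => hφ (f i))]
    rw [Finset.sum_add_distrib, Finset.sum_sub_distrib, Finset.sum_add_distrib,
      Finset.sum_neg_distrib, ← Finset.mul_sum, ← Finset.mul_sum, S1, S2, S3]
    simp only [Finset.sum_const, Finset.card_univ, nsmul_eq_mul]
    rw [← hN]
    ring
  have hsplit : ∑ i, φ (f i) =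
      ∑ i ∈ Finset.univ.filter (fun i => f i = 0), φ (f i) +
        ∑ i ∈ Finset.univ.filter (fun i => ¬ f i = 0), φ (f i) :=
    (Finset.sum_filter_add_sum_filter_not Finset.univ (fun i => f i = 0) (fun i => φ (f i))).symm
  have hzero : ∑ i ∈ Finset.univ.filter (fun i => f i = 0), φ (f i) =
      2 * (n : ℤ) * ((Finset.univ.filter (fun i => f i = 0)).card : ℤ) := by
    have : ∀ i ∈ Finset.univ.filter (fun i => f i = 0), φ (f i) = 2 * (n : ℤ) := by
      intro i hi
      rw [Finset.mem_filter] at hi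
      rw [hi.2]
      show (((0 : ℕ) : ℤ) - 1) * (((0 : ℕ) : ℤ) - 2) * ((n : ℤ) - ((0 : ℕ) : ℤ)) = _
      push_cast
      ring
    rw [Finset.sum_congr rfl this, Finset.sum_const, nsmul_eq_mul]
    ring
  have hnonneg : ∀ i ∈ Finset.univ.filter (fun i => ¬ f i = 0), 0 ≤ φ (f i) := by
    intro i hi
    rw [Finset.mem_filter] at hi
    have h1' : (1 : ℤ) ≤ (f i : ℤ) := by
      have : 1 ≤ f i := Nat.one_le_iff_ne_zero.2 hi.2
      exact_mod_cast this
    have h2' : (f i : ℤ) ≤ (n : ℤ) := by exact_mod_cast hf i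
    show 0 ≤ ((f i : ℤ) - 1) * ((f i : ℤ) - 2) * ((n : ℤ) - (f i : ℤ))
    apply mul_nonneg
    · rcases Nat.lt_or_ge (f i) 2 with h | h
      · have : f i = 1 := by
          have : 1 ≤ f i := Nat.one_le_iff_ne_zero.2 hi.2
          omega
        rw [this]
        norm_num
      · have h3' : (2 : ℤ) ≤ (f i : ℤ) := by exact_mod_cast h
        apply mul_nonneg <;> linarith
    · linarith
  have hDz : ((n : ℤ) - 1) * N ≤
      2 * (n : ℤ) * ((Finset.univ.filter (fun i => f i = 0)).card : ℤ) := by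
    have h := hD
    have hn1 : ((n - 1 : ℕ) : ℤ) = (n : ℤ) - 1 := by
      have : 1 ≤ n := by omega
      push_cast [Nat.cast_sub this]
      ring
    have h' : (((n - 1) * Fintype.card ι : ℕ) : ℤ) ≤
        ((2 * n * (Finset.univ.filter (fun i => f i = 0)).card : ℕ) : ℤ) := by
      exact_mod_cast h
    push_cast at h'
    rw [hn1] at h'
    exact h'
  have hsum0 : ∑ i ∈ Finset.univ.filter (fun i => ¬ f i = 0), φ (f i) = 0 := by
    have hle : ∑ i ∈ Finset.univ.filter (fun i => ¬ f i = 0), φ (f i) ≤ 0 := by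
      have := htotal
      rw [hsplit, hzero] at this
      linarith
    exact le_antisymm hle (Finset.sum_nonneg hnonneg)
  have hall := (Finset.sum_eq_zero_iff_of_nonneg hnonneg).1 hsum0
  intro i
  by_cases hi : f i = 0
  · left
    omega
  · have h0 := hall i (Finset.mem_filter.2 ⟨Finset.mem_univ _, hi⟩)
    have h0' : ((f i : ℤ) - 1) * ((f i : ℤ) - 2) * ((n : ℤ) - (f i : ℤ)) = 0 := h0
    rcases mul_eq_zero.1 h0' with h | h
    · rcases mul_eq_zero.1 h with h | h
      · left
        have : (f i : ℤ) = 1 := by linarith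
        have : f i = 1 := by exact_mod_cast this
        omega
      · left
        have : (f i : ℤ) = 2 := by linarith
        have : f i = 2 := by exact_mod_cast this
        omega
    · right
      have : (f i : ℤ) = (n : ℤ) := by linarith
      exact_mod_cast this

end Cfsg.Agent.Lib.helper17.S4706
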