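import Mathlib
import Cfsg.Agent.Lib.helper9.Srg77Defs

/-!
Piece A of S0429: three pairwise non-adjacent vertices of an SRG(77,16,0,4) have at most two
common neighbours.
-/

set_option autoImplicit false

namespace Cfsg.Agent.Lib.helper17

open Finset Cfsg.Agent.Lib.helper9

variable {V : Type*} [Fintype V] [DecidableEq V] {G : SimpleGraph V} [DecidableRel G.Adj]

theorem s77a_nonneg (n : ℕ) : (0 : ℤ) ≤ ((n : ℤ) - 1) * ((n : ℤ) - 2) := by
  rcases n with _ | _ | n
  · norm_num
  · norm_num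
  · push_cast
    nlinarith [(Nat.cast_nonneg n : (0 : ℤ) ≤ n)]

theorem triad_le_two (h : Srg77 G) {x y z : V} (ht : Triad G x y z) :
    (nbr G x ∩ nbr G y ∩ nbr G z).card ≤ 2 := by
  obtain ⟨hxy, hxz, hyz, axy, axz, ayz⟩ := ht
  have hW : ∀ w ∈ nbr G x ∩ nbr G y ∩ nbr G z, G.Adj x w ∧ G.Adj y w ∧ G.Adj z w := by
    intro w hw
    rw [mem_inter, mem_inter, mem_nbr, mem_nbr, mem_nbr] at hw
    exact ⟨hw.1.1, hw.1.2, hw.2⟩
  have hle4 : (nbr G x ∩ nbr G y ∩ nbr G z).card ≤ 4 := by
    rw [← h.mu x y hxy axy]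
    exact card_le_card inter_subset_left
  have hU : (nbr G x ∪ nbr G y ∪ nbr G z).card = 36 + (nbr G x ∩ nbr G y ∩ nbr G z).card := by
    have e1 := card_union_add_card_inter (nbr G x) (nbr G y)
    have e2 := card_union_add_card_inter (nbr G x ∪ nbr G y) (nbr G z)
    have e3 := card_union_add_card_inter (nbr G x ∩ nbr G z) (nbr G y ∩ nbr G z)
    have e4 : (nbr G x ∪ nbr G y) ∩ nbr G z = (nbr G x ∩ nbr G z) ∪ (nbr G y ∩ nbr G z) :=
      union_inter_distrib_right _ _ _
    have e5 : (nbr G x ∩ nbr G z) ∩ (nbr G y ∩ nbr G z) = nbr G x ∩ nbr G y ∩ nbr G z := by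
      ext u
      simp only [mem_inter]
      tauto
    rw [e4] at e2
    rw [e5] at e3
    rw [h.mu x y hxy axy, h.deg, h.deg] at e1
    rw [h.deg] at e2
    rw [h.mu x z hxz axz, h.mu y z hyz ayz] at e3
    omega
  generalize nbr G x ∩ nbr G y ∩ nbr G z = W at hW hle4 hU ⊢
  have hs1 : ∑ u : V, (nbr G u ∩ W).card = 16 * W.card := by
    rw [sum_card_nbr_inter (G := G) univ W]
    rw [sum_congr rfl (fun w _ => by rw [inter_univ, h.deg] :
      ∀ w ∈ W, (nbr G w ∩ univ).card = 16)]
    rw [sum_const, smul_eq_mul, mul_comm]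
  have hs2 : ∑ u : V, (nbr G u ∩ W).card * (nbr G u ∩ W).card
      = 12 * W.card + 4 * (W.card * W.card) := by
    rw [sum_card_mul_card (G := G) univ W W]
    have hin : ∀ w ∈ W, ∑ w' ∈ W, (nbr G w ∩ nbr G w' ∩ univ).card = 12 + 4 * W.card := by
      intro w hw
      rw [← add_sum_erase W _ hw, inter_univ, inter_self, h.deg]
      have h4 : ∀ w' ∈ W.erase w, (nbr G w ∩ nbr G w' ∩ univ).card = 4 := by
        intro w' hw'
        rw [mem_erase] at hw'
        rw [inter_univ]
        exact h.mu w w' (Ne.symm hw'.1) (h.tri x w w' (hW w hw).1 (hW w' hw'.2).1)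
      rw [sum_congr rfl h4, sum_const, smul_eq_mul, card_erase_of_mem hw]
      have hpos := card_pos.2 ⟨w, hw⟩
      omega
    rw [sum_congr rfl hin, sum_const, smul_eq_mul]
    ring
  have hcx : ∀ v, (∀ w ∈ W, G.Adj v w) → (nbr G v ∩ W).card = W.card := by
    intro v hv
    congr 1
    exact inter_eq_right.2 (fun w hw => mem_nbr.2 (hv w hw))
  have hc0 : ∀ u ∈ nbr G x ∪ nbr G y ∪ nbr G z, (nbr G u ∩ W).card = 0 := by
    intro u hu
    rw [card_eq_zero, eq_empty_iff_forall_notMem]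
    intro w hw
    rw [mem_inter, mem_nbr] at hw
    rw [mem_union, mem_union, mem_nbr, mem_nbr, mem_nbr] at hu
    rcases hu with (hu | hu) | hu
    · exact h.tri x u w hu (hW w hw.2).1 hw.1
    · exact h.tri y u w hu (hW w hw.2).2.1 hw.1
    · exact h.tri z u w hu (hW w hw.2).2.2 hw.1
  have hdisj : Disjoint ({x, y, z} : Finset V) (nbr G x ∪ nbr G y ∪ nbr G z) := by
    rw [disjoint_left]
    intro u hu hu'
    rw [mem_insert, mem_insert, mem_singleton] at hu
    rw [mem_union, mem_union, mem_nbr, mem_nbr, mem_nbr] at hu'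
    rcases hu with rfl | rfl | rfl
    · rcases hu' with (hu' | hu') | hu'
      · exact G.irrefl hu'
      · exact axy hu'.symm
      · exact axz hu'.symm
    · rcases hu' with (hu' | hu') | hu'
      · exact axy hu'
      · exact G.irrefl hu'
      · exact ayz hu'.symm
    · rcases hu' with (hu' | hu') | hu'
      · exact axz hu'
      · exact ayz hu'
      · exact G.irrefl hu'
  have htot : ∑ u : V, (((nbr G u ∩ W).card : ℤ) - 1) * (((nbr G u ∩ W).card : ℤ) - 2)
      = 4 * (W.card : ℤ) ^ 2 - 36 * W.card + 154 := by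
    have e1 : ∀ u : V, (((nbr G u ∩ W).card : ℤ) - 1) * (((nbr G u ∩ W).card : ℤ) - 2)
        = (((nbr G u ∩ W).card * (nbr G u ∩ W).card : ℕ) : ℤ)
          - 3 * ((nbr G u ∩ W).card : ℤ) + 2 := by
      intro u
      push_cast
      ring
    rw [sum_congr rfl (fun u _ => e1 u), sum_add_distrib, sum_sub_distrib, ← Nat.cast_sum, hs2,
      ← mul_sum, ← Nat.cast_sum, hs1, sum_const, card_univ, h.card]
    push_cast
    ring
  have hlow : 3 * (((W.card : ℤ) - 1) * ((W.card : ℤ) - 2)) + 2 * (36 + (W.card : ℤ))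
      ≤ ∑ u : V, (((nbr G u ∩ W).card : ℤ) - 1) * (((nbr G u ∩ W).card : ℤ) - 2) := by
    have hsub : ∑ u ∈ ({x, y, z} : Finset V) ∪ (nbr G x ∪ nbr G y ∪ nbr G z),
        (((nbr G u ∩ W).card : ℤ) - 1) * (((nbr G u ∩ W).card : ℤ) - 2)
        = 3 * (((W.card : ℤ) - 1) * ((W.card : ℤ) - 2)) + 2 * (36 + (W.card : ℤ)) := by
      rw [sum_union hdisj]
      have hz : z ∉ (∅ : Finset V) := notMem_empty z
      have hyz' : y ∉ ({z} : Finset V) := by
        rw [mem_singleton]
        exact hyz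
      have hxyz : x ∉ ({y, z} : Finset V) := by
        rw [mem_insert, mem_singleton]
        rintro (e | e)
        · exact hxy e
        · exact hxz e
      rw [sum_insert hxyz, sum_insert hyz', sum_singleton,
        hcx x (fun w hw => (hW w hw).1), hcx y (fun w hw => (hW w hw).2.1),
        hcx z (fun w hw => (hW w hw).2.2)]
      have e2 : ∀ u ∈ nbr G x ∪ nbr G y ∪ nbr G z,
          (((nbr G u ∩ W).card : ℤ) - 1) * (((nbr G u ∩ W).card : ℤ) - 2) = 2 := by
        intro u hu
        rw [hc0 u hu]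
        norm_num
      rw [sum_congr rfl e2, sum_const, hU]
      push_cast
      ring
    rw [← hsub]
    exact sum_le_sum_of_subset_of_nonneg (subset_univ _) (fun u _ _ => s77a_nonneg _)
  rw [htot] at hlow
  have hle4' : (W.card : ℤ) ≤ 4 := by exact_mod_cast hle4
  have hge : (0 : ℤ) ≤ (W.card : ℤ) := Nat.cast_nonneg _
  by_contra hcon
  have hgt : (3 : ℤ) ≤ (W.card : ℤ) := by
    have : 3 ≤ W.card := by omega
    exact_mod_cast this
  nlinarith

end Cfsg.Agent.Lib.helper17
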