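import Mathlib
import Cfsg.Agent.Lib.helper9.Srg77Defs

/-!
Piece B of S0429: for two non-adjacent vertices `x`, `y` of an SRG(77,16,0,4) exactly three
vertices non-adjacent to both have no common neighbour with `x` and `y`.
-/

set_option autoImplicit false

namespace Cfsg.Agent.Lib.helper17

open Finset Cfsg.Agent.Lib.helper9

variable {V : Type*} [Fintype V] [DecidableEq V] {G : SimpleGraph V} [DecidableRel G.Adj]

theorem s77b_term (n : ℕ) (hn : n ≤ 2) :
    ((n : ℤ) - 1) * ((n : ℤ) - 2) = 2 * (if n = 0 then (1 : ℤ) else 0) := by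
  interval_cases n <;> norm_num

theorem card_zset (h : Srg77 G)
    (hA : ∀ x y z : V, Triad G x y z → (nbr G x ∩ nbr G y ∩ nbr G z).card ≤ 2)
    {x y : V} (hne : x ≠ y) (hxy : ¬ G.Adj x y) : (zset G x y).card = 3 := by
  obtain ⟨T, hT⟩ : ∃ T : Finset V, ∀ z, z ∈ T ↔ (z ≠ x ∧ z ≠ y ∧ ¬ G.Adj x z ∧ ¬ G.Adj y z) :=
    ⟨univ.filter (fun z => z ≠ x ∧ z ≠ y ∧ ¬ G.Adj x z ∧ ¬ G.Adj y z), fun z => by simp⟩
  have hTcard : T.card = 47 := by
    have h1 : (univ : Finset V) = insert x (insert y ((nbr G x ∪ nbr G y) ∪ T)) := by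
      ext u
      simp only [mem_univ, mem_insert, mem_union, mem_nbr, hT, true_iff]
      tauto
    have hd : Disjoint (nbr G x ∪ nbr G y) T := by
      rw [disjoint_left]
      intro u hu hu'
      rw [hT] at hu'
      simp only [mem_union, mem_nbr] at hu
      tauto
    have hy' : y ∉ (nbr G x ∪ nbr G y) ∪ T := by
      simp only [mem_union, mem_nbr, hT, not_or]
      exact ⟨⟨hxy, G.irrefl⟩, fun hc => hc.2.1 rfl⟩
    have hx' : x ∉ insert y ((nbr G x ∪ nbr G y) ∪ T) := by
      simp only [mem_insert, mem_union, mem_nbr, hT, not_or]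
      exact ⟨hne, ⟨G.irrefl, fun hc => hxy hc.symm⟩, fun hc => hc.1 rfl⟩
    have h28 : (nbr G x ∪ nbr G y).card = 28 := by
      have := card_union_add_card_inter (nbr G x) (nbr G y)
      rw [h.deg, h.deg, h.mu x y hne hxy] at this
      omega
    have h2 := congrArg Finset.card h1
    rw [card_univ, h.card, card_insert_of_notMem hx', card_insert_of_notMem hy',
      card_union_of_disjoint hd, h28] at h2
    omega
  have hkey : ∀ w ∈ nbr G x ∩ nbr G y, ∀ w' ∈ nbr G x ∩ nbr G y,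
      (nbr G w ∩ nbr G w' ∩ T).card + 2 = (nbr G w ∩ nbr G w').card := by
    intro w hw w' hw'
    rw [mem_inter, mem_nbr, mem_nbr] at hw hw'
    have h1 : nbr G w ∩ nbr G w' = insert x (insert y (nbr G w ∩ nbr G w' ∩ T)) := by
      ext u
      simp only [mem_insert, mem_inter, mem_nbr, hT]
      constructor
      · rintro ⟨hu, hu'⟩
        by_cases hux : u = x
        · exact Or.inl hux
        by_cases huy : u = y
        · exact Or.inr (Or.inl huy)
        exact Or.inr (Or.inr ⟨⟨hu, hu'⟩, hux, huy, h.tri w x u hw.1.symm hu,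
          h.tri w y u hw.2.symm hu⟩)
      · rintro (rfl | rfl | ⟨hu, -⟩)
        · exact ⟨hw.1.symm, hw'.1.symm⟩
        · exact ⟨hw.2.symm, hw'.2.symm⟩
        · exact hu
    have hy' : y ∉ nbr G w ∩ nbr G w' ∩ T := by
      intro hc
      rw [mem_inter, hT] at hc
      exact hc.2.2.1 rfl
    have hx' : x ∉ insert y (nbr G w ∩ nbr G w' ∩ T) := by
      intro hc
      rw [mem_insert, mem_inter, hT] at hc
      rcases hc with hc | hc
      · exact hne hc
      · exact hc.2.1 rfl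
    have h2 := congrArg Finset.card h1
    rw [card_insert_of_notMem hx', card_insert_of_notMem hy'] at h2
    omega
  have hDcard : (nbr G x ∩ nbr G y).card = 4 := h.mu x y hne hxy
  have h14 : ∀ w ∈ nbr G x ∩ nbr G y, (nbr G w ∩ T).card = 14 := by
    intro w hw
    have h1 := hkey w hw w hw
    rw [inter_self, h.deg] at h1
    omega
  have hs1 : ∑ z ∈ T, (nbr G z ∩ (nbr G x ∩ nbr G y)).card = 56 := by
    rw [sum_card_nbr_inter (G := G) T (nbr G x ∩ nbr G y), sum_congr rfl h14, sum_const, hDcard]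
    rfl
  have hs2 : ∑ z ∈ T, (nbr G z ∩ (nbr G x ∩ nbr G y)).card
      * (nbr G z ∩ (nbr G x ∩ nbr G y)).card = 80 := by
    rw [sum_card_mul_card (G := G) T (nbr G x ∩ nbr G y) (nbr G x ∩ nbr G y)]
    have hin : ∀ w ∈ nbr G x ∩ nbr G y,
        ∑ w' ∈ nbr G x ∩ nbr G y, (nbr G w ∩ nbr G w' ∩ T).card = 20 := by
      intro w hw
      rw [← add_sum_erase (nbr G x ∩ nbr G y) _ hw, inter_self, h14 w hw]
      have h2 : ∀ w' ∈ (nbr G x ∩ nbr G y).erase w, (nbr G w ∩ nbr G w' ∩ T).card = 2 := by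
        intro w' hw'
        rw [mem_erase] at hw'
        have h1 := hkey w hw w' hw'.2
        have hw1 := hw
        have hw2 := hw'.2
        rw [mem_inter, mem_nbr, mem_nbr] at hw1 hw2
        rw [h.mu w w' (Ne.symm hw'.1) (h.tri x w w' hw1.1 hw2.1)] at h1
        omega
      rw [sum_congr rfl h2, sum_const, card_erase_of_mem hw, hDcard]
      rfl
    rw [sum_congr rfl hin, sum_const, hDcard]
    rfl
  have hc2 : ∀ z ∈ T, (nbr G z ∩ (nbr G x ∩ nbr G y)).card ≤ 2 := by
    intro z hz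
    rw [hT] at hz
    rw [inter_comm]
    exact hA x y z ⟨hne, fun e => hz.1 e.symm, fun e => hz.2.1 e.symm, hxy, hz.2.2.1, hz.2.2.2⟩
  have htot : ∑ z ∈ T, (((nbr G z ∩ (nbr G x ∩ nbr G y)).card : ℤ) - 1)
      * (((nbr G z ∩ (nbr G x ∩ nbr G y)).card : ℤ) - 2) = 6 := by
    have e1 : ∀ u : V, (((nbr G u ∩ (nbr G x ∩ nbr G y)).card : ℤ) - 1)
        * (((nbr G u ∩ (nbr G x ∩ nbr G y)).card : ℤ) - 2)
        = (((nbr G u ∩ (nbr G x ∩ nbr G y)).card * (nbr G u ∩ (nbr G x ∩ nbr G y)).card : ℕ) : ℤ)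
          - 3 * ((nbr G u ∩ (nbr G x ∩ nbr G y)).card : ℤ) + 2 := by
      intro u
      push_cast
      ring
    rw [sum_congr rfl (fun u _ => e1 u), sum_add_distrib, sum_sub_distrib, ← Nat.cast_sum, hs2,
      ← mul_sum, ← Nat.cast_sum, hs1, sum_const, hTcard]
    norm_num
  have hfil : ∑ z ∈ T, (((nbr G z ∩ (nbr G x ∩ nbr G y)).card : ℤ) - 1)
      * (((nbr G z ∩ (nbr G x ∩ nbr G y)).card : ℤ) - 2)
      = 2 * ((T.filter (fun z => (nbr G z ∩ (nbr G x ∩ nbr G y)).card = 0)).card : ℤ) := by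
    rw [card_filter]
    push_cast
    rw [mul_sum]
    exact sum_congr rfl (fun z hz => s77b_term _ (hc2 z hz))
  have hz : zset G x y = T.filter (fun z => (nbr G z ∩ (nbr G x ∩ nbr G y)).card = 0) := by
    ext z
    rw [mem_zset, mem_filter, hT, card_eq_zero, inter_comm (nbr G z)]
    tauto
  rw [hz]
  have h6 := htot.symm.trans hfil
  have h6' : (6 : ℕ) = 2 * (T.filter (fun z => (nbr G z ∩ (nbr G x ∩ nbr G y)).card = 0)).card := by
    exact_mod_cast h6
  omega

end Cfsg.Agent.Lib.helper17
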