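import Mathlib
import Cfsg.Agent.Lib.helper49.SPEDefs

/-!
# S2333 piece DUALV: dual vectors to an independent pair of linear forms
-/

set_option autoImplicit false

namespace Cfsg.Agent.Lib.helper49.SPE

open Matrix

/-- one half of DUALV: a vector `x` with `l ⬝ᵥ x = 1`, `m ⬝ᵥ x = 0`. -/
theorem helper17_dual_one {F : Type*} [Field F] {n : ℕ} (l m : Fin n → F) (h : Indep l m) :
    ∃ x : Fin n → F, l ⬝ᵥ x = 1 ∧ m ⬝ᵥ x = 0 := by
  classical
  have hm : m ≠ 0 := by
    intro hm0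
    have h1 := h 0 1 (by simp [hm0])
    exact one_ne_zero h1.2
  obtain ⟨j, hj⟩ : ∃ j, m j ≠ 0 := by
    by_contra hcon
    apply hm
    funext i
    by_contra hi
    exact hcon ⟨i, hi⟩
  by_cases hall : ∀ i, l i - (m i / m j) * l j = 0
  · exfalso
    have hl : (1 : F) • l + (-(l j / m j)) • m = 0 := by
      funext i
      have h3 := hall i
      simp only [Pi.add_apply, Pi.smul_apply, smul_eq_mul, Pi.zero_apply, one_mul]
      have h4 : l i = m i / m j * l j := sub_eq_zero.mp h3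
      rw [h4]
      field_simp
      ring
    exact one_ne_zero (h 1 _ hl).1
  · have hex : ∃ i, l i - (m i / m j) * l j ≠ 0 := by
      by_contra hcon
      apply hall
      intro i
      by_contra hi
      exact hcon ⟨i, hi⟩
    obtain ⟨i, hi⟩ := hex
    refine ⟨(l i - (m i / m j) * l j)⁻¹ • (Pi.single i 1 - (m i / m j) • Pi.single j 1), ?_, ?_⟩
    · rw [dotProduct_smul, dotProduct_sub, dotProduct_smul, dotProduct_single, dotProduct_single]
      simp only [smul_eq_mul, mul_one]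
      exact inv_mul_cancel₀ hi
    · rw [dotProduct_smul, dotProduct_sub, dotProduct_smul, dotProduct_single, dotProduct_single]
      simp only [smul_eq_mul, mul_one]
      rw [div_mul_cancel₀ _ hj, sub_self, mul_zero]

/-- DUALV (M) -/
theorem dual_vecs {F : Type*} [Field F] {n : ℕ} (l m : Fin n → F) (h : Indep l m) :
    ∃ x₁ x₂ : Fin n → F, l ⬝ᵥ x₁ = 1 ∧ m ⬝ᵥ x₁ = 0 ∧ l ⬝ᵥ x₂ = 0 ∧ m ⬝ᵥ x₂ = 1 := by
  have h' : Indep m l := by
    intro s t hst
    have h1 := h t s (by rw [add_comm]; exact hst)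
    exact ⟨h1.2, h1.1⟩
  obtain ⟨x₁, h1, h2⟩ := helper17_dual_one l m h
  obtain ⟨x₂, h3, h4⟩ := helper17_dual_one m l h'
  exact ⟨x₁, x₂, h1, h2, h4, h3⟩

end Cfsg.Agent.Lib.helper49.SPE
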