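import Mathlib
import Cfsg.Agent.Lib.helper49.SPEDefs
import Cfsg.Agent.Lib.helper17.SPEDUALV

/-!
# S2333 piece ESPAN (racer copy by helper17): forms with the same anisotropic binary value

`helper17_ell_span` is the Skel statement `ell_span` verbatim under a prefixed name (uses DUALV).
-/

set_option autoImplicit false

namespace Cfsg.Agent.Lib.helper49.SPE

open Matrix

/-- ESPAN (L) -/
theorem helper17_ell_span {F : Type*} [Field F] {n : ℕ} (a b c : F)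
    (haniso : ∀ s t : F, bq a b c s t = 0 → s = 0 ∧ t = 0) (l m l' m' : Fin n → F)
    (h : Indep l m)
    (heq : ∀ x, bq a b c (l' ⬝ᵥ x) (m' ⬝ᵥ x) = bq a b c (l ⬝ᵥ x) (m ⬝ᵥ x)) :
    ∃ p r s t : F, l' = p • l + r • m ∧ m' = s • l + t • m ∧
      ∀ S T : F, bq a b c (p * S + r * T) (s * S + t * T) = bq a b c S T := by
  classical
  obtain ⟨x₁, x₂, h11, h21, h12, h22⟩ := dual_vecs l m h
  have hz : ∀ x : Fin n → F, l' ⬝ᵥ x = (l' ⬝ᵥ x₁) * (l ⬝ᵥ x) + (l' ⬝ᵥ x₂) * (m ⬝ᵥ x) ∧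
      m' ⬝ᵥ x = (m' ⬝ᵥ x₁) * (l ⬝ᵥ x) + (m' ⬝ᵥ x₂) * (m ⬝ᵥ x) := by
    intro x
    have hlz : l ⬝ᵥ (x - (l ⬝ᵥ x) • x₁ - (m ⬝ᵥ x) • x₂) = 0 := by
      rw [dotProduct_sub, dotProduct_sub, dotProduct_smul, dotProduct_smul, h11, h12]
      simp
    have hmz : m ⬝ᵥ (x - (l ⬝ᵥ x) • x₁ - (m ⬝ᵥ x) • x₂) = 0 := by
      rw [dotProduct_sub, dotProduct_sub, dotProduct_smul, dotProduct_smul, h21, h22]
      simp
    have h0 := heq (x - (l ⬝ᵥ x) • x₁ - (m ⬝ᵥ x) • x₂)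
    rw [hlz, hmz] at h0
    have h00 : bq a b c 0 0 = 0 := by simp [bq]
    rw [h00] at h0
    obtain ⟨h1, h2⟩ := haniso _ _ h0
    rw [dotProduct_sub, dotProduct_sub, dotProduct_smul, dotProduct_smul] at h1 h2
    simp only [smul_eq_mul] at h1 h2
    constructor
    · linear_combination h1
    · linear_combination h2
  refine ⟨l' ⬝ᵥ x₁, l' ⬝ᵥ x₂, m' ⬝ᵥ x₁, m' ⬝ᵥ x₂, ?_, ?_, ?_⟩
  · funext i
    have h3 := (hz (Pi.single i 1)).1
    simp only [dotProduct_single, mul_one] at h3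
    simp only [Pi.add_apply, Pi.smul_apply, smul_eq_mul]
    exact h3
  · funext i
    have h3 := (hz (Pi.single i 1)).2
    simp only [dotProduct_single, mul_one] at h3
    simp only [Pi.add_apply, Pi.smul_apply, smul_eq_mul]
    exact h3
  · intro S T
    have h5 := heq (S • x₁ + T • x₂)
    have e1 : l ⬝ᵥ (S • x₁ + T • x₂) = S := by
      rw [dotProduct_add, dotProduct_smul, dotProduct_smul, h11, h12]
      simp
    have e2 : m ⬝ᵥ (S • x₁ + T • x₂) = T := by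
      rw [dotProduct_add, dotProduct_smul, dotProduct_smul, h21, h22]
      simp
    have e3 : l' ⬝ᵥ (S • x₁ + T • x₂) = (l' ⬝ᵥ x₁) * S + (l' ⬝ᵥ x₂) * T := by
      rw [dotProduct_add, dotProduct_smul, dotProduct_smul]
      simp only [smul_eq_mul]
      ring
    have e4 : m' ⬝ᵥ (S • x₁ + T • x₂) = (m' ⬝ᵥ x₁) * S + (m' ⬝ᵥ x₂) * T := by
      rw [dotProduct_add, dotProduct_smul, dotProduct_smul]
      simp only [smul_eq_mul]
      ring
    rw [e1, e2, e3, e4] at h5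
    exact h5

end Cfsg.Agent.Lib.helper49.SPE
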