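import Mathlib
import Cfsg.Agent.Lib.helper49.SPEDefs

/-!
# S2333 piece THCARD (racer copy by helper17): the number of hyperbolic triples

`helper17_card_hyp_triples` is the Skel statement `card_hyp_triples` verbatim under a prefixed name.
-/

set_option autoImplicit false

namespace Cfsg.Agent.Lib.helper49.SPE

open Matrix

/-- THCARD (M/L) -/
theorem helper17_card_hyp_triples {F : Type*} [Field F] [Fintype F] (h2 : (2 : F) = 0) :
    Fintype.card F * (Fintype.card F - 1) * (Fintype.card F + 1) ≤
      2 * Nat.card {p : F × F × F //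
        p.2.1 ≠ 0 ∧ (p.1 = 0 ∨ ∃ t : F, p.1 * t ^ 2 + p.2.1 * t + p.2.2 = 0)} := by
  classical
  let T : Finset (F × F × F) := Finset.univ.filter
    (fun p => p.2.1 ≠ 0 ∧ (p.1 = 0 ∨ ∃ t : F, p.1 * t ^ 2 + p.2.1 * t + p.2.2 = 0))
  have hT : Nat.card {p : F × F × F //
      p.2.1 ≠ 0 ∧ (p.1 = 0 ∨ ∃ t : F, p.1 * t ^ 2 + p.2.1 * t + p.2.2 = 0)} = T.card := by
    rw [Nat.card_eq_fintype_card, Fintype.card_subtype]
  rw [hT]
  let N0 : Finset F := Finset.univ.filter (fun x => x ≠ 0)
  have hN0 : N0.card = Fintype.card F - 1 := by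
    simp only [N0]
    rw [Finset.filter_ne', Finset.card_erase_of_mem (Finset.mem_univ _), Finset.card_univ]
  let TA : Finset (F × F × F) := ({0} : Finset F) ×ˢ (N0 ×ˢ (Finset.univ : Finset F))
  have hTA : TA.card = (Fintype.card F - 1) * Fintype.card F := by
    simp only [TA]
    rw [Finset.card_product, Finset.card_product, Finset.card_singleton, hN0, Finset.card_univ,
      one_mul]
  let TB : Finset (F × F × F) := T.filter (fun p => p.1 ≠ 0)
  let D : Finset (F × F × F) := N0 ×ˢ (N0 ×ˢ (Finset.univ : Finset F))
  have hD : D.card = (Fintype.card F - 1) * ((Fintype.card F - 1) * Fintype.card F) := by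
    simp only [D]
    rw [Finset.card_product, Finset.card_product, hN0, Finset.card_univ]
  have hDB : D.card ≤ 2 * TB.card := by
    apply Finset.card_le_mul_card_image_of_maps_to
      (f := fun p : F × F × F => (p.1, p.2.1, p.1 * p.2.2 ^ 2 + p.2.1 * p.2.2))
    · intro p hp
      simp only [D, N0, Finset.mem_product, Finset.mem_filter, Finset.mem_univ, true_and,
        and_true] at hp
      simp only [TB, T, Finset.mem_filter, Finset.mem_univ, true_and]
      refine ⟨⟨hp.2, Or.inr ⟨p.2.2, ?_⟩⟩, hp.1⟩
      linear_combination (p.1 * p.2.2 ^ 2 + p.2.1 * p.2.2) * h2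
    · intro c _
      by_cases hne : (D.filter (fun x : F × F × F =>
          (x.1, x.2.1, x.1 * x.2.2 ^ 2 + x.2.1 * x.2.2) = c)).Nonempty
      · obtain ⟨x0, hx0⟩ := hne
        rw [Finset.mem_filter] at hx0
        have ha : x0.1 ≠ 0 := by
          have h3 := hx0.1
          simp only [D, N0, Finset.mem_product, Finset.mem_filter, Finset.mem_univ, true_and,
            and_true] at h3
          exact h3.1
        have hsub : D.filter (fun x : F × F × F =>
            (x.1, x.2.1, x.1 * x.2.2 ^ 2 + x.2.1 * x.2.2) = c) ⊆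
              {x0, (x0.1, x0.2.1, x0.2.2 + x0.2.1 / x0.1)} := by
          intro x hx
          rw [Finset.mem_filter] at hx
          have e := hx.2.trans hx0.2.symm
          simp only [Prod.mk.injEq] at e
          obtain ⟨e1, e2, e3⟩ := e
          rw [e1, e2] at e3
          have hfac : (x.2.2 - x0.2.2) * (x0.1 * (x.2.2 + x0.2.2) + x0.2.1) = 0 := by
            linear_combination e3
          rcases mul_eq_zero.mp hfac with h | h
          · rw [Finset.mem_insert]
            left
            exact Prod.ext e1 (Prod.ext e2 (sub_eq_zero.mp h))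
          · rw [Finset.mem_insert, Finset.mem_singleton]
            right
            have ht : x.2.2 = x0.2.2 + x0.2.1 / x0.1 := by
              field_simp
              linear_combination h - (x0.1 * x0.2.2 + x0.2.1) * h2
            exact Prod.ext e1 (Prod.ext e2 ht)
        exact (Finset.card_le_card hsub).trans Finset.card_le_two
      · rw [Finset.not_nonempty_iff_eq_empty] at hne
        rw [hne]
        simp
  have hdisj : Disjoint TA TB := by
    rw [Finset.disjoint_left]
    intro p hpA hpB
    simp only [TA, Finset.mem_product, Finset.mem_singleton] at hpA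
    simp only [TB, Finset.mem_filter] at hpB
    exact hpB.2 hpA.1
  have hsubT : TA ∪ TB ⊆ T := by
    intro p hp
    rw [Finset.mem_union] at hp
    rcases hp with hp | hp
    · simp only [TA, N0, Finset.mem_product, Finset.mem_singleton, Finset.mem_filter,
        Finset.mem_univ, true_and, and_true] at hp
      simp only [T, Finset.mem_filter, Finset.mem_univ, true_and]
      exact ⟨hp.2, Or.inl hp.1⟩
    · exact (Finset.mem_filter.mp hp).1
  have hcard : TA.card + TB.card ≤ T.card := by
    rw [← Finset.card_union_of_disjoint hdisj]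
    exact Finset.card_le_card hsubT
  have hqpos : 0 < Fintype.card F := Fintype.card_pos
  obtain ⟨Q, hQ⟩ : ∃ Q, Fintype.card F = Q + 1 := ⟨Fintype.card F - 1, by omega⟩
  rw [hTA] at hcard
  rw [hD] at hDB
  rw [hQ] at hcard hDB ⊢
  simp only [Nat.add_sub_cancel] at hcard hDB ⊢
  have e : (Q + 1) * Q * (Q + 1 + 1) = 2 * (Q * (Q + 1)) + Q * (Q * (Q + 1)) := by ring
  rw [e]
  omega

end Cfsg.Agent.Lib.helper49.SPE
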