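import Mathlib
import Cfsg.Agent.Lib.helper45.SVDefs

/-!
# S2425 piece ARITH: the recursion of `gval` under multiplication by a monic irreducible polynomial
-/

set_option autoImplicit false

namespace Cfsg.Agent.Lib.helper45.SV

/-- the multiset form of the recursion. -/
theorem helper17_gprod_cons {α : Type*} [DecidableEq α] (M : Multiset α) (f : α) (d : α → ℕ)
    (q : ℤ) :
    ∏ g ∈ (f ::ₘ M).toFinset, (-1 : ℤ) ^ ((f ::ₘ M).count g) *
        q ^ (d g * (f ::ₘ M).count g * ((f ::ₘ M).count g - 1) / 2) =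
      - q ^ (d f * M.count f) * ∏ g ∈ M.toFinset, (-1 : ℤ) ^ (M.count g) *
        q ^ (d g * M.count g * (M.count g - 1) / 2) := by
  have hS : M.toFinset ⊆ (f ::ₘ M).toFinset := by
    intro g hg
    rw [Multiset.mem_toFinset] at hg ⊢
    exact Multiset.mem_cons_of_mem hg
  have h2 : ∏ g ∈ M.toFinset, (-1 : ℤ) ^ (M.count g) *
        q ^ (d g * M.count g * (M.count g - 1) / 2) =
      ∏ g ∈ (f ::ₘ M).toFinset, (-1 : ℤ) ^ (M.count g) *
        q ^ (d g * M.count g * (M.count g - 1) / 2) := by
    apply Finset.prod_subset hS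
    intro g _ hg
    rw [Multiset.mem_toFinset] at hg
    rw [Multiset.count_eq_zero_of_notMem hg]
    simp
  rw [h2]
  have hfS : f ∈ (f ::ₘ M).toFinset := by
    rw [Multiset.mem_toFinset]
    exact Multiset.mem_cons_self f M
  rw [← Finset.mul_prod_erase _ _ hfS, ← Finset.mul_prod_erase _ _ hfS]
  have h3 : ∏ g ∈ (f ::ₘ M).toFinset.erase f, (-1 : ℤ) ^ ((f ::ₘ M).count g) *
        q ^ (d g * (f ::ₘ M).count g * ((f ::ₘ M).count g - 1) / 2) =
      ∏ g ∈ (f ::ₘ M).toFinset.erase f, (-1 : ℤ) ^ (M.count g) *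
        q ^ (d g * M.count g * (M.count g - 1) / 2) := by
    apply Finset.prod_congr rfl
    intro g hg
    have hne : g ≠ f := Finset.ne_of_mem_erase hg
    rw [Multiset.count_cons_of_ne hne]
  rw [h3, Multiset.count_cons_self]
  have key : d f * (M.count f + 1) * (M.count f + 1 - 1) / 2 =
      d f * M.count f + d f * M.count f * (M.count f - 1) / 2 := by
    have h4 : d f * (M.count f + 1) * (M.count f + 1 - 1) =
        2 * (d f * M.count f) + d f * M.count f * (M.count f - 1) := by
      rcases Nat.eq_zero_or_pos (M.count f) with h | h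
      · rw [h]
        simp
      · obtain ⟨c, hc⟩ := Nat.exists_eq_succ_of_ne_zero h.ne'
        rw [hc]
        simp only [Nat.succ_eq_add_one, Nat.add_sub_cancel]
        ring
    rw [h4, Nat.mul_add_div (by norm_num : 0 < 2)]
  rw [key, pow_succ, pow_add]
  ring

/-- ARITH (M). -/
theorem gval_mul_irreducible {F : Type*} [Field F] [DecidableEq F] (q : ℕ) (f R : Polynomial F) (hf : Irreducible f)
    (hfm : f.Monic) (hR : R ≠ 0) :
    gval q (f * R) =
      - (q : ℤ) ^ (f.natDegree * (UniqueFactorizationMonoid.normalizedFactors R).count f) * gval q R := by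
  have hf0 : f ≠ 0 := hf.ne_zero
  have hnf : UniqueFactorizationMonoid.normalizedFactors (f * R) =
      f ::ₘ UniqueFactorizationMonoid.normalizedFactors R := by
    rw [UniqueFactorizationMonoid.normalizedFactors_mul hf0 hR,
      UniqueFactorizationMonoid.normalizedFactors_irreducible hf, hfm.normalize_eq_self,
      Multiset.singleton_add]
  unfold gval
  rw [hnf]
  exact helper17_gprod_cons _ f (fun g => g.natDegree) (q : ℤ)

end Cfsg.Agent.Lib.helper45.SV
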