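import Cfsg.Agent.Lib.helper95.SpMax
import Cfsg.Agent.Lib.helper17.SympBasis
import Cfsg.Agent.Lib.helper17.SymmForm

/-!
Pairs of complementary totally isotropic subspaces (`LagPair`) of the symplectic space: basic tools
for the maximality of their stabiliser in `Sp_2m(q)`, `q` odd.
-/

set_option autoImplicit false

namespace Cfsg.Agent.Lib.helper17

open Matrix Cfsg Cfsg.Geo Module Cfsg.Agent.Lib.helper95

section
variable {F : Type*} [Field F] (m : ℕ)

theorem lag_spT_zero (c : F) : spT m (0 : Fin m ⊕ Fin m → F) c = 1 := by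
  apply gl_ext_mulVec
  intro x
  rw [spT_mulVec, smul_zero, add_zero, Units.val_one, Matrix.one_mulVec]

theorem lag_spT_zero' (v : Fin m ⊕ Fin m → F) : spT m v 0 = 1 := by
  apply gl_ext_mulVec
  intro x
  rw [spT_mulVec, zero_mul, zero_smul, add_zero, Units.val_one, Matrix.one_mulVec]

theorem lag_spT_add (v : Fin m ⊕ Fin m → F) (c c' : F) :
    spT m v c * spT m v c' = spT m v (c + c') := by
  apply gl_ext_mulVec
  intro x
  rw [Units.val_mul, ← Matrix.mulVec_mulVec, spT_mulVec, spT_mulVec, spT_mulVec, sympForm_add_left,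
    sympForm_smul_left, sympForm_self, mul_zero, add_zero]
  module

theorem lag_spE_conj (g : GL (Fin m ⊕ Fin m) F) (hg : g ∈ spGL m F) (w z : Fin m ⊕ Fin m → F) :
    g * spE m w z * g⁻¹ =
      spE m ((g : Matrix (Fin m ⊕ Fin m) (Fin m ⊕ Fin m) F) *ᵥ w)
        ((g : Matrix (Fin m ⊕ Fin m) (Fin m ⊕ Fin m) F) *ᵥ z) := by
  unfold spE
  rw [← Matrix.mulVec_add, ← spT_conj m g hg, ← spT_conj m g hg, ← spT_conj m g hg]
  group

theorem lag_spE_symm (w z : Fin m ⊕ Fin m → F) (hwz : sympForm m F w z = 0) :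
    spE m w z = spE m z w := by
  apply gl_ext_mulVec
  intro x
  rw [spE_mulVec m w z hwz, spE_mulVec m z w (by rw [sympForm_swap, hwz, neg_zero])]
  abel

/-- The commutator of two Siegel elements with a common vector is a transvection. -/
theorem lag_comm_identity (a b w : Fin m ⊕ Fin m → F) (hab : sympForm m F a b = 0)
    (haw : sympForm m F a w = 0) :
    spE m a b * spE m a w = spT m a (2 * sympForm m F w b) * spE m a w * spE m a b := by
  have hba : sympForm m F b a = 0 := by rw [sympForm_swap, hab, neg_zero]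
  have hwa : sympForm m F w a = 0 := by rw [sympForm_swap, haw, neg_zero]
  apply gl_ext_mulVec
  intro x
  rw [Units.val_mul, Units.val_mul, Units.val_mul, ← Matrix.mulVec_mulVec, ← Matrix.mulVec_mulVec,
    ← Matrix.mulVec_mulVec, spE_mulVec m a w haw, spE_mulVec m a b hab, spE_mulVec m a b hab,
    spE_mulVec m a w haw, spT_mulVec]
  simp only [sympForm_add_left, sympForm_smul_left, sympForm_self, hab, hba, haw, hwa, mul_zero,
    add_zero, zero_add]
  rw [sympForm_swap m w b]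
  module

/-- A pair of complementary totally isotropic subspaces. -/
structure LagPair (P Q : Submodule F (Fin m ⊕ Fin m → F)) : Prop where
  tsP : ∀ u ∈ P, ∀ v ∈ P, sympForm m F u v = 0
  tsQ : ∀ u ∈ Q, ∀ v ∈ Q, sympForm m F u v = 0
  disj : ∀ x, x ∈ P → x ∈ Q → x = 0
  span : ∀ x, ∃ p ∈ P, ∃ q ∈ Q, x = p + q

variable {m}

theorem LagPair.symm {P Q : Submodule F (Fin m ⊕ Fin m → F)} (h : LagPair m P Q) : LagPair m Q P where
  tsP := h.tsQ
  tsQ := h.tsP
  disj := fun x hx hx' => h.disj x hx' hx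
  span := fun x => by
    obtain ⟨p, hp, q, hq, rfl⟩ := h.span x
    exact ⟨q, hq, p, hp, add_comm p q⟩

/-- `Q^⊥ = Q`. -/
theorem LagPair.perpQ {P Q : Submodule F (Fin m ⊕ Fin m → F)} (h : LagPair m P Q)
    (x : Fin m ⊕ Fin m → F) (hx : ∀ q ∈ Q, sympForm m F x q = 0) : x ∈ Q := by
  obtain ⟨p, hp, q', hq', rfl⟩ := h.span x
  have hp0 : p = 0 := by
    by_contra hp0
    obtain ⟨w, hw⟩ := exists_sympForm_ne_zero m p hp0
    obtain ⟨p2, hp2, q2, hq2, rfl⟩ := h.span w
    apply hw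
    have h1 := hx q2 hq2
    rw [sympForm_add_left, h.tsQ q' hq' q2 hq2, add_zero] at h1
    rw [sympForm_add_right, h.tsP p hp p2 hp2, h1, add_zero]
  rw [hp0, zero_add]
  exact hq'

theorem LagPair.exists_one {P Q : Submodule F (Fin m ⊕ Fin m → F)} (h : LagPair m P Q)
    (p : Fin m ⊕ Fin m → F) (hp : p ∈ P) (hp0 : p ≠ 0) : ∃ q ∈ Q, sympForm m F p q = 1 := by
  have h1 : ∃ q ∈ Q, sympForm m F p q ≠ 0 := by
    by_contra hcon
    push Not at hcon
    exact hp0 (h.disj p hp (h.perpQ p hcon))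
  obtain ⟨q, hq, hpq⟩ := h1
  refine ⟨(sympForm m F p q)⁻¹ • q, Q.smul_mem _ hq, ?_⟩
  rw [sympForm_smul_right, inv_mul_cancel₀ hpq]

/-- If `w` is orthogonal to `Q ∩ a^⊥` then `w ∈ Q + ⟨a⟩`. -/
theorem LagPair.rel {P Q : Submodule F (Fin m ⊕ Fin m → F)} (h : LagPair m P Q)
    (a : Fin m ⊕ Fin m → F) (w : Fin m ⊕ Fin m → F)
    (hw : ∀ b ∈ Q, sympForm m F a b = 0 → sympForm m F w b = 0) : ∃ l : F, w - l • a ∈ Q := by
  by_cases h0 : ∀ b ∈ Q, sympForm m F a b = 0
  · refine ⟨0, h.perpQ _ (fun q hq => ?_)⟩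
    rw [zero_smul, sub_zero]
    exact hw q hq (h0 q hq)
  · push Not at h0
    obtain ⟨b₀, hb₀, hab₀⟩ := h0
    refine ⟨sympForm m F w b₀ / sympForm m F a b₀, h.perpQ _ (fun q hq => ?_)⟩
    have h1 := hw (q - (sympForm m F a q / sympForm m F a b₀) • b₀)
      (Q.sub_mem hq (Q.smul_mem _ hb₀)) (by
        rw [sympForm_sub_right, sympForm_smul_right, div_mul_cancel₀ _ hab₀, sub_self])
    rw [sympForm_sub_right, sympForm_smul_right] at h1
    rw [sympForm_sub_left, sympForm_smul_left]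
    have h2 : sympForm m F w q = sympForm m F a q / sympForm m F a b₀ * sympForm m F w b₀ :=
      sub_eq_zero.mp h1
    rw [h2]
    field_simp
    ring

variable (m)

/-- A subspace of dimension more than `k` has a non-zero vector orthogonal to `k` given vectors. -/
theorem lag_exists_perp (W : Submodule F (Fin m ⊕ Fin m → F)) (k : ℕ)
    (u : Fin k → (Fin m ⊕ Fin m → F)) (hk : k < finrank F W) :
    ∃ x ∈ W, x ≠ 0 ∧ ∀ i, sympForm m F x (u i) = 0 := by
  let φ : W →ₗ[F] (Fin k → F) :=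
    LinearMap.pi (fun i => ((sympBilin m (F := F)).flip (u i)).comp W.subtype)
  have hker : LinearMap.ker φ ≠ ⊥ :=
    LinearMap.ker_ne_bot_of_finrank_lt (by rw [Module.finrank_fin_fun]; exact hk)
  obtain ⟨x, hx, hx0⟩ := (Submodule.ne_bot_iff _).mp hker
  refine ⟨x, x.2, fun h => hx0 (Subtype.ext h), fun i => ?_⟩
  exact congrFun (LinearMap.mem_ker.mp hx) i

theorem lag_exists_perp4 (W : Submodule F (Fin m ⊕ Fin m → F))
    (u₁ u₂ u₃ u₄ : Fin m ⊕ Fin m → F) (hk : 5 ≤ finrank F W) :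
    ∃ x ∈ W, x ≠ 0 ∧ sympForm m F x u₁ = 0 ∧ sympForm m F x u₂ = 0 ∧ sympForm m F x u₃ = 0 ∧
      sympForm m F x u₄ = 0 := by
  obtain ⟨x, hx, hx0, h⟩ := lag_exists_perp m W 4 ![u₁, u₂, u₃, u₄] (by omega)
  exact ⟨x, hx, hx0, by simpa using h 0, by simpa using h 1, by simpa using h 2, by simpa using h 3⟩

end

section
variable {F : Type*} [Field F]

theorem lag_map_eq_of_forall {ι : Type} [Fintype ι] [DecidableEq ι] (W W' : Submodule F (ι → F))
    (g : GL ι F) (hdim : finrank F W = finrank F W')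
    (h : ∀ v ∈ W, (g : Matrix ι ι F) *ᵥ v ∈ W') :
    W.map (Matrix.toLin' (g : Matrix ι ι F)) = W' := by
  have hinj : Function.Injective (Matrix.toLin' (g : Matrix ι ι F)) := by
    intro x y hxy
    rw [Matrix.toLin'_apply, Matrix.toLin'_apply] at hxy
    have := congrArg (fun v => ((g⁻¹ : GL ι F) : Matrix ι ι F) *ᵥ v) hxy
    simpa only [gl_inv_mulVec_mulVec] using this
  apply Submodule.eq_of_le_of_finrank_eq
  · rintro _ ⟨v, hv, rfl⟩
    rw [Matrix.toLin'_apply]
    exact h v hv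
  · rw [← hdim]
    exact (LinearEquiv.finrank_eq (Submodule.equivMapOfInjective _ hinj W)).symm

/-- Membership in the stabiliser of a decomposition into two subspaces. -/
theorem lag_mem_decomp_iff {ι : Type} [Fintype ι] [DecidableEq ι] (D : Fin 2 → Submodule F (ι → F))
    (hdim : finrank F (D 0) = finrank F (D 1)) (g : GL ι F) :
    g ∈ decompositionStabilizer D ↔
      ((∀ a ∈ D 0, (g : Matrix ι ι F) *ᵥ a ∈ D 0) ∧ (∀ b ∈ D 1, (g : Matrix ι ι F) *ᵥ b ∈ D 1)) ∨
      ((∀ a ∈ D 0, (g : Matrix ι ι F) *ᵥ a ∈ D 1) ∧ (∀ b ∈ D 1, (g : Matrix ι ι F) *ᵥ b ∈ D 0)) := by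
  constructor
  · rintro ⟨σ, hσ⟩
    have key : ∀ i, ∀ a ∈ D i, (g : Matrix ι ι F) *ᵥ a ∈ D (σ i) := by
      intro i a ha
      rw [← hσ i]
      exact ⟨a, ha, Matrix.toLin'_apply _ _⟩
    by_cases h0 : σ 0 = 0
    · have h1 : σ 1 = 1 := by
        apply Fin.eq_one_of_ne_zero
        intro h
        have := σ.injective (h.trans h0.symm)
        exact absurd this (by decide)
      left
      refine ⟨fun a ha => ?_, fun b hb => ?_⟩
      · have := key 0 a ha
        rwa [h0] at this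
      · have := key 1 b hb
        rwa [h1] at this
    · have h0' : σ 0 = 1 := Fin.eq_one_of_ne_zero _ h0
      have h1 : σ 1 = 0 := by
        by_contra h
        have h1' : σ 1 = 1 := Fin.eq_one_of_ne_zero _ h
        have := σ.injective (h1'.trans h0'.symm)
        exact absurd this (by decide)
      right
      refine ⟨fun a ha => ?_, fun b hb => ?_⟩
      · have := key 0 a ha
        rwa [h0'] at this
      · have := key 1 b hb
        rwa [h1] at this
  · rintro (⟨h0, h1⟩ | ⟨h0, h1⟩)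
    · refine ⟨1, fun i => ?_⟩
      fin_cases i
      · exact lag_map_eq_of_forall (D 0) (D 0) g rfl h0
      · exact lag_map_eq_of_forall (D 1) (D 1) g rfl h1
    · refine ⟨Equiv.swap 0 1, fun i => ?_⟩
      fin_cases i
      · exact lag_map_eq_of_forall (D 0) (D 1) g hdim h0
      · exact lag_map_eq_of_forall (D 1) (D 0) g hdim.symm h1

/-- A linear image of a subspace contained in the union of two subspaces lies in one of them. -/
theorem lag_union {ι : Type} [Fintype ι] [DecidableEq ι] (W A B : Submodule F (ι → F))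
    (G : Matrix ι ι F) (h : ∀ a ∈ W, G *ᵥ a ∈ A ∨ G *ᵥ a ∈ B) :
    (∀ a ∈ W, G *ᵥ a ∈ A) ∨ (∀ a ∈ W, G *ᵥ a ∈ B) := by
  by_contra hcon
  push Not at hcon
  obtain ⟨⟨a, ha, haA⟩, ⟨a', ha', ha'B⟩⟩ := hcon
  have haB : G *ᵥ a ∈ B := (h a ha).resolve_left haA
  have ha'A : G *ᵥ a' ∈ A := (h a' ha').resolve_right ha'B
  rcases h (a + a') (W.add_mem ha ha') with h1 | h1
  · rw [Matrix.mulVec_add] at h1
    apply haA
    have := A.sub_mem h1 ha'A
    rwa [add_sub_cancel_right] at this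
  · rw [Matrix.mulVec_add] at h1
    apply ha'B
    have := B.sub_mem h1 haB
    rwa [add_sub_cancel_left] at this

end

end Cfsg.Agent.Lib.helper17
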