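import Cfsg.Agent.Lib.helper17.SpLag1

/-!
An overgroup of the stabiliser of a pair of complementary totally isotropic subspaces in `Sp_2m(q)`,
`q` odd, contains a transvection.
-/

set_option autoImplicit false

namespace Cfsg.Agent.Lib.helper17

open Matrix Cfsg Cfsg.Geo Module Cfsg.Agent.Lib.helper95

section
variable {F : Type*} [Field F] (m : ℕ)

theorem lag_mulVec_ne_zero (k : GL (Fin m ⊕ Fin m) F) (x : Fin m ⊕ Fin m → F) (hx : x ≠ 0) :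
    (k : Matrix (Fin m ⊕ Fin m) (Fin m ⊕ Fin m) F) *ᵥ x ≠ 0 := by
  intro h
  apply hx
  have := congrArg (fun v => ((k⁻¹ : GL (Fin m ⊕ Fin m) F) :
    Matrix (Fin m ⊕ Fin m) (Fin m ⊕ Fin m) F) *ᵥ v) h
  simpa only [gl_inv_mulVec_mulVec, Matrix.mulVec_zero] using this

/-- The Siegel elements `E(p, q)`, `p ∈ D 0`, `q ∈ D 1`, stabilise the decomposition. -/
theorem lag_spE_mem_stab {D : Fin 2 → Submodule F (Fin m ⊕ Fin m → F)}
    (hL : LagPair m (D 0) (D 1)) (hdim : finrank F (D 0) = finrank F (D 1))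
    (p q : Fin m ⊕ Fin m → F) (hp : p ∈ D 0) (hq : q ∈ D 1) (hpq : sympForm m F p q = 0) :
    spE m p q ∈ decompositionStabilizer D ⊓ spGL m F := by
  refine ⟨(lag_mem_decomp_iff D hdim _).mpr (Or.inl ⟨fun a ha => ?_, fun b hb => ?_⟩), spE_mem m p q⟩
  · rw [spE_mulVec m p q hpq, hL.tsP a ha p hp, zero_smul, add_zero]
    exact (D 0).add_mem ha ((D 0).smul_mem _ hp)
  · rw [spE_mulVec m p q hpq, hL.tsQ b hb q hq, zero_smul, add_zero]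
    exact (D 1).add_mem hb ((D 1).smul_mem _ hq)

/-- The key commutator argument. -/
theorem lag_claim (h2 : (2 : F) ≠ 0) {P Q : Submodule F (Fin m ⊕ Fin m → F)} (hL : LagPair m P Q)
    (M : Subgroup (GL (Fin m ⊕ Fin m) F)) (hMG : M ≤ spGL m F)
    (hE : ∀ p ∈ P, ∀ q ∈ Q, sympForm m F p q = 0 → spE m p q ∈ M)
    (hNT : ∀ v ∈ P, v ≠ 0 → ∀ c, spT m v c ∈ M → c = 0)
    (k : GL (Fin m ⊕ Fin m) F) (hk : k ∈ M) (p₁ : Fin m ⊕ Fin m → F) (hp₁ : p₁ ∈ P)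
    (hkp : (k : Matrix (Fin m ⊕ Fin m) (Fin m ⊕ Fin m) F) *ᵥ p₁ ∈ P) (hp0 : p₁ ≠ 0)
    (q₁ : Fin m ⊕ Fin m → F) (hq₁ : q₁ ∈ Q) (hpq : sympForm m F p₁ q₁ = 0) :
    ∃ l : F, (k : Matrix (Fin m ⊕ Fin m) (Fin m ⊕ Fin m) F) *ᵥ q₁ -
      l • ((k : Matrix (Fin m ⊕ Fin m) (Fin m ⊕ Fin m) F) *ᵥ p₁) ∈ Q := by
  obtain ⟨a, ha⟩ : ∃ a, a = (k : Matrix (Fin m ⊕ Fin m) (Fin m ⊕ Fin m) F) *ᵥ p₁ := ⟨_, rfl⟩
  obtain ⟨w, hw⟩ : ∃ w, w = (k : Matrix (Fin m ⊕ Fin m) (Fin m ⊕ Fin m) F) *ᵥ q₁ := ⟨_, rfl⟩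
  have ha0 : a ≠ 0 := by rw [ha]; exact lag_mulVec_ne_zero m k p₁ hp0
  have haw : sympForm m F a w = 0 := by
    rw [ha, hw, (mem_spGL_iff m k).mp (hMG hk)]
    exact hpq
  have hEaw : spE m a w ∈ M := by
    rw [ha, hw, ← lag_spE_conj m k (hMG hk)]
    exact M.mul_mem (M.mul_mem hk (hE p₁ hp₁ q₁ hq₁ hpq)) (M.inv_mem hk)
  rw [← ha, ← hw]
  rw [← ha] at hkp
  apply hL.rel a w
  intro b hb hab
  have hEab := hE a hkp b hb hab
  have hT : spT m a (2 * sympForm m F w b) ∈ M := by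
    have e := lag_comm_identity m a b w hab haw
    have e' : spT m a (2 * sympForm m F w b) = spE m a b * spE m a w * (spE m a b)⁻¹ * (spE m a w)⁻¹ := by
      rw [e]
      group
    rw [e']
    exact M.mul_mem (M.mul_mem (M.mul_mem hEab hEaw) (M.inv_mem hEab)) (M.inv_mem hEaw)
  have h3 := hNT a hkp ha0 _ hT
  exact (mul_eq_zero.mp h3).resolve_left h2

theorem lag_star (h2 : (2 : F) ≠ 0) {P Q : Submodule F (Fin m ⊕ Fin m → F)} (hL : LagPair m P Q)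
    (z w : Fin m ⊕ Fin m → F) (hz : z ∈ P)
    (h : ∀ x ∈ Q, sympForm m F x z • w + sympForm m F x w • z = 0) : z = 0 ∨ w = 0 := by
  by_contra hcon
  push Not at hcon
  obtain ⟨hz0, hw0⟩ := hcon
  obtain ⟨x, hx, hzx⟩ := hL.exists_one z hz hz0
  have hxz : sympForm m F x z = -1 := by rw [sympForm_swap, hzx]
  have h1 := h x hx
  rw [hxz] at h1
  have hw' : w = sympForm m F x w • z := by
    linear_combination (norm := module) (-1 : F) • h1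
  have hμ : sympForm m F x w = 0 := by
    have h3 : sympForm m F x w = sympForm m F x w * sympForm m F x z := by
      conv_lhs => rw [hw']
      rw [sympForm_smul_right]
    rw [hxz] at h3
    have h4 : (2 : F) * sympForm m F x w = 0 := by linear_combination h3
    exact (mul_eq_zero.mp h4).resolve_left h2
  rw [hμ, zero_smul] at hw'
  exact hw0 hw'

/-- An element of an overgroup (without suitable transvections) mapping a non-zero vector of `D 0`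
into `D 0` stabilises the decomposition. -/
theorem lag_lemmaA (h2 : (2 : F) ≠ 0) {D : Fin 2 → Submodule F (Fin m ⊕ Fin m → F)}
    (hL : LagPair m (D 0) (D 1)) (hdim0 : 5 ≤ finrank F (D 0)) (hdim1 : 5 ≤ finrank F (D 1))
    (hdim : finrank F (D 0) = finrank F (D 1))
    (M : Subgroup (GL (Fin m ⊕ Fin m) F)) (hMG : M ≤ spGL m F)
    (hHM : decompositionStabilizer D ⊓ spGL m F ≤ M)
    (hNT : ∀ v, (v ∈ D 0 ∨ v ∈ D 1) → v ≠ 0 → ∀ c, spT m v c ∈ M → c = 0)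
    (k : GL (Fin m ⊕ Fin m) F) (hk : k ∈ M) (a₁ : Fin m ⊕ Fin m → F) (ha₁ : a₁ ∈ D 0)
    (ha₁0 : a₁ ≠ 0) (hka₁ : (k : Matrix (Fin m ⊕ Fin m) (Fin m ⊕ Fin m) F) *ᵥ a₁ ∈ D 0) :
    k ∈ decompositionStabilizer D := by
  have hE01 : ∀ p ∈ D 0, ∀ q ∈ D 1, sympForm m F p q = 0 → spE m p q ∈ M :=
    fun p hp q hq hpq => hHM (lag_spE_mem_stab m hL hdim p q hp hq hpq)
  have hE10 : ∀ p ∈ D 1, ∀ q ∈ D 0, sympForm m F p q = 0 → spE m p q ∈ M := by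
    intro p hp q hq hpq
    rw [lag_spE_symm m p q hpq]
    exact hE01 q hq p hp (by rw [sympForm_swap, hpq, neg_zero])
  have hNT0 : ∀ v ∈ D 0, v ≠ 0 → ∀ c, spT m v c ∈ M → c = 0 := fun v hv => hNT v (Or.inl hv)
  have hNT1 : ∀ v ∈ D 1, v ≠ 0 → ∀ c, spT m v c ∈ M → c = 0 := fun v hv => hNT v (Or.inr hv)
  obtain ⟨bs, hbs, habs⟩ := hL.exists_one _ hka₁ (lag_mulVec_ne_zero m k a₁ ha₁0)
  obtain ⟨kb, hkb⟩ : ∃ kb, kb = ((k⁻¹ : GL (Fin m ⊕ Fin m) F) :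
      Matrix (Fin m ⊕ Fin m) (Fin m ⊕ Fin m) F) *ᵥ bs := ⟨_, rfl⟩
  have hB : ∀ q₁ ∈ D 1, sympForm m F q₁ a₁ = 0 → sympForm m F q₁ kb = 0 →
      (k : Matrix (Fin m ⊕ Fin m) (Fin m ⊕ Fin m) F) *ᵥ q₁ ∈ D 1 := by
    intro q₁ hq₁ h1 h2'
    obtain ⟨l, hl⟩ := lag_claim m h2 hL M hMG hE01 hNT0 k hk a₁ ha₁ hka₁ ha₁0 q₁ hq₁
      (by rw [sympForm_swap, h1, neg_zero])
    have h3 := hL.tsQ _ hl bs hbs
    rw [sympForm_sub_left, sympForm_smul_left, habs, mul_one] at h3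
    have h4 : sympForm m F ((k : Matrix (Fin m ⊕ Fin m) (Fin m ⊕ Fin m) F) *ᵥ q₁) bs = 0 := by
      have h5 := (mem_spGL_iff m k).mp (hMG hk) q₁ kb
      rw [hkb, gl_mulVec_inv_mulVec] at h5
      rw [h5, ← hkb]
      exact h2'
    have hl0 : l = 0 := by
      rw [h4, zero_sub, neg_eq_zero] at h3
      exact h3
    rw [hl0, zero_smul, sub_zero] at hl
    exact hl
  -- a general "two witnesses" argument
  have hfin : ∀ (P Q : Submodule F (Fin m ⊕ Fin m → F)), LagPair m P Q →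
      ∀ (x q₁ q₂ y : Fin m ⊕ Fin m → F) (l l' : F),
      (k : Matrix (Fin m ⊕ Fin m) (Fin m ⊕ Fin m) F) *ᵥ q₁ ∈ Q →
      (k : Matrix (Fin m ⊕ Fin m) (Fin m ⊕ Fin m) F) *ᵥ q₂ ∈ Q →
      sympForm m F q₁ y ≠ 0 → sympForm m F q₂ y = 0 →
      (k : Matrix (Fin m ⊕ Fin m) (Fin m ⊕ Fin m) F) *ᵥ x -
        l • ((k : Matrix (Fin m ⊕ Fin m) (Fin m ⊕ Fin m) F) *ᵥ q₁) ∈ P →
      (k : Matrix (Fin m ⊕ Fin m) (Fin m ⊕ Fin m) F) *ᵥ x -
        l' • ((k : Matrix (Fin m ⊕ Fin m) (Fin m ⊕ Fin m) F) *ᵥ q₂) ∈ P →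
      (k : Matrix (Fin m ⊕ Fin m) (Fin m ⊕ Fin m) F) *ᵥ x ∈ P := by
    intro P Q hPQ x q₁ q₂ y l l' g1 g2 hy1 hy2 hl hl'
    have hd : l • ((k : Matrix (Fin m ⊕ Fin m) (Fin m ⊕ Fin m) F) *ᵥ q₁) -
        l' • ((k : Matrix (Fin m ⊕ Fin m) (Fin m ⊕ Fin m) F) *ᵥ q₂) = 0 := by
      apply hPQ.disj
      · have h3 := P.sub_mem hl' hl
        have e : (k : Matrix (Fin m ⊕ Fin m) (Fin m ⊕ Fin m) F) *ᵥ x -
            l' • ((k : Matrix (Fin m ⊕ Fin m) (Fin m ⊕ Fin m) F) *ᵥ q₂) -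
            ((k : Matrix (Fin m ⊕ Fin m) (Fin m ⊕ Fin m) F) *ᵥ x -
            l • ((k : Matrix (Fin m ⊕ Fin m) (Fin m ⊕ Fin m) F) *ᵥ q₁)) =
            l • ((k : Matrix (Fin m ⊕ Fin m) (Fin m ⊕ Fin m) F) *ᵥ q₁) -
            l' • ((k : Matrix (Fin m ⊕ Fin m) (Fin m ⊕ Fin m) F) *ᵥ q₂) := by abel
        rw [e] at h3
        exact h3
      · exact Q.sub_mem (Q.smul_mem _ g1) (Q.smul_mem _ g2)
    have hd' : l • q₁ - l' • q₂ = 0 := by
      have h3 := congrArg (fun v => ((k⁻¹ : GL (Fin m ⊕ Fin m) F) :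
        Matrix (Fin m ⊕ Fin m) (Fin m ⊕ Fin m) F) *ᵥ v) hd
      simp only [Matrix.mulVec_sub, Matrix.mulVec_smul, gl_inv_mulVec_mulVec, Matrix.mulVec_zero] at h3
      exact h3
    have hl0 : l = 0 := by
      have h3 := congrArg (fun v => sympForm m F v y) hd'
      simp only [sympForm_sub_left, sympForm_smul_left, hy2, sympForm_zero_left, mul_zero,
        sub_zero] at h3
      exact (mul_eq_zero.mp h3).resolve_right hy1
    rw [hl0, zero_smul, sub_zero] at hl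
    exact hl
  have h00 : ∀ x ∈ D 0, (k : Matrix (Fin m ⊕ Fin m) (Fin m ⊕ Fin m) F) *ᵥ x ∈ D 0 := by
    intro x hx
    obtain ⟨q₁, hq₁, hq₁0, e1, e2, e3, -⟩ := lag_exists_perp4 m (D 1) a₁ kb x x hdim1
    obtain ⟨y, hy⟩ := exists_sympForm_ne_zero m q₁ hq₁0
    obtain ⟨q₂, hq₂, hq₂0, e1', e2', e3', e4'⟩ := lag_exists_perp4 m (D 1) a₁ kb x y hdim1
    have g1 := hB q₁ hq₁ e1 e2
    have g2 := hB q₂ hq₂ e1' e2'
    obtain ⟨l, hl⟩ := lag_claim m h2 hL.symm M hMG hE10 hNT1 k hk q₁ hq₁ g1 hq₁0 x hx e3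
    obtain ⟨l', hl'⟩ := lag_claim m h2 hL.symm M hMG hE10 hNT1 k hk q₂ hq₂ g2 hq₂0 x hx e3'
    exact hfin (D 0) (D 1) hL x q₁ q₂ y l l' g1 g2 hy e4' hl hl'
  have h11 : ∀ b ∈ D 1, (k : Matrix (Fin m ⊕ Fin m) (Fin m ⊕ Fin m) F) *ᵥ b ∈ D 1 := by
    intro b hb
    obtain ⟨p₁, hp₁, hp₁0, e1, -, -, -⟩ := lag_exists_perp4 m (D 0) b b b b hdim0
    obtain ⟨y, hy⟩ := exists_sympForm_ne_zero m p₁ hp₁0
    obtain ⟨p₂, hp₂, hp₂0, e1', e2', -, -⟩ := lag_exists_perp4 m (D 0) b y y y hdim0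
    obtain ⟨l, hl⟩ := lag_claim m h2 hL M hMG hE01 hNT0 k hk p₁ hp₁ (h00 p₁ hp₁) hp₁0 b hb e1
    obtain ⟨l', hl'⟩ := lag_claim m h2 hL M hMG hE01 hNT0 k hk p₂ hp₂ (h00 p₂ hp₂) hp₂0 b hb e1'
    exact hfin (D 1) (D 0) hL.symm b p₁ p₂ y l l' (h00 p₁ hp₁) (h00 p₂ hp₂) hy e2' hl hl'
  exact (lag_mem_decomp_iff D hdim k).mpr (Or.inl ⟨h00, h11⟩)

/-- A proper overgroup of the stabiliser of the pair contains a transvection centred in `D 0 ∪ D 1`. -/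
theorem lag_exists_transv (h2 : (2 : F) ≠ 0) {D : Fin 2 → Submodule F (Fin m ⊕ Fin m → F)}
    (hL : LagPair m (D 0) (D 1)) (hdim0 : 5 ≤ finrank F (D 0)) (hdim1 : 5 ≤ finrank F (D 1))
    (hdim : finrank F (D 0) = finrank F (D 1))
    (M : Subgroup (GL (Fin m ⊕ Fin m) F)) (hMG : M ≤ spGL m F)
    (hHM : decompositionStabilizer D ⊓ spGL m F ≤ M)
    (g : GL (Fin m ⊕ Fin m) F) (hgM : g ∈ M) (hgH : g ∉ decompositionStabilizer D) :
    ∃ v, (v ∈ D 0 ∨ v ∈ D 1) ∧ v ≠ 0 ∧ ∃ c, c ≠ 0 ∧ spT m v c ∈ M := by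
  by_contra hcon
  have hNT : ∀ v, (v ∈ D 0 ∨ v ∈ D 1) → v ≠ 0 → ∀ c, spT m v c ∈ M → c = 0 := by
    intro v hv hv0 c hc
    by_contra hc0
    exact hcon ⟨v, hv, hv0, c, hc0, hc⟩
  apply hgH
  have hα : ∀ a ∈ D 0, a ≠ 0 → ∀ b ∈ D 1, b ≠ 0 → sympForm m F a b = 0 →
      ((g : Matrix (Fin m ⊕ Fin m) (Fin m ⊕ Fin m) F) *ᵥ a ∈ D 0 ∧
        (g : Matrix (Fin m ⊕ Fin m) (Fin m ⊕ Fin m) F) *ᵥ b ∈ D 1) ∨
      ((g : Matrix (Fin m ⊕ Fin m) (Fin m ⊕ Fin m) F) *ᵥ a ∈ D 1 ∧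
        (g : Matrix (Fin m ⊕ Fin m) (Fin m ⊕ Fin m) F) *ᵥ b ∈ D 0) := by
    intro a ha ha0 b hb hb0 hab
    obtain ⟨z, hz⟩ : ∃ z, z = (g : Matrix (Fin m ⊕ Fin m) (Fin m ⊕ Fin m) F) *ᵥ a := ⟨_, rfl⟩
    obtain ⟨w, hw⟩ : ∃ w, w = (g : Matrix (Fin m ⊕ Fin m) (Fin m ⊕ Fin m) F) *ᵥ b := ⟨_, rfl⟩
    rw [← hz, ← hw]
    have hz_ne : z ≠ 0 := by rw [hz]; exact lag_mulVec_ne_zero m g a ha0
    have hw_ne : w ≠ 0 := by rw [hw]; exact lag_mulVec_ne_zero m g b hb0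
    have hzw : sympForm m F z w = 0 := by
      rw [hz, hw, (mem_spGL_iff m g).mp (hMG hgM)]
      exact hab
    have hkM : spE m z w ∈ M := by
      rw [hz, hw, ← lag_spE_conj m g (hMG hgM)]
      exact M.mul_mem (M.mul_mem hgM (hHM (lag_spE_mem_stab m hL hdim a b ha hb hab))) (M.inv_mem hgM)
    obtain ⟨a₁, ha₁, ha₁0, h1, h2', -, -⟩ := lag_exists_perp4 m (D 0) z w w w hdim0
    have hfix : ((spE m z w : GL (Fin m ⊕ Fin m) F) : Matrix (Fin m ⊕ Fin m) (Fin m ⊕ Fin m) F) *ᵥ a₁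
        = a₁ := by
      rw [spE_mulVec m z w hzw, h1, h2', zero_smul, zero_smul, add_zero, add_zero]
    have hkH : spE m z w ∈ decompositionStabilizer D :=
      lag_lemmaA m h2 hL hdim0 hdim1 hdim M hMG hHM hNT (spE m z w) hkM a₁ ha₁ ha₁0
        (by rw [hfix]; exact ha₁)
    rcases (lag_mem_decomp_iff D hdim _).mp hkH with ⟨e0, e1⟩ | ⟨e0, e1⟩
    swap
    · exfalso
      have h3 := e0 a₁ ha₁
      rw [hfix] at h3
      exact ha₁0 (hL.disj a₁ ha₁ h3)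
    have d0 : ∀ x ∈ D 0, sympForm m F x z • w + sympForm m F x w • z ∈ D 0 := by
      intro x hx
      have h3 := (D 0).sub_mem (e0 x hx) hx
      rw [spE_mulVec m z w hzw] at h3
      have e : x + sympForm m F x z • w + sympForm m F x w • z - x =
          sympForm m F x z • w + sympForm m F x w • z := by abel
      rw [e] at h3
      exact h3
    have d1 : ∀ x ∈ D 1, sympForm m F x z • w + sympForm m F x w • z ∈ D 1 := by
      intro x hx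
      have h3 := (D 1).sub_mem (e1 x hx) hx
      rw [spE_mulVec m z w hzw] at h3
      have e : x + sympForm m F x z • w + sympForm m F x w • z - x =
          sympForm m F x z • w + sympForm m F x w • z := by abel
      rw [e] at h3
      exact h3
    obtain ⟨z0, hz0, z1, hz1, hzd⟩ := hL.span z
    obtain ⟨w0, hw0, w1, hw1, hwd⟩ := hL.span w
    have s0 : ∀ x ∈ D 0, sympForm m F x z1 • w1 + sympForm m F x w1 • z1 = 0 := by
      intro x hx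
      have h3 := d0 x hx
      rw [hzd, hwd, sympForm_add_right, sympForm_add_right, hL.tsP x hx z0 hz0, hL.tsP x hx w0 hw0,
        zero_add, zero_add] at h3
      apply hL.disj
      · have h4 : sympForm m F x z1 • w1 + sympForm m F x w1 • z1 =
            (sympForm m F x z1 • (w0 + w1) + sympForm m F x w1 • (z0 + z1)) -
            (sympForm m F x z1 • w0 + sympForm m F x w1 • z0) := by module
        rw [h4]
        exact (D 0).sub_mem h3 ((D 0).add_mem ((D 0).smul_mem _ hw0) ((D 0).smul_mem _ hz0))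
      · exact (D 1).add_mem ((D 1).smul_mem _ hw1) ((D 1).smul_mem _ hz1)
    have s1 : ∀ x ∈ D 1, sympForm m F x z0 • w0 + sympForm m F x w0 • z0 = 0 := by
      intro x hx
      have h3 := d1 x hx
      rw [hzd, hwd, sympForm_add_right, sympForm_add_right, hL.tsQ x hx z1 hz1, hL.tsQ x hx w1 hw1,
        add_zero, add_zero] at h3
      apply hL.disj
      · exact (D 0).add_mem ((D 0).smul_mem _ hw0) ((D 0).smul_mem _ hz0)
      · have h4 : sympForm m F x z0 • w0 + sympForm m F x w0 • z0 =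
            (sympForm m F x z0 • (w0 + w1) + sympForm m F x w0 • (z0 + z1)) -
            (sympForm m F x z0 • w1 + sympForm m F x w0 • z1) := by module
        rw [h4]
        exact (D 1).sub_mem h3 ((D 1).add_mem ((D 1).smul_mem _ hw1) ((D 1).smul_mem _ hz1))
    have t0 : z1 = 0 ∨ w1 = 0 := lag_star m h2 hL.symm z1 w1 hz1 s0
    have t1 : z0 = 0 ∨ w0 = 0 := lag_star m h2 hL z0 w0 hz0 s1
    rcases t0 with t0 | t0 <;> rcases t1 with t1 | t1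
    · exfalso
      apply hz_ne
      rw [hzd, t0, t1, add_zero]
    · left
      refine ⟨?_, ?_⟩
      · rw [hzd, t0, add_zero]; exact hz0
      · rw [hwd, t1, zero_add]; exact hw1
    · right
      refine ⟨?_, ?_⟩
      · rw [hzd, t1, zero_add]; exact hz1
      · rw [hwd, t0, add_zero]; exact hw0
    · exfalso
      apply hw_ne
      rw [hwd, t0, t1, add_zero]
  have hpart0 : ∀ a ∈ D 0, a ≠ 0 → ∃ b ∈ D 1, b ≠ 0 ∧ sympForm m F a b = 0 := by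
    intro a ha ha0
    obtain ⟨b, hb, hb0, h1, -⟩ := lag_exists_perp4 m (D 1) a a a a hdim1
    exact ⟨b, hb, hb0, by rw [sympForm_swap, h1, neg_zero]⟩
  have hpart1 : ∀ b ∈ D 1, b ≠ 0 → ∃ a ∈ D 0, a ≠ 0 ∧ sympForm m F a b = 0 := by
    intro b hb hb0
    obtain ⟨a, ha, ha0, h1, -⟩ := lag_exists_perp4 m (D 0) b b b b hdim0
    exact ⟨a, ha, ha0, h1⟩
  have hA0 : ∀ a ∈ D 0, (g : Matrix (Fin m ⊕ Fin m) (Fin m ⊕ Fin m) F) *ᵥ a ∈ D 0 ∨
      (g : Matrix (Fin m ⊕ Fin m) (Fin m ⊕ Fin m) F) *ᵥ a ∈ D 1 := by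
    intro a ha
    by_cases ha0 : a = 0
    · left
      rw [ha0, Matrix.mulVec_zero]
      exact (D 0).zero_mem
    · obtain ⟨b, hb, hb0, hab⟩ := hpart0 a ha ha0
      rcases hα a ha ha0 b hb hb0 hab with h | h
      · exact Or.inl h.1
      · exact Or.inr h.1
  have hA1 : ∀ b ∈ D 1, (g : Matrix (Fin m ⊕ Fin m) (Fin m ⊕ Fin m) F) *ᵥ b ∈ D 1 ∨
      (g : Matrix (Fin m ⊕ Fin m) (Fin m ⊕ Fin m) F) *ᵥ b ∈ D 0 := by
    intro b hb
    by_cases hb0 : b = 0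
    · left
      rw [hb0, Matrix.mulVec_zero]
      exact (D 1).zero_mem
    · obtain ⟨a, ha, ha0, hab⟩ := hpart1 b hb hb0
      rcases hα a ha ha0 b hb hb0 hab with h | h
      · exact Or.inl h.2
      · exact Or.inr h.2
  obtain ⟨a, ha, ha0, -⟩ := lag_exists_perp4 m (D 0) 0 0 0 0 hdim0
  obtain ⟨b, hb, hb0, hab⟩ := hpart0 a ha ha0
  rcases lag_union (D 0) (D 0) (D 1) _ hA0 with u0 | u0 <;>
    rcases lag_union (D 1) (D 1) (D 0) _ hA1 with u1 | u1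
  · exact (lag_mem_decomp_iff D hdim g).mpr (Or.inl ⟨u0, u1⟩)
  · exfalso
    rcases hα a ha ha0 b hb hb0 hab with h | h
    · exact lag_mulVec_ne_zero m g b hb0 (hL.disj _ (u1 b hb) h.2)
    · exact lag_mulVec_ne_zero m g a ha0 (hL.disj _ (u0 a ha) h.1)
  · exfalso
    rcases hα a ha ha0 b hb hb0 hab with h | h
    · exact lag_mulVec_ne_zero m g a ha0 (hL.disj _ h.1 (u0 a ha))
    · exact lag_mulVec_ne_zero m g b hb0 (hL.disj _ h.2 (u1 b hb))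
  · exact (lag_mem_decomp_iff D hdim g).mpr (Or.inr ⟨u0, u1⟩)

end

end Cfsg.Agent.Lib.helper17
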