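import Cfsg.Agent.Lib.helper17.SpLag2

/-!
The stabiliser of a pair of complementary totally isotropic subspaces is maximal in `Sp_2m(q)`, `q` odd.
-/

set_option autoImplicit false

namespace Cfsg.Agent.Lib.helper17

open Matrix Cfsg Cfsg.Geo Module Cfsg.Agent.Lib.helper95

section
variable {F : Type*} [Field F] (m : ℕ)

/-- From one transvection centred in `P`, all transvections centred in `P`. -/
theorem lag_transv_P [Finite F] (h2 : (2 : F) ≠ 0) {P Q : Submodule F (Fin m ⊕ Fin m → F)}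
    (hL : LagPair m P Q) (hdimP : 5 ≤ finrank F P)
    (M : Subgroup (GL (Fin m ⊕ Fin m) F)) (hMG : M ≤ spGL m F)
    (hE : ∀ p ∈ P, ∀ q ∈ Q, sympForm m F q p = 0 → spE m q p ∈ M)
    (v : Fin m ⊕ Fin m → F) (hv : v ∈ P) (hv0 : v ≠ 0) (c₀ : F) (hc₀ : c₀ ≠ 0)
    (hT : spT m v c₀ ∈ M) : ∀ a ∈ P, ∀ c, spT m a c ∈ M := by
  have hOS : ∀ u ∈ P, ∀ a ∈ P, ∀ c, spT m u c ∈ M → (¬ ∃ l : F, u = l • (a - u)) →
      spT m a c ∈ M := by
    intro u hu a ha c hTu hnot
    have hex : ∃ b ∈ Q, sympForm m F (a - u) b = 0 ∧ sympForm m F u b ≠ 0 := by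
      by_contra hcon
      push Not at hcon
      obtain ⟨l, hl⟩ := hL.rel (a - u) u hcon
      exact hnot ⟨l, sub_eq_zero.mp (hL.disj _ (P.sub_mem hu (P.smul_mem _ (P.sub_mem ha hu))) hl)⟩
    obtain ⟨b, hb, h1, h2'⟩ := hex
    obtain ⟨b', hb'def⟩ : ∃ b', b' = (sympForm m F u b)⁻¹ • b := ⟨_, rfl⟩
    have hb'Q : b' ∈ Q := by rw [hb'def]; exact Q.smul_mem _ hb
    have hb' : sympForm m F u b' = 1 := by
      rw [hb'def, sympForm_smul_right, inv_mul_cancel₀ h2']
    have hb'2 : sympForm m F b' (a - u) = 0 := by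
      rw [hb'def, sympForm_smul_left, sympForm_swap m (a - u) b, h1, neg_zero, mul_zero]
    have hEM : spE m b' (a - u) ∈ M := hE (a - u) (P.sub_mem ha hu) b' hb'Q hb'2
    have hmap : ((spE m b' (a - u) : GL (Fin m ⊕ Fin m) F) :
        Matrix (Fin m ⊕ Fin m) (Fin m ⊕ Fin m) F) *ᵥ u = a := by
      rw [spE_mulVec m b' (a - u) hb'2, hb', hL.tsP u hu (a - u) (P.sub_mem ha hu), one_smul,
        zero_smul, add_zero]
      abel
    rw [← hmap, ← spT_conj m _ (hMG hEM)]
    exact M.mul_mem (M.mul_mem hEM hTu) (M.inv_mem hEM)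
  obtain ⟨q, hq, hvq⟩ := hL.exists_one v hv hv0
  obtain ⟨p, hp, hp0, hpq, -⟩ := lag_exists_perp4 m P q q q q hdimP
  have hTp : spT m p c₀ ∈ M := by
    apply hOS v hv p hp c₀ hT
    rintro ⟨l, hl⟩
    have h3 := congrArg (fun x => sympForm m F x q) hl
    simp only [sympForm_smul_left, sympForm_sub_left, hvq, hpq] at h3
    have hl1 : l = -1 := by linear_combination h3
    rw [hl1] at hl
    apply hp0
    have h4 : p = 0 := by linear_combination (norm := module) hl
    exact h4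
  have hTv : ∀ μ : F, μ ≠ 0 → spT m (μ • v) c₀ ∈ M := by
    intro μ hμ
    apply hOS p hp (μ • v) (P.smul_mem _ hv) c₀ hTp
    rintro ⟨l, hl⟩
    have h3 := congrArg (fun x => sympForm m F x q) hl
    simp only [sympForm_smul_left, sympForm_sub_left, hvq, hpq, mul_one, sub_zero] at h3
    have hl0 : l = 0 := (mul_eq_zero.mp h3.symm).resolve_right hμ
    rw [hl0, zero_smul] at hl
    exact hp0 hl
  have hsq : ∀ t : F, spT m v (t * t * c₀) ∈ M := by
    intro t
    by_cases ht : t = 0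
    · rw [ht, zero_mul, zero_mul, lag_spT_zero']
      exact M.one_mem
    · rw [← spT_smul]
      exact hTv t ht
  have hvS : ∀ c, spT m v c ∈ M := by
    intro c
    by_cases hc : c = 0
    · rw [hc, lag_spT_zero']
      exact M.one_mem
    · obtain ⟨x, y, hxy⟩ := exists_sq_add_sq_eq_one h2 (c₀ / c) (c₀ / c) (div_ne_zero hc₀ hc)
        (div_ne_zero hc₀ hc)
      have e : c = x * x * c₀ + y * y * c₀ := by
        field_simp at hxy
        linear_combination -hxy
      rw [e, ← lag_spT_add]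
      exact M.mul_mem (hsq x) (hsq y)
  intro a ha c
  by_cases h : ∃ l : F, v = l • (a - v)
  · obtain ⟨l, hl⟩ := h
    have hl0 : l ≠ 0 := by
      rintro rfl
      rw [zero_smul] at hl
      exact hv0 hl
    have ha' : a = (1 + l⁻¹) • v := by
      have h3 : l⁻¹ • v = a - v := by
        have h4 := congrArg (fun x => l⁻¹ • x) hl
        simp only [smul_smul, inv_mul_cancel₀ hl0, one_smul] at h4
        exact h4
      rw [add_smul, one_smul, h3]
      abel
    rw [ha', spT_smul]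
    exact hvS _
  · exact hOS v hv a ha c (hvS c) h

/-- An element of `Sp` interchanging the two members of a pair. -/
theorem lag_exists_swap {P Q : Submodule F (Fin m ⊕ Fin m → F)} (hL : LagPair m P Q) (n : ℕ)
    (hP : finrank F P = n) (hQ : finrank F Q = n) :
    ∃ s : GL (Fin m ⊕ Fin m) F, s ∈ spGL m F ∧
      (∀ a ∈ P, (s : Matrix (Fin m ⊕ Fin m) (Fin m ⊕ Fin m) F) *ᵥ a ∈ Q) ∧
      (∀ b ∈ Q, (s : Matrix (Fin m ⊕ Fin m) (Fin m ⊕ Fin m) F) *ᵥ b ∈ P) := by
  classical
  obtain ⟨a, -⟩ : ∃ a : Basis (Fin n) F P, a = a := ⟨Module.finBasisOfFinrankEq F P hP, rfl⟩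
  have hrep : ∀ p ∈ P, ∃ c : Fin n → F, p = ∑ i, c i • (a i : Fin m ⊕ Fin m → F) := by
    intro p hp
    refine ⟨fun i => a.repr ⟨p, hp⟩ i, ?_⟩
    have h3 := congrArg Subtype.val (a.sum_repr ⟨p, hp⟩)
    rw [Submodule.coe_sum] at h3
    exact h3.symm
  obtain ⟨Φ, hΦ⟩ : ∃ Φ : Q →ₗ[F] (Fin n → F), ∀ (b : Q) i,
      Φ b i = sympForm m F (a i : Fin m ⊕ Fin m → F) (b : Fin m ⊕ Fin m → F) :=
    ⟨LinearMap.pi (fun i => (sympBilin m (F := F) (a i : Fin m ⊕ Fin m → F)).comp Q.subtype),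
      fun b i => rfl⟩
  have hinj : Function.Injective Φ := by
    rw [← LinearMap.ker_eq_bot, LinearMap.ker_eq_bot']
    intro b hb
    apply Subtype.ext
    apply hL.disj _ ?_ b.2
    apply hL.symm.perpQ
    intro p hp
    obtain ⟨c, rfl⟩ := hrep p hp
    have h3 : ∀ i, sympForm m F (b : Fin m ⊕ Fin m → F) (a i : Fin m ⊕ Fin m → F) = 0 := by
      intro i
      rw [sympForm_swap, ← hΦ, hb]
      simp
    have h4 : sympForm m F (b : Fin m ⊕ Fin m → F) (∑ i, c i • (a i : Fin m ⊕ Fin m → F)) =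
        ∑ i, c i * sympForm m F (b : Fin m ⊕ Fin m → F) (a i : Fin m ⊕ Fin m → F) := by
      have h5 := map_sum (sympBilin m (F := F) (b : Fin m ⊕ Fin m → F))
        (fun i => c i • (a i : Fin m ⊕ Fin m → F)) Finset.univ
      rw [sympBilin_apply] at h5
      rw [h5]
      refine Finset.sum_congr rfl (fun i _ => ?_)
      rw [sympBilin_apply, sympForm_smul_right]
    rw [h4]
    simp [h3]
  have hsurj : Function.Surjective Φ :=
    (LinearMap.injective_iff_surjective_of_finrank_eq_finrank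
      (by rw [hQ, Module.finrank_fin_fun])).mp hinj
  choose b hb using fun j => hsurj (Pi.single j 1)
  have hab : ∀ i j, sympForm m F (a i : Fin m ⊕ Fin m → F) (b j : Fin m ⊕ Fin m → F) =
      if i = j then 1 else 0 := by
    intro i j
    rw [← hΦ, hb j, Pi.single_apply]
  have hba : ∀ i j, sympForm m F (b j : Fin m ⊕ Fin m → F) (a i : Fin m ⊕ Fin m → F) =
      if i = j then -1 else 0 := by
    intro i j
    rw [sympForm_swap, hab]
    split_ifs <;> simp
  have haa : ∀ i j, sympForm m F (a i : Fin m ⊕ Fin m → F) (a j : Fin m ⊕ Fin m → F) = 0 :=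
    fun i j => hL.tsP _ (a i).2 _ (a j).2
  have hbb : ∀ i j, sympForm m F (b i : Fin m ⊕ Fin m → F) (b j : Fin m ⊕ Fin m → F) = 0 :=
    fun i j => hL.tsQ _ (b i).2 _ (b j).2
  obtain ⟨x, hx⟩ : ∃ x : Fin n ⊕ Fin n → (Fin m ⊕ Fin m → F),
      x = Sum.elim (fun i => (a i : Fin m ⊕ Fin m → F)) (fun j => (b j : Fin m ⊕ Fin m → F)) :=
    ⟨_, rfl⟩
  obtain ⟨y, hy⟩ : ∃ y : Fin n ⊕ Fin n → (Fin m ⊕ Fin m → F),
      y = Sum.elim (fun i => (b i : Fin m ⊕ Fin m → F)) (fun j => -(a j : Fin m ⊕ Fin m → F)) :=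
    ⟨_, rfl⟩
  have hxl : LinearIndependent F x := by
    apply linearIndependent_of_dual m x Sum.swap
    · rintro (i | j)
      · rw [hx]
        simp [hab]
      · rw [hx]
        simp [hba]
    · rintro (i | j) (i' | j') hne
      · rw [hx]
        have : i' ≠ i := fun h => hne (by rw [h])
        simp [hab, this]
      · rw [hx]
        simp [hbb]
      · rw [hx]
        simp [haa]
      · rw [hx]
        have : j ≠ j' := fun h => hne (by rw [h])
        simp [hba, this]
  have hyl : LinearIndependent F y := by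
    apply linearIndependent_of_dual m y Sum.swap
    · rintro (i | j)
      · rw [hy]
        simp [sympForm_neg_right, hba]
      · rw [hy]
        simp [sympForm_neg_left, hab]
    · rintro (i | j) (i' | j') hne
      · rw [hy]
        have : i ≠ i' := fun h => hne (by rw [h])
        simp [sympForm_neg_right, hba, this]
      · rw [hy]
        simp [sympForm_neg_left, sympForm_neg_right, haa]
      · rw [hy]
        simp [hbb]
      · rw [hy]
        have : j' ≠ j := fun h => hne (by rw [h])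
        simp [sympForm_neg_left, hab, this]
  obtain ⟨A, hA⟩ := sp_witt_family' m x y hxl hyl (by
    rintro (i | j) (i' | j')
    · rw [hx, hy]
      simp [haa, hbb]
    · rw [hx, hy]
      simp only [Sum.elim_inl, Sum.elim_inr, sympForm_neg_right, hab, hba]
      by_cases h : i = j'
      · subst h
        simp
      · have h' : ¬ j' = i := fun e => h e.symm
        simp [h, h']
    · rw [hx, hy]
      simp only [Sum.elim_inl, Sum.elim_inr, sympForm_neg_left, hab, hba]
      by_cases h : i' = j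
      · subst h
        simp
      · have h' : ¬ j = i' := fun e => h e.symm
        simp [h, h']
    · rw [hx, hy]
      simp [haa, hbb, sympForm_neg_left, sympForm_neg_right])
  obtain ⟨s, hs⟩ := exists_spGL m A.2
  have hsa : ∀ i, ((s : GL (Fin m ⊕ Fin m) F) : Matrix (Fin m ⊕ Fin m) (Fin m ⊕ Fin m) F) *ᵥ
      (a i : Fin m ⊕ Fin m → F) = (b i : Fin m ⊕ Fin m → F) := by
    intro i
    have h3 := hA (Sum.inl i)
    rw [hx, hy] at h3
    rw [hs]
    exact h3
  have hsb : ∀ i, ((s : GL (Fin m ⊕ Fin m) F) : Matrix (Fin m ⊕ Fin m) (Fin m ⊕ Fin m) F) *ᵥ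
      (b i : Fin m ⊕ Fin m → F) = -(a i : Fin m ⊕ Fin m → F) := by
    intro i
    have h3 := hA (Sum.inr i)
    rw [hx, hy] at h3
    rw [hs]
    exact h3
  have hsP : ∀ p ∈ P, ((s : GL (Fin m ⊕ Fin m) F) : Matrix (Fin m ⊕ Fin m) (Fin m ⊕ Fin m) F) *ᵥ p ∈ Q ∧
      ((s : GL (Fin m ⊕ Fin m) F) : Matrix (Fin m ⊕ Fin m) (Fin m ⊕ Fin m) F) *ᵥ
        (((s : GL (Fin m ⊕ Fin m) F) : Matrix (Fin m ⊕ Fin m) (Fin m ⊕ Fin m) F) *ᵥ p) = -p := by
    intro p hp
    obtain ⟨c, rfl⟩ := hrep p hp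
    have h3 : ((s : GL (Fin m ⊕ Fin m) F) : Matrix (Fin m ⊕ Fin m) (Fin m ⊕ Fin m) F) *ᵥ
        (∑ i, c i • (a i : Fin m ⊕ Fin m → F)) = ∑ i, c i • (b i : Fin m ⊕ Fin m → F) := by
      rw [Matrix.mulVec_sum]
      refine Finset.sum_congr rfl (fun i _ => ?_)
      rw [Matrix.mulVec_smul, hsa]
    refine ⟨?_, ?_⟩
    · rw [h3]
      exact Q.sum_mem (fun i _ => Q.smul_mem _ (b i).2)
    · rw [h3, Matrix.mulVec_sum, ← Finset.sum_neg_distrib]
      refine Finset.sum_congr rfl (fun i _ => ?_)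
      rw [Matrix.mulVec_smul, hsb, smul_neg]
  refine ⟨s.1, s.2, fun p hp => (hsP p hp).1, fun q hq => ?_⟩
  apply hL.symm.perpQ
  intro p hp
  have h3 : p = ((s : GL (Fin m ⊕ Fin m) F) : Matrix (Fin m ⊕ Fin m) (Fin m ⊕ Fin m) F) *ᵥ
      (-(((s : GL (Fin m ⊕ Fin m) F) : Matrix (Fin m ⊕ Fin m) (Fin m ⊕ Fin m) F) *ᵥ p)) := by
    rw [Matrix.mulVec_neg, (hsP p hp).2, neg_neg]
  rw [h3, (mem_spGL_iff m s.1).mp s.2, sympForm_neg_right, hL.tsQ q hq _ (hsP p hp).1, neg_zero]

/-- The stabiliser of a pair of complementary totally isotropic subspaces of dimension at least 5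
is a maximal subgroup of `Sp_2m(F)`, for finite `F` of odd characteristic. -/
theorem sp_lag_pair_maximal [Finite F] (h2 : (2 : F) ≠ 0) (n : ℕ) (hn : 5 ≤ n)
    (D : Fin 2 → Submodule F (Fin m ⊕ Fin m → F)) (hD : IsMDecomposition n D)
    (hts : ∀ i, IsTotallySingularFor (sympForm m F) (D i)) :
    IsMaximalIn (spGL m F) (decompositionStabilizer D ⊓ spGL m F) := by
  have hdisj : Disjoint (D 0) (D 1) := hD.indep.pairwiseDisjoint (by decide)
  have hL : LagPair m (D 0) (D 1) := by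
    refine ⟨hts 0, hts 1, fun x hx hx' => Submodule.disjoint_def.mp hdisj x hx hx', fun x => ?_⟩
    have h3 : x ∈ D 0 ⊔ D 1 := by
      have h4 : iSup D ≤ D 0 ⊔ D 1 := by
        apply iSup_le
        intro i
        fin_cases i
        · exact le_sup_left
        · exact le_sup_right
      apply h4
      rw [hD.iSup_eq_top]
      trivial
    obtain ⟨p, hp, q, hq, hpq⟩ := Submodule.mem_sup.mp h3
    exact ⟨p, hp, q, hq, hpq.symm⟩
  have hd0 : finrank F (D 0) = n := hD.finrank_eq 0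
  have hd1 : finrank F (D 1) = n := hD.finrank_eq 1
  have hdim : finrank F (D 0) = finrank F (D 1) := by rw [hd0, hd1]
  have hdim0 : 5 ≤ finrank F (D 0) := by rw [hd0]; exact hn
  have hdim1 : 5 ≤ finrank F (D 1) := by rw [hd1]; exact hn
  refine ⟨?_, ?_⟩
  · refine lt_of_le_of_ne inf_le_right ?_
    intro heq
    obtain ⟨a, ha, ha0, -⟩ := lag_exists_perp4 m (D 0) 0 0 0 0 hdim0
    obtain ⟨b, hb, hab⟩ := hL.exists_one a ha ha0
    have hT : spT m a 1 ∈ decompositionStabilizer D ⊓ spGL m F := by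
      rw [heq]
      exact spT_mem m a 1
    have hTb : ((spT m a 1 : GL (Fin m ⊕ Fin m) F) : Matrix (Fin m ⊕ Fin m) (Fin m ⊕ Fin m) F) *ᵥ b
        = b - a := by
      rw [spT_mulVec, one_mul, sympForm_swap, hab]
      module
    rcases (lag_mem_decomp_iff D hdim _).mp hT.1 with ⟨-, e1⟩ | ⟨-, e1⟩
    · have h3 := e1 b hb
      rw [hTb] at h3
      have h4 : a ∈ D 1 := by
        have := (D 1).sub_mem hb h3
        rwa [sub_sub_cancel] at this
      exact ha0 (hL.disj a ha h4)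
    · have h3 := e1 b hb
      rw [hTb] at h3
      have h4 : b ∈ D 0 := by
        have := (D 0).add_mem h3 ha
        rwa [sub_add_cancel] at this
      have hb0 : b = 0 := hL.disj b h4 hb
      rw [hb0, sympForm_zero_right] at hab
      exact zero_ne_one hab
  · intro M hHM hMG
    by_cases hMH : M = decompositionStabilizer D ⊓ spGL m F
    · exact Or.inl hMH
    · right
      have hnle : ¬ M ≤ decompositionStabilizer D ⊓ spGL m F := fun h => hMH (le_antisymm h hHM)
      obtain ⟨g, hgM, hgH⟩ := SetLike.not_le_iff_exists.mp hnle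
      have hgD : g ∉ decompositionStabilizer D := fun h => hgH ⟨h, hMG hgM⟩
      obtain ⟨v, hv, hv0, c₀, hc₀, hT⟩ :=
        lag_exists_transv m h2 hL hdim0 hdim1 hdim M hMG hHM g hgM hgD
      obtain ⟨s, hsG, hs01, hs10⟩ := lag_exists_swap m hL n hd0 hd1
      have hsM : s ∈ M := hHM ⟨(lag_mem_decomp_iff D hdim s).mpr (Or.inr ⟨hs01, hs10⟩), hsG⟩
      have hE01 : ∀ p ∈ D 0, ∀ q ∈ D 1, sympForm m F q p = 0 → spE m q p ∈ M := by
        intro p hp q hq hqp
        rw [lag_spE_symm m q p hqp]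
        exact hHM (lag_spE_mem_stab m hL hdim p q hp hq (by rw [sympForm_swap, hqp, neg_zero]))
      have hE10 : ∀ p ∈ D 1, ∀ q ∈ D 0, sympForm m F q p = 0 → spE m q p ∈ M :=
        fun p hp q hq hqp => hHM (lag_spE_mem_stab m hL hdim q p hq hp hqp)
      have hsT : spT m ((s : Matrix (Fin m ⊕ Fin m) (Fin m ⊕ Fin m) F) *ᵥ v) c₀ ∈ M := by
        rw [← spT_conj m s hsG]
        exact M.mul_mem (M.mul_mem hsM hT) (M.inv_mem hsM)
      have hsv0 : (s : Matrix (Fin m ⊕ Fin m) (Fin m ⊕ Fin m) F) *ᵥ v ≠ 0 :=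
        lag_mulVec_ne_zero m s v hv0
      have hS0 : ∀ a ∈ D 0, ∀ c, spT m a c ∈ M := by
        rcases hv with hv | hv
        · exact lag_transv_P m h2 hL hdim0 M hMG hE01 v hv hv0 c₀ hc₀ hT
        · exact lag_transv_P m h2 hL hdim0 M hMG hE01 _ (hs10 v hv) hsv0 c₀ hc₀ hsT
      have hS1 : ∀ b ∈ D 1, ∀ c, spT m b c ∈ M := by
        rcases hv with hv | hv
        · exact lag_transv_P m h2 hL.symm hdim1 M hMG hE10 _ (hs01 v hv) hsv0 c₀ hc₀ hsT
        · exact lag_transv_P m h2 hL.symm hdim1 M hMG hE10 v hv hv0 c₀ hc₀ hT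
      have hmove : ∀ u, (∀ c, spT m u c ∈ M) → ∀ w, (∀ c, spT m w c ∈ M) → sympForm m F u w ≠ 0 →
          ∀ c, spT m (u + w) c ∈ M := by
        intro u hu w hw huw c
        have h1 : spT m ((spT m w (sympForm m F u w)⁻¹ : GL (Fin m ⊕ Fin m) F) *ᵥ u) c ∈ M := by
          rw [← spT_conj m _ (spT_mem m _ _)]
          exact M.mul_mem (M.mul_mem (hw _) (hu c)) (M.inv_mem (hw _))
        rw [spT_mulVec, inv_mul_cancel₀ huw, one_smul] at h1
        exact h1
      apply le_antisymm hMG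
      apply spGL_le_of_transv m M
      intro x c
      obtain ⟨p, hp, q, hq, rfl⟩ := hL.span x
      by_cases hp0 : p = 0
      · rw [hp0, zero_add]
        exact hS1 q hq c
      · obtain ⟨b', hb', hpb'⟩ := hL.exists_one p hp hp0
        have h1 : ∀ c, spT m (p + b') c ∈ M :=
          hmove p (hS0 p hp) b' (hS1 b' hb') (by rw [hpb']; exact one_ne_zero)
        by_cases hpq : sympForm m F p q = 0
        · have h3 := hmove (p + b') h1 (q - b') (hS1 _ ((D 1).sub_mem hq hb')) (by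
            rw [sympForm_add_left, sympForm_sub_right, sympForm_sub_right, hpq, hpb',
              hL.tsQ b' hb' q hq, hL.tsQ b' hb' b' hb']
            norm_num) c
          have e : p + b' + (q - b') = p + q := by abel
          rw [e] at h3
          exact h3
        · exact hmove p (hS0 p hp) q (hS1 q hq) hpq c

end

end Cfsg.Agent.Lib.helper17
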