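import Cfsg.Agent.Lib.helper95.SubfieldSL
import Cfsg.Agent.Lib.helper17.SpLag2

/-!
Subfield subgroups of the symplectic group, part 1: identities for symplectic transvections and
Siegel elements, vectors with coordinates in a subfield, and existence lemmas for such vectors.
-/

set_option autoImplicit false

namespace Cfsg.Agent.Lib.helper17

open Matrix Cfsg Cfsg.Geo Module Cfsg.Agent.Lib.helper95

theorem sbf_symp_sum {K : Type*} [CommRing K] (m : ℕ) (u v : Fin m ⊕ Fin m → K) :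
    sympForm m K u v =
      ∑ i : Fin m, (u (Sum.inr i) * v (Sum.inl i) - u (Sum.inl i) * v (Sum.inr i)) := by
  unfold sympForm
  simp only [dotProduct, Matrix.mulVec, Matrix.J, Fintype.sum_sum_type, Matrix.fromBlocks_apply₁₁,
    Matrix.fromBlocks_apply₁₂, Matrix.fromBlocks_apply₂₁, Matrix.fromBlocks_apply₂₂,
    Matrix.zero_apply, Matrix.neg_apply, Matrix.one_apply, zero_mul, Finset.sum_const_zero, zero_add,
    add_zero, neg_mul, ite_mul, one_mul, Finset.sum_neg_distrib, Finset.sum_ite_eq, Finset.mem_univ,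
    if_true, mul_neg]
  rw [Finset.sum_sub_distrib]
  ring

section
variable {F : Type*} [Field F] (m : ℕ)

theorem sbf_spE_zero (v : Fin m ⊕ Fin m → F) : spE m v 0 = 1 := by
  apply gl_ext_mulVec
  intro x
  rw [spE_mulVec m v 0 (sympForm_zero_right m v), sympForm_zero_right, smul_zero, zero_smul,
    add_zero, add_zero, Units.val_one, Matrix.one_mulVec]

/-- The transvection with centre `z + b v`, for `z ⟂ v`. -/
theorem sbf_spT_add_smul (z v : Fin m ⊕ Fin m → F) (b d : F) (hzv : sympForm m F z v = 0) :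
    spT m (z + b • v) d = spT m z d * spT m v (d * b * b) * spE m v ((d * b) • z) := by
  have hvz : sympForm m F v z = 0 := by rw [sympForm_swap, hzv, neg_zero]
  have h0 : sympForm m F v ((d * b) • z) = 0 := by rw [sympForm_smul_right, hvz, mul_zero]
  apply gl_ext_mulVec
  intro x
  rw [Units.val_mul, Units.val_mul, ← Matrix.mulVec_mulVec, ← Matrix.mulVec_mulVec,
    spE_mulVec m v _ h0, spT_mulVec, spT_mulVec, spT_mulVec]
  simp only [sympForm_add_left, sympForm_add_right, sympForm_smul_left, sympForm_smul_right,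
    sympForm_self, hzv, hvz, mul_zero, add_zero, zero_add]
  module

theorem sbf_spE_add (v y₁ y₂ : Fin m ⊕ Fin m → F) (h1 : sympForm m F v y₁ = 0)
    (h2 : sympForm m F v y₂ = 0) (h12 : sympForm m F y₁ y₂ = 0) :
    spE m v y₁ * spE m v y₂ = spE m v (y₁ + y₂) := by
  have h21 : sympForm m F y₂ y₁ = 0 := by rw [sympForm_swap, h12, neg_zero]
  have hy1v : sympForm m F y₁ v = 0 := by rw [sympForm_swap, h1, neg_zero]
  have hy2v : sympForm m F y₂ v = 0 := by rw [sympForm_swap, h2, neg_zero]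
  have h3 : sympForm m F v (y₁ + y₂) = 0 := by rw [sympForm_add_right, h1, h2, add_zero]
  apply gl_ext_mulVec
  intro x
  rw [Units.val_mul, ← Matrix.mulVec_mulVec, spE_mulVec m v y₂ h2, spE_mulVec m v y₁ h1,
    spE_mulVec m v _ h3]
  simp only [sympForm_add_left, sympForm_add_right, sympForm_smul_left, sympForm_self, h1, h2, h12,
    h21, hy1v, hy2v, mul_zero, add_zero, zero_add]
  module

theorem sbf_spE_inv (v y : Fin m ⊕ Fin m → F) (h : sympForm m F v y = 0) :
    (spE m v y)⁻¹ = spE m v (-y) := by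
  apply inv_eq_of_mul_eq_one_right
  rw [sbf_spE_add m v y (-y) h (by rw [sympForm_neg_right, h, neg_zero])
    (by rw [sympForm_neg_right, sympForm_self, neg_zero]), add_neg_cancel, sbf_spE_zero]

theorem sbf_spE_smul (a : F) (w z : Fin m ⊕ Fin m → F) (h : sympForm m F w z = 0) :
    spE m (a • w) z = spE m w (a • z) := by
  apply gl_ext_mulVec
  intro x
  rw [spE_mulVec m (a • w) z (by rw [sympForm_smul_left, h, mul_zero]),
    spE_mulVec m w (a • z) (by rw [sympForm_smul_right, h, mul_zero])]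
  simp only [sympForm_smul_right]
  module

/-- Commutator of two Siegel elements (type `A₂`). -/
theorem sbf_spE_comm (u v u' v' : Fin m ⊕ Fin m → F) (a b β : F) (h1 : sympForm m F u v = 0)
    (h2 : sympForm m F u' v' = 0) (h3 : sympForm m F u' u = 0) (h4 : sympForm m F u' v = 0)
    (h5 : sympForm m F v' u = 0) (h6 : sympForm m F v' v = β) :
    spE m u (a • v) * spE m u' (b • v') * (spE m u (a • v))⁻¹ =
      spE m u' (b • v') * spE m u' ((a * b * β) • u) := by
  have hS : spE m u (a • v) ∈ spGL m F := spE_mem m _ _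
  have h0 : sympForm m F u (a • v) = 0 := by rw [sympForm_smul_right, h1, mul_zero]
  rw [lag_spE_conj m _ hS, spE_mulVec m u (a • v) h0, spE_mulVec m u (a • v) h0]
  have e1 : u' + sympForm m F u' u • a • v + sympForm m F u' (a • v) • u = u' := by
    rw [h3, sympForm_smul_right, h4, mul_zero, zero_smul, zero_smul, add_zero, add_zero]
  have e2 : b • v' + sympForm m F (b • v') u • a • v + sympForm m F (b • v') (a • v) • u =
      b • v' + (a * b * β) • u := by
    rw [sympForm_smul_left, h5, mul_zero, zero_smul, add_zero, sympForm_smul_left,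
      sympForm_smul_right, h6]
    congr 2
    ring
  rw [e1, e2]
  rw [sbf_spE_add m u' (b • v') ((a * b * β) • u) (by rw [sympForm_smul_right, h2, mul_zero])
    (by rw [sympForm_smul_right, h3, mul_zero])
    (by rw [sympForm_smul_left, sympForm_smul_right, h5, mul_zero, mul_zero])]

theorem sbf_spT_spE_comm (v y : Fin m ⊕ Fin m → F) (c : F) (h : sympForm m F v y = 0) :
    spT m v c * spE m v y = spE m v y * spT m v c := by
  have hyv : sympForm m F y v = 0 := by rw [sympForm_swap, h, neg_zero]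
  apply gl_ext_mulVec
  intro x
  rw [Units.val_mul, Units.val_mul, ← Matrix.mulVec_mulVec, ← Matrix.mulVec_mulVec,
    spE_mulVec m v y h, spE_mulVec m v y h, spT_mulVec, spT_mulVec]
  simp only [sympForm_add_left, sympForm_smul_left, sympForm_self, h, hyv, mul_zero, add_zero]
  module

theorem sbf_spT_inv (v : Fin m ⊕ Fin m → F) (c : F) : (spT m v c)⁻¹ = spT m v (-c) := by
  apply inv_eq_of_mul_eq_one_right
  rw [lag_spT_add, add_neg_cancel, lag_spT_zero']

/-! ### Vectors with coordinates in a subfield -/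

variable (F₀ : Subfield F)

theorem sbf_rat_symp {u v : Fin m ⊕ Fin m → F} (hu : ratV F₀ u) (hv : ratV F₀ v) :
    sympForm m F u v ∈ F₀ := by
  rw [sbf_symp_sum]
  exact F₀.sum_mem fun i _ => F₀.sub_mem (F₀.mul_mem (hu _) (hv _)) (F₀.mul_mem (hu _) (hv _))

theorem sbf_rat_neg {ι : Type} {x : ι → F} (hx : ratV F₀ x) : ratV F₀ (-x) :=
  fun i => F₀.neg_mem (hx i)

theorem sbf_rat_zero {ι : Type} : ratV F₀ (0 : ι → F) := fun _ => F₀.zero_mem

theorem sbf_rat_mulVec_spT {v : Fin m ⊕ Fin m → F} (hv : ratV F₀ v) {c : F} (hc : c ∈ F₀)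
    {x : Fin m ⊕ Fin m → F} (hx : ratV F₀ x) :
    ratV F₀ (((spT m v c : GL (Fin m ⊕ Fin m) F) : Matrix (Fin m ⊕ Fin m) (Fin m ⊕ Fin m) F) *ᵥ x) := by
  rw [spT_mulVec]
  exact ratV_add hx (ratV_smul (F₀.mul_mem hc (sbf_rat_symp m F₀ hx hv)) hv)

theorem sbf_spT_entries {v : Fin m ⊕ Fin m → F} (hv : ratV F₀ v) {c : F} (hc : c ∈ F₀)
    (k l : Fin m ⊕ Fin m) :
    ((spT m v c : GL (Fin m ⊕ Fin m) F) : Matrix (Fin m ⊕ Fin m) (Fin m ⊕ Fin m) F) k l ∈ F₀ := by
  have h1 := sbf_rat_mulVec_spT m F₀ hv hc (ratV_single l F₀.one_mem) k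
  rwa [sf_mulVec_single] at h1

theorem sbf_rat_of_symp (x : Fin m ⊕ Fin m → F)
    (h : ∀ k, sympForm m F (Pi.single k 1) x ∈ F₀) : ratV F₀ x := by
  intro k
  rcases k with i | i
  · have h1 := h (Sum.inr i)
    rwa [sympForm_single_inr_left] at h1
  · have h1 := h (Sum.inl i)
    rw [sympForm_single_inl_left] at h1
    have h2 := F₀.neg_mem h1
    rwa [neg_neg] at h2

theorem sbf_exists_single (p : Fin m ⊕ Fin m → F) (hp : p ≠ 0) :
    ∃ k, sympForm m F (Pi.single k 1) p ≠ 0 := by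
  by_contra h
  push Not at h
  apply hp
  funext k
  rcases k with i | i
  · have h1 := h (Sum.inr i)
    rwa [sympForm_single_inr_left] at h1
  · have h1 := h (Sum.inl i)
    rw [sympForm_single_inl_left] at h1
    exact neg_eq_zero.mp h1

/-- Two non-zero vectors are simultaneously non-orthogonal to some rational vector. -/
theorem sbf_exists_two (a b : Fin m ⊕ Fin m → F) (ha : a ≠ 0) (hb : b ≠ 0) :
    ∃ w, ratV F₀ w ∧ sympForm m F a w ≠ 0 ∧ sympForm m F b w ≠ 0 := by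
  obtain ⟨k, hk⟩ := sbf_exists_single m a ha
  obtain ⟨l, hl⟩ := sbf_exists_single m b hb
  have hk' : sympForm m F a (Pi.single k 1) ≠ 0 := by
    rw [sympForm_swap]; exact neg_ne_zero.mpr hk
  have hl' : sympForm m F b (Pi.single l 1) ≠ 0 := by
    rw [sympForm_swap]; exact neg_ne_zero.mpr hl
  by_cases h1 : sympForm m F b (Pi.single k 1) = 0
  · by_cases h2 : sympForm m F a (Pi.single l 1) = 0
    · refine ⟨Pi.single k 1 + Pi.single l 1,
        ratV_add (ratV_single k F₀.one_mem) (ratV_single l F₀.one_mem), ?_, ?_⟩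
      · rw [sympForm_add_right, h2, add_zero]; exact hk'
      · rw [sympForm_add_right, h1, zero_add]; exact hl'
    · exact ⟨Pi.single l 1, ratV_single l F₀.one_mem, h2, hl'⟩
  · exact ⟨Pi.single k 1, ratV_single k F₀.one_mem, hk', h1⟩

/-- Coercion of a vector over the subfield. -/
def sbfRc {m : ℕ} (F₀ : Subfield F) (u : Fin m ⊕ Fin m → ↥F₀) : Fin m ⊕ Fin m → F :=
  fun i => (u i : F)

theorem sbfRc_rat (u : Fin m ⊕ Fin m → ↥F₀) : ratV F₀ (sbfRc F₀ u) := fun i => (u i).2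

theorem sbfRc_symp (u v : Fin m ⊕ Fin m → ↥F₀) :
    sympForm m F (sbfRc F₀ u) (sbfRc F₀ v) = ((sympForm m ↥F₀ u v : ↥F₀) : F) := by
  rw [sbf_symp_sum, sbf_symp_sum]
  simp [sbfRc]

theorem sbf_exists_rc {x : Fin m ⊕ Fin m → F} (hx : ratV F₀ x) :
    ∃ u : Fin m ⊕ Fin m → ↥F₀, sbfRc F₀ u = x := ⟨fun i => ⟨x i, hx i⟩, rfl⟩

theorem sbfRc_eq_zero {u : Fin m ⊕ Fin m → ↥F₀} (h : sbfRc F₀ u = 0) : u = 0 := by
  funext i
  have h1 : (u i : F) = 0 := congrFun h i
  exact Subtype.ext h1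

theorem sbfRc_zero : sbfRc F₀ (0 : Fin m ⊕ Fin m → ↥F₀) = 0 := rfl

theorem sbfRc_smul (c : ↥F₀) (u : Fin m ⊕ Fin m → ↥F₀) :
    sbfRc F₀ (c • u) = (c : F) • sbfRc F₀ u := by
  funext i
  simp [sbfRc]

/-- A non-zero rational vector orthogonal to `k < 2m` given rational vectors. -/
theorem sbf_exists_perp (k : ℕ) (u : Fin k → (Fin m ⊕ Fin m → F)) (hu : ∀ i, ratV F₀ (u i))
    (hk : k < 2 * m) : ∃ y, ratV F₀ y ∧ y ≠ 0 ∧ ∀ i, sympForm m F y (u i) = 0 := by
  choose u₀ hu₀ using fun i => sbf_exists_rc m F₀ (hu i)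
  have hfin : finrank ↥F₀ (⊤ : Submodule ↥F₀ (Fin m ⊕ Fin m → ↥F₀)) = 2 * m := by
    rw [finrank_top, Module.finrank_pi, Fintype.card_sum, Fintype.card_fin]
    ring
  obtain ⟨y₀, -, hy0, hy⟩ :=
    lag_exists_perp m (⊤ : Submodule ↥F₀ (Fin m ⊕ Fin m → ↥F₀)) k u₀ (by rw [hfin]; exact hk)
  refine ⟨sbfRc F₀ y₀, sbfRc_rat m F₀ y₀, fun h => hy0 (sbfRc_eq_zero m F₀ h), fun i => ?_⟩
  rw [← hu₀ i, sbfRc_symp, hy i]
  rfl

/-- If the rational `z` is not a multiple of the rational `v`, some rational vector is orthogonal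
to `v` and not to `z`. -/
theorem sbf_exists_orth (v z : Fin m ⊕ Fin m → F) (hv : ratV F₀ v) (hz : ratV F₀ z) (hv0 : v ≠ 0)
    (hne : ∀ c : F, z ≠ c • v) :
    ∃ t, ratV F₀ t ∧ sympForm m F v t = 0 ∧ sympForm m F z t ≠ 0 := by
  obtain ⟨v₀, rfl⟩ := sbf_exists_rc m F₀ hv
  obtain ⟨z₀, rfl⟩ := sbf_exists_rc m F₀ hz
  have hv₀ : v₀ ≠ 0 := fun h => hv0 (by rw [h]; rfl)
  have hz₀ : z₀ ≠ 0 := fun h => hne 0 (by rw [h, zero_smul]; rfl)
  obtain ⟨w, hw1, hw2⟩ := exists_orth_not_orth m z₀ v₀ hz₀ hv₀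
    (fun c h => hne (c : F) (by rw [h, sbfRc_smul]))
  refine ⟨sbfRc F₀ w, sbfRc_rat m F₀ w, ?_, ?_⟩
  · rw [sbfRc_symp, hw1]
    rfl
  · rw [sbfRc_symp]
    intro h
    exact hw2 (Subtype.ext h)

/-- A vector whose pairings with all rational vectors orthogonal to the rational `v` are rational
is rational modulo `v`. -/
theorem sbf_dual (v y : Fin m ⊕ Fin m → F) (hv : ratV F₀ v) (hv0 : v ≠ 0)
    (h : ∀ z, ratV F₀ z → sympForm m F z v = 0 → sympForm m F z y ∈ F₀) :
    ∃ t : F, ratV F₀ (y + t • v) := by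
  obtain ⟨j₀, hj₀⟩ := sbf_exists_single m v hv0
  obtain ⟨a, ha⟩ : ∃ a : Fin m ⊕ Fin m → F, a = fun k => sympForm m F (Pi.single k 1) v := ⟨_, rfl⟩
  obtain ⟨η, hη⟩ : ∃ η : Fin m ⊕ Fin m → F, η = fun k => sympForm m F (Pi.single k 1) y := ⟨_, rfl⟩
  have haF : ∀ k, a k ∈ F₀ := fun k => by
    rw [ha]; exact sbf_rat_symp m F₀ (ratV_single k F₀.one_mem) hv
  have ha0 : a j₀ ≠ 0 := by rw [ha]; exact hj₀
  refine ⟨-(η j₀ / a j₀), sbf_rat_of_symp m F₀ _ fun l => ?_⟩
  have hz : ratV F₀ (a j₀ • Pi.single l (1 : F) - a l • Pi.single j₀ (1 : F)) :=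
    ratV_sub (ratV_smul (haF j₀) (ratV_single l F₀.one_mem))
      (ratV_smul (haF l) (ratV_single j₀ F₀.one_mem))
  have h1 := h _ hz (by
    rw [sympForm_sub_left, sympForm_smul_left, sympForm_smul_left]
    have e1 : sympForm m F (Pi.single l 1) v = a l := by rw [ha]
    have e2 : sympForm m F (Pi.single j₀ 1) v = a j₀ := by rw [ha]
    rw [e1, e2]
    ring)
  rw [sympForm_sub_left, sympForm_smul_left, sympForm_smul_left] at h1
  have e1 : sympForm m F (Pi.single l 1) y = η l := by rw [hη]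
  have e2 : sympForm m F (Pi.single j₀ 1) y = η j₀ := by rw [hη]
  have e3 : sympForm m F (Pi.single l 1) v = a l := by rw [ha]
  rw [e1, e2] at h1
  rw [sympForm_add_right, sympForm_smul_right, e1, e3]
  have h2 := F₀.mul_mem (F₀.inv_mem (haF j₀)) h1
  have e : (a j₀)⁻¹ * (a j₀ * η l - a l * η j₀) = η l + -(η j₀ / a j₀) * a l := by
    field_simp
    ring
  rwa [e] at h2

/-- Two rational vectors with a rational combination having a non-rational coefficient are
proportional. -/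
theorem sbf_minor {ι : Type} (a b : ι → F) (α β : F) (ha : ratV F₀ a) (hb : ratV F₀ b)
    (h : ratV F₀ (α • a + β • b)) (hα : α ∉ F₀) (i j : ι) : a i * b j - a j * b i = 0 := by
  by_contra hne
  apply hα
  have h1 : (α • a + β • b) i * b j - (α • a + β • b) j * b i ∈ F₀ :=
    F₀.sub_mem (F₀.mul_mem (h i) (hb j)) (F₀.mul_mem (h j) (hb i))
  have h2 : a i * b j - a j * b i ∈ F₀ :=
    F₀.sub_mem (F₀.mul_mem (ha i) (hb j)) (F₀.mul_mem (ha j) (hb i))
  have h3 := F₀.mul_mem h1 (F₀.inv_mem h2)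
  have e : ((α • a + β • b) i * b j - (α • a + β • b) j * b i) * (a i * b j - a j * b i)⁻¹ = α := by
    have e0 : (α • a + β • b) i * b j - (α • a + β • b) j * b i = α * (a i * b j - a j * b i) := by
      simp only [Pi.add_apply, Pi.smul_apply, smul_eq_mul]
      ring
    rw [e0, mul_inv_cancel_right₀ hne]
  rwa [e] at h3

/-! ### Rational points -/

/-- A vector that is a scalar multiple of a rational vector. -/
def sbfRP {ι : Type} (F₀ : Subfield F) (x : ι → F) : Prop := ∃ μ : F, μ ≠ 0 ∧ ratV F₀ (μ • x)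

theorem sbfRP_of_rat {ι : Type} {x : ι → F} (hx : ratV F₀ x) : sbfRP F₀ x :=
  ⟨1, one_ne_zero, by rwa [one_smul]⟩

theorem sbfRP_smul {ι : Type} {x : ι → F} (c : F) (hx : sbfRP F₀ x) : sbfRP F₀ (c • x) := by
  by_cases hc : c = 0
  · rw [hc, zero_smul]
    exact sbfRP_of_rat F₀ (sbf_rat_zero F₀)
  · obtain ⟨μ, hμ, h⟩ := hx
    refine ⟨μ * c⁻¹, mul_ne_zero hμ (inv_ne_zero hc), ?_⟩
    rwa [smul_smul, mul_assoc, inv_mul_cancel₀ hc, mul_one]

theorem sbfRP_ratio {ι : Type} {x : ι → F} (hx : sbfRP F₀ x) (i k : ι) (hk : x k ≠ 0) :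
    x i / x k ∈ F₀ := by
  obtain ⟨μ, hμ, h⟩ := hx
  have h1 := F₀.mul_mem (h i) (F₀.inv_mem (h k))
  have e : (μ • x) i * ((μ • x) k)⁻¹ = x i / x k := by
    simp only [Pi.smul_apply, smul_eq_mul]
    field_simp
  rwa [e] at h1

end

section
variable {F : Type*} [Field F] (F₀ : Subfield F) {ι : Type} [Fintype ι] [DecidableEq ι]

/-- A matrix mapping every rational point to a rational point is a scalar multiple of a rational
matrix. -/
theorem sbf_scalar_rat [Nonempty ι] (g : GL ι F)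
    (h : ∀ x : ι → F, ratV F₀ x → x ≠ 0 → sbfRP F₀ ((g : Matrix ι ι F) *ᵥ x)) :
    ∃ μ : F, μ ≠ 0 ∧ ∀ k l, μ * (g : Matrix ι ι F) k l ∈ F₀ := by
  obtain ⟨j₀⟩ := ‹Nonempty ι›
  have hinj : ∀ x : ι → F, (g : Matrix ι ι F) *ᵥ x = 0 → x = 0 := by
    intro x hx
    have h1 := gl_inv_mulVec_mulVec g x
    rw [hx, Matrix.mulVec_zero] at h1
    exact h1.symm
  have hsingle0 : ∀ l : ι, (Pi.single l (1 : F) : ι → F) ≠ 0 := fun l hl => by
    have h1 := congrFun hl l
    simp at h1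
  have hcol : ∀ l, ∃ k, (g : Matrix ι ι F) k l ≠ 0 := by
    intro l
    by_contra hc
    push Not at hc
    apply hsingle0 l
    apply hinj
    funext k
    rw [sf_mulVec_single, hc k]
    rfl
  obtain ⟨k₀, hk₀⟩ := hcol j₀
  obtain ⟨μ, hμ⟩ : ∃ μ : F, μ = ((g : Matrix ι ι F) k₀ j₀)⁻¹ := ⟨_, rfl⟩
  have hμ0 : μ ≠ 0 := by rw [hμ]; exact inv_ne_zero hk₀
  have hRP : ∀ l, sbfRP F₀ ((g : Matrix ι ι F) *ᵥ Pi.single l 1) :=
    fun l => h _ (ratV_single l F₀.one_mem) (hsingle0 l)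
  have hcol0 : ∀ k, μ * (g : Matrix ι ι F) k j₀ ∈ F₀ := by
    intro k
    have h1 := sbfRP_ratio F₀ (hRP j₀) k k₀ (by rw [sf_mulVec_single]; exact hk₀)
    rw [sf_mulVec_single, sf_mulVec_single] at h1
    rw [hμ, mul_comm, ← div_eq_mul_inv]
    exact h1
  refine ⟨μ, hμ0, fun k l => ?_⟩
  by_cases hl : l = j₀
  · rw [hl]; exact hcol0 k
  obtain ⟨k₁, hk₁⟩ := hcol l
  -- the column `l`, normalised at `k₁`, is rational
  have hr : ∀ i, (g : Matrix ι ι F) i l / (g : Matrix ι ι F) k₁ l ∈ F₀ := by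
    intro i
    have h1 := sbfRP_ratio F₀ (hRP l) i k₁ (by rw [sf_mulVec_single]; exact hk₁)
    rwa [sf_mulVec_single, sf_mulVec_single] at h1
  obtain ⟨ρ, hρ⟩ : ∃ ρ : F, ρ = μ * (g : Matrix ι ι F) k₁ l := ⟨_, rfl⟩
  have hgoal : μ * (g : Matrix ι ι F) k l = ρ * ((g : Matrix ι ι F) k l / (g : Matrix ι ι F) k₁ l) := by
    rw [hρ]
    field_simp
  rw [hgoal]
  by_cases hρF : ρ ∈ F₀
  · exact F₀.mul_mem hρF (hr k)
  exfalso
  -- the sum of the two columns
  have hsum0 : (Pi.single j₀ (1 : F) + Pi.single l (1 : F) : ι → F) ≠ 0 := by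
    intro h0
    have h1 := congrFun h0 j₀
    simp [Pi.single_apply, hl] at h1
  have hS := h _ (ratV_add (ratV_single j₀ F₀.one_mem) (ratV_single l F₀.one_mem)) hsum0
  have hz : ∀ i, ((g : Matrix ι ι F) *ᵥ (Pi.single j₀ (1 : F) + Pi.single l (1 : F))) i =
      (g : Matrix ι ι F) i j₀ + (g : Matrix ι ι F) i l := by
    intro i
    rw [Matrix.mulVec_add, Pi.add_apply, sf_mulVec_single, sf_mulVec_single]
  have hzk : (g : Matrix ι ι F) k₁ j₀ + (g : Matrix ι ι F) k₁ l ≠ 0 := by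
    intro h0
    apply hρF
    have h1 : ρ = -(μ * (g : Matrix ι ι F) k₁ j₀) := by
      rw [hρ]
      linear_combination μ * h0
    rw [h1]
    exact F₀.neg_mem (hcol0 k₁)
  have key : ∀ i, (g : Matrix ι ι F) i j₀ * (g : Matrix ι ι F) k₁ l =
      (g : Matrix ι ι F) i l * (g : Matrix ι ι F) k₁ j₀ := by
    intro i
    have h1 := sbfRP_ratio F₀ hS i k₁ (by rw [hz]; exact hzk)
    rw [hz, hz] at h1
    obtain ⟨t, ht⟩ : ∃ t : F, t = ((g : Matrix ι ι F) i j₀ + (g : Matrix ι ι F) i l) /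
        ((g : Matrix ι ι F) k₁ j₀ + (g : Matrix ι ι F) k₁ l) := ⟨_, rfl⟩
    rw [← ht] at h1
    have e1 : (g : Matrix ι ι F) i j₀ + (g : Matrix ι ι F) i l =
        t * ((g : Matrix ι ι F) k₁ j₀ + (g : Matrix ι ι F) k₁ l) := by
      rw [ht]
      field_simp
    -- multiply by μ: μ g_ij₀ + ρ r_i = t (μ g_k₁j₀ + ρ)
    have e2 : ρ * ((g : Matrix ι ι F) i l / (g : Matrix ι ι F) k₁ l - t) =
        t * (μ * (g : Matrix ι ι F) k₁ j₀) - μ * (g : Matrix ι ι F) i j₀ := by
      have e2' : μ * (g : Matrix ι ι F) k₁ l * ((g : Matrix ι ι F) i l / (g : Matrix ι ι F) k₁ l - t) =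
          μ * ((g : Matrix ι ι F) i l - t * (g : Matrix ι ι F) k₁ l) := by
        field_simp
      rw [hρ, e2']
      linear_combination μ * e1
    have hd : (g : Matrix ι ι F) i l / (g : Matrix ι ι F) k₁ l - t = 0 := by
      by_contra hd
      apply hρF
      have h3 : (t * (μ * (g : Matrix ι ι F) k₁ j₀) - μ * (g : Matrix ι ι F) i j₀) *
          ((g : Matrix ι ι F) i l / (g : Matrix ι ι F) k₁ l - t)⁻¹ ∈ F₀ :=
        F₀.mul_mem (F₀.sub_mem (F₀.mul_mem h1 (hcol0 k₁)) (hcol0 i))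
          (F₀.inv_mem (F₀.sub_mem (hr i) h1))
      rw [← e2, mul_inv_cancel_right₀ hd] at h3
      exact h3
    rw [hd, mul_zero] at e2
    have e3 : (g : Matrix ι ι F) i l = t * (g : Matrix ι ι F) k₁ l := by
      have := sub_eq_zero.mp hd
      field_simp at this
      linear_combination this
    have e4 : (g : Matrix ι ι F) i j₀ = t * (g : Matrix ι ι F) k₁ j₀ := by
      have h5 : μ * ((g : Matrix ι ι F) i j₀ - t * (g : Matrix ι ι F) k₁ j₀) = 0 := by
        linear_combination e2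
      have := (mul_eq_zero.mp h5).resolve_left hμ0
      exact sub_eq_zero.mp this
    rw [e3, e4]
    ring
  -- the two columns are proportional: contradiction with invertibility
  have hdep : (g : Matrix ι ι F) *ᵥ ((g : Matrix ι ι F) k₁ l • Pi.single j₀ (1 : F) -
      (g : Matrix ι ι F) k₁ j₀ • Pi.single l (1 : F)) = 0 := by
    funext i
    rw [Matrix.mulVec_sub, Matrix.mulVec_smul, Matrix.mulVec_smul, Pi.sub_apply, Pi.smul_apply,
      Pi.smul_apply, sf_mulVec_single, sf_mulVec_single, smul_eq_mul, smul_eq_mul, Pi.zero_apply]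
    linear_combination (key i)
  have h0 := congrFun (hinj _ hdep) j₀
  simp [Pi.single_apply, hl] at h0
  exact hk₁ h0

end

end Cfsg.Agent.Lib.helper17
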