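import Cfsg.Agent.Lib.helper17.SpSubf1

/-!
Subfield subgroups of the symplectic group, part 2: a subgroup containing all rational
transvections and one transvection with rational centre and non-rational parameter contains the
whole symplectic group.
-/

set_option autoImplicit false

namespace Cfsg.Agent.Lib.helper17

open Matrix Cfsg Cfsg.Geo Module Cfsg.Agent.Lib.helper95

/-- Standard basis vectors of the symplectic space. -/
def sbfE (m : ℕ) (F : Type*) [Field F] (i : Fin m) : Fin m ⊕ Fin m → F := Pi.single (Sum.inl i) 1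

/-- Standard basis vectors of the symplectic space. -/
def sbfF (m : ℕ) (F : Type*) [Field F] (i : Fin m) : Fin m ⊕ Fin m → F := Pi.single (Sum.inr i) 1

section
variable {F : Type*} [Field F] (m : ℕ)

theorem sbf_ee (i j : Fin m) : sympForm m F (sbfE m F i) (sbfE m F j) = 0 := by
  unfold sbfE
  rw [sympForm_single_inl_left]
  simp

theorem sbf_ff (i j : Fin m) : sympForm m F (sbfF m F i) (sbfF m F j) = 0 := by
  unfold sbfF
  rw [sympForm_single_inr_left]
  simp

theorem sbf_ef (i j : Fin m) (h : i ≠ j) : sympForm m F (sbfE m F i) (sbfF m F j) = 0 := by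
  unfold sbfE sbfF
  rw [sympForm_single_inl_left]
  simp [Pi.single_apply, h, Ne.symm h]

theorem sbf_ef_self (i : Fin m) : sympForm m F (sbfE m F i) (sbfF m F i) = -1 := by
  unfold sbfE sbfF
  rw [sympForm_single_inl_left]
  simp

theorem sbf_fe (i j : Fin m) (h : i ≠ j) : sympForm m F (sbfF m F i) (sbfE m F j) = 0 := by
  unfold sbfE sbfF
  rw [sympForm_single_inr_left]
  simp [Pi.single_apply, h, Ne.symm h]

theorem sbf_fe_self (i : Fin m) : sympForm m F (sbfF m F i) (sbfE m F i) = 1 := by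
  unfold sbfE sbfF
  rw [sympForm_single_inr_left]
  simp

theorem sbfE_ne_zero (i : Fin m) : sbfE m F i ≠ 0 := by
  intro h
  have h1 := congrFun h (Sum.inl i)
  simp [sbfE] at h1

variable (F₀ : Subfield F)

theorem sbfE_rat (i : Fin m) : ratV F₀ (sbfE m F i) := ratV_single _ F₀.one_mem

theorem sbfF_rat (i : Fin m) : ratV F₀ (sbfF m F i) := ratV_single _ F₀.one_mem

theorem sbf_rat_spE (M : Subgroup (GL (Fin m ⊕ Fin m) F))
    (hR : ∀ v c, ratV F₀ v → c ∈ F₀ → spT m v c ∈ M) (w z : Fin m ⊕ Fin m → F)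
    (hw : ratV F₀ w) (hz : ratV F₀ z) : spE m w z ∈ M := by
  unfold spE
  exact M.mul_mem (M.mul_mem (hR _ _ (ratV_add hw hz) F₀.one_mem)
    (hR _ _ hw (F₀.neg_mem F₀.one_mem))) (hR _ _ hz (F₀.neg_mem F₀.one_mem))

theorem sbf_trans_step (M : Subgroup (GL (Fin m ⊕ Fin m) F))
    (hR : ∀ v c, ratV F₀ v → c ∈ F₀ → spT m v c ∈ M) (c : F) (v v' : Fin m ⊕ Fin m → F)
    (hv : ratV F₀ v) (hv' : ratV F₀ v') (hne : sympForm m F v v' ≠ 0) (h : spT m v c ∈ M) :
    spT m v' c ∈ M := by
  obtain ⟨g, hg⟩ : ∃ g, g = spT m (v - v') (sympForm m F v v')⁻¹ := ⟨_, rfl⟩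
  have hgM : g ∈ M := by
    rw [hg]
    exact hR _ _ (ratV_sub hv hv') (F₀.inv_mem (sbf_rat_symp m F₀ hv hv'))
  have hgv : (g : Matrix (Fin m ⊕ Fin m) (Fin m ⊕ Fin m) F) *ᵥ v = v' := by
    rw [hg, spT_mulVec, sympForm_sub_right, sympForm_self, zero_sub, mul_neg, inv_mul_cancel₀ hne]
    module
  have h1 := spT_conj m g (by rw [hg]; exact spT_mem m _ _) v c
  rw [hgv] at h1
  rw [← h1]
  exact M.mul_mem (M.mul_mem hgM h) (M.inv_mem hgM)

/-- The parameter set of transvections with rational centre does not depend on the centre. -/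
theorem sbf_trans (M : Subgroup (GL (Fin m ⊕ Fin m) F))
    (hR : ∀ v c, ratV F₀ v → c ∈ F₀ → spT m v c ∈ M) (c : F) (v₀ v : Fin m ⊕ Fin m → F)
    (hv₀ : ratV F₀ v₀) (hv₀0 : v₀ ≠ 0) (hv : ratV F₀ v) (h : spT m v₀ c ∈ M) :
    spT m v c ∈ M := by
  by_cases hv0 : v = 0
  · rw [hv0, lag_spT_zero]
    exact M.one_mem
  by_cases hne : sympForm m F v₀ v = 0
  · obtain ⟨w, hw, h1, h2⟩ := sbf_exists_two m F₀ v₀ v hv₀0 hv0
    have h3 := sbf_trans_step m F₀ M hR c v₀ w hv₀ hw h1 h
    exact sbf_trans_step m F₀ M hR c w v hw hv (by rw [sympForm_swap]; exact neg_ne_zero.mpr h2) h3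
  · exact sbf_trans_step m F₀ M hR c v₀ v hv₀ hv hne h

theorem sbf_S_step (M : Subgroup (GL (Fin m ⊕ Fin m) F)) (v s : Fin m ⊕ Fin m → F)
    (hv : ∀ c, spT m v c ∈ M) (hs : ∀ c, spT m s c ∈ M) (hne : sympForm m F v s ≠ 0) (t : F) :
    ∀ c, spT m (v + t • s) c ∈ M := by
  intro c
  have h1 := spT_conj m (spT m s (t / sympForm m F v s)) (spT_mem m _ _) v c
  rw [spT_mulVec, div_mul_cancel₀ _ hne] at h1
  rw [← h1]
  exact M.mul_mem (M.mul_mem (hs _) (hv c)) (M.inv_mem (hs _))

theorem sbf_S_orth (M : Subgroup (GL (Fin m ⊕ Fin m) F))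
    (hall : ∀ v, ratV F₀ v → ∀ c, spT m v c ∈ M) (t₀ : F) (ht0 : t₀ ≠ 0) (ht1 : t₀ ≠ 1)
    (v z : Fin m ⊕ Fin m → F) (hv : ∀ c, spT m v c ∈ M) (hz : ∀ c, spT m z c ∈ M)
    (hvz : sympForm m F v z = 0) : ∀ c, spT m (v + z) c ∈ M := by
  by_cases hv0 : v = 0
  · rw [hv0, zero_add]; exact hz
  by_cases hz0 : z = 0
  · rw [hz0, add_zero]; exact hv
  by_cases hx0 : v + z = 0
  · rw [hx0]
    intro c
    rw [lag_spT_zero]
    exact M.one_mem
  obtain ⟨s, hs, h1, h2⟩ := sbf_exists_two m F₀ v z hv0 hz0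
  have hS := hall s hs
  have hs0 : s ≠ 0 := fun h => h1 (by rw [h, sympForm_zero_right])
  have key : ∀ t : F, t ≠ 0 → ∀ c, spT m (v + t • s + z) c ∈ M := by
    intro t ht
    have h3 := sbf_S_step m M v s hv hS h1 t
    have h4 : sympForm m F (v + t • s) z ≠ 0 := by
      rw [sympForm_add_left, hvz, zero_add, sympForm_smul_left, sympForm_swap]
      exact mul_ne_zero ht (neg_ne_zero.mpr h2)
    have h5 := sbf_S_step m M (v + t • s) z h3 hz h4 1
    rwa [one_smul] at h5
  by_cases hxs : sympForm m F (v + z) s = 0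
  · obtain ⟨s', hs', h6, h7⟩ := sbf_exists_two m F₀ (v + z) s hx0 hs0
    have hS' := hall s' hs'
    obtain ⟨t, ht, h8⟩ : ∃ t : F, t ≠ 0 ∧
        sympForm m F (v + z) s' + t * sympForm m F s s' ≠ 0 := by
      by_cases h9 : sympForm m F (v + z) s' + sympForm m F s s' = 0
      · refine ⟨t₀, ht0, fun h10 => ?_⟩
        have h11 : (t₀ - 1) * sympForm m F s s' = 0 := by linear_combination h10 - h9
        rcases mul_eq_zero.mp h11 with h12 | h12
        · exact ht1 (sub_eq_zero.mp h12)
        · exact h7 h12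
      · exact ⟨1, one_ne_zero, by rwa [one_mul]⟩
    have hy := key t ht
    have hy2 : ∀ c, spT m (v + t • s + z + (1 : F) • s') c ∈ M := by
      apply sbf_S_step m M _ s' hy hS'
      have e : sympForm m F (v + t • s + z) s' =
          sympForm m F (v + z) s' + t * sympForm m F s s' := by
        simp only [sympForm_add_left, sympForm_smul_left]
        ring
      rw [e]
      exact h8
    have hy3 : ∀ c, spT m (v + t • s + z + (1 : F) • s' + (-t) • s) c ∈ M := by
      apply sbf_S_step m M _ s hy2 hS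
      have e : sympForm m F (v + t • s + z + (1 : F) • s') s =
          sympForm m F (v + z) s + sympForm m F s' s := by
        simp only [sympForm_add_left, sympForm_smul_left, sympForm_self]
        ring
      rw [e, hxs, zero_add, sympForm_swap]
      exact neg_ne_zero.mpr h7
    have hy4 : ∀ c, spT m (v + t • s + z + (1 : F) • s' + (-t) • s + (-1 : F) • s') c ∈ M := by
      apply sbf_S_step m M _ s' hy3 hS'
      have e : sympForm m F (v + t • s + z + (1 : F) • s' + (-t) • s) s' =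
          sympForm m F (v + z) s' := by
        simp only [sympForm_add_left, sympForm_smul_left, sympForm_self]
        ring
      rw [e]
      exact h6
    have e : v + t • s + z + (1 : F) • s' + (-t) • s + (-1 : F) • s' = v + z := by module
    rwa [e] at hy4
  · have hy := key 1 one_ne_zero
    have hy2 : ∀ c, spT m (v + (1 : F) • s + z + (-1 : F) • s) c ∈ M := by
      apply sbf_S_step m M _ s hy hS
      have e : sympForm m F (v + (1 : F) • s + z) s = sympForm m F (v + z) s := by
        simp only [sympForm_add_left, sympForm_smul_left, sympForm_self]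
        ring
      rw [e]
      exact hxs
    have e : v + (1 : F) • s + z + (-1 : F) • s = v + z := by module
    rwa [e] at hy2

/-- If all transvections with rational centre lie in `M` then `M` contains the symplectic group. -/
theorem sbf_all_of_rat (M : Subgroup (GL (Fin m ⊕ Fin m) F))
    (hall : ∀ v, ratV F₀ v → ∀ c, spT m v c ∈ M) (t₀ : F) (ht0 : t₀ ≠ 0) (ht1 : t₀ ≠ 1) :
    spGL m F ≤ M := by
  apply spGL_le_of_transv
  let W : Submodule F (Fin m ⊕ Fin m → F) :=
    { carrier := {v | ∀ c, spT m v c ∈ M}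
      add_mem' := by
        intro a b ha hb
        by_cases h : sympForm m F a b = 0
        · exact sbf_S_orth m F₀ M hall t₀ ht0 ht1 a b ha hb h
        · have h1 := sbf_S_step m M a b ha hb h 1
          rwa [one_smul] at h1
      zero_mem' := fun c => by
        rw [lag_spT_zero]
        exact M.one_mem
      smul_mem' := by
        intro a v hv c
        show spT m (a • v) c ∈ M
        rw [spT_smul]
        exact hv _ }
  intro v
  have hv : v ∈ W := by
    have e : v = ∑ i, v i • (Pi.single i (1 : F) : Fin m ⊕ Fin m → F) := by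
      funext j
      simp [Finset.sum_apply, Pi.single_apply]
    rw [e]
    exact W.sum_mem fun i _ => W.smul_mem _ (hall _ (ratV_single i F₀.one_mem))
  exact hv

/-- A subgroup containing the rational transvections and a transvection with rational centre and
non-rational parameter contains the symplectic group. -/
theorem sbf_thmA [Finite F] (hm : 3 ≤ m) (hso : IsSimpleOrder (Subalgebra ↥F₀ F))
    (M : Subgroup (GL (Fin m ⊕ Fin m) F))
    (hR : ∀ v c, ratV F₀ v → c ∈ F₀ → spT m v c ∈ M)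
    (v₀ : Fin m ⊕ Fin m → F) (c₀ : F) (hv₀ : ratV F₀ v₀) (hv₀0 : v₀ ≠ 0) (hc₀ : c₀ ∉ F₀)
    (h : spT m v₀ c₀ ∈ M) : spGL m F ≤ M := by
  classical
  have hc₀all : ∀ v, ratV F₀ v → spT m v c₀ ∈ M :=
    fun v hv => sbf_trans m F₀ M hR c₀ v₀ v hv₀ hv₀0 hv h
  have hE : ∀ w z, ratV F₀ w → ratV F₀ z → spE m w z ∈ M := sbf_rat_spE m F₀ M hR
  have hthird : ∀ i j : Fin m, ∃ k, k ≠ i ∧ k ≠ j := fun i j =>
    sf_exists_ne_two (by rw [Fintype.card_fin]; omega) i j
  let R : Subalgebra ↥F₀ F :=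
    { carrier := {c | ∀ i j : Fin m, i ≠ j → spE m (sbfE m F i) (c • sbfF m F j) ∈ M}
      mul_mem' := fun {c d} hc hd i j hij => by
        obtain ⟨k, hki, hkj⟩ := hthird i j
        have hcomm := sbf_spE_comm m (sbfE m F i) (sbfF m F k) (sbfF m F j) (sbfE m F k) c d (-1)
          (sbf_ef m i k hki.symm) (sbf_fe m j k hkj.symm) (sbf_fe m j i hij.symm) (sbf_ff m j k)
          (sbf_ee m k i) (sbf_ef_self m k)
        have h1 : spE m (sbfF m F j) (d • sbfE m F k) = spE m (sbfE m F k) (d • sbfF m F j) := by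
          rw [lag_spE_symm m _ _ (by rw [sympForm_smul_right, sbf_fe m j k hkj.symm, mul_zero]),
            sbf_spE_smul m d _ _ (sbf_ef m k j hkj)]
        have h2 : spE m (sbfF m F j) ((c * d * -1) • sbfE m F i) =
            spE m (sbfE m F i) ((c * d * -1) • sbfF m F j) := by
          rw [lag_spE_symm m _ _ (by rw [sympForm_smul_right, sbf_fe m j i hij.symm, mul_zero]),
            sbf_spE_smul m _ _ _ (sbf_ef m i j hij)]
        have hmem : spE m (sbfE m F i) ((c * d * -1) • sbfF m F j) ∈ M := by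
          rw [← h2]
          have h3 : spE m (sbfF m F j) ((c * d * -1) • sbfE m F i) =
              (spE m (sbfF m F j) (d • sbfE m F k))⁻¹ *
              (spE m (sbfE m F i) (c • sbfF m F k) * spE m (sbfF m F j) (d • sbfE m F k) *
                (spE m (sbfE m F i) (c • sbfF m F k))⁻¹) := by
            rw [hcomm]
            group
          rw [h3, h1]
          exact M.mul_mem (M.inv_mem (hd k j hkj))
            (M.mul_mem (M.mul_mem (hc i k hki.symm) (hd k j hkj)) (M.inv_mem (hc i k hki.symm)))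
        have h4 := M.inv_mem hmem
        rw [sbf_spE_inv m _ _ (by rw [sympForm_smul_right, sbf_ef m i j hij, mul_zero])] at h4
        have e : -((c * d * -1) • sbfF m F j) = (c * d) • sbfF m F j := by module
        rwa [e] at h4
      add_mem' := fun {c d} hc hd i j hij => by
        rw [add_smul, ← sbf_spE_add m _ _ _
          (by rw [sympForm_smul_right, sbf_ef m i j hij, mul_zero])
          (by rw [sympForm_smul_right, sbf_ef m i j hij, mul_zero])
          (by rw [sympForm_smul_left, sympForm_smul_right, sbf_ff, mul_zero, mul_zero])]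
        exact M.mul_mem (hc i j hij) (hd i j hij)
      one_mem' := fun i j hij => by
        rw [one_smul]
        exact hE _ _ (sbfE_rat m F₀ i) (sbfF_rat m F₀ j)
      zero_mem' := fun i j hij => by
        rw [zero_smul, sbf_spE_zero]
        exact M.one_mem
      algebraMap_mem' := fun c i j hij =>
        hE _ _ (sbfE_rat m F₀ i) (ratV_smul c.2 (sbfF_rat m F₀ j)) }
  have hRmem : ∀ c : F, c ∈ R ↔
      ∀ i j : Fin m, i ≠ j → spE m (sbfE m F i) (c • sbfF m F j) ∈ M := fun c => Iff.rfl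
  have hc₀R : c₀ ∈ R := by
    rw [hRmem]
    intro i j hij
    have h1 := sbf_spT_add_smul m (sbfF m F j) (sbfE m F i) 1 c₀ (sbf_fe m j i hij.symm)
    simp only [mul_one] at h1
    have h2 : spE m (sbfE m F i) (c₀ • sbfF m F j) =
        (spT m (sbfF m F j) c₀ * spT m (sbfE m F i) c₀)⁻¹ *
          spT m (sbfF m F j + (1 : F) • sbfE m F i) c₀ := by
      rw [h1]
      group
    rw [h2]
    exact M.mul_mem (M.inv_mem (M.mul_mem (hc₀all _ (sbfF_rat m F₀ j)) (hc₀all _ (sbfE_rat m F₀ i))))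
      (hc₀all _ (ratV_add (sbfF_rat m F₀ j) (ratV_smul F₀.one_mem (sbfE_rat m F₀ i))))
  have hRtop : R = ⊤ := by
    rcases eq_bot_or_eq_top R with hb | ht
    · exfalso
      apply hc₀
      have h1 : c₀ ∈ (⊥ : Subalgebra ↥F₀ F) := hb ▸ hc₀R
      rw [Algebra.mem_bot] at h1
      obtain ⟨y, hy⟩ := h1
      rw [← hy]
      exact y.2
    · exact ht
  have hSall : ∀ (a : F) (i j : Fin m), i ≠ j → spE m (sbfE m F i) (a • sbfF m F j) ∈ M := by
    intro a
    have h1 : a ∈ R := by rw [hRtop]; exact Algebra.mem_top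
    exact (hRmem a).mp h1
  have hEE : ∀ (a : F) (i j : Fin m), i ≠ j → spE m (sbfE m F j) (a • sbfE m F i) ∈ M := by
    intro a i j hij
    obtain ⟨k, hki, hkj⟩ := hthird i j
    have hcomm := sbf_spE_comm m (sbfE m F i) (sbfF m F k) (sbfE m F j) (sbfE m F k) (-a) 1 (-1)
      (sbf_ef m i k hki.symm) (sbf_ee m j k) (sbf_ee m j i) (sbf_ef m j k hkj.symm)
      (sbf_ee m k i) (sbf_ef_self m k)
    have e : (-a * 1 * -1 : F) = a := by ring
    rw [e] at hcomm
    have hrat : spE m (sbfE m F j) ((1 : F) • sbfE m F k) ∈ M :=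
      hE _ _ (sbfE_rat m F₀ j) (ratV_smul F₀.one_mem (sbfE_rat m F₀ k))
    have h3 : spE m (sbfE m F j) (a • sbfE m F i) =
        (spE m (sbfE m F j) ((1 : F) • sbfE m F k))⁻¹ *
        (spE m (sbfE m F i) (-a • sbfF m F k) * spE m (sbfE m F j) ((1 : F) • sbfE m F k) *
          (spE m (sbfE m F i) (-a • sbfF m F k))⁻¹) := by
      rw [hcomm]
      group
    rw [h3]
    exact M.mul_mem (M.inv_mem hrat) (M.mul_mem (M.mul_mem (hSall (-a) i k hki.symm) hrat)
      (M.inv_mem (hSall (-a) i k hki.symm)))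
  have hsq : ∀ (a : F) (i : Fin m), spT m (sbfE m F i) (a * a) ∈ M := by
    intro a i
    obtain ⟨j, hji, -⟩ := hthird i i
    obtain ⟨S, hS⟩ : ∃ S, S = spE m (sbfE m F i) (a • sbfF m F j) := ⟨_, rfl⟩
    have hSM : S ∈ M := by rw [hS]; exact hSall a i j hji.symm
    have h0 : sympForm m F (sbfE m F i) (a • sbfF m F j) = 0 := by
      rw [sympForm_smul_right, sbf_ef m i j hji.symm, mul_zero]
    have hSe : (S : Matrix (Fin m ⊕ Fin m) (Fin m ⊕ Fin m) F) *ᵥ sbfE m F j =
        sbfE m F j + (-a) • sbfE m F i := by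
      rw [hS, spE_mulVec m _ _ h0, sbf_ee m j i, zero_smul, add_zero, sympForm_smul_right,
        sbf_ef_self, mul_neg, mul_one]
    have hT1 : spT m (sbfE m F j) 1 ∈ M := hR _ _ (sbfE_rat m F₀ j) F₀.one_mem
    have h1 := spT_conj m S (by rw [hS]; exact spE_mem m _ _) (sbfE m F j) 1
    rw [hSe, sbf_spT_add_smul m (sbfE m F j) (sbfE m F i) (-a) 1 (sbf_ee m j i)] at h1
    have e1 : (1 * -a * -a : F) = a * a := by ring
    have e2 : (1 * -a : F) = -a := by ring
    rw [e1, e2] at h1
    have h2 : spT m (sbfE m F i) (a * a) = (spT m (sbfE m F j) 1)⁻¹ *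
        (S * spT m (sbfE m F j) 1 * S⁻¹) * (spE m (sbfE m F i) (-a • sbfE m F j))⁻¹ := by
      rw [h1]
      group
    rw [h2]
    exact M.mul_mem (M.mul_mem (M.inv_mem hT1) (M.mul_mem (M.mul_mem hSM hT1) (M.inv_mem hSM)))
      (M.inv_mem (hEE (-a) j i hji))
  have hE1 : ∀ (c : F) (i : Fin m), spT m (sbfE m F i) c ∈ M := by
    intro c i
    by_cases h2 : (2 : F) = 0
    · have hch : ringChar F = 2 :=
        CharP.ringChar_of_prime_eq_zero Nat.prime_two (by exact_mod_cast h2)
      obtain ⟨a, ha⟩ := FiniteField.isSquare_of_char_two hch c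
      rw [ha]
      exact hsq a i
    · have e : c = ((c + 1) / 2) * ((c + 1) / 2) + -(((c - 1) / 2) * ((c - 1) / 2)) := by
        field_simp
        ring
      rw [e, ← lag_spT_add, ← sbf_spT_inv]
      exact M.mul_mem (hsq _ i) (M.inv_mem (hsq _ i))
  have hall : ∀ v, ratV F₀ v → ∀ c, spT m v c ∈ M := fun v hv c =>
    sbf_trans m F₀ M hR c (sbfE m F ⟨0, by omega⟩) v (sbfE_rat m F₀ _) (sbfE_ne_zero m _) hv
      (hE1 c _)
  exact sbf_all_of_rat m F₀ M hall c₀ (fun h0 => hc₀ (h0 ▸ F₀.zero_mem))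
    (fun h1 => hc₀ (h1 ▸ F₀.one_mem))

end

end Cfsg.Agent.Lib.helper17
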