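import Cfsg.Agent.Lib.helper17.SpSubf2

/-!
Subfield subgroups of the symplectic group, part 3: if all transvections with rational centre in
an overgroup `M` of the rational transvections are rational, then so are the elements of `M` in
the unipotent radical of the stabiliser of a rational point.
-/

set_option autoImplicit false

namespace Cfsg.Agent.Lib.helper17

open Matrix Cfsg Cfsg.Geo Module Cfsg.Agent.Lib.helper95

section
variable {F : Type*} [Field F] (F₀ : Subfield F)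

theorem sbf_sq_mem [Finite F] (x : F) (h0 : x * x ∈ F₀) (h1 : (x + 1) * (x + 1) ∈ F₀) :
    x ∈ F₀ := by
  by_cases h2 : (2 : F) = 0
  · have h2' : ((2 : ℕ) : ↥F₀) = 0 := by
      apply Subtype.ext
      push_cast
      exact h2
    have hch : ringChar ↥F₀ = 2 := CharP.ringChar_of_prime_eq_zero Nat.prime_two h2'
    obtain ⟨s, hs⟩ := FiniteField.isSquare_of_char_two hch (⟨x * x, h0⟩ : ↥F₀)
    have hs' : x * x = (s : F) * s := congrArg Subtype.val hs
    have e : (x - (s : F)) * (x - s) = 0 := by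
      linear_combination hs' + ((s : F) * s - x * s) * h2
    have h3 := mul_self_eq_zero.mp e
    rw [sub_eq_zero.mp h3]
    exact s.2
  · have h3 : 2 * x ∈ F₀ := by
      have h4 := F₀.sub_mem (F₀.sub_mem h1 h0) F₀.one_mem
      have e : (x + 1) * (x + 1) - x * x - 1 = 2 * x := by ring
      rwa [e] at h4
    have h4 : (2 : F) ∈ F₀ := by
      have h5 := F₀.add_mem F₀.one_mem F₀.one_mem
      rwa [one_add_one_eq_two] at h5
    have h5 := F₀.mul_mem (F₀.inv_mem h4) h3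
    rwa [inv_mul_cancel_left₀ h2] at h5

variable (m : ℕ)

/-- Rationality of the radical elements of `M` at a rational point. -/
theorem sbf_thmB [Finite F] (hm : 3 ≤ m) (M : Subgroup (GL (Fin m ⊕ Fin m) F))
    (hMG : M ≤ spGL m F)
    (hR : ∀ v c, ratV F₀ v → c ∈ F₀ → spT m v c ∈ M)
    (hH : ∀ v c, ratV F₀ v → v ≠ 0 → spT m v c ∈ M → c ∈ F₀)
    (v y : Fin m ⊕ Fin m → F) (c : F) (hv : ratV F₀ v) (hv0 : v ≠ 0)
    (hvy : sympForm m F v y = 0) (hX : spT m v c * spE m v y ∈ M) :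
    ∃ t : F, ratV F₀ (y + t • v) := by
  by_contra hcon
  have hE : ∀ w z, ratV F₀ w → ratV F₀ z → spE m w z ∈ M := sbf_rat_spE m F₀ M hR
  obtain ⟨z, hz, hzv, hb⟩ : ∃ z, ratV F₀ z ∧ sympForm m F z v = 0 ∧ sympForm m F z y ∉ F₀ := by
    by_contra h'
    push Not at h'
    exact hcon (sbf_dual m F₀ v y hv hv0 h')
  obtain ⟨b, hbdef⟩ : ∃ b, b = sympForm m F z y := ⟨_, rfl⟩
  rw [← hbdef] at hb
  have hvz : sympForm m F v z = 0 := by rw [sympForm_swap, hzv, neg_zero]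
  obtain ⟨X, hXdef⟩ : ∃ X, X = spT m v c * spE m v y := ⟨_, rfl⟩
  rw [← hXdef] at hX
  have hXz : (X : Matrix (Fin m ⊕ Fin m) (Fin m ⊕ Fin m) F) *ᵥ z = z + b • v := by
    rw [hXdef, Units.val_mul, ← Matrix.mulVec_mulVec, spE_mulVec m v y hvy, hzv, zero_smul,
      add_zero, ← hbdef, spT_mulVec, sympForm_add_left, hzv, sympForm_smul_left, sympForm_self,
      mul_zero, add_zero, mul_zero, zero_smul, add_zero]
  have hY : spT m v (b * b) * spE m v (b • z) ∈ M := by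
    have h1 := spT_conj m X (hMG hX) z 1
    rw [hXz, sbf_spT_add_smul m z v b 1 hzv] at h1
    have e1 : (1 * b * b : F) = b * b := by ring
    rw [e1, one_mul] at h1
    have h2 : spT m v (b * b) * spE m v (b • z) = (spT m z 1)⁻¹ * (X * spT m z 1 * X⁻¹) := by
      rw [h1]
      group
    rw [h2]
    have hT := hR z 1 hz F₀.one_mem
    exact M.mul_mem (M.inv_mem hT) (M.mul_mem (M.mul_mem hX hT) (M.inv_mem hX))
  -- a pure Siegel element with non-rational parameter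
  have hzne : ∀ c' : F, z ≠ c' • v := by
    intro c' h
    apply hb
    rw [hbdef, h, sympForm_smul_left, hvy, mul_zero]
    exact F₀.zero_mem
  obtain ⟨t, ht, hvt, hzt⟩ := sbf_exists_orth m F₀ v z hv hz hv0 hzne
  obtain ⟨k, hk⟩ := sbf_exists_single m v hv0
  obtain ⟨z₃, hz₃, hz₃0, hperp⟩ := sbf_exists_perp m F₀ 4 ![v, z, t, Pi.single k 1]
    (fun i => by
      fin_cases i
      exacts [hv, hz, ht, ratV_single k F₀.one_mem]) (by omega)
  have hz₃v : sympForm m F z₃ v = 0 := by simpa using hperp 0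
  have hz₃z : sympForm m F z₃ z = 0 := by simpa using hperp 1
  have hz₃t : sympForm m F z₃ t = 0 := by simpa using hperp 2
  have hz₃k : sympForm m F z₃ (Pi.single k 1) = 0 := hperp 3
  obtain ⟨τ, hτ⟩ : ∃ τ, τ = sympForm m F z t := ⟨_, rfl⟩
  have hτ0 : τ ≠ 0 := by rw [hτ]; exact hzt
  have hτF : τ ∈ F₀ := by rw [hτ]; exact sbf_rat_symp m F₀ hz ht
  have hvz₃ : sympForm m F v z₃ = 0 := by rw [sympForm_swap, hz₃v, neg_zero]
  have hzz₃ : sympForm m F z z₃ = 0 := by rw [sympForm_swap, hz₃z, neg_zero]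
  obtain ⟨r, hr⟩ : ∃ r, r = spE m z₃ t := ⟨_, rfl⟩
  have hrM : r ∈ M := by rw [hr]; exact hE _ _ hz₃ ht
  have hrG : r ∈ spGL m F := hMG hrM
  have hrv : (r : Matrix (Fin m ⊕ Fin m) (Fin m ⊕ Fin m) F) *ᵥ v = v := by
    rw [hr, spE_mulVec m z₃ t hz₃t, hvz₃, hvt, zero_smul, zero_smul, add_zero, add_zero]
  have hrz : (r : Matrix (Fin m ⊕ Fin m) (Fin m ⊕ Fin m) F) *ᵥ (b • z) =
      b • z + (b * τ) • z₃ := by
    rw [hr, Matrix.mulVec_smul, spE_mulVec m z₃ t hz₃t, hzz₃, zero_smul, add_zero, ← hτ, smul_add,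
      smul_smul]
  have hS₃ : spE m v ((b * τ) • z₃) ∈ M := by
    have h1 : r * (spT m v (b * b) * spE m v (b • z)) * r⁻¹ =
        spT m v (b * b) * spE m v (b • z + (b * τ) • z₃) := by
      have h2 : r * (spT m v (b * b) * spE m v (b • z)) * r⁻¹ =
          (r * spT m v (b * b) * r⁻¹) * (r * spE m v (b • z) * r⁻¹) := by group
      rw [h2, spT_conj m r hrG, lag_spE_conj m r hrG, hrv, hrz]
    have h3 : spE m v ((b * τ) • z₃) = (spT m v (b * b) * spE m v (b • z))⁻¹ *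
        (r * (spT m v (b * b) * spE m v (b • z)) * r⁻¹) := by
      rw [h1, _root_.mul_inv_rev, sbf_spE_inv m v (b • z) (by rw [sympForm_smul_right, hvz, mul_zero]),
        mul_assoc, inv_mul_cancel_left, sbf_spE_add m v _ _
          (by rw [sympForm_neg_right, sympForm_smul_right, hvz, mul_zero, neg_zero])
          (by rw [sympForm_add_right, sympForm_smul_right, sympForm_smul_right, hvz, hvz₃,
            mul_zero, mul_zero, add_zero])
          (by simp only [sympForm_neg_left, sympForm_smul_left, sympForm_add_right,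
            sympForm_smul_right, sympForm_self, hzz₃, mul_zero, add_zero, neg_zero])]
      congr 1
      abel
    rw [h3]
    exact M.mul_mem (M.inv_mem hY) (M.mul_mem (M.mul_mem hrM hY) (M.inv_mem hrM))
  obtain ⟨b', hb'⟩ : ∃ b', b' = b * τ := ⟨_, rfl⟩
  rw [← hb'] at hS₃
  have hb'F : b' ∉ F₀ := by
    intro h
    apply hb
    have h1 := F₀.mul_mem h (F₀.inv_mem hτF)
    rwa [hb', mul_inv_cancel_right₀ hτ0] at h1
  have hz₃ne : ∀ c' : F, z₃ ≠ c' • v := by
    intro c' h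
    have h1 := hz₃k
    rw [h, sympForm_smul_left, sympForm_swap] at h1
    rcases mul_eq_zero.mp h1 with h2 | h2
    · exact hz₃0 (by rw [h, h2, zero_smul])
    · exact hk (neg_eq_zero.mp h2)
  obtain ⟨w, hw, hvw, hz₃w⟩ := sbf_exists_orth m F₀ v z₃ hv hz₃ hv0 hz₃ne
  obtain ⟨σ, hσ⟩ : ∃ σ, σ = sympForm m F w z₃ := ⟨_, rfl⟩
  have hσ0 : σ ≠ 0 := by rw [hσ, sympForm_swap]; exact neg_ne_zero.mpr hz₃w
  have hσF : σ ∈ F₀ := by rw [hσ]; exact sbf_rat_symp m F₀ hw hz₃
  have hwv : sympForm m F w v = 0 := by rw [sympForm_swap, hvw, neg_zero]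
  obtain ⟨r', hr'⟩ : ∃ r', r' = spT m (z₃ - σ • w) (-(σ * σ)⁻¹) := ⟨_, rfl⟩
  have hr'M : r' ∈ M := by
    rw [hr']
    exact hR _ _ (ratV_sub hz₃ (ratV_smul hσF hw))
      (F₀.neg_mem (F₀.inv_mem (F₀.mul_mem hσF hσF)))
  have hr'G : r' ∈ spGL m F := hMG hr'M
  have hr'v : (r' : Matrix (Fin m ⊕ Fin m) (Fin m ⊕ Fin m) F) *ᵥ v = v := by
    rw [hr', spT_mulVec, sympForm_sub_right, sympForm_smul_right, hvz₃, hvw, mul_zero, sub_zero,
      mul_zero, zero_smul, add_zero]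
  have hr'z : (r' : Matrix (Fin m ⊕ Fin m) (Fin m ⊕ Fin m) F) *ᵥ z₃ = σ • w := by
    rw [hr', spT_mulVec, sympForm_sub_right, sympForm_self, sympForm_smul_right, zero_sub]
    have e : sympForm m F z₃ w = -σ := by rw [hσ, sympForm_swap m w z₃]
    rw [e]
    have e2 : -(σ * σ)⁻¹ * -(σ * -σ) = -1 := by field_simp
    rw [e2]
    module
  have key : ∀ s : F, s ∈ F₀ → ((b' + s) * σ) * ((b' + s) * σ) ∈ F₀ := by
    intro s hs
    obtain ⟨x, hx⟩ : ∃ x, x = b' + s := ⟨_, rfl⟩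
    rw [← hx]
    have hSs : spE m v (x • z₃) ∈ M := by
      rw [hx, add_smul, ← sbf_spE_add m v _ _ (by rw [sympForm_smul_right, hvz₃, mul_zero])
        (by rw [sympForm_smul_right, hvz₃, mul_zero])
        (by rw [sympForm_smul_left, sympForm_smul_right, sympForm_self, mul_zero, mul_zero])]
      exact M.mul_mem hS₃ (hE _ _ hv (ratV_smul hs hz₃))
    obtain ⟨S, hS⟩ : ∃ S, S = spE m v (x • z₃) := ⟨_, rfl⟩
    rw [← hS] at hSs
    have h0 : sympForm m F v (x • z₃) = 0 := by rw [sympForm_smul_right, hvz₃, mul_zero]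
    have hSw : (S : Matrix (Fin m ⊕ Fin m) (Fin m ⊕ Fin m) F) *ᵥ w = w + (x * σ) • v := by
      rw [hS, spE_mulVec m v _ h0, hwv, zero_smul, add_zero, sympForm_smul_right, ← hσ]
    have h1 := spT_conj m S (hMG hSs) w 1
    rw [hSw, sbf_spT_add_smul m w v (x * σ) 1 hwv] at h1
    have h2 : r' * S * r'⁻¹ = spE m v ((1 * (x * σ)) • w) := by
      rw [hS, lag_spE_conj m r' hr'G, hr'v, Matrix.mulVec_smul, hr'z, smul_smul, one_mul]
    have hT := hR w 1 hw F₀.one_mem
    have h3 : spT m v (1 * (x * σ) * (x * σ)) =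
        (spT m w 1)⁻¹ * (S * spT m w 1 * S⁻¹) * (r' * S * r'⁻¹)⁻¹ := by
      rw [h1, h2]
      group
    have h4 : spT m v (1 * (x * σ) * (x * σ)) ∈ M := by
      rw [h3]
      exact M.mul_mem (M.mul_mem (M.inv_mem hT) (M.mul_mem (M.mul_mem hSs hT) (M.inv_mem hSs)))
        (M.inv_mem (M.mul_mem (M.mul_mem hr'M hSs) (M.inv_mem hr'M)))
    have h5 := hH v _ hv hv0 h4
    rwa [one_mul] at h5
  have k0 := key 0 F₀.zero_mem
  have k1 := key 1 F₀.one_mem
  rw [add_zero] at k0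
  have hσ2 : (σ * σ)⁻¹ ∈ F₀ := F₀.inv_mem (F₀.mul_mem hσF hσF)
  have q0 : b' * b' ∈ F₀ := by
    have h1 := F₀.mul_mem k0 hσ2
    have e : b' * σ * (b' * σ) * (σ * σ)⁻¹ = b' * b' := by field_simp
    rwa [e] at h1
  have q1 : (b' + 1) * (b' + 1) ∈ F₀ := by
    have h1 := F₀.mul_mem k1 hσ2
    have e : (b' + 1) * σ * ((b' + 1) * σ) * (σ * σ)⁻¹ = (b' + 1) * (b' + 1) := by field_simp
    rwa [e] at h1
  exact hb'F (sbf_sq_mem F₀ b' q0 q1)

end

end Cfsg.Agent.Lib.helper17
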