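import Cfsg.Agent.Lib.helper17.SpSubf3

/-!
Subfield subgroups of the symplectic group, part 4: an overgroup `M` of the rational transvections
all of whose transvections with rational centre are rational consists of scalar multiples of
rational matrices.
-/

set_option autoImplicit false

namespace Cfsg.Agent.Lib.helper17

open Matrix Cfsg Cfsg.Geo Module Cfsg.Agent.Lib.helper95

section
variable {F : Type*} [Field F] (m : ℕ) (F₀ : Subfield F)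

theorem sbf_J_dot (x w : Fin m ⊕ Fin m → F) :
    (Matrix.J (Fin m) F *ᵥ w) ⬝ᵥ x = sympForm m F x w := by
  unfold sympForm
  rw [dotProduct_comm]

theorem sbf_spT_eq_slT (w : Fin m ⊕ Fin m → F) (c : F) :
    spT m w c = slT w (c • (Matrix.J (Fin m) F *ᵥ w)) := by
  have h0 : (c • (Matrix.J (Fin m) F *ᵥ w)) ⬝ᵥ w = 0 := by
    rw [smul_dotProduct, sbf_J_dot, sympForm_self, smul_zero]
  apply Units.ext
  rw [spT_val, slT_val _ _ h0]
  unfold sympTransvection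
  congr 1
  ext i j
  simp only [Matrix.smul_apply, Matrix.vecMulVec_apply, Pi.smul_apply, smul_eq_mul]
  ring

/-- If an element of `M` maps a rational point to a rational point, it maps every rational point
orthogonal to it to a rational point. -/
theorem sbf_C3 (M : Subgroup (GL (Fin m ⊕ Fin m) F)) (hMG : M ≤ spGL m F)
    (hR : ∀ v c, ratV F₀ v → c ∈ F₀ → spT m v c ∈ M)
    (hH : ∀ v c, ratV F₀ v → v ≠ 0 → spT m v c ∈ M → c ∈ F₀)
    (hQ : ∀ v y c, ratV F₀ v → v ≠ 0 → sympForm m F v y = 0 → spT m v c * spE m v y ∈ M →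
      ∃ t : F, ratV F₀ (y + t • v))
    (g : GL (Fin m ⊕ Fin m) F) (hg : g ∈ M) (v y : Fin m ⊕ Fin m → F) (hv : ratV F₀ v)
    (hv0 : v ≠ 0) (hRP : sbfRP F₀ ((g : Matrix (Fin m ⊕ Fin m) (Fin m ⊕ Fin m) F) *ᵥ v))
    (hy : ratV F₀ y) (hvy : sympForm m F v y = 0) :
    sbfRP F₀ ((g : Matrix (Fin m ⊕ Fin m) (Fin m ⊕ Fin m) F) *ᵥ y) := by
  obtain ⟨μ, hμ0, hv'⟩ := hRP
  have hgG : g ∈ spGL m F := hMG hg
  have hform := (mem_spGL_iff m g).mp hgG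
  obtain ⟨v', hv'def⟩ : ∃ v', v' = μ • ((g : Matrix (Fin m ⊕ Fin m) (Fin m ⊕ Fin m) F) *ᵥ v) :=
    ⟨_, rfl⟩
  rw [← hv'def] at hv'
  obtain ⟨gy, hgy⟩ : ∃ gy, gy = (g : Matrix (Fin m ⊕ Fin m) (Fin m ⊕ Fin m) F) *ᵥ y := ⟨_, rfl⟩
  rw [← hgy]
  have hgv : (g : Matrix (Fin m ⊕ Fin m) (Fin m ⊕ Fin m) F) *ᵥ v = μ⁻¹ • v' := by
    rw [hv'def, smul_smul, inv_mul_cancel₀ hμ0, one_smul]
  have hv'0 : v' ≠ 0 := by
    rw [hv'def]
    exact smul_ne_zero hμ0 (lag_mulVec_ne_zero m g v hv0)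
  have hv'gy : sympForm m F v' gy = 0 := by
    rw [hv'def, hgy, sympForm_smul_left, hform, hvy, mul_zero]
  have hgyv' : sympForm m F gy v' = 0 := by rw [sympForm_swap, hv'gy, neg_zero]
  have hκ : μ * μ ∈ F₀ := by
    have h1 := spT_conj m g hgG v 1
    rw [hgv, spT_smul] at h1
    have h2 : spT m v' (μ⁻¹ * μ⁻¹ * 1) ∈ M := by
      rw [← h1]
      exact M.mul_mem (M.mul_mem hg (hR v 1 hv F₀.one_mem)) (M.inv_mem hg)
    have h3 := F₀.inv_mem (hH v' _ hv' hv'0 h2)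
    have e : (μ⁻¹ * μ⁻¹ * 1)⁻¹ = μ * μ := by field_simp
    rwa [e] at h3
  have hE1 : spE m v' (μ⁻¹ • gy) ∈ M := by
    have h1 := lag_spE_conj m g hgG v y
    rw [hgv, ← hgy, sbf_spE_smul m μ⁻¹ v' gy hv'gy] at h1
    rw [← h1]
    exact M.mul_mem (M.mul_mem hg (sbf_rat_spE m F₀ M hR v y hv hy)) (M.inv_mem hg)
  obtain ⟨t, ht⟩ := hQ v' (μ⁻¹ • gy) 0 hv' hv'0 (by rw [sympForm_smul_right, hv'gy, mul_zero])
    (by rw [lag_spT_zero', one_mul]; exact hE1)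
  obtain ⟨y₀, hy₀def⟩ : ∃ y₀, y₀ = μ⁻¹ • gy + t • v' := ⟨_, rfl⟩
  rw [← hy₀def] at ht
  have hy₀v' : sympForm m F y₀ v' = 0 := by
    rw [hy₀def, sympForm_add_left, sympForm_smul_left, sympForm_smul_left, hgyv', sympForm_self,
      mul_zero, mul_zero, add_zero]
  have hv'y₀ : sympForm m F v' y₀ = 0 := by rw [sympForm_swap, hy₀v', neg_zero]
  have hgy' : gy = μ • (y₀ + (-t) • v') := by
    rw [hy₀def]
    have e : μ⁻¹ • gy + t • v' + (-t) • v' = μ⁻¹ • gy := by module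
    rw [e, smul_smul, mul_inv_cancel₀ hμ0, one_smul]
  have hT : spT m gy 1 ∈ M := by
    have h1 := spT_conj m g hgG y 1
    rw [← hgy] at h1
    rw [← h1]
    exact M.mul_mem (M.mul_mem hg (hR y 1 hy F₀.one_mem)) (M.inv_mem hg)
  rw [hgy', spT_smul, sbf_spT_add_smul m y₀ v' (-t) (μ * μ * 1) hy₀v'] at hT
  have hκ' : μ * μ * 1 ∈ F₀ := by rwa [mul_one]
  have hκ0 : μ * μ * 1 ≠ 0 := by
    rw [mul_one]
    exact mul_ne_zero hμ0 hμ0
  have hT2 : spT m v' (μ * μ * 1 * -t * -t) * spE m v' ((μ * μ * 1 * -t) • y₀) ∈ M := by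
    have e : spT m v' (μ * μ * 1 * -t * -t) * spE m v' ((μ * μ * 1 * -t) • y₀) =
        (spT m y₀ (μ * μ * 1))⁻¹ * (spT m y₀ (μ * μ * 1) * spT m v' (μ * μ * 1 * -t * -t) *
          spE m v' ((μ * μ * 1 * -t) • y₀)) := by group
    rw [e]
    exact M.mul_mem (M.inv_mem (hR y₀ _ ht hκ')) hT
  obtain ⟨t', ht'⟩ := hQ v' ((μ * μ * 1 * -t) • y₀) _ hv' hv'0
    (by rw [sympForm_smul_right, hv'y₀, mul_zero]) hT2
  by_cases hcase : μ * μ * 1 * -t ∈ F₀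
  · have htF : t ∈ F₀ := by
      have h1 := F₀.neg_mem (F₀.mul_mem (F₀.inv_mem hκ') hcase)
      have e : -((μ * μ * 1)⁻¹ * (μ * μ * 1 * -t)) = t := by
        rw [← mul_assoc, inv_mul_cancel₀ hκ0, one_mul, neg_neg]
      rwa [e] at h1
    refine ⟨μ⁻¹, inv_ne_zero hμ0, ?_⟩
    rw [hgy', smul_smul, inv_mul_cancel₀ hμ0, one_smul]
    exact ratV_add ht (ratV_smul (F₀.neg_mem htF) hv')
  · have hmin := sbf_minor F₀ y₀ v' _ t' ht hv' ht' hcase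
    obtain ⟨j₀, hj₀⟩ : ∃ j₀, v' j₀ ≠ 0 := by
      by_contra h
      push Not at h
      exact hv'0 (funext h)
    have hy₀ : y₀ = (y₀ j₀ / v' j₀) • v' := by
      funext i
      have h1 := hmin i j₀
      rw [Pi.smul_apply, smul_eq_mul]
      field_simp
      linear_combination h1
    rw [hgy', hy₀, ← add_smul, smul_smul]
    exact sbfRP_smul F₀ _ (sbfRP_of_rat F₀ hv')

theorem sbf_Call (hm : 2 ≤ m) (M : Subgroup (GL (Fin m ⊕ Fin m) F)) (hMG : M ≤ spGL m F)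
    (hR : ∀ v c, ratV F₀ v → c ∈ F₀ → spT m v c ∈ M)
    (hH : ∀ v c, ratV F₀ v → v ≠ 0 → spT m v c ∈ M → c ∈ F₀)
    (hQ : ∀ v y c, ratV F₀ v → v ≠ 0 → sympForm m F v y = 0 → spT m v c * spE m v y ∈ M →
      ∃ t : F, ratV F₀ (y + t • v))
    (g : GL (Fin m ⊕ Fin m) F) (hg : g ∈ M) (v : Fin m ⊕ Fin m → F) (hv : ratV F₀ v)
    (hv0 : v ≠ 0) (hRP : sbfRP F₀ ((g : Matrix (Fin m ⊕ Fin m) (Fin m ⊕ Fin m) F) *ᵥ v))
    (x : Fin m ⊕ Fin m → F) (hx : ratV F₀ x) :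
    sbfRP F₀ ((g : Matrix (Fin m ⊕ Fin m) (Fin m ⊕ Fin m) F) *ᵥ x) := by
  obtain ⟨y, hy, hy0, hperp⟩ := sbf_exists_perp m F₀ 2 ![v, x]
    (fun i => by
      fin_cases i
      exacts [hv, hx]) (by omega)
  have hyv : sympForm m F y v = 0 := by simpa using hperp 0
  have hyx : sympForm m F y x = 0 := by simpa using hperp 1
  have h1 := sbf_C3 m F₀ M hMG hR hH hQ g hg v y hv hv0 hRP hy
    (by rw [sympForm_swap, hyv, neg_zero])
  exact sbf_C3 m F₀ M hMG hR hH hQ g hg y x hy hy0 h1 hx hyx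

theorem sbf_C_scalar (hm : 2 ≤ m) (M : Subgroup (GL (Fin m ⊕ Fin m) F)) (hMG : M ≤ spGL m F)
    (hR : ∀ v c, ratV F₀ v → c ∈ F₀ → spT m v c ∈ M)
    (hH : ∀ v c, ratV F₀ v → v ≠ 0 → spT m v c ∈ M → c ∈ F₀)
    (hQ : ∀ v y c, ratV F₀ v → v ≠ 0 → sympForm m F v y = 0 → spT m v c * spE m v y ∈ M →
      ∃ t : F, ratV F₀ (y + t • v))
    (g : GL (Fin m ⊕ Fin m) F) (hg : g ∈ M) (v : Fin m ⊕ Fin m → F) (hv : ratV F₀ v)
    (hv0 : v ≠ 0) (hRP : sbfRP F₀ ((g : Matrix (Fin m ⊕ Fin m) (Fin m ⊕ Fin m) F) *ᵥ v)) :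
    ∃ μ : F, μ ≠ 0 ∧ ∀ k l, μ * (g : Matrix (Fin m ⊕ Fin m) (Fin m ⊕ Fin m) F) k l ∈ F₀ := by
  haveI : Nonempty (Fin m ⊕ Fin m) := ⟨Sum.inl ⟨0, by omega⟩⟩
  exact sbf_scalar_rat F₀ g
    (fun x hx _ => sbf_Call m F₀ hm M hMG hR hH hQ g hg v hv hv0 hRP x hx)

/-- Two transvections in general position: an element of `M` maps the centre of the first to the
centre of the second and fixes their common perpendicular pointwise. -/
theorem sbf_planar [Finite F] (M : Subgroup (GL (Fin m ⊕ Fin m) F)) (p : Fin m ⊕ Fin m → F)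
    (c : F) (v : Fin m ⊕ Fin m → F) (hvp : sympForm m F v p ≠ 0) (hc : c ≠ 0)
    (hTv : spT m v 1 ∈ M) (hTp : spT m p c ∈ M) :
    ∃ w ∈ M, ∃ ν : F, ν ≠ 0 ∧ (w : Matrix (Fin m ⊕ Fin m) (Fin m ⊕ Fin m) F) *ᵥ v = ν • p ∧
      ∀ x, sympForm m F x v = 0 → sympForm m F x p = 0 →
        (w : Matrix (Fin m ⊕ Fin m) (Fin m ⊕ Fin m) F) *ᵥ x = x := by
  rw [sbf_spT_eq_slT] at hTv hTp
  obtain ⟨w, hwM, ν, hν, hwv, hfix⟩ := transv_conj_exists M v
    ((1 : F) • (Matrix.J (Fin m) F *ᵥ v)) p (c • (Matrix.J (Fin m) F *ᵥ p))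
    (by rw [smul_dotProduct, sbf_J_dot, sympForm_self, smul_zero])
    (by rw [smul_dotProduct, sbf_J_dot, sympForm_self, smul_zero])
    (by
      rw [smul_dotProduct, sbf_J_dot, one_smul, sympForm_swap]
      exact neg_ne_zero.mpr hvp)
    (by
      rw [smul_dotProduct, sbf_J_dot, smul_eq_mul]
      exact mul_ne_zero hc hvp) hTv hTp
  refine ⟨w, hwM, ν, hν, hwv, fun x hxv hxp => hfix x ?_ ?_⟩
  · rw [smul_dotProduct, sbf_J_dot, hxv, smul_zero]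
  · rw [smul_dotProduct, sbf_J_dot, hxp, smul_zero]

/-- A symplectic map fixing the perpendicular of a hyperbolic plane pointwise moves every vector
by an element of the plane. -/
theorem sbf_planar_decomp (w : GL (Fin m ⊕ Fin m) F) (hw : w ∈ spGL m F)
    (v p : Fin m ⊕ Fin m → F) (hvp : sympForm m F v p ≠ 0)
    (hfix : ∀ x, sympForm m F x v = 0 → sympForm m F x p = 0 →
      (w : Matrix (Fin m ⊕ Fin m) (Fin m ⊕ Fin m) F) *ᵥ x = x) (x : Fin m ⊕ Fin m → F) :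
    ∃ a b : F, (w : Matrix (Fin m ⊕ Fin m) (Fin m ⊕ Fin m) F) *ᵥ x = x + a • v + b • p := by
  have hform := (mem_spGL_iff m w).mp hw
  obtain ⟨β₀, hβ₀⟩ : ∃ β₀, β₀ = sympForm m F v p := ⟨_, rfl⟩
  have hβ₀0 : β₀ ≠ 0 := by rw [hβ₀]; exact hvp
  have hpv : sympForm m F p v = -β₀ := by rw [hβ₀, sympForm_swap]
  -- the projection
  have hproj : ∀ z : Fin m ⊕ Fin m → F,
      sympForm m F (z - (sympForm m F z p / β₀) • v - (-(sympForm m F z v) / β₀) • p) v = 0 ∧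
      sympForm m F (z - (sympForm m F z p / β₀) • v - (-(sympForm m F z v) / β₀) • p) p = 0 := by
    intro z
    constructor
    · rw [sympForm_sub_left, sympForm_sub_left, sympForm_smul_left, sympForm_smul_left,
        sympForm_self, hpv]
      field_simp
      ring
    · rw [sympForm_sub_left, sympForm_sub_left, sympForm_smul_left, sympForm_smul_left,
        sympForm_self, ← hβ₀]
      field_simp
      ring
  -- double perpendicular
  have hDP : ∀ z : Fin m ⊕ Fin m → F,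
      (∀ x', sympForm m F x' v = 0 → sympForm m F x' p = 0 → sympForm m F z x' = 0) →
      ∃ a b : F, z = a • v + b • p := by
    intro z hz
    refine ⟨sympForm m F z p / β₀, -(sympForm m F z v) / β₀, ?_⟩
    obtain ⟨z', hz'⟩ : ∃ z', z' = z - (sympForm m F z p / β₀) • v -
        (-(sympForm m F z v) / β₀) • p := ⟨_, rfl⟩
    have hz'0 : z' = 0 := by
      by_contra hne
      obtain ⟨x, hx⟩ := exists_sympForm_ne_zero m z' hne
      apply hx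
      obtain ⟨x', hx'⟩ : ∃ x', x' = x - (sympForm m F x p / β₀) • v -
          (-(sympForm m F x v) / β₀) • p := ⟨_, rfl⟩
      obtain ⟨h1, h2⟩ := hproj x
      rw [← hx'] at h1 h2
      obtain ⟨h3, h4⟩ := hproj z
      rw [← hz'] at h3 h4
      have h5 : sympForm m F v x' = 0 := by rw [sympForm_swap, h1, neg_zero]
      have h6 : sympForm m F p x' = 0 := by rw [sympForm_swap, h2, neg_zero]
      have e : x = x' + (sympForm m F x p / β₀) • v + (-(sympForm m F x v) / β₀) • p := by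
        rw [hx']
        abel
      rw [e, sympForm_add_right, sympForm_add_right, sympForm_smul_right, sympForm_smul_right,
        h3, h4, mul_zero, mul_zero, add_zero, add_zero, hz', sympForm_sub_left, sympForm_sub_left,
        sympForm_smul_left, sympForm_smul_left, h5, h6, hz x' h1 h2]
      ring
    have e : z = z' + (sympForm m F z p / β₀) • v + (-(sympForm m F z v) / β₀) • p := by
      rw [hz']
      abel
    conv_lhs => rw [e]
    rw [hz'0, zero_add]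
  have himg : ∀ u : Fin m ⊕ Fin m → F,
      (∀ x', sympForm m F x' v = 0 → sympForm m F x' p = 0 → sympForm m F u x' = 0) →
      ∃ a b : F, (w : Matrix (Fin m ⊕ Fin m) (Fin m ⊕ Fin m) F) *ᵥ u = a • v + b • p := by
    intro u hu
    apply hDP
    intro x' h1 h2
    have h3 := hform u x'
    rw [hfix x' h1 h2] at h3
    rw [h3]
    exact hu x' h1 h2
  obtain ⟨a₁, b₁, hwv⟩ := himg v (fun x' h1 _ => by rw [sympForm_swap, h1, neg_zero])
  obtain ⟨a₂, b₂, hwp⟩ := himg p (fun x' _ h2 => by rw [sympForm_swap, h2, neg_zero])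
  obtain ⟨x', hx'⟩ : ∃ x', x' = x - (sympForm m F x p / β₀) • v -
      (-(sympForm m F x v) / β₀) • p := ⟨_, rfl⟩
  obtain ⟨h1, h2⟩ := hproj x
  rw [← hx'] at h1 h2
  have e : x = x' + (sympForm m F x p / β₀) • v + (-(sympForm m F x v) / β₀) • p := by
    rw [hx']
    abel
  obtain ⟨A, hA⟩ : ∃ A, A = sympForm m F x p / β₀ := ⟨_, rfl⟩
  obtain ⟨B, hB⟩ : ∃ B, B = -(sympForm m F x v) / β₀ := ⟨_, rfl⟩
  rw [← hA, ← hB] at e
  refine ⟨A * a₁ + B * a₂ - A, A * b₁ + B * b₂ - B, ?_⟩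
  have e2 : (w : Matrix (Fin m ⊕ Fin m) (Fin m ⊕ Fin m) F) *ᵥ x =
      x' + A • (a₁ • v + b₁ • p) + B • (a₂ • v + b₂ • p) := by
    conv_lhs => rw [e]
    rw [Matrix.mulVec_add, Matrix.mulVec_add, Matrix.mulVec_smul, Matrix.mulVec_smul,
      hfix x' h1 h2, hwv, hwp]
  rw [e2]
  conv_rhs => rw [e]
  module

/-- The centre of every transvection of `M` is a rational point. -/
theorem sbf_R [Finite F] (hm : 3 ≤ m) (M : Subgroup (GL (Fin m ⊕ Fin m) F))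
    (hMG : M ≤ spGL m F)
    (hR : ∀ v c, ratV F₀ v → c ∈ F₀ → spT m v c ∈ M)
    (hH : ∀ v c, ratV F₀ v → v ≠ 0 → spT m v c ∈ M → c ∈ F₀)
    (hQ : ∀ v y c, ratV F₀ v → v ≠ 0 → sympForm m F v y = 0 → spT m v c * spE m v y ∈ M →
      ∃ t : F, ratV F₀ (y + t • v))
    (p : Fin m ⊕ Fin m → F) (c : F) (hp : p ≠ 0) (hc : c ≠ 0) (hT : spT m p c ∈ M) :
    sbfRP F₀ p := by
  classical
  obtain ⟨k, hk⟩ := sbf_exists_single m p hp
  obtain ⟨v₁, hv₁def⟩ : ∃ v₁ : Fin m ⊕ Fin m → F, v₁ = Pi.single k 1 := ⟨_, rfl⟩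
  rw [← hv₁def] at hk
  have hv₁ : ratV F₀ v₁ := by rw [hv₁def]; exact ratV_single k F₀.one_mem
  have hv₁0 : v₁ ≠ 0 := fun h => hk (by rw [h, sympForm_zero_left])
  obtain ⟨w₁, hw₁M, ν₁, hν₁, hw₁v, hfix₁⟩ :=
    sbf_planar m M p c v₁ hk hc (hR v₁ 1 hv₁ F₀.one_mem) hT
  have case1 : ∀ y, ratV F₀ y → y ≠ 0 → sympForm m F y v₁ = 0 → sympForm m F y p = 0 →
      sbfRP F₀ p := by
    intro y hy hy0 hyv hyp
    have h1 := hfix₁ y hyv hyp
    have h2 := sbf_Call m F₀ (by omega) M hMG hR hH hQ w₁ hw₁M y hy hy0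
      (by rw [h1]; exact sbfRP_of_rat F₀ hy) v₁ hv₁
    rw [hw₁v] at h2
    have h3 := sbfRP_smul F₀ ν₁⁻¹ h2
    rwa [smul_smul, inv_mul_cancel₀ hν₁, one_smul] at h3
  obtain ⟨l, hlk, hkl⟩ : ∃ l : Fin m ⊕ Fin m, l ≠ k ∧
      sympForm m F (Pi.single k 1) (Pi.single l 1) = 0 := by
    rcases k with i | i
    · obtain ⟨j, hji, -⟩ := sf_exists_ne_two (ι := Fin m) (by rw [Fintype.card_fin]; omega) i i
      exact ⟨Sum.inl j, by simp [hji], sbf_ee m i j⟩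
    · obtain ⟨j, hji, -⟩ := sf_exists_ne_two (ι := Fin m) (by rw [Fintype.card_fin]; omega) i i
      exact ⟨Sum.inl j, by simp, sbf_fe m i j hji.symm⟩
  rw [← hv₁def] at hkl
  obtain ⟨v₂, hv₂def⟩ : ∃ v₂ : Fin m ⊕ Fin m → F, v₂ = Pi.single l 1 := ⟨_, rfl⟩
  rw [← hv₂def] at hkl
  have hv₂ : ratV F₀ v₂ := by rw [hv₂def]; exact ratV_single l F₀.one_mem
  have hv₂0 : v₂ ≠ 0 := by
    intro h
    have h1 := congrFun h l
    rw [hv₂def, Pi.single_eq_same] at h1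
    exact one_ne_zero h1
  have hv₂v₁ : sympForm m F v₂ v₁ = 0 := by rw [sympForm_swap, hkl, neg_zero]
  by_cases hv₂p : sympForm m F v₂ p = 0
  · exact case1 v₂ hv₂ hv₂0 hv₂v₁ hv₂p
  obtain ⟨w₂, hw₂M, ν₂, hν₂, hw₂v, hfix₂⟩ :=
    sbf_planar m M p c v₂ hv₂p hc (hR v₂ 1 hv₂ F₀.one_mem) hT
  obtain ⟨n, hn⟩ : ∃ n, n = w₂⁻¹ * w₁ := ⟨_, rfl⟩
  have hnM : n ∈ M := by rw [hn]; exact M.mul_mem (M.inv_mem hw₂M) hw₁M
  have hnG : n ∈ spGL m F := hMG hnM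
  have hnform := (mem_spGL_iff m n).mp hnG
  have hw₂ip : ((w₂⁻¹ : GL (Fin m ⊕ Fin m) F) : Matrix (Fin m ⊕ Fin m) (Fin m ⊕ Fin m) F) *ᵥ p =
      ν₂⁻¹ • v₂ := by
    have h1 : p = ν₂⁻¹ • ((w₂ : Matrix (Fin m ⊕ Fin m) (Fin m ⊕ Fin m) F) *ᵥ v₂) := by
      rw [hw₂v, smul_smul, inv_mul_cancel₀ hν₂, one_smul]
    conv_lhs => rw [h1]
    rw [Matrix.mulVec_smul, gl_inv_mulVec_mulVec]
  have hnv₁ : (n : Matrix (Fin m ⊕ Fin m) (Fin m ⊕ Fin m) F) *ᵥ v₁ = (ν₁ * ν₂⁻¹) • v₂ := by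
    rw [hn, Units.val_mul, ← Matrix.mulVec_mulVec, hw₁v, Matrix.mulVec_smul, hw₂ip, smul_smul]
  have hnRP : sbfRP F₀ ((n : Matrix (Fin m ⊕ Fin m) (Fin m ⊕ Fin m) F) *ᵥ v₁) := by
    rw [hnv₁]
    exact sbfRP_smul F₀ _ (sbfRP_of_rat F₀ hv₂)
  obtain ⟨μ, hμ0, hμ⟩ := sbf_C_scalar m F₀ (by omega) M hMG hR hH hQ n hnM v₁ hv₁ hv₁0 hnRP
  have hnrat : ∀ x, ratV F₀ x →
      ratV F₀ (μ • ((n : Matrix (Fin m ⊕ Fin m) (Fin m ⊕ Fin m) F) *ᵥ x)) := by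
    intro x hx i
    simp only [Pi.smul_apply, Matrix.mulVec, dotProduct, smul_eq_mul, Finset.mul_sum]
    exact F₀.sum_mem fun j _ => by
      rw [← mul_assoc]
      exact F₀.mul_mem (hμ i j) (hx j)
  have hfix₂' : ∀ x, sympForm m F x v₂ = 0 → sympForm m F x p = 0 →
      ((w₂⁻¹ : GL (Fin m ⊕ Fin m) F) : Matrix (Fin m ⊕ Fin m) (Fin m ⊕ Fin m) F) *ᵥ x = x := by
    intro x h1 h2
    have h3 := gl_inv_mulVec_mulVec w₂ x
    rwa [hfix₂ x h1 h2] at h3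
  have hdec : ∀ x, ∃ α β γ : F,
      (n : Matrix (Fin m ⊕ Fin m) (Fin m ⊕ Fin m) F) *ᵥ x = x + α • v₁ + β • v₂ + γ • p := by
    intro x
    obtain ⟨a₁, b₁, h1⟩ := sbf_planar_decomp m w₁ (hMG hw₁M) v₁ p hk hfix₁ x
    obtain ⟨a₂, b₂, h2⟩ := sbf_planar_decomp m w₂⁻¹ (hMG (M.inv_mem hw₂M)) v₂ p hv₂p hfix₂'
      ((w₁ : Matrix (Fin m ⊕ Fin m) (Fin m ⊕ Fin m) F) *ᵥ x)
    refine ⟨a₁, a₂, b₁ + b₂, ?_⟩
    rw [hn, Units.val_mul, ← Matrix.mulVec_mulVec, h2, h1]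
    module
  by_cases hγ : ∃ x, ratV F₀ x ∧ ∃ α β γ : F, γ ≠ 0 ∧
      (n : Matrix (Fin m ⊕ Fin m) (Fin m ⊕ Fin m) F) *ᵥ x = x + α • v₁ + β • v₂ + γ • p
  · obtain ⟨x, hx, α, β, γ, hγ0, hnx⟩ := hγ
    obtain ⟨y, hy, hy0, hperp⟩ := sbf_exists_perp m F₀ 4
      ![v₁, v₂, x, μ • ((n : Matrix (Fin m ⊕ Fin m) (Fin m ⊕ Fin m) F) *ᵥ x)]
      (fun i => by
        fin_cases i
        exacts [hv₁, hv₂, hx, hnrat x hx]) (by omega)
    have hyv₁ : sympForm m F y v₁ = 0 := by simpa using hperp 0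
    have hyv₂ : sympForm m F y v₂ = 0 := by simpa using hperp 1
    have hyx : sympForm m F y x = 0 := by simpa using hperp 2
    have hynx : sympForm m F y ((n : Matrix (Fin m ⊕ Fin m) (Fin m ⊕ Fin m) F) *ᵥ x) = 0 := by
      have h1 : sympForm m F y (μ • ((n : Matrix (Fin m ⊕ Fin m) (Fin m ⊕ Fin m) F) *ᵥ x)) = 0 :=
        hperp 3
      rw [sympForm_smul_right] at h1
      exact (mul_eq_zero.mp h1).resolve_left hμ0
    have hyp : sympForm m F y p = 0 := by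
      have e : γ • p = (n : Matrix (Fin m ⊕ Fin m) (Fin m ⊕ Fin m) F) *ᵥ x - x - α • v₁ - β • v₂ := by
        rw [hnx]
        abel
      have h1 : sympForm m F y (γ • p) = 0 := by
        rw [e, sympForm_sub_right, sympForm_sub_right, sympForm_sub_right, sympForm_smul_right,
          sympForm_smul_right, hynx, hyx, hyv₁, hyv₂]
        ring
      rw [sympForm_smul_right] at h1
      exact (mul_eq_zero.mp h1).resolve_left hγ0
    exact case1 y hy hy0 hyv₁ hyp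
  · push Not at hγ
    exfalso
    have hn2 : ∀ x, ratV F₀ x → ∃ α β : F,
        (n : Matrix (Fin m ⊕ Fin m) (Fin m ⊕ Fin m) F) *ᵥ x = x + α • v₁ + β • v₂ := by
      intro x hx
      obtain ⟨α, β, γ, h1⟩ := hdec x
      by_cases hg0 : γ = 0
      · exact ⟨α, β, by rw [h1, hg0, zero_smul, add_zero]⟩
      · exact absurd h1 (hγ x hx α β γ hg0)
    have hd : ∀ j : Fin m ⊕ Fin m,
        sympForm m F ((n : Matrix (Fin m ⊕ Fin m) (Fin m ⊕ Fin m) F) *ᵥ v₁ - v₁)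
          ((n : Matrix (Fin m ⊕ Fin m) (Fin m ⊕ Fin m) F) *ᵥ Pi.single j 1) = 0 := by
      intro j
      obtain ⟨α, β, h1⟩ := hn2 (Pi.single j 1) (ratV_single j F₀.one_mem)
      rw [sympForm_sub_left, hnform, h1, sympForm_add_right, sympForm_add_right,
        sympForm_smul_right, sympForm_smul_right, sympForm_self, hkl]
      ring
    have hzero : (n : Matrix (Fin m ⊕ Fin m) (Fin m ⊕ Fin m) F) *ᵥ v₁ - v₁ = 0 := by
      by_contra hne
      have h1 := lag_mulVec_ne_zero m n⁻¹ _ hne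
      obtain ⟨j, hj⟩ := sbf_exists_single m _ h1
      apply hj
      rw [sympForm_swap, sympForm_inv_left m n hnG, hd j, neg_zero]
    have h3 := sub_eq_zero.mp hzero
    rw [hnv₁] at h3
    have h4 := congrFun h3 k
    rw [hv₁def, hv₂def, Pi.smul_apply, Pi.single_eq_same, Pi.single_eq_of_ne hlk.symm,
      smul_zero] at h4
    exact zero_ne_one h4

/-- Every element of `M` is a scalar multiple of a rational matrix. -/
theorem sbf_thmC [Finite F] (hm : 3 ≤ m) (M : Subgroup (GL (Fin m ⊕ Fin m) F))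
    (hMG : M ≤ spGL m F)
    (hR : ∀ v c, ratV F₀ v → c ∈ F₀ → spT m v c ∈ M)
    (hH : ∀ v c, ratV F₀ v → v ≠ 0 → spT m v c ∈ M → c ∈ F₀)
    (hQ : ∀ v y c, ratV F₀ v → v ≠ 0 → sympForm m F v y = 0 → spT m v c * spE m v y ∈ M →
      ∃ t : F, ratV F₀ (y + t • v))
    (g : GL (Fin m ⊕ Fin m) F) (hg : g ∈ M) :
    ∃ μ : F, μ ≠ 0 ∧ ∀ k l, μ * (g : Matrix (Fin m ⊕ Fin m) (Fin m ⊕ Fin m) F) k l ∈ F₀ := by
  haveI : Nonempty (Fin m ⊕ Fin m) := ⟨Sum.inl ⟨0, by omega⟩⟩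
  apply sbf_scalar_rat F₀ g
  intro x hx hx0
  have h1 := spT_conj m g (hMG hg) x 1
  exact sbf_R m F₀ hm M hMG hR hH hQ _ 1 (lag_mulVec_ne_zero m g x hx0) one_ne_zero
    (by
      rw [← h1]
      exact M.mul_mem (M.mul_mem hg (hR x 1 hx F₀.one_mem)) (M.inv_mem hg))

end

end Cfsg.Agent.Lib.helper17
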