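import Cfsg.Agent.Lib.helper17.SpSubf4

/-!
Subfield subgroups of the symplectic group, part 5: maximality of the subfield subgroup in
`Sp_2m(q)`, first for the standard rational structure, then for an arbitrary one (by a symplectic
basis of the rational structure).
-/

set_option autoImplicit false

namespace Cfsg.Agent.Lib.helper17

open Matrix Cfsg Cfsg.Geo Module Cfsg.Agent.Lib.helper95

section
variable {F : Type*} [Field F] [Fintype F] (m : ℕ)

/-- The core case: the standard rational structure. -/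
theorem sbf_core (hm : 3 ≤ m) (F₀ : Subfield F) (r : ℕ) (hr : r.Prime)
    (hcard : Fintype.card F = Nat.card F₀ ^ r) :
    IsMaximalIn (spGL m F)
      (((Matrix.GeneralLinearGroup.map (F₀.subtype : F₀ →+* F)).range ⊔
        scalars (Fin m ⊕ Fin m) F) ⊓ spGL m F) := by
  classical
  obtain ⟨X, hX⟩ : ∃ X : Subgroup (GL (Fin m ⊕ Fin m) F),
      X = (Matrix.GeneralLinearGroup.map (F₀.subtype : F₀ →+* F)).range ⊔
        scalars (Fin m ⊕ Fin m) F := ⟨_, rfl⟩
  rw [← hX]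
  have hfin : Module.finrank F₀ F = r := by
    have : Fintype F₀ := Fintype.ofFinite F₀
    have h1 := Module.card_eq_pow_finrank (K := F₀) (V := F)
    rw [hcard, Nat.card_eq_fintype_card] at h1
    exact (Nat.pow_right_injective (Fintype.one_lt_card) h1).symm
  have hso : IsSimpleOrder (Subalgebra F₀ F) :=
    Subalgebra.isSimpleOrder_of_finrank_prime F₀ F (by rw [hfin]; exact hr)
  have hX2 : ∀ g : GL (Fin m ⊕ Fin m) F, ∀ ζ : F, ζ ≠ 0 →
      (∀ k l, ζ * (g : Matrix (Fin m ⊕ Fin m) (Fin m ⊕ Fin m) F) k l ∈ F₀) → g ∈ X := by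
    intro g ζ hζ hg
    rw [hX]
    exact sf_mem_X F₀ g ζ hζ hg
  have hX3 : ∀ g : GL (Fin m ⊕ Fin m) F, g ∈ X →
      ∃ ζ : F, ζ ≠ 0 ∧ ∀ k l, ζ * (g : Matrix (Fin m ⊕ Fin m) (Fin m ⊕ Fin m) F) k l ∈ F₀ := by
    intro g hg
    rw [hX] at hg
    exact sf_of_mem_X F₀ g hg
  have hratT : ∀ (v : Fin m ⊕ Fin m → F) (c : F), ratV F₀ v → c ∈ F₀ →
      spT m v c ∈ X ⊓ spGL m F := by
    intro v c hv hc
    refine ⟨hX2 _ 1 one_ne_zero (fun k l => ?_), spT_mem m v c⟩
    rw [one_mul]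
    exact sbf_spT_entries m F₀ hv hc k l
  obtain ⟨i₀⟩ : Nonempty (Fin m) := ⟨⟨0, by omega⟩⟩
  refine ⟨?_, ?_⟩
  · refine lt_of_le_of_ne inf_le_right ?_
    intro heq
    obtain ⟨c, -, hc⟩ := SetLike.exists_of_lt (bot_lt_top : (⊥ : Subalgebra F₀ F) < ⊤)
    have hcF : c ∉ F₀ := by
      intro h
      apply hc
      exact (⊥ : Subalgebra F₀ F).algebraMap_mem ⟨c, h⟩
    have hg : spT m (sbfE m F i₀) c ∈ X := by
      have h1 : spT m (sbfE m F i₀) c ∈ X ⊓ spGL m F := by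
        rw [heq]
        exact spT_mem _ _ _
      exact h1.1
    obtain ⟨ζ, hζ0, hζ⟩ := hX3 _ hg
    have e1 : ((spT m (sbfE m F i₀) c : GL (Fin m ⊕ Fin m) F) :
        Matrix (Fin m ⊕ Fin m) (Fin m ⊕ Fin m) F) (Sum.inl i₀) (Sum.inl i₀) = 1 := by
      have h1 := congrFun (spT_mulVec m (sbfE m F i₀) c (sbfE m F i₀)) (Sum.inl i₀)
      rw [sympForm_self, mul_zero, zero_smul, add_zero] at h1
      have h2 := sf_mulVec_single ((spT m (sbfE m F i₀) c : GL (Fin m ⊕ Fin m) F) :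
        Matrix (Fin m ⊕ Fin m) (Fin m ⊕ Fin m) F) (Sum.inl i₀) (Sum.inl i₀)
      rw [← h2]
      refine h1.trans ?_
      simp [sbfE]
    have e2 : ((spT m (sbfE m F i₀) c : GL (Fin m ⊕ Fin m) F) :
        Matrix (Fin m ⊕ Fin m) (Fin m ⊕ Fin m) F) (Sum.inl i₀) (Sum.inr i₀) = c := by
      have h1 := congrFun (spT_mulVec m (sbfE m F i₀) c (sbfF m F i₀)) (Sum.inl i₀)
      rw [sbf_fe_self, mul_one] at h1
      have h2 := sf_mulVec_single ((spT m (sbfE m F i₀) c : GL (Fin m ⊕ Fin m) F) :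
        Matrix (Fin m ⊕ Fin m) (Fin m ⊕ Fin m) F) (Sum.inr i₀) (Sum.inl i₀)
      rw [← h2]
      refine h1.trans ?_
      simp [sbfE, sbfF]
    have h1 := hζ (Sum.inl i₀) (Sum.inl i₀)
    have h2 := hζ (Sum.inl i₀) (Sum.inr i₀)
    rw [e1, mul_one] at h1
    rw [e2] at h2
    apply hcF
    have h3 := F₀.mul_mem (F₀.inv_mem h1) h2
    rwa [inv_mul_cancel_left₀ hζ0] at h3
  · intro M hHM hMS
    by_cases hM : M ≤ X
    · left
      exact le_antisymm (le_inf hM hMS) hHM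
    · right
      have hR : ∀ (v : Fin m ⊕ Fin m → F) (c : F), ratV F₀ v → c ∈ F₀ → spT m v c ∈ M :=
        fun v c hv hc => hHM (hratT v c hv hc)
      by_cases hH : ∀ (v : Fin m ⊕ Fin m → F) (c : F), ratV F₀ v → v ≠ 0 → spT m v c ∈ M → c ∈ F₀
      · exfalso
        apply hM
        intro g hg
        have hQ : ∀ (v y : Fin m ⊕ Fin m → F) (c : F), ratV F₀ v → v ≠ 0 →
            sympForm m F v y = 0 → spT m v c * spE m v y ∈ M → ∃ t : F, ratV F₀ (y + t • v) :=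
          fun v y c hv hv0 hvy hXm => sbf_thmB F₀ m hm M hMS hR hH v y c hv hv0 hvy hXm
        obtain ⟨μ, hμ0, hμ⟩ := sbf_thmC m F₀ hm M hMS hR hH hQ g hg
        exact hX2 g μ hμ0 hμ
      · push Not at hH
        obtain ⟨v₀, c₀, hv₀, hv₀0, hT, hc₀⟩ := hH
        exact le_antisymm hMS (sbf_thmA m F₀ hm hso M hR v₀ c₀ hv₀ hv₀0 hc₀ hT)

end

section
variable {F : Type*} [Field F] (m : ℕ)

theorem sbf_gram (N : Matrix (Fin m ⊕ Fin m) (Fin m ⊕ Fin m) F) (x y : Fin m ⊕ Fin m → F) :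
    sympForm m F (N *ᵥ x) (N *ᵥ y) = x ⬝ᵥ ((Nᵀ * Matrix.J (Fin m) F * N) *ᵥ y) := by
  unfold sympForm
  rw [← Matrix.mulVec_mulVec, ← Matrix.mulVec_mulVec, Matrix.dotProduct_mulVec x Nᵀ,
    Matrix.vecMul_transpose]

theorem sbf_entry (K : Matrix (Fin m ⊕ Fin m) (Fin m ⊕ Fin m) F) (j j' : Fin m ⊕ Fin m) :
    (Pi.single j 1 : Fin m ⊕ Fin m → F) ⬝ᵥ (K *ᵥ Pi.single j' 1) = K j j' := by
  rw [single_one_dotProduct, sf_mulVec_single]

theorem sbf_form_ext (a : Fin m ⊕ Fin m → F) (P : Matrix (Fin m ⊕ Fin m) (Fin m ⊕ Fin m) F)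
    (h : ∀ j, sympForm m F a (P *ᵥ Pi.single j 1) = 0) (y : Fin m ⊕ Fin m → F) :
    sympForm m F a (P *ᵥ y) = 0 := by
  unfold sympForm at h ⊢
  rw [Matrix.mulVec_mulVec, Matrix.dotProduct_mulVec]
  have hρ : a ᵥ* (Matrix.J (Fin m) F * P) = 0 := by
    funext j
    have h1 := h j
    rw [Matrix.mulVec_mulVec, Matrix.dotProduct_mulVec, dotProduct_single_one] at h1
    exact h1
  rw [hρ, zero_dotProduct]

variable (F₀ : Subfield F)

theorem sbfRc_add (u v : Fin m ⊕ Fin m → ↥F₀) : sbfRc F₀ (u + v) = sbfRc F₀ u + sbfRc F₀ v := by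
  funext i
  simp [sbfRc]

theorem sbfRc_single (j : Fin m ⊕ Fin m) :
    sbfRc F₀ (Pi.single j (1 : ↥F₀)) = Pi.single j (1 : F) := by
  funext i
  by_cases h : i = j
  · subst h
    simp [sbfRc]
  · simp [sbfRc, Pi.single_apply, h]

/-- A rational structure compatible with the symplectic form has a symplectic rational basis. -/
theorem sbf_exists_std (P : GL (Fin m ⊕ Fin m) F) (ζ : F) (hζ : ζ ≠ 0)
    (hP : IsFormRationalStructure (sympForm m F) F₀ ζ P) :
    ∃ P' : GL (Fin m ⊕ Fin m) F,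
      (∀ x y, sympForm m F ((P' : Matrix (Fin m ⊕ Fin m) (Fin m ⊕ Fin m) F) *ᵥ x)
        ((P' : Matrix (Fin m ⊕ Fin m) (Fin m ⊕ Fin m) F) *ᵥ y) = ζ⁻¹ * sympForm m F x y) ∧
      subfieldSubgroup F₀ P' = subfieldSubgroup F₀ P := by
  classical
  let ω : (Fin m ⊕ Fin m → ↥F₀) →ₗ[↥F₀] (Fin m ⊕ Fin m → ↥F₀) →ₗ[↥F₀] ↥F₀ :=
    LinearMap.mk₂ ↥F₀
      (fun u v => ⟨ζ * sympForm m F ((P : Matrix (Fin m ⊕ Fin m) (Fin m ⊕ Fin m) F) *ᵥ sbfRc F₀ u)
        ((P : Matrix (Fin m ⊕ Fin m) (Fin m ⊕ Fin m) F) *ᵥ sbfRc F₀ v),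
        hP _ _ (sbfRc_rat m F₀ u) (sbfRc_rat m F₀ v)⟩)
      (by
        intro u₁ u₂ v
        apply Subtype.ext
        simp only [sbfRc_add, Matrix.mulVec_add, sympForm_add_left, mul_add, Subfield.coe_add])
      (by
        intro c u v
        apply Subtype.ext
        simp only [sbfRc_smul, Matrix.mulVec_smul, sympForm_smul_left, smul_eq_mul,
          Subfield.coe_mul]
        ring)
      (by
        intro u v₁ v₂
        apply Subtype.ext
        simp only [sbfRc_add, Matrix.mulVec_add, sympForm_add_right, mul_add, Subfield.coe_add])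
      (by
        intro c u v
        apply Subtype.ext
        simp only [sbfRc_smul, Matrix.mulVec_smul, sympForm_smul_right, smul_eq_mul,
          Subfield.coe_mul]
        ring)
  have hω : ∀ u v, ((ω u v : ↥F₀) : F) =
      ζ * sympForm m F ((P : Matrix (Fin m ⊕ Fin m) (Fin m ⊕ Fin m) F) *ᵥ sbfRc F₀ u)
        ((P : Matrix (Fin m ⊕ Fin m) (Fin m ⊕ Fin m) F) *ᵥ sbfRc F₀ v) := fun u v => rfl
  have halt : ∀ v, ω v v = 0 := by
    intro v
    apply Subtype.ext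
    rw [hω, sympForm_self, mul_zero]
    rfl
  have hnd : ∀ v, (∀ w, ω v w = 0) → v = 0 := by
    intro v hv
    by_contra hv0
    have h1 : sbfRc F₀ v ≠ 0 := fun h => hv0 (sbfRc_eq_zero m F₀ h)
    have h2 := lag_mulVec_ne_zero m P _ h1
    obtain ⟨x, hx⟩ := exists_sympForm_ne_zero m _ h2
    apply hx
    have h3 := sbf_form_ext m ((P : Matrix (Fin m ⊕ Fin m) (Fin m ⊕ Fin m) F) *ᵥ sbfRc F₀ v)
      (P : Matrix (Fin m ⊕ Fin m) (Fin m ⊕ Fin m) F) (fun j => by
        have h4 := congrArg Subtype.val (hv (Pi.single j 1))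
        rw [hω, sbfRc_single] at h4
        exact (mul_eq_zero.mp h4).resolve_left hζ)
      (((P⁻¹ : GL (Fin m ⊕ Fin m) F) : Matrix (Fin m ⊕ Fin m) (Fin m ⊕ Fin m) F) *ᵥ x)
    rwa [gl_mulVec_inv_mulVec] at h3
  have hfin : finrank ↥F₀ (Fin m ⊕ Fin m → ↥F₀) = 2 * m := by
    rw [Module.finrank_pi, Fintype.card_sum, Fintype.card_fin]
    ring
  obtain ⟨e, f, hee, hff, hef⟩ := exists_symp_basis m ω halt hnd hfin
  have hanti : ∀ u v, ω u v = -ω v u := by
    intro u v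
    have h := halt (u + v)
    rw [map_add, map_add, LinearMap.add_apply, LinearMap.add_apply, halt u, halt v, zero_add,
      add_zero] at h
    exact eq_neg_of_add_eq_zero_right h
  have hcolω : ∀ j j' : Fin m ⊕ Fin m, ((ω (Sum.elim f e j) (Sum.elim f e j') : ↥F₀) : F) =
      sympForm m F (Pi.single j 1) (Pi.single j' 1) := by
    intro j j'
    rcases j with a | a <;> rcases j' with b | b
    · show ((ω (f a) (f b) : ↥F₀) : F) = _
      have h1 := sbf_ee (F := F) m a b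
      unfold sbfE at h1
      rw [h1, hff]
      rfl
    · show ((ω (f a) (e b) : ↥F₀) : F) = _
      rw [hanti, hef b a]
      by_cases hab : a = b
      · subst hab
        have h1 := sbf_ef_self (F := F) m a
        unfold sbfE sbfF at h1
        rw [h1, if_pos rfl]
        simp
      · have h1 := sbf_ef (F := F) m a b hab
        unfold sbfE sbfF at h1
        rw [h1, if_neg (Ne.symm hab)]
        simp
    · show ((ω (e a) (f b) : ↥F₀) : F) = _
      rw [hef a b]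
      by_cases hab : a = b
      · subst hab
        have h1 := sbf_fe_self (F := F) m a
        unfold sbfE sbfF at h1
        rw [h1, if_pos rfl]
        simp
      · have h1 := sbf_fe (F := F) m a b hab
        unfold sbfE sbfF at h1
        rw [h1, if_neg hab]
        simp
    · show ((ω (e a) (e b) : ↥F₀) : F) = _
      have h1 := sbf_ff (F := F) m a b
      unfold sbfF at h1
      rw [h1, hee]
      rfl
  obtain ⟨A, hA⟩ : ∃ A : Matrix (Fin m ⊕ Fin m) (Fin m ⊕ Fin m) F,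
      A = Matrix.of fun i j => ((Sum.elim f e j i : ↥F₀) : F) := ⟨_, rfl⟩
  have hAcol : ∀ j, A *ᵥ Pi.single j 1 = sbfRc F₀ (Sum.elim f e j) := by
    intro j
    funext i
    rw [sf_mulVec_single, hA]
    rfl
  have hAF : ∀ i j, A i j ∈ F₀ := by
    intro i j
    rw [hA]
    exact (Sum.elim f e j i).2
  obtain ⟨M', hM'⟩ : ∃ M' : Matrix (Fin m ⊕ Fin m) (Fin m ⊕ Fin m) F,
      M' = (P : Matrix (Fin m ⊕ Fin m) (Fin m ⊕ Fin m) F) * A := ⟨_, rfl⟩
  have hbasis : ∀ j j', sympForm m F (M' *ᵥ Pi.single j 1) (M' *ᵥ Pi.single j' 1) =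
      ζ⁻¹ * sympForm m F (Pi.single j 1) (Pi.single j' 1) := by
    intro j j'
    rw [hM', ← Matrix.mulVec_mulVec, ← Matrix.mulVec_mulVec, hAcol, hAcol, ← hcolω j j', hω,
      inv_mul_cancel_left₀ hζ]
  have hK : M'ᵀ * Matrix.J (Fin m) F * M' = ζ⁻¹ • Matrix.J (Fin m) F := by
    ext j j'
    rw [← sbf_entry m (M'ᵀ * Matrix.J (Fin m) F * M') j j', ← sbf_gram, hbasis, Matrix.smul_apply,
      smul_eq_mul, ← sbf_entry m (Matrix.J (Fin m) F) j j']
    rfl
  have hform : ∀ x y, sympForm m F (M' *ᵥ x) (M' *ᵥ y) = ζ⁻¹ * sympForm m F x y := by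
    intro x y
    rw [sbf_gram, hK]
    unfold sympForm
    rw [Matrix.smul_mulVec, dotProduct_smul, smul_eq_mul]
  have hinj : Function.Injective M'.mulVec := by
    intro x y hxy
    by_contra hne
    have h1 : x - y ≠ 0 := sub_ne_zero.mpr hne
    obtain ⟨z, hz⟩ := exists_sympForm_ne_zero m _ h1
    apply hz
    have h2 := hform (x - y) z
    have h3 : M' *ᵥ (x - y) = 0 := by
      rw [Matrix.mulVec_sub]
      exact sub_eq_zero.mpr hxy
    rw [h3, sympForm_zero_left] at h2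
    have h4 := (mul_eq_zero.mp h2.symm).resolve_left (inv_ne_zero hζ)
    exact h4
  have hunit : IsUnit M' := Matrix.mulVec_injective_iff_isUnit.mp hinj
  have hdetA : A.det ≠ 0 := by
    intro h0
    have h1 := (Matrix.isUnit_iff_isUnit_det M').mp hunit
    rw [hM', Matrix.det_mul, h0, mul_zero] at h1
    exact not_isUnit_zero h1
  obtain ⟨A', hA'⟩ : ∃ A' : GL (Fin m ⊕ Fin m) F,
      (A' : Matrix (Fin m ⊕ Fin m) (Fin m ⊕ Fin m) F) = A :=
    ⟨Matrix.GeneralLinearGroup.mkOfDetNeZero A hdetA, rfl⟩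
  have hA'X : A' ∈ (Matrix.GeneralLinearGroup.map (F₀.subtype : F₀ →+* F)).range ⊔
      scalars (Fin m ⊕ Fin m) F := by
    apply sf_mem_X F₀ A' 1 one_ne_zero
    intro k l
    rw [one_mul, hA']
    exact hAF k l
  refine ⟨P * A', ?_, ?_⟩
  · intro x y
    rw [Units.val_mul, hA', ← hM']
    exact hform x y
  · unfold subfieldSubgroup
    ext g
    simp only [Subgroup.mem_map, MulEquiv.coe_toMonoidHom, MulAut.conj_apply]
    constructor
    · rintro ⟨x, hx, rfl⟩
      refine ⟨A' * x * A'⁻¹, Subgroup.mul_mem _ (Subgroup.mul_mem _ hA'X hx)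
        (Subgroup.inv_mem _ hA'X), ?_⟩
      group
    · rintro ⟨x, hx, rfl⟩
      refine ⟨A'⁻¹ * x * A', Subgroup.mul_mem _ (Subgroup.mul_mem _ (Subgroup.inv_mem _ hA'X) hx)
        hA'X, ?_⟩
      group

end

section
variable {F : Type*} [Field F] [Fintype F] (m : ℕ)

/-- The subfield group of a subfield of prime index, for a rational structure compatible with the
symplectic form, is a maximal subgroup of the symplectic group. -/
theorem sp_subfield_maximal (hm : 3 ≤ m) (F₀ : Subfield F) (r : ℕ) (hr : r.Prime)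
    (hcard : Fintype.card F = Nat.card F₀ ^ r) (P : GL (Fin m ⊕ Fin m) F) (ζ : F) (hζ : ζ ≠ 0)
    (hP : IsFormRationalStructure (sympForm m F) F₀ ζ P) :
    IsMaximalIn (spGL m F) (subfieldSubgroup F₀ P ⊓ spGL m F) := by
  obtain ⟨P', hform, hsub⟩ := sbf_exists_std m F₀ P ζ hζ hP
  rw [← hsub]
  have hcore := sbf_core m hm F₀ r hr hcard
  have h1 := isMaximalIn_map_mulEquiv (MulAut.conj P') _ _ hcore
  have hformi : ∀ a b, sympForm m F
      (((P'⁻¹ : GL (Fin m ⊕ Fin m) F) : Matrix (Fin m ⊕ Fin m) (Fin m ⊕ Fin m) F) *ᵥ a)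
      (((P'⁻¹ : GL (Fin m ⊕ Fin m) F) : Matrix (Fin m ⊕ Fin m) (Fin m ⊕ Fin m) F) *ᵥ b) =
      ζ * sympForm m F a b := by
    intro a b
    have h2 := hform
      (((P'⁻¹ : GL (Fin m ⊕ Fin m) F) : Matrix (Fin m ⊕ Fin m) (Fin m ⊕ Fin m) F) *ᵥ a)
      (((P'⁻¹ : GL (Fin m ⊕ Fin m) F) : Matrix (Fin m ⊕ Fin m) (Fin m ⊕ Fin m) F) *ᵥ b)
    rw [gl_mulVec_inv_mulVec, gl_mulVec_inv_mulVec] at h2
    rw [h2, mul_inv_cancel_left₀ hζ]
  have hSp : (spGL m F).map (MulAut.conj P').toMonoidHom = spGL m F := by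
    ext x
    constructor
    · rintro ⟨y, hy, rfl⟩
      show P' * y * P'⁻¹ ∈ spGL m F
      rw [mem_spGL_iff]
      intro u v
      simp only [Units.val_mul, ← Matrix.mulVec_mulVec]
      rw [hform, (mem_spGL_iff m y).mp hy, hformi, inv_mul_cancel_left₀ hζ]
    · intro hx
      refine ⟨P'⁻¹ * x * P', ?_, ?_⟩
      · rw [SetLike.mem_coe, mem_spGL_iff]
        intro u v
        simp only [Units.val_mul, ← Matrix.mulVec_mulVec]
        rw [hformi, (mem_spGL_iff m x).mp hx, hform, mul_inv_cancel_left₀ hζ]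
      · show P' * (P'⁻¹ * x * P') * P'⁻¹ = x
        group
  rw [Subgroup.map_inf_eq _ _ _ (MulAut.conj P').injective, hSp] at h1
  exact h1

end

end Cfsg.Agent.Lib.helper17
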