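import Cfsg.Agent.Lib.helper17.SympBasis
import Cfsg.Agent.Lib.helper17.FrameCount

/-!
The diagonal torus `T` of `Sp_2m(F)` (the elements stabilising every coordinate axis) and its normaliser:
monomial symplectic matrices normalise `T`; if `F` has an element `x ≠ 0` with `x² ≠ 1`, the normaliser
consists of monomial matrices; for `|F| = q ≥ 4`, `|N(T)| = 2^m m! (q-1)^m`.
-/

set_option autoImplicit false

namespace Cfsg.Agent.Lib.helper17

open Matrix Cfsg

section
variable {F : Type*} [Field F] (m : ℕ)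

/-- The torus: the elements of `Sp_2m(F)` stabilising every coordinate axis. -/
abbrev spTorus (F : Type*) [Field F] (m : ℕ) : Subgroup (Matrix.symplecticGroup (Fin m) F) :=
  ⨅ i : Fin m ⊕ Fin m, stabilizing (spToMat m F)
    ((Submodule.span F {(Pi.single i (1 : F) : Fin m ⊕ Fin m → F)} :
      Submodule F (Fin m ⊕ Fin m → F)) : Set (Fin m ⊕ Fin m → F))

theorem mem_spTorus_iff (g : Matrix.symplecticGroup (Fin m) F) :
    g ∈ spTorus F m ↔ ∀ a : Fin m ⊕ Fin m, ∃ c : F,
      (g : Matrix (Fin m ⊕ Fin m) (Fin m ⊕ Fin m) F) *ᵥ Pi.single a 1 = c • Pi.single a 1 := by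
  rw [Subgroup.mem_iInf]
  apply forall_congr'
  intro a
  rw [mem_stabilizing_iff_maps]
  constructor
  · intro h
    have h1 := h (Pi.single a 1) (Submodule.mem_span_singleton_self _)
    rw [Submodule.mem_span_singleton] at h1
    obtain ⟨c, hc⟩ := h1
    exact ⟨c, hc.symm⟩
  · rintro ⟨c, hc⟩ v hv
    rw [Submodule.mem_span_singleton] at hv ⊢
    obtain ⟨d, rfl⟩ := hv
    refine ⟨d * c, ?_⟩
    show (d * c) • _ = (g : Matrix (Fin m ⊕ Fin m) (Fin m ⊕ Fin m) F) *ᵥ (d • Pi.single a 1)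
    rw [Matrix.mulVec_smul, hc, smul_smul]

/-- Monomial symplectic matrices normalise the torus. -/
theorem mem_normalizer_of_monomial [Finite F] (g : Matrix.symplecticGroup (Fin m) F)
    (hg : ∀ a : Fin m ⊕ Fin m, ∃ (b : Fin m ⊕ Fin m) (c : F),
      (g : Matrix (Fin m ⊕ Fin m) (Fin m ⊕ Fin m) F) *ᵥ Pi.single a 1 = c • Pi.single b 1) :
    g ∈ Subgroup.normalizer (spTorus F m : Set (Matrix.symplecticGroup (Fin m) F)) := by
  rw [← inv_mem_iff]
  apply Subgroup.mem_normalizer_fintype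
  intro s hs
  rw [inv_inv]
  rw [SetLike.mem_coe, mem_spTorus_iff] at hs ⊢
  intro a
  obtain ⟨b, c, hbc⟩ := hg a
  obtain ⟨μ, hμ⟩ := hs b
  refine ⟨μ, ?_⟩
  show (((g⁻¹ : Matrix.symplecticGroup (Fin m) F) : Matrix (Fin m ⊕ Fin m) (Fin m ⊕ Fin m) F) *
    (s : Matrix (Fin m ⊕ Fin m) (Fin m ⊕ Fin m) F) *
    (g : Matrix (Fin m ⊕ Fin m) (Fin m ⊕ Fin m) F)) *ᵥ Pi.single a 1 = μ • Pi.single a 1
  rw [← Matrix.mulVec_mulVec, ← Matrix.mulVec_mulVec, hbc, Matrix.mulVec_smul, hμ, smul_smul, mul_comm,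
    ← smul_smul, Matrix.mulVec_smul, ← hbc, Matrix.mulVec_mulVec, sp_coe_inv_mul, Matrix.one_mulVec]

theorem diagonal_mem_sp (d : Fin m ⊕ Fin m → F) (hd : ∀ i, d (Sum.inl i) * d (Sum.inr i) = 1) :
    Matrix.diagonal d ∈ Matrix.symplecticGroup (Fin m) F := by
  rw [SymplecticGroup.mem_iff', Matrix.diagonal_transpose]
  ext a b
  rw [Matrix.mul_diagonal, Matrix.diagonal_mul]
  rcases a with i | i <;> rcases b with j | j
  · simp [Matrix.J]
  · by_cases hij : i = j
    · subst hij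
      simp only [Matrix.J, Matrix.fromBlocks_apply₁₂, Matrix.neg_apply, Matrix.one_apply_eq]
      linear_combination -hd i
    · simp [Matrix.J, Matrix.one_apply, hij]
  · by_cases hij : i = j
    · subst hij
      simp only [Matrix.J, Matrix.fromBlocks_apply₂₁, Matrix.one_apply_eq]
      linear_combination hd i
    · simp [Matrix.J, Matrix.one_apply, hij]
  · simp [Matrix.J]

/-- If `F` has an element `x ≠ 0` with `x² ≠ 1`, the elements normalising the torus are monomial. -/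
theorem monomial_of_mem_normalizer (x : F) (hx0 : x ≠ 0) (hx1 : x * x ≠ 1)
    (g : Matrix.symplecticGroup (Fin m) F)
    (hg : g ∈ Subgroup.normalizer (spTorus F m : Set (Matrix.symplecticGroup (Fin m) F)))
    (a : Fin m ⊕ Fin m) :
    ∃ (b : Fin m ⊕ Fin m) (c : F),
      (g : Matrix (Fin m ⊕ Fin m) (Fin m ⊕ Fin m) F) *ᵥ Pi.single a 1 = c • Pi.single b 1 := by
  classical
  obtain ⟨w, hw⟩ : ∃ w : Fin m ⊕ Fin m → F,
      w = (g : Matrix (Fin m ⊕ Fin m) (Fin m ⊕ Fin m) F) *ᵥ Pi.single a 1 := ⟨_, rfl⟩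
  rw [← hw]
  have hw0 : w ≠ 0 := by
    intro h
    have h1 : Matrix.toLin' (g : Matrix (Fin m ⊕ Fin m) (Fin m ⊕ Fin m) F) (Pi.single a 1) =
        Matrix.toLin' (g : Matrix (Fin m ⊕ Fin m) (Fin m ⊕ Fin m) F) 0 := by
      rw [map_zero, Matrix.toLin'_apply, ← hw, h]
    have h2 := sp_mulVec_injective m g h1
    have h3 := congrFun h2 a
    simp at h3
  obtain ⟨b, hb⟩ : ∃ b, w b ≠ 0 := by
    by_contra hcon
    push Not at hcon
    exact hw0 (funext hcon)
  have heig : ∀ t ∈ spTorus F m, ∃ l : F,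
      (t : Matrix (Fin m ⊕ Fin m) (Fin m ⊕ Fin m) F) *ᵥ w = l • w := by
    intro t ht
    have h1 : g⁻¹ * t * g ∈ spTorus F m := ((Subgroup.mem_set_normalizer_iff''.mp hg) t).mp ht
    rw [mem_spTorus_iff] at h1
    obtain ⟨l, hl⟩ := h1 a
    refine ⟨l, ?_⟩
    have hl' : (((g⁻¹ : Matrix.symplecticGroup (Fin m) F) : Matrix (Fin m ⊕ Fin m) (Fin m ⊕ Fin m) F) *
        (t : Matrix (Fin m ⊕ Fin m) (Fin m ⊕ Fin m) F) *
        (g : Matrix (Fin m ⊕ Fin m) (Fin m ⊕ Fin m) F)) *ᵥ Pi.single a 1 = l • Pi.single a 1 := hl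
    have h2 := congrArg (fun v => (g : Matrix (Fin m ⊕ Fin m) (Fin m ⊕ Fin m) F) *ᵥ v) hl'
    simp only [Matrix.mulVec_mulVec, ← Matrix.mul_assoc, sp_coe_mul_inv, Matrix.one_mul,
      Matrix.mulVec_smul] at h2
    rw [← Matrix.mulVec_mulVec, ← hw] at h2
    exact h2
  obtain ⟨d, hd⟩ : ∃ d : Fin m ⊕ Fin m → F, d = Function.update (Function.update (fun _ => 1)
      (Sum.swap b) x⁻¹) b x := ⟨_, rfl⟩
  have hdb : d b = x := by rw [hd, Function.update_self]
  have hdo : ∀ b', b' ≠ b → d b' = x⁻¹ ∨ d b' = 1 := by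
    intro b' hb'
    rw [hd, Function.update_of_ne hb']
    by_cases h : b' = Sum.swap b
    · left
      rw [h, Function.update_self]
    · right
      rw [Function.update_of_ne h]
  have hdprod : ∀ i, d (Sum.inl i) * d (Sum.inr i) = 1 := by
    intro i
    rw [hd]
    rcases b with j | j
    · by_cases hij : i = j
      · subst hij
        simp [Function.update, hx0]
      · have h1 : (Sum.inl i : Fin m ⊕ Fin m) ≠ Sum.inl j := fun h => hij (Sum.inl_injective h)
        have h2 : (Sum.inr i : Fin m ⊕ Fin m) ≠ Sum.inr j := fun h => hij (Sum.inr_injective h)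
        simp [Function.update, h1, h2]
    · by_cases hij : i = j
      · subst hij
        simp [Function.update, hx0]
      · have h1 : (Sum.inl i : Fin m ⊕ Fin m) ≠ Sum.inl j := fun h => hij (Sum.inl_injective h)
        have h2 : (Sum.inr i : Fin m ⊕ Fin m) ≠ Sum.inr j := fun h => hij (Sum.inr_injective h)
        simp [Function.update, h1, h2]
  have ht : (⟨Matrix.diagonal d, diagonal_mem_sp m d hdprod⟩ : Matrix.symplecticGroup (Fin m) F) ∈
      spTorus F m := by
    rw [mem_spTorus_iff]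
    intro a'
    refine ⟨d a', ?_⟩
    show Matrix.diagonal d *ᵥ Pi.single a' 1 = d a' • Pi.single a' 1
    ext r
    rw [Matrix.mulVec_diagonal]
    by_cases hr : r = a'
    · subst hr; simp
    · simp [Pi.single_apply, hr]
  obtain ⟨l, hl⟩ := heig _ ht
  have hl' : Matrix.diagonal d *ᵥ w = l • w := hl
  have hlx : l = x := by
    have h1 := congrFun hl' b
    rw [Matrix.mulVec_diagonal, hdb, Pi.smul_apply, smul_eq_mul] at h1
    exact (mul_right_cancel₀ hb h1).symm
  refine ⟨b, w b, ?_⟩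
  funext b'
  by_cases hb' : b' = b
  · subst hb'
    simp
  · rw [Pi.smul_apply, Pi.single_apply, if_neg hb', smul_zero]
    by_contra hne
    have h1 := congrFun hl' b'
    rw [Matrix.mulVec_diagonal, Pi.smul_apply, smul_eq_mul, hlx] at h1
    have h2 : d b' = x := mul_right_cancel₀ hne h1
    rcases hdo b' hb' with h3 | h3
    · rw [h3] at h2
      apply hx1
      nth_rewrite 1 [← h2]
      exact inv_mul_cancel₀ hx0
    · rw [h3] at h2
      apply hx1
      rw [← h2, one_mul]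

end

end Cfsg.Agent.Lib.helper17
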