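import Cfsg.Agent.Lib.helper17.SpWeyl

/-!
Counting the normaliser of the diagonal torus of `Sp_2m(q)`, `q ≥ 4`: `|N(T)| = 2^m m! (q-1)^m`, through
the simply transitive action on "monomial Lagrangian frames".
-/

set_option autoImplicit false

namespace Cfsg.Agent.Lib.helper17

open Matrix Cfsg

section
variable {F : Type*} [Field F] (m : ℕ)

/-- The sign `ω(e_a, e_{a'})` for the partner `a'` of `a`. -/
def sgnI (F : Type*) [Field F] (m : ℕ) (a : Fin m ⊕ Fin m) : F := Sum.elim (fun _ => -1) (fun _ => 1) a

theorem sympForm_single_single (a b : Fin m ⊕ Fin m) :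
    sympForm m F (Pi.single a 1) (Pi.single b 1) = if b = Sum.swap a then sgnI F m a else 0 := by
  classical
  rcases a with i | i
  · rw [sympForm_single_inl_left, Pi.single_apply]
    by_cases h : b = Sum.inr i
    · subst h
      simp [sgnI]
    · have h' : ¬ (Sum.inr i : Fin m ⊕ Fin m) = b := fun h'' => h h''.symm
      simp [h, h']
  · rw [sympForm_single_inr_left, Pi.single_apply]
    by_cases h : b = Sum.inl i
    · subst h
      simp [sgnI]
    · have h' : ¬ (Sum.inl i : Fin m ⊕ Fin m) = b := fun h'' => h h''.symm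
      simp [h, h']

theorem sgnI_ne_zero (a : Fin m ⊕ Fin m) : sgnI F m a ≠ 0 := by
  rcases a with i | i <;> simp [sgnI]

/-- The Gram matrix of a monomial family equals that of the standard basis. -/
theorem gram_monomial (σ : Fin m ⊕ Fin m → Fin m ⊕ Fin m) (d : Fin m ⊕ Fin m → F)
    (hσ : ∀ a b, σ b = Sum.swap (σ a) ↔ b = Sum.swap a)
    (hd : ∀ a, d a * d (Sum.swap a) * sgnI F m (σ a) = sgnI F m a) (a b : Fin m ⊕ Fin m) :
    sympForm m F (Pi.single a 1) (Pi.single b 1) =
      sympForm m F (d a • Pi.single (σ a) 1) (d b • Pi.single (σ b) 1) := by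
  rw [sympForm_smul_left, sympForm_smul_right, sympForm_single_single, sympForm_single_single]
  by_cases hb : b = Sum.swap a
  · subst hb
    rw [if_pos rfl, if_pos ((hσ _ _).mpr rfl)]
    linear_combination -hd a
  · rw [if_neg hb, if_neg (fun h => hb ((hσ a b).mp h))]
    ring

/-- A monomial family with the Gram matrix of the standard basis is the image of the standard basis
under an element of the normaliser of the torus. -/
theorem exists_normalizer_monomial [Finite F] (σ : Fin m ⊕ Fin m → Fin m ⊕ Fin m)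
    (d : Fin m ⊕ Fin m → F)
    (hσ : ∀ a b, σ b = Sum.swap (σ a) ↔ b = Sum.swap a)
    (hd : ∀ a, d a * d (Sum.swap a) * sgnI F m (σ a) = sgnI F m a) :
    ∃ g : Matrix.symplecticGroup (Fin m) F,
      g ∈ Subgroup.normalizer (spTorus F m : Set (Matrix.symplecticGroup (Fin m) F)) ∧
      ∀ a, (g : Matrix (Fin m ⊕ Fin m) (Fin m ⊕ Fin m) F) *ᵥ Pi.single a 1 = d a • Pi.single (σ a) 1 := by
  classical
  have hG := gram_monomial m σ d hσ hd
  have hx : LinearIndependent F (fun a : Fin m ⊕ Fin m => (Pi.single a 1 : Fin m ⊕ Fin m → F)) := by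
    have := (Pi.basisFun F (Fin m ⊕ Fin m)).linearIndependent
    have h' : (fun a : Fin m ⊕ Fin m => (Pi.single a 1 : Fin m ⊕ Fin m → F)) =
        ⇑(Pi.basisFun F (Fin m ⊕ Fin m)) := by
      funext a
      simp [Pi.basisFun_apply]
    rw [h']
    exact this
  have hy : LinearIndependent F (fun a : Fin m ⊕ Fin m => d a • (Pi.single (σ a) 1 : Fin m ⊕ Fin m → F)) := by
    apply linearIndependent_of_dual m _ Sum.swap
    · intro a
      rw [← hG, sympForm_single_single, if_pos rfl]
      exact sgnI_ne_zero m a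
    · intro a b hb
      rw [← hG, sympForm_single_single, if_neg]
      intro h
      apply hb
      have := congrArg Sum.swap h
      simpa using this.symm
  obtain ⟨g, hg⟩ := sp_witt_family' m _ _ hx hy hG
  exact ⟨g, mem_normalizer_of_monomial m g (fun a => ⟨σ a, d a, hg a⟩), hg⟩

/-- The index on the chosen side. -/
def sideIdx (m : ℕ) (s : Bool) (j : Fin m) : Fin m ⊕ Fin m := if s then Sum.inr j else Sum.inl j

theorem swap_sideIdx (s : Bool) (j : Fin m) : Sum.swap (sideIdx m s j) = sideIdx m (!s) j := by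
  cases s <;> rfl

theorem sideIdx_inj {s s' : Bool} {j j' : Fin m} (h : sideIdx m s j = sideIdx m s' j') :
    s = s' ∧ j = j' := by
  cases s <;> cases s' <;> simp [sideIdx] at h ⊢ <;> exact h

theorem sideIdx_isRight (b : Fin m ⊕ Fin m) : sideIdx m b.isRight (Sum.elim id id b) = b := by
  rcases b with i | i <;> rfl

/-- Monomial Lagrangian frames. -/
def monoFrame (p : Equiv.Perm (Fin m) × (Fin m → Bool) × (Fin m → Fˣ)) :
    Fin m → (Fin m ⊕ Fin m → F) :=
  fun i => ((p.2.2 i : Fˣ) : F) • Pi.single (sideIdx m (p.2.1 i) (p.1 i)) 1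

theorem monoFrame_injective : Function.Injective (monoFrame (F := F) m) := by
  classical
  intro p p' h
  have key : ∀ i, sideIdx m (p.2.1 i) (p.1 i) = sideIdx m (p'.2.1 i) (p'.1 i) ∧
      ((p.2.2 i : Fˣ) : F) = ((p'.2.2 i : Fˣ) : F) := by
    intro i
    have hi := congrFun (congrFun h i) (sideIdx m (p.2.1 i) (p.1 i))
    simp only [monoFrame, Pi.smul_apply, Pi.single_apply, if_true, smul_eq_mul, mul_one] at hi
    by_cases hb : sideIdx m (p.2.1 i) (p.1 i) = sideIdx m (p'.2.1 i) (p'.1 i)
    · refine ⟨hb, ?_⟩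
      rw [if_pos hb, mul_one] at hi
      exact hi
    · exfalso
      rw [if_neg hb, mul_zero] at hi
      exact (Units.ne_zero _) hi
  obtain ⟨π, s, c⟩ := p
  obtain ⟨π', s', c'⟩ := p'
  simp only at key
  have h1 : π = π' := Equiv.ext (fun i => (sideIdx_inj m (key i).1).2)
  have h2 : s = s' := funext (fun i => (sideIdx_inj m (key i).1).1)
  have h3 : c = c' := funext (fun i => Units.ext (key i).2)
  rw [h1, h2, h3]

end

section
variable {F : Type*} [Field F] [Fintype F] (m : ℕ)

omit [Fintype F] in
theorem same_or_swap (b b' : Fin m ⊕ Fin m) (h : Sum.elim id id b = Sum.elim id id b') :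
    b' = b ∨ b' = Sum.swap b := by
  rcases b with j | j <;> rcases b' with j' | j' <;> simp at h <;> subst h <;> simp

theorem exists_sq_ne_one (hq : 4 ≤ Fintype.card F) : ∃ x : F, x ≠ 0 ∧ x * x ≠ 1 := by
  classical
  by_contra hcon
  push Not at hcon
  have hsub : (Finset.univ : Finset F) ⊆ {0, 1, -1} := by
    intro x _
    by_cases hx : x = 0
    · simp [hx]
    · have h := hcon x hx
      have h' : (x - 1) * (x + 1) = 0 := by linear_combination h
      rcases mul_eq_zero.mp h' with h1 | h1
      · have : x = 1 := by linear_combination h1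
        simp [this]
      · have : x = -1 := by linear_combination h1
        simp [this]
  have := Finset.card_le_card hsub
  have h3 : ({0, 1, -1} : Finset F).card ≤ 3 := Finset.card_le_three
  rw [Finset.card_univ] at this
  omega

/-- `|N_{Sp_2m(q)}(T)| = 2^m m! (q-1)^m` for `q ≥ 4`. -/
theorem card_normalizer_spTorus (hq : 4 ≤ Fintype.card F) :
    Nat.card (Subgroup.normalizer (spTorus F m : Set (Matrix.symplecticGroup (Fin m) F))) =
      2 ^ m * Nat.factorial m * (Fintype.card F - 1) ^ m := by
  classical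
  obtain ⟨x, hx0, hx1⟩ := exists_sq_ne_one hq
  have hmono : ∀ g : Subgroup.normalizer (spTorus F m : Set (Matrix.symplecticGroup (Fin m) F)),
      ∀ a, ∃ (b : Fin m ⊕ Fin m) (c : F),
        ((g : Matrix.symplecticGroup (Fin m) F) : Matrix (Fin m ⊕ Fin m) (Fin m ⊕ Fin m) F) *ᵥ
          Pi.single a 1 = c • Pi.single b 1 :=
    fun g a => monomial_of_mem_normalizer m x hx0 hx1 g.1 g.2 a
  have hmaps : ∀ g : Subgroup.normalizer (spTorus F m : Set (Matrix.symplecticGroup (Fin m) F)),
      (fun i : Fin m => ((spToMat m F).comp (Subgroup.normalizer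
        (spTorus F m : Set (Matrix.symplecticGroup (Fin m) F))).subtype) g *ᵥ
          (Pi.single (Sum.inl i) 1 : Fin m ⊕ Fin m → F)) ∈ Set.range (monoFrame (F := F) m) := by
    intro g
    choose b c hbc using fun i : Fin m => hmono g (Sum.inl i)
    have hG : ∀ u v, sympForm m F
        (((g : Matrix.symplecticGroup (Fin m) F) : Matrix (Fin m ⊕ Fin m) (Fin m ⊕ Fin m) F) *ᵥ u)
        (((g : Matrix.symplecticGroup (Fin m) F) : Matrix (Fin m ⊕ Fin m) (Fin m ⊕ Fin m) F) *ᵥ v) =
        sympForm m F u v := fun u v => sympForm_mulVec_of_mem m g.1.2 u v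
    have hc : ∀ i, c i ≠ 0 := by
      intro i hci
      have h1 := hG (Pi.single (Sum.inl i) 1) (Pi.single (Sum.inr i) 1)
      rw [hbc, hci, zero_smul, sympForm_zero_left, sympForm_single_single,
        if_pos (show (Sum.inr i : Fin m ⊕ Fin m) = Sum.swap (Sum.inl i) from rfl)] at h1
      exact sgnI_ne_zero m _ h1.symm
    have hinj : Function.Injective (fun i => Sum.elim id id (b i)) := by
      intro i i' hii
      by_contra hne
      rcases same_or_swap m (b i) (b i') hii with h | h
      · have h1 := hG (Pi.single (Sum.inl i') 1) (Pi.single (Sum.inr i) 1)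
        have h2 := hG (Pi.single (Sum.inl i) 1) (Pi.single (Sum.inr i) 1)
        have hne' : ¬ (Sum.inr i : Fin m ⊕ Fin m) = Sum.swap (Sum.inl i') := by
          intro h'
          apply hne
          simpa using h'
        rw [hbc i', h, sympForm_smul_left, sympForm_single_single (F := F) m (Sum.inl i') (Sum.inr i),
          if_neg hne'] at h1
        rw [hbc i, sympForm_smul_left, sympForm_single_single,
          if_pos (show (Sum.inr i : Fin m ⊕ Fin m) = Sum.swap (Sum.inl i) from rfl)] at h2
        rcases mul_eq_zero.mp h1 with h3 | h3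
        · exact hc i' h3
        · rw [h3, mul_zero] at h2
          exact sgnI_ne_zero m _ h2.symm
      · have h1 := hG (Pi.single (Sum.inl i) 1) (Pi.single (Sum.inl i') 1)
        rw [hbc i, hbc i', h, sympForm_smul_left, sympForm_smul_right, sympForm_single_single,
          if_pos rfl, sympForm_single_single, if_neg (by simp)] at h1
        exact absurd h1 (mul_ne_zero (hc i) (mul_ne_zero (hc i') (sgnI_ne_zero m _)))
    refine ⟨(Equiv.ofBijective _ ⟨hinj, Finite.injective_iff_surjective.mp hinj⟩,
      fun i => (b i).isRight, fun i => Units.mk0 (c i) (hc i)), ?_⟩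
    funext i
    show ((Units.mk0 (c i) (hc i) : Fˣ) : F) •
      (Pi.single (sideIdx m (b i).isRight (Sum.elim id id (b i))) 1 : Fin m ⊕ Fin m → F) = _
    rw [sideIdx_isRight, Units.val_mk0]
    exact (hbc i).symm
  have htrans : ∀ y ∈ Set.range (monoFrame (F := F) m),
      ∃ g : Subgroup.normalizer (spTorus F m : Set (Matrix.symplecticGroup (Fin m) F)),
        ∀ i : Fin m, ((spToMat m F).comp (Subgroup.normalizer
          (spTorus F m : Set (Matrix.symplecticGroup (Fin m) F))).subtype) g *ᵥ
            (Pi.single (Sum.inl i) 1 : Fin m ⊕ Fin m → F) = y i := by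
    rintro _ ⟨⟨π, s, c⟩, rfl⟩
    obtain ⟨σ, hσdef⟩ : ∃ σ : Fin m ⊕ Fin m → Fin m ⊕ Fin m,
        σ = Sum.elim (fun i => sideIdx m (s i) (π i)) (fun i => sideIdx m (!s i) (π i)) := ⟨_, rfl⟩
    obtain ⟨d, hddef⟩ : ∃ d : Fin m ⊕ Fin m → F,
        d = Sum.elim (fun i => ((c i : Fˣ) : F))
          (fun i => (if s i then -1 else 1) * ((c i : Fˣ) : F)⁻¹) := ⟨_, rfl⟩
    have hσswap : ∀ a, σ (Sum.swap a) = Sum.swap (σ a) := by
      intro a
      rcases a with i | i
      · simp [hσdef, swap_sideIdx]
      · simp [hσdef, swap_sideIdx]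
    have hσinj : Function.Injective σ := by
      intro a a' h
      rw [hσdef] at h
      rcases a with i | i <;> rcases a' with i' | i'
      · obtain ⟨h1, h2⟩ := sideIdx_inj m h
        rw [π.injective h2]
      · obtain ⟨h1, h2⟩ := sideIdx_inj m h
        have := π.injective h2
        subst this
        simp at h1
      · obtain ⟨h1, h2⟩ := sideIdx_inj m h
        have := π.injective h2
        subst this
        simp at h1
      · obtain ⟨h1, h2⟩ := sideIdx_inj m h
        rw [π.injective h2]
    have hσ : ∀ a b, σ b = Sum.swap (σ a) ↔ b = Sum.swap a := by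
      intro a b
      rw [← hσswap]
      exact hσinj.eq_iff
    have hd : ∀ a, d a * d (Sum.swap a) * sgnI F m (σ a) = sgnI F m a := by
      intro a
      have hcne : ∀ i, ((c i : Fˣ) : F) ≠ 0 := fun i => Units.ne_zero _
      rcases a with i | i
      · simp only [hddef, hσdef, Sum.swap_inl, Sum.elim_inl, Sum.elim_inr]
        cases hs : s i
        · simp [sideIdx, sgnI, hcne i]
        · simp [sideIdx, sgnI, hcne i]
      · simp only [hddef, hσdef, Sum.swap_inr, Sum.elim_inl, Sum.elim_inr]
        cases hs : s i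
        · simp [sideIdx, sgnI, hcne i]
        · simp [sideIdx, sgnI, hcne i]
    obtain ⟨g, hgN, hg⟩ := exists_normalizer_monomial m σ d hσ hd
    refine ⟨⟨g, hgN⟩, fun i => ?_⟩
    have := hg (Sum.inl i)
    rw [hddef, hσdef] at this
    exact this
  have hcount := card_eq_card_frames_mul
    ((spToMat m F).comp (Subgroup.normalizer
      (spTorus F m : Set (Matrix.symplecticGroup (Fin m) F))).subtype)
    (Set.range (monoFrame (F := F) m)) (fun i => Pi.single (Sum.inl i) 1) hmaps htrans
  have hbot : frameStabG ((spToMat m F).comp (Subgroup.normalizer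
      (spTorus F m : Set (Matrix.symplecticGroup (Fin m) F))).subtype)
      (fun i : Fin m => (Pi.single (Sum.inl i) 1 : Fin m ⊕ Fin m → F)) = ⊥ := by
    rw [Subgroup.eq_bot_iff_forall]
    intro g hg
    have hg' : ∀ i : Fin m,
        ((g : Matrix.symplecticGroup (Fin m) F) : Matrix (Fin m ⊕ Fin m) (Fin m ⊕ Fin m) F) *ᵥ
          Pi.single (Sum.inl i) 1 = Pi.single (Sum.inl i) 1 := hg
    have hfix : ∀ a, ((g : Matrix.symplecticGroup (Fin m) F) :
        Matrix (Fin m ⊕ Fin m) (Fin m ⊕ Fin m) F) *ᵥ Pi.single a 1 = Pi.single a 1 := by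
      intro a
      rcases a with i | i
      · exact hg' i
      · obtain ⟨b, c, hbc⟩ := hmono g (Sum.inr i)
        have h1 := mulVec_inr_of_fix m g.1.2 i (hg' i) (Pi.single (Sum.inr i) 1)
        rw [hbc] at h1 ⊢
        by_cases hb : Sum.inr i = b
        · subst hb
          simp only [Pi.smul_apply, Pi.single_eq_same, smul_eq_mul, mul_one] at h1
          rw [h1, one_smul]
        · exfalso
          have hb' : ¬ b = Sum.inr i := fun h => hb h.symm
          simp [Pi.single_apply, hb, hb'] at h1
    apply Subtype.ext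
    apply Subtype.ext
    ext r a
    have := congrFun (hfix a) r
    rw [Matrix.mulVec_single_one] at this
    show ((g : Matrix.symplecticGroup (Fin m) F) : Matrix (Fin m ⊕ Fin m) (Fin m ⊕ Fin m) F) r a =
      (1 : Matrix (Fin m ⊕ Fin m) (Fin m ⊕ Fin m) F) r a
    rw [Matrix.one_apply]
    rw [Pi.single_apply] at this
    exact this
  rw [hcount, hbot, Subgroup.card_bot, mul_one,
    ← Nat.card_congr (Equiv.ofInjective _ (monoFrame_injective (F := F) m)), Nat.card_prod,
    Nat.card_prod, Nat.card_perm, Nat.card_fun, Nat.card_fun, Nat.card_units]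
  simp only [Nat.card_eq_fintype_card, Fintype.card_fin, Fintype.card_bool]
  ring

end

end Cfsg.Agent.Lib.helper17
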