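import Mathlib
import Cfsg.Agent.Lib.helper24.SroDefs
import Cfsg.Agent.Lib.helper63.SpTI7

/-!
# S5972 piece ODDCNT (helper17): `sts_odd_sing`
-/

set_option autoImplicit false
set_option linter.unusedSectionVars false
set_option linter.unusedVariables false

namespace Cfsg.Agent.Lib.helper24

open Module Cfsg.Agent.Lib.helper45 Cfsg.Agent.Lib.helper49

universe u

section stsgeneric

variable {F : Type u} [Field F] [Fintype F]

/-- the number of zeros of the standard odd-dimensional form -/
theorem helper17_odd_std_zeros (e : ℕ) :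
    Nat.card {w : Unit ⊕ (Fin e ⊕ Fin e) → F // Cfsg.quadFormOdd e F w = 0} =
      Fintype.card F ^ (2 * e) := by
  classical
  have hU := unif_plus_std (F := F) e
  -- split off the first coordinate
  have hequiv : {w : Unit ⊕ (Fin e ⊕ Fin e) → F // Cfsg.quadFormOdd e F w = 0} ≃
      (Σ x₀ : F, {v : Fin e ⊕ Fin e → F // plusForm e F v = -x₀ ^ 2}) :=
    { toFun := fun w => ⟨w.1 (Sum.inl ()), ⟨fun k => w.1 (Sum.inr k), by
        have h : Cfsg.quadFormOdd e F w.1 = 0 := w.2
        show Cfsg.quadFormPlus e F (fun k => w.1 (Sum.inr k)) = -w.1 (Sum.inl ()) ^ 2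
        unfold Cfsg.quadFormOdd at h
        unfold Cfsg.quadFormPlus
        exact eq_neg_of_add_eq_zero_right h⟩⟩
      invFun := fun x => ⟨Sum.elim (fun _ => x.1) x.2.1, by
        have h : Cfsg.quadFormPlus e F x.2.1 = -x.1 ^ 2 := x.2.2
        unfold Cfsg.quadFormPlus at h
        unfold Cfsg.quadFormOdd
        simp only [Sum.elim_inl, Sum.elim_inr]
        rw [h, add_neg_cancel]⟩
      left_inv := by
        intro w
        apply Subtype.ext
        funext k
        rcases k with ⟨⟩ | k
        · rfl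
        · rfl
      right_inv := by
        intro x
        rfl }
  rw [Nat.card_congr hequiv, Nat.card_sigma]
  have hq : (Fintype.card F : ℤ) ≠ 0 := by
    have : 0 < Fintype.card F := Fintype.card_pos
    exact_mod_cast this.ne'
  have key : (Fintype.card F : ℤ) *
      ((∑ x₀ : F, Nat.card {v : Fin e ⊕ Fin e → F // plusForm e F v = -x₀ ^ 2} : ℕ) : ℤ) =
      (Fintype.card F : ℤ) * ((Fintype.card F ^ (2 * e) : ℕ) : ℤ) := by
    push_cast
    rw [Finset.mul_sum]
    have h1 : ∀ x₀ : F, (Fintype.card F : ℤ) *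
        (Nat.card {v : Fin e ⊕ Fin e → F // plusForm e F v = -x₀ ^ 2} : ℤ) =
        ((Fintype.card F : ℤ) ^ e) ^ 2 + (Fintype.card F : ℤ) ^ e *
          ((if x₀ = 0 then (Fintype.card F : ℤ) else 0) - 1) := by
      intro x₀
      have h2 := hU (-x₀ ^ 2)
      rw [h2]
      by_cases hx : x₀ = 0
      · rw [if_pos hx, if_pos (by rw [hx]; simp)]
      · rw [if_neg hx, if_neg (by simpa using hx)]
    rw [Finset.sum_congr rfl (fun x₀ _ => h1 x₀)]
    rw [Finset.sum_add_distrib, ← Finset.mul_sum, Finset.sum_sub_distrib, Finset.sum_ite_eq']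
    simp only [Finset.mem_univ, if_true, Finset.sum_const, Finset.card_univ, nsmul_eq_mul, mul_one]
    ring
  exact_mod_cast mul_left_cancel₀ hq key

/-- A nondegenerate quadratic space of dimension `2e+1` over `F_q` (`q` odd) has `q^(2e)` singular
vectors. -/
theorem sts_odd_sing {V : Type u} [AddCommGroup V] [Module F V] [FiniteDimensional F V]
    (Q : QuadraticForm F V) (hnd : ∀ v, (∀ w, QuadraticMap.polar Q v w = 0) → v = 0)
    (h2 : (2 : F) ≠ 0) (e : ℕ) (hdim : finrank F V = 2 * e + 1) :
    Nat.card {v : V // Q v = 0} = Fintype.card F ^ (2 * e) := by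
  classical
  obtain ⟨T, c, hT⟩ := Cfsg.Agent.Lib.helper99.Oj.oj_simil h2 e Q hnd hdim
  have hc : c ≠ 0 := by
    intro hc0
    have h1 := hT (T.symm (Pi.single (Sum.inl ()) 1))
    rw [hc0, zero_mul, LinearEquiv.apply_symm_apply] at h1
    unfold Cfsg.quadFormOdd at h1
    simp at h1
  rw [← helper17_odd_std_zeros (F := F) e]
  refine Nat.card_congr (Equiv.subtypeEquiv T.toEquiv ?_)
  intro v
  show Q v = 0 ↔ Cfsg.quadFormOdd e F (T v) = 0
  rw [hT v]
  constructor
  · intro h
    rw [h, mul_zero]
  · intro h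
    rcases mul_eq_zero.mp h with h | h
    · exact absurd h hc
    · exact h

end stsgeneric

end Cfsg.Agent.Lib.helper24
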