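import Mathlib
import Cfsg.Agent.Lib.helper24.SroDefs
import Cfsg.Agent.Lib.helper63.SpTI7
import Cfsg.Agent.Lib.helper17.StsODDCNT

/-!
# S5972 piece CNTA (helper17): `sts_perp_sing`
-/

set_option autoImplicit false
set_option linter.unusedSectionVars false
set_option linter.unusedVariables false

namespace Cfsg.Agent.Lib.helper24

open Module Cfsg.Agent.Lib.helper45 Cfsg.Agent.Lib.helper49

universe u

section stsgeneric

variable {F : Type u} [Field F] [Fintype F]

/-- In a nondegenerate quadratic space of dimension `2d+1` over `F_q` (`q` odd) the number of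
singular vectors orthogonal to a totally singular subspace `U` is `q^(2d - dim U)`. -/
theorem sts_perp_sing {V : Type u} [AddCommGroup V] [Module F V] [FiniteDimensional F V]
    (Q : QuadraticForm F V) (hnd : ∀ v, (∀ w, QuadraticMap.polar Q v w = 0) → v = 0)
    (h2 : (2 : F) ≠ 0) (d : ℕ) (hdim : finrank F V = 2 * d + 1)
    (U : Submodule F V) (hU : ∀ u ∈ U, Q u = 0) :
    Nat.card {v : V // Q v = 0 ∧ ∀ u ∈ U, QuadraticMap.polar Q u v = 0} =
      Fintype.card F ^ (2 * d - finrank F U) := by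
  classical
  have hfin : Finite V := Module.finite_of_finite F
  obtain ⟨B, hB⟩ : ∃ B : LinearMap.BilinForm F V, B = QuadraticMap.polarBilin Q := ⟨_, rfl⟩
  have hBa : ∀ x y, B x y = QuadraticMap.polar Q x y := by
    intro x y
    rw [hB]
    rfl
  have hsymm : ∀ x y, B x y = B y x := by
    intro x y
    rw [hBa, hBa, QuadraticMap.polar_comm]
  have hBnd : B.Nondegenerate :=
    ⟨fun x hx => hnd x (fun w => by rw [← hBa]; exact hx w),
      fun y hy => hnd y (fun w => by rw [← hBa, hsymm]; exact hy w)⟩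
  have hrefl : B.IsRefl := fun x y h => by
    rw [hsymm]
    exact h
  obtain ⟨P, hP⟩ : ∃ P : Submodule F V, P = B.orthogonal U := ⟨_, rfl⟩
  have hmemP : ∀ v, v ∈ P ↔ ∀ u ∈ U, QuadraticMap.polar Q u v = 0 := by
    intro v
    rw [hP, LinearMap.BilinForm.mem_orthogonal_iff]
    constructor
    · intro h u hu
      rw [← hBa]
      exact h u hu
    · intro h u hu
      show B u v = 0
      rw [hBa]
      exact h u hu
  have hdimP : finrank F P = 2 * d + 1 - finrank F U := by
    rw [hP, LinearMap.BilinForm.finrank_orthogonal hBnd, hdim]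
  have hpolU : ∀ u ∈ U, ∀ u' ∈ U, QuadraticMap.polar Q u u' = 0 := by
    intro u hu u' hu'
    unfold QuadraticMap.polar
    rw [hU _ (add_mem hu hu'), hU u hu, hU u' hu']
    simp
  have hUP : U ≤ P := fun u hu => (hmemP u).mpr (fun u' hu' => hpolU u' hu' u hu)
  have hPperp : B.orthogonal P = U := by
    rw [hP]
    exact LinearMap.BilinForm.orthogonal_orthogonal hBnd hrefl U
  obtain ⟨M0, hM0⟩ := Submodule.exists_isCompl U
  obtain ⟨M, hMdef⟩ : ∃ M : Submodule F V, M = M0 ⊓ P := ⟨_, rfl⟩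
  have hMP : M ≤ P := by
    rw [hMdef]
    exact inf_le_right
  have hUM : U ⊓ M = ⊥ := by
    rw [hMdef, ← inf_assoc, hM0.inf_eq_bot, bot_inf_eq]
  have hUMP : U ⊔ M = P := by
    rw [hMdef, ← sup_inf_assoc_of_le M0 hUP, hM0.sup_eq_top, top_inf_eq]
  have hj : finrank F U ≤ d := by
    have := Submodule.finrank_mono hUP
    rw [hdimP] at this
    omega
  have hdimM : finrank F M = 2 * (d - finrank F U) + 1 := by
    have h := Submodule.finrank_sup_add_finrank_inf_eq U M
    rw [hUMP, hUM, finrank_bot, hdimP] at h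
    omega
  have hMnd : SpNd (QuadraticMap.polarBilin Q) M := by
    intro μ hμ hμ2
    have h1 : μ ∈ B.orthogonal P := by
      rw [LinearMap.BilinForm.mem_orthogonal_iff]
      intro p hp
      show B p μ = 0
      rw [← hUMP] at hp
      obtain ⟨u, hu, μ', hμ', rfl⟩ := Submodule.mem_sup.mp hp
      rw [map_add, LinearMap.add_apply, hBa, hBa, (hmemP μ).mp (hMP hμ) u hu,
        QuadraticMap.polar_comm, zero_add]
      exact hμ2 μ' hμ'
    rw [hPperp] at h1
    have h3 : μ ∈ U ⊓ M := ⟨h1, hμ⟩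
    rw [hUM] at h3
    exact (Submodule.mem_bot F).mp h3
  have hcM : Nat.card {μ : ↥M // (Q.comp M.subtype) μ = 0} =
      Fintype.card F ^ (2 * (d - finrank F U)) :=
    sts_odd_sing (Q.comp M.subtype) (sr_restr_nd Q M hMnd) h2 (d - finrank F U) hdimM
  have hcU : Nat.card ↥U = Fintype.card F ^ finrank F U := by
    rw [Module.natCard_eq_pow_finrank (K := F), Nat.card_eq_fintype_card]
  have hmem : ∀ x : ↥U × {μ : ↥M // (Q.comp M.subtype) μ = 0},
      Q ((x.1 : V) + ((x.2.1 : ↥M) : V)) = 0 ∧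
        ∀ u ∈ U, QuadraticMap.polar Q u ((x.1 : V) + ((x.2.1 : ↥M) : V)) = 0 := by
    intro x
    constructor
    · have h3 : Q ((x.1 : V) + ((x.2.1 : ↥M) : V)) = Q (x.1 : V) + Q ((x.2.1 : ↥M) : V) +
          QuadraticMap.polar Q (x.1 : V) ((x.2.1 : ↥M) : V) := by
        unfold QuadraticMap.polar
        abel
      rw [h3, hU _ x.1.2, (hmemP _).mp (hMP x.2.1.2) _ x.1.2, zero_add, add_zero]
      exact x.2.2
    · intro u hu
      rw [QuadraticMap.polar_add_right, hpolU u hu _ x.1.2, (hmemP _).mp (hMP x.2.1.2) u hu,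
        add_zero]
  have hbij : Nat.card {v : V // Q v = 0 ∧ ∀ u ∈ U, QuadraticMap.polar Q u v = 0} =
      Nat.card (↥U × {μ : ↥M // (Q.comp M.subtype) μ = 0}) := by
    symm
    refine Nat.card_congr (Equiv.ofBijective
      (fun x => (⟨(x.1 : V) + ((x.2.1 : ↥M) : V), hmem x⟩ :
        {v : V // Q v = 0 ∧ ∀ u ∈ U, QuadraticMap.polar Q u v = 0})) ⟨?_, ?_⟩)
    · intro x y hxy
      have h4 : (x.1 : V) + ((x.2.1 : ↥M) : V) = (y.1 : V) + ((y.2.1 : ↥M) : V) :=
        congrArg Subtype.val hxy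
      have h5 : (x.1 : V) - (y.1 : V) = ((y.2.1 : ↥M) : V) - ((x.2.1 : ↥M) : V) := by
        rw [sub_eq_sub_iff_add_eq_add, h4, add_comm]
      have h6 : (x.1 : V) - (y.1 : V) ∈ U ⊓ M :=
        ⟨sub_mem x.1.2 y.1.2, by rw [h5]; exact sub_mem y.2.1.2 x.2.1.2⟩
      rw [hUM, Submodule.mem_bot, sub_eq_zero] at h6
      have h7 : ((x.2.1 : ↥M) : V) = ((y.2.1 : ↥M) : V) := by
        rw [h6] at h4
        exact add_left_cancel h4
      exact Prod.ext (Subtype.ext h6) (Subtype.ext (Subtype.ext h7))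
    · rintro ⟨v, hv1, hv2⟩
      have hvP : v ∈ U ⊔ M := by
        rw [hUMP]
        exact (hmemP v).mpr hv2
      obtain ⟨u, hu, μ, hμ, rfl⟩ := Submodule.mem_sup.mp hvP
      have h3 : Q (u + μ) = Q u + Q μ + QuadraticMap.polar Q u μ := by
        unfold QuadraticMap.polar
        abel
      rw [h3, hU u hu, (hmemP μ).mp (hMP hμ) u hu, zero_add, add_zero] at hv1
      exact ⟨(⟨u, hu⟩, ⟨⟨μ, hμ⟩, hv1⟩), rfl⟩
  rw [hbij, Nat.card_prod, hcU, hcM, ← pow_add]
  congr 1
  omega

end stsgeneric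

end Cfsg.Agent.Lib.helper24
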