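import Mathlib
import Cfsg.Agent.Lib.helper63.Elusive1

/-!
# S5972 piece CNTB, core (helper17): counting totally singular subspaces through singular frames
-/

set_option autoImplicit false

namespace Cfsg.Agent.Lib.helper17

open Module

section StsCount

variable {F V : Type*} [Field F] [AddCommGroup V] [Module F V]

/-- Linearly independent families of pairwise orthogonal singular vectors. -/
def SFrame (Q : QuadraticForm F V) (k : ℕ) : Type _ :=
  {x : Fin k → V // LinearIndependent F x ∧ (∀ i, Q (x i) = 0) ∧
    ∀ i j, QuadraticMap.polar Q (x i) (x j) = 0}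

theorem sframe_polar_span (Q : QuadraticForm F V) {ι : Type*} (x : ι → V) (v : V)
    (hx : ∀ i, QuadraticMap.polar Q (x i) v = 0) :
    ∀ u ∈ Submodule.span F (Set.range x), QuadraticMap.polar Q u v = 0 := by
  intro u hu
  have hp : QuadraticMap.polarBilin Q u v = 0 := by
    induction hu using Submodule.span_induction with
    | mem u hu =>
      obtain ⟨i, rfl⟩ := hu
      exact hx i
    | zero => simp
    | add a b _ _ ha hb => rw [map_add, LinearMap.add_apply, ha, hb, add_zero]
    | smul c a _ ha => rw [map_smul, LinearMap.smul_apply, ha, smul_zero]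
  exact hp

theorem sframe_span_sing (Q : QuadraticForm F V) {ι : Type*} (x : ι → V)
    (hQ : ∀ i, Q (x i) = 0) (hx : ∀ i j, QuadraticMap.polar Q (x i) (x j) = 0) :
    (∀ u ∈ Submodule.span F (Set.range x), Q u = 0) ∧
    (∀ u ∈ Submodule.span F (Set.range x), ∀ v ∈ Submodule.span F (Set.range x),
      QuadraticMap.polar Q u v = 0) := by
  have hp : ∀ u ∈ Submodule.span F (Set.range x), ∀ v ∈ Submodule.span F (Set.range x),
      QuadraticMap.polarBilin Q u v = 0 := by
    intro u hu v hv
    induction hu using Submodule.span_induction with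
    | mem u hu =>
      obtain ⟨i, rfl⟩ := hu
      induction hv using Submodule.span_induction with
      | mem v hv =>
        obtain ⟨j, rfl⟩ := hv
        exact hx i j
      | zero => simp
      | add a b _ _ ha hb => rw [map_add, ha, hb, add_zero]
      | smul c a _ ha => rw [map_smul, ha, smul_zero]
    | zero => simp
    | add a b _ _ ha hb => rw [map_add, LinearMap.add_apply, ha, hb, add_zero]
    | smul c a _ ha => rw [map_smul, LinearMap.smul_apply, ha, smul_zero]
  refine ⟨?_, hp⟩
  intro u hu
  induction hu using Submodule.span_induction with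
  | mem u hu =>
    obtain ⟨i, rfl⟩ := hu
    exact hQ i
  | zero => exact map_zero Q
  | add a b ha hb iha ihb =>
    have h3 : Q (a + b) = Q a + Q b + QuadraticMap.polar Q a b := by
      unfold QuadraticMap.polar
      abel
    rw [h3, iha, ihb, zero_add, zero_add]
    exact hp a ha b hb
  | smul c a _ ha => rw [QuadraticMap.map_smul, ha, smul_zero]

/-- Peeling off the first vector of a singular frame. -/
def sframeEquiv (Q : QuadraticForm F V) (k : ℕ) :
    SFrame Q (k + 1) ≃ Σ x : SFrame Q k,
      {v : V // v ∉ Submodule.span F (Set.range x.1) ∧ Q v = 0 ∧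
        ∀ i, QuadraticMap.polar Q (x.1 i) v = 0} where
  toFun s := ⟨⟨Fin.tail s.1, (linearIndependent_finSucc.mp s.2.1).1, fun i => s.2.2.1 i.succ,
      fun i j => s.2.2.2 i.succ j.succ⟩,
    ⟨s.1 0, (linearIndependent_finSucc.mp s.2.1).2, s.2.2.1 0, fun i => s.2.2.2 i.succ 0⟩⟩
  invFun s := ⟨Fin.cons s.2.1 s.1.1, linearIndependent_finCons.mpr ⟨s.1.2.1, s.2.2.1⟩, by
      intro i
      refine Fin.cases ?_ (fun i' => ?_) i
      · simp only [Fin.cons_zero]
        exact s.2.2.2.1
      · simp only [Fin.cons_succ]
        exact s.1.2.2.1 i', by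
      intro i j
      refine Fin.cases ?_ (fun i' => ?_) i <;> refine Fin.cases ?_ (fun j' => ?_) j
      · simp only [Fin.cons_zero]
        rw [QuadraticMap.polar_self, s.2.2.2.1, smul_zero]
      · simp only [Fin.cons_zero, Fin.cons_succ]
        rw [QuadraticMap.polar_comm]
        exact s.2.2.2.2 j'
      · simp only [Fin.cons_zero, Fin.cons_succ]
        exact s.2.2.2.2 i'
      · simp only [Fin.cons_succ]
        exact s.1.2.2.2 i' j'⟩
  left_inv s := by
    apply Subtype.ext
    simp only [Fin.cons_self_tail]
  right_inv := fun ⟨⟨x, hx⟩, ⟨v, hv⟩⟩ => rfl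

variable [Fintype F] [FiniteDimensional F V]

/-- The number of ways to extend a singular frame by one vector. -/
theorem card_sframe_fiber (Q : QuadraticForm F V) (d m : ℕ)
    (hA : ∀ U : Submodule F V, (∀ u ∈ U, Q u = 0) → finrank F U < m →
      Nat.card {v : V // Q v = 0 ∧ ∀ u ∈ U, QuadraticMap.polar Q u v = 0} =
        Fintype.card F ^ (2 * d - finrank F U))
    (k : ℕ) (hk : k < m) (x : SFrame Q k) :
    Nat.card {v : V // v ∉ Submodule.span F (Set.range x.1) ∧ Q v = 0 ∧
        ∀ i, QuadraticMap.polar Q (x.1 i) v = 0} =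
      Fintype.card F ^ (2 * d - k) - Fintype.card F ^ k := by
  classical
  have : Finite V := Module.finite_of_finite F
  obtain ⟨hs1, hs2⟩ := sframe_span_sing Q x.1 x.2.2.1 x.2.2.2
  have hdimX : finrank F (Submodule.span F (Set.range x.1)) = k := by
    rw [finrank_span_eq_card x.2.1, Fintype.card_fin]
  have hS := hA _ hs1 (by rw [hdimX]; exact hk)
  rw [hdimX] at hS
  have hXS : (Submodule.span F (Set.range x.1) : Set V) ⊆
      {v : V | Q v = 0 ∧ ∀ u ∈ Submodule.span F (Set.range x.1), QuadraticMap.polar Q u v = 0} := by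
    intro z hz
    exact ⟨hs1 z hz, fun u hu => hs2 u hu z hz⟩
  have hset : {v : V | v ∉ Submodule.span F (Set.range x.1) ∧ Q v = 0 ∧
        ∀ i, QuadraticMap.polar Q (x.1 i) v = 0} =
      {v : V | Q v = 0 ∧ ∀ u ∈ Submodule.span F (Set.range x.1), QuadraticMap.polar Q u v = 0} \
        (Submodule.span F (Set.range x.1) : Set V) := by
    ext v
    simp only [Set.mem_ofPred_eq, Set.mem_sdiff, SetLike.mem_coe]
    constructor
    · rintro ⟨h1, h2, h3⟩
      exact ⟨⟨h2, fun u hu => sframe_polar_span Q x.1 v h3 u hu⟩, h1⟩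
    · rintro ⟨⟨h2, h3⟩, h1⟩
      exact ⟨h1, h2, fun i => h3 _ (Submodule.subset_span (Set.mem_range_self i))⟩
  have hcS : ({v : V | Q v = 0 ∧
      ∀ u ∈ Submodule.span F (Set.range x.1), QuadraticMap.polar Q u v = 0}).ncard =
      Fintype.card F ^ (2 * d - k) := by
    rw [← Nat.card_coe_set_eq]
    exact hS
  have hcX : (Submodule.span F (Set.range x.1) : Set V).ncard = Fintype.card F ^ k := by
    rw [← Nat.card_coe_set_eq]
    change Nat.card (Submodule.span F (Set.range x.1)) = _
    rw [Module.natCard_eq_pow_finrank (K := F), hdimX, Nat.card_eq_fintype_card]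
  change Nat.card ↥{v : V | v ∉ Submodule.span F (Set.range x.1) ∧ Q v = 0 ∧
        ∀ i, QuadraticMap.polar Q (x.1 i) v = 0} = _
  rw [Nat.card_coe_set_eq, hset]
  have := Set.ncard_sdiff_add_ncard_of_subset hXS (Set.toFinite _)
  rw [hcS, hcX] at this
  omega

/-- The number of singular frames. -/
theorem card_sframe (Q : QuadraticForm F V) (d m : ℕ)
    (hA : ∀ U : Submodule F V, (∀ u ∈ U, Q u = 0) → finrank F U < m →
      Nat.card {v : V // Q v = 0 ∧ ∀ u ∈ U, QuadraticMap.polar Q u v = 0} =
        Fintype.card F ^ (2 * d - finrank F U))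
    (k : ℕ) (hk : k ≤ m) :
    Nat.card (SFrame Q k) =
      ∏ i ∈ Finset.range k, (Fintype.card F ^ (2 * d - i) - Fintype.card F ^ i) := by
  classical
  have : Finite V := Module.finite_of_finite F
  induction k with
  | zero =>
    rw [Finset.prod_range_zero]
    have : Unique (SFrame Q 0) :=
      { default := ⟨fun i => i.elim0, linearIndependent_empty_type, fun i => i.elim0,
          fun i => i.elim0⟩
        uniq := fun s => Subtype.ext (funext fun i => i.elim0) }
    exact Nat.card_unique
  | succ k ih =>
    have : Finite (SFrame Q k) := by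
      unfold SFrame
      infer_instance
    have : Fintype (SFrame Q k) := Fintype.ofFinite _
    rw [Nat.card_congr (sframeEquiv Q k), Nat.card_sigma, Finset.prod_range_succ, ← ih (by omega)]
    simp only [card_sframe_fiber Q d m hA k (by omega)]
    rw [Finset.sum_const, Finset.card_univ, smul_eq_mul, Nat.card_eq_fintype_card]

/-- CNTB, universe-polymorphic core -/
theorem sts_count_core (Q : QuadraticForm F V) (d m : ℕ) (hmd : m ≤ d)
    (hA : ∀ U : Submodule F V, (∀ u ∈ U, Q u = 0) → finrank F U < m →
      Nat.card {v : V // Q v = 0 ∧ ∀ u ∈ U, QuadraticMap.polar Q u v = 0} =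
        Fintype.card F ^ (2 * d - finrank F U)) :
    Nat.card {W : Submodule F V // finrank F W = m ∧ ∀ w ∈ W, Q w = 0} *
        ∏ j ∈ Finset.range m, (Fintype.card F ^ (m - j) - 1) =
      ∏ j ∈ Finset.range m, (Fintype.card F ^ (2 * (d - j)) - 1) := by
  classical
  have : Finite V := Module.finite_of_finite F
  have h1 : Nat.card {W : Submodule F V // finrank F W = m ∧ ∀ w ∈ W, Q w = 0} *
      ∏ i : Fin m, (Fintype.card F ^ m - Fintype.card F ^ (i : ℕ)) = Nat.card (SFrame Q m) := by
    let φ : SFrame Q m → {W : Submodule F V // finrank F W = m ∧ ∀ w ∈ W, Q w = 0} :=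
      fun s => ⟨Submodule.span F (Set.range s.1),
        by rw [finrank_span_eq_card s.2.1, Fintype.card_fin],
        (sframe_span_sing Q s.1 s.2.2.1 s.2.2.2).1⟩
    have : Fintype {W : Submodule F V // finrank F W = m ∧ ∀ w ∈ W, Q w = 0} :=
      Fintype.ofFinite _
    have : Finite (SFrame Q m) := by
      unfold SFrame
      infer_instance
    rw [Nat.card_congr (Equiv.sigmaFiberEquiv φ).symm, Nat.card_sigma]
    have key : ∀ W : {W : Submodule F V // finrank F W = m ∧ ∀ w ∈ W, Q w = 0},
        Nat.card {s : SFrame Q m // φ s = W} =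
          ∏ i : Fin m, (Fintype.card F ^ m - Fintype.card F ^ (i : ℕ)) := by
      intro W
      have h1 : Nat.card {s : SFrame Q m // φ s = W} =
          Nat.card {s : Fin m → V //
            LinearIndependent F s ∧ Submodule.span F (Set.range s) = W.1} := by
        apply Nat.card_congr
        refine ⟨fun s => ⟨s.1.1, s.1.2.1, ?_⟩, fun s => ⟨⟨s.1, s.2.1, ?_, ?_⟩, ?_⟩, ?_, ?_⟩
        · exact congrArg Subtype.val s.2
        · intro i
          apply W.2.2
          have h := Submodule.subset_span (R := F) (Set.mem_range_self (f := s.1) i)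
          rw [s.2.2] at h
          exact h
        · intro i j
          have hmem : ∀ i, s.1 i ∈ W.1 := by
            intro i
            have h := Submodule.subset_span (R := F) (Set.mem_range_self (f := s.1) i)
            rw [s.2.2] at h
            exact h
          unfold QuadraticMap.polar
          rw [W.2.2 _ (add_mem (hmem i) (hmem j)), W.2.2 _ (hmem i), W.2.2 _ (hmem j)]
          simp
        · exact Subtype.ext s.2.2
        · intro s; rfl
        · intro s; rfl
      rw [h1, Cfsg.Agent.Lib.helper63.Elusive.card_fiber m W.1 W.2.1,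
        card_linearIndependent (K := F) (V := W.1) (le_of_eq W.2.1.symm), W.2.1]
    simp only [key, Finset.sum_const, Finset.card_univ, smul_eq_mul]
    rw [Nat.card_eq_fintype_card]
  rw [card_sframe Q d m hA m le_rfl,
    Fin.prod_univ_eq_prod_range (fun i => Fintype.card F ^ m - Fintype.card F ^ i) m] at h1
  have hq : 0 < Fintype.card F := Fintype.card_pos
  have e1 : ∏ i ∈ Finset.range m, (Fintype.card F ^ m - Fintype.card F ^ i)
      = (∏ i ∈ Finset.range m, Fintype.card F ^ i) *
        ∏ i ∈ Finset.range m, (Fintype.card F ^ (m - i) - 1) := by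
    rw [← Finset.prod_mul_distrib]
    apply Finset.prod_congr rfl
    intro i hi
    have hi' : i ≤ m := le_of_lt (Finset.mem_range.mp hi)
    rw [Nat.mul_sub, mul_one, ← pow_add, Nat.add_sub_cancel' hi']
  have e2 : ∏ i ∈ Finset.range m, (Fintype.card F ^ (2 * d - i) - Fintype.card F ^ i)
      = (∏ i ∈ Finset.range m, Fintype.card F ^ i) *
        ∏ i ∈ Finset.range m, (Fintype.card F ^ (2 * (d - i)) - 1) := by
    rw [← Finset.prod_mul_distrib]
    apply Finset.prod_congr rfl
    intro i hi
    have hi' : i < m := Finset.mem_range.mp hi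
    rw [Nat.mul_sub, mul_one, ← pow_add]
    congr 2
    omega
  rw [e1, e2] at h1
  have hpos : 0 < ∏ i ∈ Finset.range m, Fintype.card F ^ i :=
    Finset.prod_pos (fun i _ => pow_pos hq _)
  apply Nat.eq_of_mul_eq_mul_left hpos
  rw [← h1]
  ring

end StsCount

end Cfsg.Agent.Lib.helper17
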