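import Mathlib
import Cfsg.Agent.Lib.helper24.SroDefs
import Cfsg.Agent.Lib.helper63.SpTI7
import Cfsg.Agent.Lib.helper17.StsCNTBCore

/-!
# S5972 piece CNTB (helper17): `sts_count`
-/

set_option autoImplicit false
set_option linter.unusedSectionVars false
set_option linter.unusedVariables false

namespace Cfsg.Agent.Lib.helper24

open Module Cfsg.Agent.Lib.helper45 Cfsg.Agent.Lib.helper49

universe u

section stsgeneric

variable {F : Type u} [Field F] [Fintype F]

/-- Counting totally singular `m`-spaces through singular frames, given the count of CNTA as a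
hypothesis. -/
theorem sts_count {V : Type u} [AddCommGroup V] [Module F V] [FiniteDimensional F V]
    (Q : QuadraticForm F V) (d m : ℕ) (hmd : m ≤ d)
    (hA : ∀ U : Submodule F V, (∀ u ∈ U, Q u = 0) → finrank F U < m →
      Nat.card {v : V // Q v = 0 ∧ ∀ u ∈ U, QuadraticMap.polar Q u v = 0} =
        Fintype.card F ^ (2 * d - finrank F U)) :
    Nat.card {W : Submodule F V // finrank F W = m ∧ ∀ w ∈ W, Q w = 0} *
        ∏ j ∈ Finset.range m, (Fintype.card F ^ (m - j) - 1) =
      ∏ j ∈ Finset.range m, (Fintype.card F ^ (2 * (d - j)) - 1) :=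
  Cfsg.Agent.Lib.helper17.sts_count_core Q d m hmd hA

end stsgeneric

end Cfsg.Agent.Lib.helper24
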