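import Mathlib
import Cfsg.Agent.Lib.helper17.SymmForm

set_option autoImplicit false

namespace Cfsg.Agent.Lib.helper17

open Matrix

/-- Determinant of a symmetric block matrix with vanishing upper left block. -/
theorem det_fromBlocks_zero_left {F : Type*} [Field F] (m : ℕ) (A C : Matrix (Fin m) (Fin m) F) :
    (Matrix.fromBlocks 0 A Aᵀ C).det = (-1) ^ m * (A.det * A.det) := by
  have hJ : (Matrix.J (Fin m) F).det = 1 := SymplecticGroup.det_eq_one (SymplecticGroup.J_mem (Fin m) F)
  have hmul : Matrix.fromBlocks 0 A Aᵀ C * Matrix.J (Fin m) F = Matrix.fromBlocks A 0 C (-Aᵀ) := by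
    unfold Matrix.J
    rw [Matrix.fromBlocks_multiply]
    simp
  have h := congrArg Matrix.det hmul
  rw [Matrix.det_mul, hJ, mul_one, Matrix.det_fromBlocks_zero₁₂, Matrix.det_neg, Matrix.det_transpose,
    Fintype.card_fin] at h
  rw [h]
  ring

/-- If the sum of squares form on `F^(2m)` vanishes on a subspace of dimension `m`, then `(-1)^m` is a
square. -/
theorem isSquare_neg_one_pow_of_isotropic {F : Type*} [Field F] (h2 : (2 : F) ≠ 0) (m : ℕ)
    (W : Submodule F (Fin (2 * m) → F)) (hWm : Module.finrank F W = m)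
    (hW : ∀ w ∈ W, ∑ i, w i ^ 2 = 0) : IsSquare ((-1 : F) ^ m) := by
  classical
  have hiso : ∀ w ∈ W, ∀ w' ∈ W, w ⬝ᵥ w' = 0 := by
    intro w hw w' hw'
    have h := hW (w + w') (W.add_mem hw hw')
    have e : ∑ i, (w + w') i ^ 2 = ∑ i, w i ^ 2 + 2 * (w ⬝ᵥ w') + ∑ i, w' i ^ 2 := by
      simp only [dotProduct, Pi.add_apply, Finset.mul_sum, ← Finset.sum_add_distrib]
      apply Finset.sum_congr rfl
      intro i _
      ring
    rw [e, hW w hw, hW w' hw'] at h
    have : (2 : F) * (w ⬝ᵥ w') = 0 := by linear_combination h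
    exact (mul_eq_zero.mp this).resolve_left h2
  obtain ⟨W', hc⟩ := Submodule.exists_isCompl W
  have hdim : Module.finrank F W' = m := by
    have := Submodule.finrank_add_eq_of_isCompl hc
    rw [hWm, Module.finrank_fin_fun] at this
    omega
  let b₁ : Module.Basis (Fin m) F W := Module.finBasisOfFinrankEq F W hWm
  let b₂ : Module.Basis (Fin m) F W' := Module.finBasisOfFinrankEq F W' hdim
  let c : Module.Basis (Fin m ⊕ Fin m) F (Fin (2 * m) → F) :=
    (b₁.prod b₂).map (Submodule.prodEquivOfIsCompl W W' hc)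
  have hc_inl : ∀ i, c (Sum.inl i) ∈ W := by
    intro i
    have : c (Sum.inl i) = (b₁ i : Fin (2 * m) → F) := by
      simp [c, Submodule.coe_prodEquivOfIsCompl']
    rw [this]
    exact (b₁ i).2
  let e : Fin (2 * m) ≃ Fin m ⊕ Fin m := (finCongr (two_mul m)).trans finSumFinEquiv.symm
  let P : Matrix (Fin m ⊕ Fin m) (Fin m ⊕ Fin m) F := Matrix.of (fun j k => c j (e.symm k))
  let G : Matrix (Fin m ⊕ Fin m) (Fin m ⊕ Fin m) F := Matrix.of (fun j j' => c j ⬝ᵥ c j')
  have hG : G = P * Pᵀ := by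
    ext j j'
    simp only [G, P, Matrix.mul_apply, Matrix.of_apply, Matrix.transpose_apply, dotProduct]
    exact (Equiv.sum_comp e.symm (fun i => c j i * c j' i)).symm
  have hGdet : G.det ≠ 0 := by
    have hB : (Matrix.toBilin' (1 : Matrix (Fin (2 * m)) (Fin (2 * m)) F)).Nondegenerate :=
      LinearMap.BilinForm.nondegenerate_toBilin'_iff_det_ne_zero.mpr (by simp)
    have h := (LinearMap.BilinForm.nondegenerate_iff_det_ne_zero c).mp hB
    have hGeq : G = LinearMap.BilinForm.toMatrix c (Matrix.toBilin' (1 : Matrix (Fin (2 * m)) (Fin (2 * m)) F)) := by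
      ext j j'
      simp [G, LinearMap.BilinForm.toMatrix_apply, Matrix.toBilin'_apply']
    rw [hGeq]
    exact h
  have hblocks : G = Matrix.fromBlocks 0 G.toBlocks₁₂ G.toBlocks₁₂ᵀ G.toBlocks₂₂ := by
    conv_lhs => rw [← Matrix.fromBlocks_toBlocks G]
    congr 1
    · ext i j
      simp only [Matrix.toBlocks₁₁, Matrix.of_apply, G, Matrix.zero_apply]
      exact hiso _ (hc_inl i) _ (hc_inl j)
    · ext i j
      simp only [Matrix.toBlocks₂₁, Matrix.toBlocks₁₂, Matrix.of_apply, G, Matrix.transpose_apply]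
      exact dotProduct_comm _ _
  have hdet : P.det * P.det = (-1) ^ m * (G.toBlocks₁₂.det * G.toBlocks₁₂.det) := by
    rw [← det_fromBlocks_zero_left m G.toBlocks₁₂ G.toBlocks₂₂, ← hblocks, hG, Matrix.det_mul,
      Matrix.det_transpose]
  have hA : G.toBlocks₁₂.det ≠ 0 := by
    intro h0
    apply hGdet
    rw [hG, Matrix.det_mul, Matrix.det_transpose, hdet, h0]
    simp
  refine ⟨P.det / G.toBlocks₁₂.det, ?_⟩
  field_simp
  linear_combination -hdet

end Cfsg.Agent.Lib.helper17
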