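import Mathlib
import Cfsg.Agent.Lib.helper17.SumSq

set_option autoImplicit false

namespace Cfsg.Agent.Lib.helper17

open Matrix

/-- If there is an "anti-isometry" `T` of the sum of squares form on `F^ι` with `|ι| = m`, then the sum
of squares form on `F^(2m)` vanishes on a subspace of dimension `m` (the graph of `T`). -/
theorem exists_isotropic_of_antiisometry {F : Type*} [Field F] {ι : Type} [Fintype ι] [DecidableEq ι]
    (m : ℕ) (hι : Fintype.card ι = m) (T : (ι → F) →ₗ[F] (ι → F))
    (hT : ∀ x, ∑ i, T x i ^ 2 = - ∑ i, x i ^ 2) :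
    ∃ W : Submodule F (Fin (2 * m) → F), Module.finrank F W = m ∧ ∀ w ∈ W, ∑ i, w i ^ 2 = 0 := by
  classical
  have hcard : Fintype.card (Fin (2 * m)) = Fintype.card (ι ⊕ ι) := by
    rw [Fintype.card_fin, Fintype.card_sum, hι, two_mul]
  let e : Fin (2 * m) ≃ ι ⊕ ι := Fintype.equivOfCardEq hcard
  let ψ : (ι → F) →ₗ[F] (Fin (2 * m) → F) :=
    { toFun := fun x i => Sum.elim x (T x) (e i)
      map_add' := by
        intro x y
        funext i
        show Sum.elim (x + y) (T (x + y)) (e i) = Sum.elim x (T x) (e i) + Sum.elim y (T y) (e i)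
        generalize e i = s
        rcases s with j | j <;> simp
      map_smul' := by
        intro a x
        funext i
        show Sum.elim (a • x) (T (a • x)) (e i) = a • Sum.elim x (T x) (e i)
        generalize e i = s
        rcases s with j | j <;> simp }
  have hψ : ∀ x i, ψ x i = Sum.elim x (T x) (e i) := fun x i => rfl
  have hinj : Function.Injective ψ := by
    intro x y hxy
    funext j
    have := congrFun hxy (e.symm (Sum.inl j))
    simpa [hψ] using this
  refine ⟨LinearMap.range ψ, ?_, ?_⟩
  · rw [LinearMap.finrank_range_of_inj hinj, Module.finrank_pi, hι]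
  · rintro _ ⟨x, rfl⟩
    simp only [hψ]
    rw [Equiv.sum_comp e (fun s => Sum.elim x (T x) s ^ 2), Fintype.sum_sum_type]
    simp only [Sum.elim_inl, Sum.elim_inr, hT]
    ring

/-- The sum of squares form on `F^(2m)` has an `m`-dimensional totally singular subspace when `-1` is a
square. -/
theorem exists_isotropic_of_isSquare_neg_one {F : Type*} [Field F] (m : ℕ)
    (h : IsSquare (-1 : F)) :
    ∃ W : Submodule F (Fin (2 * m) → F), Module.finrank F W = m ∧ ∀ w ∈ W, ∑ i, w i ^ 2 = 0 := by
  obtain ⟨r, hr⟩ := h
  refine exists_isotropic_of_antiisometry (ι := Fin m) m (Fintype.card_fin m) (r • LinearMap.id) ?_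
  intro x
  simp only [LinearMap.smul_apply, LinearMap.id_coe, id_eq, Pi.smul_apply, smul_eq_mul, mul_pow]
  rw [← Finset.mul_sum, pow_two, ← hr]
  ring

/-- The sum of squares form on `F^(2m)` has an `m`-dimensional totally singular subspace when `m` is
even and `-1` is a sum of two squares. -/
theorem exists_isotropic_of_even {F : Type*} [Field F] (m : ℕ) (hm : Even m) (a b : F)
    (hab : a ^ 2 + b ^ 2 = -1) :
    ∃ W : Submodule F (Fin (2 * m) → F), Module.finrank F W = m ∧ ∀ w ∈ W, ∑ i, w i ^ 2 = 0 := by
  obtain ⟨k, rfl⟩ := hm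
  let T : (Fin k ⊕ Fin k → F) →ₗ[F] (Fin k ⊕ Fin k → F) :=
    { toFun := fun x => Sum.elim (fun j => a * x (Sum.inl j) + b * x (Sum.inr j))
        (fun j => b * x (Sum.inl j) - a * x (Sum.inr j))
      map_add' := by
        intro x y
        funext s
        rcases s with j | j <;> simp <;> ring
      map_smul' := by
        intro c x
        funext s
        rcases s with j | j <;> simp <;> ring }
  refine exists_isotropic_of_antiisometry (ι := Fin k ⊕ Fin k) (k + k) (by simp) T ?_
  intro x
  simp only [Fintype.sum_sum_type]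
  have h1 : ∀ j, T x (Sum.inl j) = a * x (Sum.inl j) + b * x (Sum.inr j) := fun j => rfl
  have h2 : ∀ j, T x (Sum.inr j) = b * x (Sum.inl j) - a * x (Sum.inr j) := fun j => rfl
  simp only [h1, h2]
  rw [← Finset.sum_add_distrib, ← Finset.sum_add_distrib, ← Finset.sum_neg_distrib]
  apply Finset.sum_congr rfl
  intro j _
  linear_combination (x (Sum.inl j) ^ 2 + x (Sum.inr j) ^ 2) * hab

end Cfsg.Agent.Lib.helper17
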