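import Mathlib
import Cfsg.Agent.Lib.helper17.U42Core

/-!
`PSU_4(2) ≅ PSp_4(3)` for the concrete fields, second part: the homomorphism and its bijectivity.
-/

set_option autoImplicit false

namespace Cfsg.Agent.Lib.helper17

open Cfsg Matrix
open Cfsg.Agent.Lib.helper35.SpF (F4)

theorem u42_scalar_of_eigen {K : Type*} [Field K] {n : Type*} [Fintype n] [DecidableEq n]
    (B : Matrix n n K) (h : ∀ x : n → K, x ≠ 0 → ∃ d : K, B *ᵥ x = d • x) :
    ∃ d : K, B = d • (1 : Matrix n n K) := by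
  classical
  rcases isEmpty_or_nonempty n with hn | hn
  · exact ⟨0, by ext a; exact isEmptyElim a⟩
  obtain ⟨a0⟩ := hn
  have hs : ∀ a : n, (Pi.single a (1 : K) : n → K) ≠ 0 := fun a h0 => by
    have h1 := congrFun h0 a
    simp at h1
  choose d hd using fun a => h (Pi.single a 1) (hs a)
  have hcol : ∀ a b, B b a = d a * (if b = a then 1 else 0) := by
    intro a b
    have h1 := congrFun (hd a) b
    rw [Matrix.mulVec_single_one] at h1
    simpa [Pi.single_apply] using h1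
  have heq : ∀ a b, a ≠ b → d a = d b := by
    intro a b hab
    have hne : (Pi.single a (1 : K) + Pi.single b 1 : n → K) ≠ 0 := by
      intro h0
      have h1 := congrFun h0 a
      simp [Pi.single_apply, hab] at h1
    obtain ⟨e, he⟩ := h _ hne
    rw [Matrix.mulVec_add, hd a, hd b] at he
    have h1 := congrFun he a
    have h2 := congrFun he b
    simp [Pi.single_apply, hab, hab.symm] at h1 h2
    rw [h1, h2]
  refine ⟨d a0, ?_⟩
  ext b a
  rw [hcol a b, Matrix.smul_apply, Matrix.one_apply, smul_eq_mul]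
  by_cases hba : b = a
  · subst hba
    by_cases hb : b = a0
    · subst hb
      rfl
    · rw [heq b a0 hb]
  · simp [hba]

theorem u42_Z1 (h : ↥(Matrix.symplecticGroup (Fin 2) (ZMod 3)))
    (hh : ((1 : ↥(SU 4 F4 2)), h) ∈ u42S) :
    h ∈ Subgroup.center ↥(Matrix.symplecticGroup (Fin 2) (ZMod 3)) := by
  have hfix : ∀ i, u42Rel u42P2 (u42m2 h) i i := fun i =>
    hh i i ⟨1, one_ne_zero, by rw [one_smul]; exact Matrix.one_mulVec _⟩
  have heig : ∀ x : Fin 2 ⊕ Fin 2 → ZMod 3, x ≠ 0 → ∃ d : ZMod 3, u42m2 h *ᵥ x = d • x := by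
    intro x hx
    have hx' : x = Sum.elim ![x (Sum.inl 0), x (Sum.inl 1)] ![x (Sum.inr 0), x (Sum.inr 1)] := by
      funext a
      rcases a with a | a <;> fin_cases a <;> rfl
    have hx2 : (Sum.elim ![x (Sum.inl 0), x (Sum.inl 1)] ![x (Sum.inr 0), x (Sum.inr 1)] :
        Fin 2 ⊕ Fin 2 → ZMod 3) ≠ 0 := by
      rw [← hx']
      exact hx
    obtain ⟨j, e, he, hj⟩ := u42_P2_cover _ _ _ _ hx2
    obtain ⟨d, hd, hdj⟩ := hfix j
    refine ⟨d, ?_⟩
    have hxj : x = e • u42P2 j := hx'.trans hj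
    rw [hxj, Matrix.mulVec_smul, hdj, smul_comm]
  obtain ⟨d, hd⟩ := u42_scalar_of_eigen _ heig
  rw [Subgroup.mem_center_iff]
  intro g
  apply Subtype.ext
  show u42m2 g * u42m2 h = u42m2 h * u42m2 g
  rw [hd]
  simp

theorem u42_center_cases (h : ↥(Matrix.symplecticGroup (Fin 2) (ZMod 3)))
    (hh : h ∈ Subgroup.center ↥(Matrix.symplecticGroup (Fin 2) (ZMod 3))) :
    u42m2 h = 1 ∨ u42m2 h = -1 := by
  have hcard := Cfsg.Agent.S0246.result (F := ZMod 3) (q := 3) (by simp [ZMod.card]) 2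
    (by norm_num)
  have hcard2 : Nat.card (Subgroup.center ↥(Matrix.symplecticGroup (Fin 2) (ZMod 3))) = 2 := by
    rw [hcard]
    rfl
  obtain ⟨z, hz⟩ : ∃ z : ↥(Matrix.symplecticGroup (Fin 2) (ZMod 3)), u42m2 z = -1 :=
    ⟨⟨-1, SymplecticGroup.neg_mem (Submonoid.one_mem _)⟩, rfl⟩
  have hzc : z ∈ Subgroup.center ↥(Matrix.symplecticGroup (Fin 2) (ZMod 3)) := by
    rw [Subgroup.mem_center_iff]
    intro g
    apply Subtype.ext
    show u42m2 g * u42m2 z = u42m2 z * u42m2 g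
    rw [hz]
    simp
  have hz1 : (⟨z, hzc⟩ : Subgroup.center ↥(Matrix.symplecticGroup (Fin 2) (ZMod 3))) ≠ 1 := by
    intro h0
    have h1 : u42m2 z = 1 := congrArg (fun t : Subgroup.center
      ↥(Matrix.symplecticGroup (Fin 2) (ZMod 3)) => u42m2 t.1) h0
    rw [hz] at h1
    have h2 := congrFun (congrFun h1 (Sum.inl 0)) (Sum.inl 0)
    revert h2
    simp
    decide
  obtain ⟨y, hy, huniq⟩ := (Nat.card_eq_two_iff'
    (1 : Subgroup.center ↥(Matrix.symplecticGroup (Fin 2) (ZMod 3)))).mp hcard2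
  by_cases h1 : (⟨h, hh⟩ : Subgroup.center ↥(Matrix.symplecticGroup (Fin 2) (ZMod 3))) = 1
  · left
    exact congrArg (fun t : Subgroup.center
      ↥(Matrix.symplecticGroup (Fin 2) (ZMod 3)) => u42m2 t.1) h1
  · right
    have e1 := huniq ⟨h, hh⟩ h1
    have e2 := huniq ⟨z, hzc⟩ hz1
    have e3 : (⟨h, hh⟩ : Subgroup.center ↥(Matrix.symplecticGroup (Fin 2) (ZMod 3))) =
        ⟨z, hzc⟩ := e1.trans e2.symm
    have e4 : u42m2 h = u42m2 z := congrArg (fun t : Subgroup.center
      ↥(Matrix.symplecticGroup (Fin 2) (ZMod 3)) => u42m2 t.1) e3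
    rw [e4, hz]

theorem u42_eq_one (g : ↥(SU 4 F4 2)) (hfix : ∀ i, u42Rel u42P1 (u42m1 g) i i) : g = 1 := by
  have heig : ∀ x : Fin 4 → F4, hermForm 4 F4 2 x x ≠ 0 → ∃ d : F4, u42m1 g *ᵥ x = d • x := by
    intro x hx
    have hx2 : hermForm 4 F4 2 ![x 0, x 1, x 2, x 3] ![x 0, x 1, x 2, x 3] ≠ 0 := by
      rw [← u42_vec4 x]
      exact hx
    obtain ⟨j, e, he, hj⟩ := u42_P1_cover _ _ _ _ hx2
    obtain ⟨d, hd, hdj⟩ := hfix j
    have hxj : x = e • u42P1 j := (u42_vec4 x).trans hj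
    exact ⟨d, by rw [hxj, Matrix.mulVec_smul, hdj, smul_comm]⟩
  have hs : ∀ a : Fin 4, hermForm 4 F4 2 (Pi.single a (1 : F4)) (Pi.single a 1) ≠ 0 := by
    decide
  choose d hd using fun a => heig _ (hs a)
  have hcol : ∀ a b, u42m1 g b a = d a * (if b = a then 1 else 0) := by
    intro a b
    have h1 := congrFun (hd a) b
    rw [Matrix.mulVec_single_one] at h1
    simpa [Pi.single_apply] using h1
  have hmv : ∀ (u : Fin 4 → F4) (b : Fin 4), (u42m1 g *ᵥ u) b = d b * u b := by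
    intro u b
    simp only [Matrix.mulVec, dotProduct]
    rw [Finset.sum_eq_single b]
    · rw [hcol b b]
      simp
    · intro a _ hab
      rw [hcol a b]
      simp [Ne.symm hab]
    · simp
  obtain ⟨e1, he1⟩ := heig ![1, 1, 1, 0] (by decide)
  obtain ⟨e2, he2⟩ := heig ![0, 1, 1, 1] (by decide)
  have q0 := congrFun he1 0
  have q1 := congrFun he1 1
  have q2 := congrFun he1 2
  have r1 := congrFun he2 1
  have r3 := congrFun he2 3
  rw [hmv] at q0 q1 q2 r1 r3
  simp at q0 q1 q2 r1 r3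
  have hd1 : d 1 = d 0 := by rw [q1, q0]
  have hd2 : d 2 = d 0 := by rw [q2, q0]
  have hd3 : d 3 = d 0 := by rw [r3, ← r1, q1, q0]
  have hdiag : u42m1 g = Matrix.diagonal d := by
    ext b a
    rw [hcol a b, Matrix.diagonal_apply]
    by_cases hba : b = a
    · subst hba
      simp
    · simp [hba]
  have hdet : (u42m1 g).det = 1 := (g : Matrix.SpecialLinearGroup (Fin 4) F4).2
  rw [hdiag, Matrix.det_diagonal, Fin.prod_univ_four, hd1, hd2, hd3] at hdet
  have h1 : d 0 = 1 := (by decide : ∀ e : F4, e * e * e * e = 1 → e = 1) _ hdet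
  apply Subtype.ext
  apply Subtype.ext
  show u42m1 g = 1
  rw [hdiag]
  ext b a
  rw [Matrix.diagonal_apply, Matrix.one_apply]
  by_cases hba : b = a
  · subst hba
    fin_cases b <;> simp [hd1, hd2, hd3, h1]
  · simp [hba]

theorem u42_card1 : Nat.card ↥(SU 4 F4 2) = 25920 := by
  have h := Cfsg.Agent.Lib.helper7.card_SU (F := F4) (q := 2) u42_card_F4 4 (by norm_num)
  norm_num [Finset.prod_range_succ, Nat.even_iff] at h
  omega

theorem u42_card2 : Nat.card (PSp 2 (ZMod 3)) = 25920 := by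
  have h := Cfsg.Agent.S0245.result (F := ZMod 3) (q := 3) (by simp [ZMod.card]) 2
  have hc := Cfsg.Agent.S0246.result (F := ZMod 3) (q := 3) (by simp [ZMod.card]) 2
    (by norm_num)
  have hq := Subgroup.card_eq_card_quotient_mul_card_subgroup
    (Subgroup.center ↥(Matrix.symplecticGroup (Fin 2) (ZMod 3)))
  rw [h, hc] at hq
  norm_num [Finset.prod_range_succ] at hq
  show Nat.card (↥(Matrix.symplecticGroup (Fin 2) (ZMod 3)) ⧸
    Subgroup.center ↥(Matrix.symplecticGroup (Fin 2) (ZMod 3))) = 25920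
  omega

theorem u42_main : Nonempty (↥(SU 4 F4 2) ≃* PSp 2 (ZMod 3)) := by
  classical
  choose f hf using u42_fst_top
  have hmul : ∀ a b : ↥(SU 4 F4 2),
      (QuotientGroup.mk (f (a * b)) : PSp 2 (ZMod 3)) =
        QuotientGroup.mk (f a) * QuotientGroup.mk (f b) := by
    intro a b
    rw [← QuotientGroup.mk_mul, QuotientGroup.eq]
    apply u42_Z1
    have h1 : (a * b, f a * f b) ∈ u42S := u42S.mul_mem (hf a) (hf b)
    have h2 := u42S.mul_mem (u42S.inv_mem (hf (a * b))) h1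
    have h3 : ((a * b, f (a * b)))⁻¹ * (a * b, f a * f b) =
        ((1 : ↥(SU 4 F4 2)), (f (a * b))⁻¹ * (f a * f b)) := by
      ext1
      · simp
      · simp
    rw [h3] at h2
    exact h2
  let phi : ↥(SU 4 F4 2) →* PSp 2 (ZMod 3) :=
    MonoidHom.mk' (fun a => QuotientGroup.mk (f a)) hmul
  have hinj : Function.Injective phi := by
    rw [injective_iff_map_eq_one]
    intro a ha
    have hc : f a ∈ Subgroup.center ↥(Matrix.symplecticGroup (Fin 2) (ZMod 3)) :=
      (QuotientGroup.eq_one_iff _).mp ha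
    apply u42_eq_one
    intro i
    obtain ⟨j, hj⟩ := u42_exists a i
    obtain ⟨dd, hdd, h3⟩ := hf a i j hj
    have h3' : u42m2 (f a) *ᵥ u42P2 i = dd • u42P2 j := h3
    rcases u42_center_cases _ hc with h1 | h1
    · rw [h1, Matrix.one_mulVec] at h3'
      have hij := u42_P2_irr i j dd hdd h3'
      subst hij
      exact hj
    · rw [h1, Matrix.neg_mulVec, Matrix.one_mulVec] at h3'
      have h4 : u42P2 i = (-dd) • u42P2 j := by
        rw [neg_smul, ← h3', neg_neg]
      have hij := u42_P2_irr i j (-dd) (neg_ne_zero.mpr hdd) h4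
      subst hij
      exact hj
  have hbij : Function.Bijective phi :=
    hinj.bijective_of_nat_card_le (by rw [u42_card1, u42_card2])
  exact ⟨MulEquiv.ofBijective phi hbij⟩

theorem u42_psu_main : Nonempty (PSU 4 F4 2 ≃* PSp 2 (ZMod 3)) := by
  obtain ⟨e⟩ := u42_main
  have hc := Cfsg.Agent.Lib.helper7.card_center_SU (F := F4) (q := 2) u42_card_F4 4
    (by norm_num)
  have hbot : Subgroup.center ↥(SU 4 F4 2) = ⊥ := Subgroup.eq_bot_of_card_eq _ (by rw [hc]; rfl)
  exact ⟨((QuotientGroup.quotientMulEquivOfEq hbot).trans QuotientGroup.quotientBot).trans e⟩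

end Cfsg.Agent.Lib.helper17
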