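import Cfsg.Agent.Lib.helper17.UFrames

/-!
Arithmetic for the order of the parabolic subgroups of the unitary groups.
-/

set_option autoImplicit false

namespace Cfsg.Agent.Lib.helper17

open Cfsg

/-- Closed form of the number of isotropic vectors, minus one. -/
theorem hermCount_two (q : ℕ) (hq : 2 ≤ q) (m : ℕ) :
    (Cfsg.Agent.Lib.helper7.hermCount q (m + 2)).2 =
      (if Even m then q ^ (m + 1) + 1 else q ^ (m + 1) - 1) *
        (if Even (m + 1) then q ^ (m + 2) + 1 else q ^ (m + 2) - 1) + 1 := by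
  have h := (Cfsg.Agent.Lib.helper7.hermCount_closed q hq (m + 1)).2
  have h1 : 1 ≤ q ^ (m + 1) := Nat.one_le_pow _ _ (by omega)
  have h2 : 1 ≤ q ^ (m + 2) := Nat.one_le_pow _ _ (by omega)
  rcases Nat.even_or_odd m with he | ho
  · have hne : ¬ Even (m + 1) := by
      rw [Nat.even_add_one]
      exact not_not.mpr he
    rw [if_pos he, if_neg hne]
    have hs : ((-1 : ℤ)) ^ (m + 1) = -1 := by rw [pow_succ, he.neg_one_pow]; ring
    rw [hs] at h
    apply Nat.cast_injective (R := ℤ)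
    rw [h]
    push_cast [Nat.cast_sub h2]
    ring
  · have he : Even (m + 1) := by
      rw [Nat.even_add_one]
      exact Nat.not_even_iff_odd.mpr ho
    rw [if_neg (Nat.not_even_iff_odd.mpr ho), if_pos he]
    have hs : ((-1 : ℤ)) ^ (m + 1) = 1 := he.neg_one_pow
    rw [hs] at h
    apply Nat.cast_injective (R := ℤ)
    rw [h]
    push_cast [Nat.cast_sub h1]
    ring

/-- The recursion `|GU_{m+2}| = q^(2m+1) (N₀(m+2) - 1) |GU_m|` for the closed formula. -/
theorem guOrd_rec (q : ℕ) (hq : 2 ≤ q) (m : ℕ) :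
    q ^ ((m + 2) * (m + 2 - 1) / 2) *
        ∏ i ∈ Finset.range (m + 2), (if Even i then q ^ (i + 1) + 1 else q ^ (i + 1) - 1) =
      q ^ (2 * m + 1) * ((Cfsg.Agent.Lib.helper7.hermCount q (m + 2)).2 - 1) *
        (q ^ (m * (m - 1) / 2) *
          ∏ i ∈ Finset.range m, (if Even i then q ^ (i + 1) + 1 else q ^ (i + 1) - 1)) := by
  rw [hermCount_two q hq m, Nat.add_sub_cancel, Finset.prod_range_succ, Finset.prod_range_succ]
  have e : (m + 2) * (m + 2 - 1) / 2 = m * (m - 1) / 2 + (2 * m + 1) := by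
    have h1 : (m + 2) * (m + 2 - 1) = m * (m - 1) + 2 * (2 * m + 1) := by
      rcases m with _ | m
      · rfl
      · have a1 : m + 1 + 2 - 1 = m + 2 := by omega
        have a2 : m + 1 - 1 = m := by omega
        rw [a1, a2]
        ring
    rw [h1, Nat.add_mul_div_left _ _ (by norm_num : 0 < 2)]
  rw [e, pow_add]
  ring

/-- The main arithmetic identity, by induction on `k`. -/
theorem gu_arith (q : ℕ) (U N₀ : ℕ → ℕ)
    (hU : ∀ m, U (m + 2) = q ^ (2 * m + 1) * (N₀ (m + 2) - 1) * U m) (n k : ℕ) (hk : 2 * k ≤ n) :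
    U n = (∏ j ∈ Finset.range k, (q ^ 2) ^ j * (N₀ (n - 2 * j) - 1)) * q ^ (k * (2 * n - 3 * k)) *
      U (n - 2 * k) := by
  induction k with
  | zero => simp
  | succ k ih =>
    have ih' := ih (by omega)
    obtain ⟨m, rfl⟩ : ∃ m, n = 2 * k + 2 + m := ⟨n - (2 * k + 2), by omega⟩
    have e1 : 2 * k + 2 + m - 2 * k = m + 2 := by omega
    have e2 : 2 * k + 2 + m - 2 * (k + 1) = m := by omega
    have e3 : 2 * (2 * k + 2 + m) - 3 * k = k + 4 + 2 * m := by omega
    have e4 : 2 * (2 * k + 2 + m) - 3 * (k + 1) = k + 1 + 2 * m := by omega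
    rw [e1, e3, hU m] at ih'
    rw [Finset.prod_range_succ, e1, e2, e4, ih']
    have e5 : q ^ (k * (k + 4 + 2 * m)) * q ^ (2 * m + 1) =
        (q ^ 2) ^ k * q ^ ((k + 1) * (k + 1 + 2 * m)) := by
      rw [← pow_add, ← pow_mul, ← pow_add]
      congr 1
      ring
    calc (∏ j ∈ Finset.range k, (q ^ 2) ^ j * (N₀ (2 * k + 2 + m - 2 * j) - 1)) *
          q ^ (k * (k + 4 + 2 * m)) * (q ^ (2 * m + 1) * (N₀ (m + 2) - 1) * U m)
        = (∏ j ∈ Finset.range k, (q ^ 2) ^ j * (N₀ (2 * k + 2 + m - 2 * j) - 1)) *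
          (q ^ (k * (k + 4 + 2 * m)) * q ^ (2 * m + 1)) * (N₀ (m + 2) - 1) * U m := by ring
      _ = _ := by rw [e5]; ring

end Cfsg.Agent.Lib.helper17
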