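import Cfsg.Agent.Lib.helper17.GUWitt

/-!
Isotropic frames of the standard unitary space `(F^n, hermForm)`, `|F| = q^2`: the number of isotropic
`k`-frames (`2k ≤ n`) is `∏_{j<k} q^(2j) (N₀(n-2j) - 1)`, where `N₀(d) = (hermCount q d).2` is the
number of isotropic vectors in dimension `d`.
-/

set_option autoImplicit false

namespace Cfsg.Agent.Lib.helper17

open Cfsg Matrix

section
variable {F : Type*} [Field F]

/-- Isotropic frames: linearly independent families of pairwise orthogonal isotropic vectors. -/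
def UFrame (n : ℕ) (F : Type*) [Field F] (q k : ℕ) : Set (Fin k → (Fin n → F)) :=
  {x | LinearIndependent F x ∧ ∀ i j, hermForm n F q (x i) (x j) = 0}

/-- The one-vector extensions of a frame. -/
def UFiber (n q : ℕ) {k : ℕ} (x : Fin k → (Fin n → F)) : Set (Fin n → F) :=
  {v | v ∉ Submodule.span F (Set.range x) ∧ (∀ i, hermForm n F q (x i) v = 0) ∧
    hermForm n F q v v = 0}

theorem mem_UFrame (n q k : ℕ) (x : Fin k → (Fin n → F)) :
    x ∈ UFrame n F q k ↔ LinearIndependent F x ∧ ∀ i j, hermForm n F q (x i) (x j) = 0 := Iff.rfl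

theorem mem_UFiber (n q : ℕ) {k : ℕ} (x : Fin k → (Fin n → F)) (v : Fin n → F) :
    v ∈ UFiber n q x ↔ v ∉ Submodule.span F (Set.range x) ∧ (∀ i, hermForm n F q (x i) v = 0) ∧
      hermForm n F q v v = 0 := Iff.rfl

theorem span_map_mulVec {n k : ℕ} (M : Matrix (Fin n) (Fin n) F) (x : Fin k → (Fin n → F)) :
    Submodule.span F (Set.range (fun i => M *ᵥ x i)) =
      (Submodule.span F (Set.range x)).map (Matrix.toLin' M) := by
  rw [Submodule.map_span, ← Set.range_comp]
  rfl

/-! ### Coordinates `Fin (j + j + d)` -/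

/-- Vectors of `F^(j+j+d)` from their three blocks. -/
def app3 {j d : ℕ} (p t : Fin j → F) (u : Fin d → F) : Fin (j + j + d) → F :=
  Fin.append (Fin.append p t) u

theorem app3_A {j d : ℕ} (p t : Fin j → F) (u : Fin d → F) (i : Fin j) :
    app3 p t u (Fin.castAdd d (Fin.castAdd j i)) = p i := by
  unfold app3
  rw [Fin.append_left, Fin.append_left]

theorem app3_B {j d : ℕ} (p t : Fin j → F) (u : Fin d → F) (i : Fin j) :
    app3 p t u (Fin.castAdd d (Fin.natAdd j i)) = t i := by
  unfold app3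
  rw [Fin.append_left, Fin.append_right]

theorem app3_C {j d : ℕ} (p t : Fin j → F) (u : Fin d → F) (l : Fin d) :
    app3 p t u (Fin.natAdd (j + j) l) = u l := by
  unfold app3
  rw [Fin.append_right]

theorem ext3 {j d : ℕ} {v w : Fin (j + j + d) → F}
    (hA : ∀ i : Fin j, v (Fin.castAdd d (Fin.castAdd j i)) = w (Fin.castAdd d (Fin.castAdd j i)))
    (hB : ∀ i : Fin j, v (Fin.castAdd d (Fin.natAdd j i)) = w (Fin.castAdd d (Fin.natAdd j i)))
    (hC : ∀ l : Fin d, v (Fin.natAdd (j + j) l) = w (Fin.natAdd (j + j) l)) : v = w := by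
  funext s
  refine Fin.addCases (fun s' => ?_) (fun l => hC l) s
  exact Fin.addCases (fun i => hA i) (fun i => hB i) s'

theorem app3_surj {j d : ℕ} (v : Fin (j + j + d) → F) : ∃ p t u, v = app3 p t u :=
  ⟨fun i => v (Fin.castAdd d (Fin.castAdd j i)), fun i => v (Fin.castAdd d (Fin.natAdd j i)),
    fun l => v (Fin.natAdd (j + j) l),
    ext3 (fun i => by rw [app3_A]) (fun i => by rw [app3_B]) (fun l => by rw [app3_C])⟩

theorem app3_inj {j d : ℕ} {p t p' t' : Fin j → F} {u u' : Fin d → F}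
    (h : app3 p t u = app3 p' t' u') : p = p' ∧ t = t' ∧ u = u' := by
  refine ⟨funext fun i => ?_, funext fun i => ?_, funext fun l => ?_⟩
  · have := congrFun h (Fin.castAdd d (Fin.castAdd j i))
    rwa [app3_A, app3_A] at this
  · have := congrFun h (Fin.castAdd d (Fin.natAdd j i))
    rwa [app3_B, app3_B] at this
  · have := congrFun h (Fin.natAdd (j + j) l)
    rwa [app3_C, app3_C] at this

theorem hermForm_app3 {j d : ℕ} (q : ℕ) (p t p' t' : Fin j → F) (u u' : Fin d → F) :
    hermForm (j + j + d) F q (app3 p t u) (app3 p' t' u') =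
      ∑ i, p i * p' i ^ q + ∑ i, t i * t' i ^ q + ∑ l, u l * u' l ^ q := by
  unfold hermForm
  rw [Fin.sum_univ_add, Fin.sum_univ_add]
  simp only [app3_A, app3_B, app3_C]

/-- The standard isotropic frame `e_{a(i)} + ζ e_{b(i)}`, `ζ^(q+1) = -1`. -/
def stdU (j d : ℕ) (ζ : F) : Fin j → (Fin (j + j + d) → F) :=
  fun i => app3 (Pi.single i 1) (Pi.single i ζ) 0

theorem sum_smul_stdU (j d : ℕ) (ζ : F) (c : Fin j → F) :
    ∑ i, c i • stdU j d ζ i = app3 c (fun i => ζ * c i) 0 := by
  classical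
  apply ext3
  · intro i
    rw [app3_A, Finset.sum_apply]
    simp only [Pi.smul_apply, stdU, app3_A, smul_eq_mul, Pi.single_apply]
    simp
  · intro i
    rw [app3_B, Finset.sum_apply]
    simp only [Pi.smul_apply, stdU, app3_B, smul_eq_mul, Pi.single_apply]
    simp [mul_comm]
  · intro l
    rw [app3_C, Finset.sum_apply]
    simp only [Pi.smul_apply, stdU, app3_C, smul_eq_mul]
    simp

theorem stdU_linearIndependent (j d : ℕ) (ζ : F) : LinearIndependent F (stdU (F := F) j d ζ) := by
  rw [Fintype.linearIndependent_iff]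
  intro c hc i
  rw [sum_smul_stdU] at hc
  have := congrFun hc (Fin.castAdd d (Fin.castAdd j i))
  rw [app3_A] at this
  exact this

theorem span_stdU_C (j d : ℕ) (ζ : F) (v : Fin (j + j + d) → F)
    (hv : v ∈ Submodule.span F (Set.range (stdU j d ζ))) (l : Fin d) : v (Fin.natAdd (j + j) l) = 0 := by
  induction hv using Submodule.span_induction with
  | mem z hz =>
    obtain ⟨i, rfl⟩ := hz
    simp [stdU, app3_C]
  | zero => rfl
  | add a b _ _ ha hb => rw [Pi.add_apply, ha, hb, add_zero]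
  | smul a z _ hz => rw [Pi.smul_apply, hz, smul_zero]

theorem hermForm_stdU_left (j d q : ℕ) (ζ : F) (i : Fin j) (p t : Fin j → F) (u : Fin d → F) :
    hermForm (j + j + d) F q (stdU j d ζ i) (app3 p t u) = p i ^ q + ζ * t i ^ q := by
  classical
  unfold stdU
  rw [hermForm_app3]
  simp [Pi.single_apply]

end

section
variable {F : Type*} [Field F] [Fintype F] {q : ℕ} (hF : Fintype.card F = q ^ 2)
include hF

/-- Peeling off the first vector of an isotropic frame. -/
def uFrameEquiv (n k : ℕ) :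
    UFrame n F q (k + 1) ≃ Σ x : UFrame n F q k, UFiber n q x.1 where
  toFun s := ⟨⟨Fin.tail s.1, (linearIndependent_finSucc.mp s.2.1).1, fun i j => s.2.2 i.succ j.succ⟩,
    ⟨s.1 0, (linearIndependent_finSucc.mp s.2.1).2, fun i => s.2.2 i.succ 0, s.2.2 0 0⟩⟩
  invFun s := ⟨Fin.cons s.2.1 s.1.1, linearIndependent_finCons.mpr ⟨s.1.2.1, s.2.2.1⟩, by
    have hq2 := two_le_of_card_eq_sq hF
    intro i j
    refine Fin.cases ?_ (fun i' => ?_) i <;> refine Fin.cases ?_ (fun j' => ?_) j
    · simp only [Fin.cons_zero]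
      exact s.2.2.2.2
    · simp only [Fin.cons_zero, Fin.cons_succ]
      rw [← hermForm_conj hF, s.2.2.2.1 j', zero_pow (by omega)]
    · simp only [Fin.cons_zero, Fin.cons_succ]
      exact s.2.2.2.1 i'
    · simp only [Fin.cons_succ]
      exact s.1.2.2 i' j'⟩
  left_inv s := by
    apply Subtype.ext
    simp only [Fin.cons_self_tail]
  right_inv := fun ⟨⟨x, hx⟩, ⟨v, hv⟩⟩ => rfl

omit hF in
theorem card_uFiber_le (n : ℕ) (g : GU n F q) {k : ℕ} (x : Fin k → (Fin n → F)) :
    Nat.card (UFiber n q x) ≤ Nat.card (UFiber n q (fun i => guToMat n F q g *ᵥ x i)) := by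
  have hmem : ∀ v : UFiber n q x, guToMat n F q g *ᵥ v.1 ∈ UFiber n q (fun i => guToMat n F q g *ᵥ x i) := by
    intro v
    obtain ⟨h1, h2, h3⟩ := v.2
    refine ⟨?_, fun i => ?_, ?_⟩
    · rw [span_map_mulVec, Submodule.mem_map]
      rintro ⟨w, hw, hwv⟩
      have : w = v.1 := toMat_mulVec_injective (guToMat n F q) g hwv
      rw [this] at hw
      exact h1 hw
    · rw [guToMat_preserves]
      exact h2 i
    · rw [guToMat_preserves]
      exact h3
  apply Nat.card_le_card_of_injective (fun v : UFiber n q x =>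
    (⟨guToMat n F q g *ᵥ v.1, hmem v⟩ : UFiber n q (fun i => guToMat n F q g *ᵥ x i)))
  intro a b hab
  have h1 : guToMat n F q g *ᵥ a.1 = guToMat n F q g *ᵥ b.1 := congrArg Subtype.val hab
  exact Subtype.ext (toMat_mulVec_injective (guToMat n F q) g h1)

omit hF in
theorem card_uFiber_eq (n : ℕ) (g : GU n F q) {k : ℕ} (x : Fin k → (Fin n → F)) :
    Nat.card (UFiber n q (fun i => guToMat n F q g *ᵥ x i)) = Nat.card (UFiber n q x) := by
  apply le_antisymm
  · have h := card_uFiber_le n g⁻¹ (fun i => guToMat n F q g *ᵥ x i)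
    have e : (fun i => guToMat n F q g⁻¹ *ᵥ (guToMat n F q g *ᵥ x i)) = x := by
      funext i
      rw [Matrix.mulVec_mulVec, toMat_inv_mul, Matrix.one_mulVec]
    rw [e] at h
    exact h
  · exact card_uFiber_le n g x

theorem stdU_mem_UFrame (j d : ℕ) (ζ : F) (hζ : ζ * ζ ^ q = -1) :
    stdU j d ζ ∈ UFrame (j + j + d) F q j := by
  classical
  have hq2 := two_le_of_card_eq_sq hF
  refine ⟨stdU_linearIndependent j d ζ, fun i i' => ?_⟩
  have h := hermForm_stdU_left j d q ζ i (Pi.single i' 1) (Pi.single i' ζ) (0 : Fin d → F)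
  rw [show stdU j d ζ i' = app3 (Pi.single i' 1) (Pi.single i' ζ) 0 from rfl, h]
  by_cases hii : i = i'
  · subst hii
    simp only [Pi.single_eq_same, one_pow]
    linear_combination hζ
  · simp [Pi.single_apply, hii, zero_pow (by omega : q ≠ 0)]

/-- The fibre over the standard frame, in coordinates. -/
theorem uFiber_stdU (j d : ℕ) (ζ : F) (hζ : ζ * ζ ^ q = -1) :
    UFiber (j + j + d) q (stdU j d ζ) =
      (fun tu : (Fin j → F) × (Fin d → F) => app3 (fun i => -(ζ ^ q * tu.1 i)) tu.1 tu.2) ''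
        {tu | tu.2 ≠ 0 ∧ ∑ l, tu.2 l * tu.2 l ^ q = 0} := by
  have hq2 := two_le_of_card_eq_sq hF
  have hkey : ∀ t : Fin j → F, ∑ i, (-(ζ ^ q * t i)) * (-(ζ ^ q * t i)) ^ q + ∑ i, t i * t i ^ q = 0 := by
    intro t
    rw [← Finset.sum_add_distrib]
    apply Finset.sum_eq_zero
    intro i _
    rw [neg_pow_q hF, mul_pow, pow_q_pow_q hF]
    linear_combination (t i * t i ^ q) * hζ
  ext v
  obtain ⟨p, t, u, rfl⟩ := app3_surj v
  constructor
  · rintro ⟨hspan, horth, hiso⟩
    have hp : p = fun i => -(ζ ^ q * t i) := by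
      funext i
      have h1 := horth i
      rw [hermForm_stdU_left] at h1
      have h2 := congrArg (fun z => z ^ q) h1
      simp only [add_pow_q hF, mul_pow, pow_q_pow_q hF, zero_pow (by omega : q ≠ 0)] at h2
      linear_combination h2
    subst hp
    refine ⟨(t, u), ⟨?_, ?_⟩, rfl⟩
    · intro hu
      apply hspan
      have hu' : u = 0 := hu
      subst hu'
      have : app3 (fun i => -(ζ ^ q * t i)) t (0 : Fin d → F) =
          ∑ i, (-(ζ ^ q * t i)) • stdU j d ζ i := by
        rw [sum_smul_stdU]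
        congr 1
        funext i
        linear_combination (t i) * hζ
      rw [this]
      exact Submodule.sum_mem _ (fun i _ => Submodule.smul_mem _ _ (Submodule.subset_span ⟨i, rfl⟩))
    · rw [hermForm_app3] at hiso
      have := hkey t
      show ∑ l, u l * u l ^ q = 0
      linear_combination hiso - this
  · rintro ⟨⟨t', u'⟩, ⟨hu, hisoU⟩, hEq⟩
    obtain ⟨h1, h2, h3⟩ := app3_inj hEq
    simp only at h1 h2 h3 hu hisoU
    subst h2 h3 h1
    refine ⟨?_, fun i => ?_, ?_⟩
    · intro hmem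
      apply hu
      funext l
      have := span_stdU_C j d ζ _ hmem l
      rw [app3_C] at this
      exact this
    · rw [hermForm_stdU_left, neg_pow_q hF, mul_pow, pow_q_pow_q hF]
      ring
    · rw [hermForm_app3, hkey, hisoU, add_zero]

/-- The number of one-vector extensions of the standard isotropic frame. -/
theorem card_uFiber_stdU (j d : ℕ) (ζ : F) (hζ : ζ * ζ ^ q = -1) :
    Nat.card (UFiber (j + j + d) q (stdU j d ζ)) =
      (q ^ 2) ^ j * ((Cfsg.Agent.Lib.helper7.hermCount q d).2 - 1) := by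
  classical
  rw [uFiber_stdU hF j d ζ hζ]
  have hinj : Function.Injective
      (fun tu : (Fin j → F) × (Fin d → F) => app3 (fun i => -(ζ ^ q * tu.1 i)) tu.1 tu.2) := by
    intro a b hab
    obtain ⟨_, h2, h3⟩ := app3_inj hab
    exact Prod.ext h2 h3
  rw [Nat.card_image_of_injective hinj]
  have e : ↥{tu : (Fin j → F) × (Fin d → F) | tu.2 ≠ 0 ∧ ∑ l, tu.2 l * tu.2 l ^ q = 0} ≃
      (Fin j → F) × {u : Fin d → F // u ≠ 0 ∧ ∑ l, u l * u l ^ q = 0} :=
    { toFun := fun s => (s.1.1, ⟨s.1.2, s.2⟩)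
      invFun := fun s => ⟨(s.1, s.2.1), s.2.2⟩
      left_inv := fun s => rfl
      right_inv := fun s => rfl }
  rw [Nat.card_congr e, Nat.card_prod]
  congr 1
  · rw [Nat.card_eq_fintype_card, Fintype.card_fun, Fintype.card_fin, hF]
  · have h0 := Cfsg.Agent.Lib.helper7.card_herm_eq hF d (0 : F) (zero_pow (by
      have := two_le_of_card_eq_sq hF
      omega))
    rw [if_pos rfl] at h0
    rw [← h0]
    have hset : {u : Fin d → F | ∑ l, u l * u l ^ q = 0} =
        insert 0 {u : Fin d → F | u ≠ 0 ∧ ∑ l, u l * u l ^ q = 0} := by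
      ext u
      simp only [Set.mem_ofPred_eq, Set.mem_insert_iff]
      constructor
      · intro h
        by_cases hu : u = 0
        · left; exact hu
        · right; exact ⟨hu, h⟩
      · rintro (rfl | ⟨_, h⟩)
        · simp
        · exact h
    have hnot : (0 : Fin d → F) ∉ {u : Fin d → F | u ≠ 0 ∧ ∑ l, u l * u l ^ q = 0} := by
      intro h
      exact h.1 rfl
    have hc := Set.ncard_insert_of_notMem hnot (Set.toFinite _)
    rw [← hset] at hc
    change Nat.card ↥{u : Fin d → F | u ≠ 0 ∧ ∑ l, u l * u l ^ q = 0} =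
      Nat.card ↥{u : Fin d → F | ∑ l, u l * u l ^ q = 0} - 1
    rw [Nat.card_coe_set_eq, Nat.card_coe_set_eq, hc]
    omega

end

section
variable {F : Type*} [Field F] [Fintype F] {q : ℕ} (hF : Fintype.card F = q ^ 2)
include hF

/-- An element of norm `-1`. -/
theorem exists_norm_neg_one : ∃ ζ : F, ζ * ζ ^ q = -1 := by
  obtain ⟨σ, hσ, hne, hinv⟩ := exists_frob' hF
  obtain ⟨c, hc⟩ := norm_surj σ hne hinv (-1) (neg_ne_zero.mpr one_ne_zero) (by rw [map_neg, map_one])
  exact ⟨c, by rw [← hσ]; exact hc⟩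

/-- The number of one-vector extensions of any isotropic `j`-frame of `F^(2j+d)`. -/
theorem card_uFiber (j d : ℕ) (x : Fin j → (Fin (j + j + d) → F)) (hx : x ∈ UFrame (j + j + d) F q j) :
    Nat.card (UFiber (j + j + d) q x) =
      (q ^ 2) ^ j * ((Cfsg.Agent.Lib.helper7.hermCount q d).2 - 1) := by
  obtain ⟨ζ, hζ⟩ := exists_norm_neg_one hF
  have h0 := stdU_mem_UFrame hF j d ζ hζ
  obtain ⟨g, hg⟩ := gu_witt_family hF (j + j + d) (stdU j d ζ) x h0.1 hx.1
    (fun i i' => by rw [h0.2, hx.2])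
  have : x = fun i => guToMat (j + j + d) F q g *ᵥ stdU j d ζ i := funext (fun i => (hg i).symm)
  rw [this, card_uFiber_eq, card_uFiber_stdU hF j d ζ hζ]

/-- The number of isotropic `k`-frames of `F^n`, `2k ≤ n`. -/
theorem card_UFrame (n k : ℕ) (hk : 2 * k ≤ n) :
    Nat.card (UFrame n F q k) =
      ∏ j ∈ Finset.range k, (q ^ 2) ^ j * ((Cfsg.Agent.Lib.helper7.hermCount q (n - 2 * j)).2 - 1) := by
  classical
  induction k with
  | zero =>
    rw [Finset.prod_range_zero]
    have : Unique (UFrame n F q 0) :=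
      { default := ⟨fun i => i.elim0, linearIndependent_empty_type, fun i => i.elim0⟩
        uniq := fun s => Subtype.ext (funext fun i => i.elim0) }
    exact Nat.card_unique
  | succ k ih =>
    have ih' := ih (by omega)
    have : Finite (UFrame n F q k) := inferInstance
    have : Fintype (UFrame n F q k) := Fintype.ofFinite _
    rw [Nat.card_congr (uFrameEquiv hF n k), Nat.card_sigma, Finset.prod_range_succ, ← ih']
    obtain ⟨d, rfl⟩ : ∃ d, n = k + k + d := ⟨n - 2 * k, by omega⟩
    simp only [fun x : UFrame (k + k + d) F q k => card_uFiber hF k d x.1 x.2]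
    rw [Finset.sum_const, Finset.card_univ, smul_eq_mul, Nat.card_eq_fintype_card]
    have e : k + k + d - 2 * k = d := by omega
    rw [e]

end

end Cfsg.Agent.Lib.helper17
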