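import Cfsg.Agent.Lib.helper95.SuMax
import Cfsg.Agent.Lib.helper17.SpLag1
import Cfsg.Agent.Lib.helper17.HermForm

/-!
Pairs of complementary totally isotropic subspaces (`ULagPair`) of the unitary space: basic tools
for the maximality of their stabiliser in `SU_n(q)`.
-/

set_option autoImplicit false

namespace Cfsg.Agent.Lib.helper17

open Matrix Cfsg Cfsg.Geo Module Cfsg.Agent.Lib.helper95

section
variable {F : Type*} [Field F] [Fintype F] {q : ℕ} (hF : Fintype.card F = q ^ 2)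
include hF

theorem ulag_nondeg (n : ℕ) (x : Fin n → F) (hx : x ≠ 0) : ∃ w, hermForm n F q x w ≠ 0 := by
  obtain ⟨z, -, hz⟩ := herm_exists_perp_ne hF n ⊥ x (by simpa using hx)
  exact ⟨z, hz⟩

theorem ulag_uT_zero (n : ℕ) (v : Fin n → F) (hvv : hermForm n F q v v = 0) :
    uE n q v 0 0 = 1 := by
  apply gl_ext_mulVec
  intro x
  rw [uT_mulVec hF n v 0 hvv, zero_mul, zero_smul, add_zero, Units.val_one, Matrix.one_mulVec]

theorem ulag_uE_conj (n : ℕ) (g : GL (Fin n) F) (hg : g ∈ GU n F q) (v y : Fin n → F) (β : F)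
    (hvv : hermForm n F q v v = 0) (hyv : hermForm n F q y v = 0) :
    g * uE n q v y β * g⁻¹ =
      uE n q ((g : Matrix (Fin n) (Fin n) F) *ᵥ v) ((g : Matrix (Fin n) (Fin n) F) *ᵥ y) β := by
  have hgv : hermForm n F q ((g : Matrix (Fin n) (Fin n) F) *ᵥ v)
      ((g : Matrix (Fin n) (Fin n) F) *ᵥ v) = 0 := by
    rw [(mem_GU_iff n q g).mp hg, hvv]
  have hgy : hermForm n F q ((g : Matrix (Fin n) (Fin n) F) *ᵥ y)
      ((g : Matrix (Fin n) (Fin n) F) *ᵥ v) = 0 := by
    rw [(mem_GU_iff n q g).mp hg, hyv]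
  apply gl_ext_mulVec
  intro x
  rw [Units.val_mul, Units.val_mul, ← Matrix.mulVec_mulVec, ← Matrix.mulVec_mulVec,
    uE_mulVec hF n v y β hvv hyv, uE_mulVec hF n _ _ β hgv hgy, Matrix.mulVec_add, Matrix.mulVec_sub,
    Matrix.mulVec_add, Matrix.mulVec_smul, Matrix.mulVec_smul, Matrix.mulVec_smul,
    gl_mulVec_inv_mulVec, hermForm_inv_left hF n g hg, hermForm_inv_left hF n g hg]

/-- The commutator of two Eichler elements with a common isotropic vector is a transvection. -/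
theorem ulag_comm_identity (n : ℕ) (a b w : Fin n → F) (haa : hermForm n F q a a = 0)
    (hba : hermForm n F q b a = 0) (hwa : hermForm n F q w a = 0) :
    uE n q a b 0 * uE n q a w 0 =
      uE n q a 0 (hermForm n F q b w - hermForm n F q w b) * uE n q a w 0 * uE n q a b 0 := by
  have hab : hermForm n F q a b = 0 := hermForm_swap_zero hF n b a hba
  have haw : hermForm n F q a w = 0 := hermForm_swap_zero hF n w a hwa
  apply gl_ext_mulVec
  intro x
  rw [Units.val_mul, Units.val_mul, Units.val_mul, ← Matrix.mulVec_mulVec, ← Matrix.mulVec_mulVec,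
    ← Matrix.mulVec_mulVec, uE_mulVec hF n a w 0 haa hwa, uE_mulVec hF n a b 0 haa hba,
    uE_mulVec hF n a b 0 haa hba, uE_mulVec hF n a w 0 haa hwa, uT_mulVec hF n a _ haa]
  simp only [hermForm_add_left, hermForm_sub_left, hermForm_smul_left, haa, hba, hwa, hab, haw,
    mul_zero, add_zero, zero_add, sub_zero, zero_mul, zero_smul]
  module

end

section
variable {F : Type*} [Field F]

/-- A pair of complementary totally isotropic subspaces of the unitary space. -/
structure ULagPair (n q : ℕ) (P Q : Submodule F (Fin n → F)) : Prop where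
  tsP : ∀ u ∈ P, ∀ v ∈ P, hermForm n F q u v = 0
  tsQ : ∀ u ∈ Q, ∀ v ∈ Q, hermForm n F q u v = 0
  disj : ∀ x, x ∈ P → x ∈ Q → x = 0
  span : ∀ x, ∃ p ∈ P, ∃ q ∈ Q, x = p + q

theorem ULagPair.symm {n q : ℕ} {P Q : Submodule F (Fin n → F)} (h : ULagPair n q P Q) :
    ULagPair n q Q P where
  tsP := h.tsQ
  tsQ := h.tsP
  disj := fun x hx hx' => h.disj x hx' hx
  span := fun x => by
    obtain ⟨p, hp, q, hq, rfl⟩ := h.span x
    exact ⟨q, hq, p, hp, add_comm p q⟩

end

section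
variable {F : Type*} [Field F] [Fintype F] {q : ℕ} (hF : Fintype.card F = q ^ 2)
include hF

/-- `Q^⊥ = Q`. -/
theorem ULagPair.perpQ {n : ℕ} {P Q : Submodule F (Fin n → F)} (h : ULagPair n q P Q)
    (x : Fin n → F) (hx : ∀ y ∈ Q, hermForm n F q x y = 0) : x ∈ Q := by
  obtain ⟨p, hp, q', hq', rfl⟩ := h.span x
  have hp0 : p = 0 := by
    by_contra hp0
    obtain ⟨w, hw⟩ := ulag_nondeg hF n p hp0
    obtain ⟨p2, hp2, q2, hq2, rfl⟩ := h.span w
    apply hw
    have h1 := hx q2 hq2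
    rw [hermForm_add_left, h.tsQ q' hq' q2 hq2, add_zero] at h1
    rw [hermForm_add_right hF, h.tsP p hp p2 hp2, h1, add_zero]
  rw [hp0, zero_add]
  exact hq'

theorem ULagPair.exists_one {n : ℕ} {P Q : Submodule F (Fin n → F)} (h : ULagPair n q P Q)
    (p : Fin n → F) (hp : p ∈ P) (hp0 : p ≠ 0) : ∃ y ∈ Q, hermForm n F q p y = 1 := by
  have h1 : ∃ y ∈ Q, hermForm n F q p y ≠ 0 := by
    by_contra hcon
    push Not at hcon
    exact hp0 (h.disj p hp (h.perpQ hF p hcon))
  obtain ⟨y, hy, hpy⟩ := h1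
  refine ⟨((hermForm n F q p y)⁻¹ ^ q) • y, Q.smul_mem _ hy, ?_⟩
  rw [hermForm_smul_right, pow_q_pow_q hF, inv_mul_cancel₀ hpy]

/-- If `w` is orthogonal to `Q ∩ a^⊥` then `w ∈ Q + ⟨a⟩`. -/
theorem ULagPair.rel {n : ℕ} {P Q : Submodule F (Fin n → F)} (h : ULagPair n q P Q)
    (a : Fin n → F) (w : Fin n → F)
    (hw : ∀ b ∈ Q, hermForm n F q a b = 0 → hermForm n F q w b = 0) : ∃ l : F, w - l • a ∈ Q := by
  by_cases h0 : ∀ b ∈ Q, hermForm n F q a b = 0
  · refine ⟨0, h.perpQ hF _ (fun y hy => ?_)⟩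
    rw [zero_smul, sub_zero]
    exact hw y hy (h0 y hy)
  · push Not at h0
    obtain ⟨b₀, hb₀, hab₀⟩ := h0
    refine ⟨hermForm n F q w b₀ / hermForm n F q a b₀, h.perpQ hF _ (fun y hy => ?_)⟩
    have h1 := hw (y - ((hermForm n F q a y / hermForm n F q a b₀) ^ q) • b₀)
      (Q.sub_mem hy (Q.smul_mem _ hb₀)) (by
        rw [hermForm_sub_right hF, hermForm_smul_right, pow_q_pow_q hF, div_mul_cancel₀ _ hab₀,
          sub_self])
    rw [hermForm_sub_right hF, hermForm_smul_right, pow_q_pow_q hF] at h1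
    rw [hermForm_sub_left, hermForm_smul_left]
    have h2 : hermForm n F q w y = hermForm n F q a y / hermForm n F q a b₀ * hermForm n F q w b₀ :=
      sub_eq_zero.mp h1
    rw [h2]
    field_simp
    ring

end

section
variable {F : Type*} [Field F]

/-- A subspace of dimension more than `k` has a non-zero vector orthogonal to `k` given vectors. -/
theorem ulag_exists_perp (n q : ℕ) (W : Submodule F (Fin n → F)) (k : ℕ)
    (u : Fin k → (Fin n → F)) (hk : k < finrank F W) :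
    ∃ x ∈ W, x ≠ 0 ∧ ∀ i, hermForm n F q x (u i) = 0 := by
  let φ : W →ₗ[F] (Fin k → F) :=
    LinearMap.pi (fun i =>
      ({ toFun := fun x : W => hermForm n F q (x : Fin n → F) (u i)
         map_add' := fun x y => hermForm_add_left n q _ _ _
         map_smul' := fun c x => by
          simp only [Submodule.coe_smul, hermForm_smul_left, RingHom.id_apply, smul_eq_mul] } :
        W →ₗ[F] F))
  have hker : LinearMap.ker φ ≠ ⊥ :=
    LinearMap.ker_ne_bot_of_finrank_lt (by rw [Module.finrank_fin_fun]; exact hk)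
  obtain ⟨x, hx, hx0⟩ := (Submodule.ne_bot_iff _).mp hker
  refine ⟨x, x.2, fun h => hx0 (Subtype.ext h), fun i => ?_⟩
  exact congrFun (LinearMap.mem_ker.mp hx) i

theorem ulag_exists_perp4 (n q : ℕ) (W : Submodule F (Fin n → F))
    (u₁ u₂ u₃ u₄ : Fin n → F) (hk : 5 ≤ finrank F W) :
    ∃ x ∈ W, x ≠ 0 ∧ hermForm n F q x u₁ = 0 ∧ hermForm n F q x u₂ = 0 ∧ hermForm n F q x u₃ = 0 ∧
      hermForm n F q x u₄ = 0 := by
  obtain ⟨x, hx, hx0, h⟩ := ulag_exists_perp n q W 4 ![u₁, u₂, u₃, u₄] (by omega)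
  exact ⟨x, hx, hx0, by simpa using h 0, by simpa using h 1, by simpa using h 2, by simpa using h 3⟩

theorem ulag_mulVec_ne_zero {n : ℕ} (k : GL (Fin n) F) (x : Fin n → F) (hx : x ≠ 0) :
    (k : Matrix (Fin n) (Fin n) F) *ᵥ x ≠ 0 := by
  intro h
  apply hx
  have := congrArg (fun v => ((k⁻¹ : GL (Fin n) F) : Matrix (Fin n) (Fin n) F) *ᵥ v) h
  simpa only [gl_inv_mulVec_mulVec, Matrix.mulVec_zero] using this

end

end Cfsg.Agent.Lib.helper17
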