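import Cfsg.Agent.Lib.helper17.ULag1

/-!
An overgroup of the stabiliser of a pair of complementary totally isotropic subspaces in `SU_n(q)`
contains a unitary transvection.
-/

set_option autoImplicit false

namespace Cfsg.Agent.Lib.helper17

open Matrix Cfsg Cfsg.Geo Module Cfsg.Agent.Lib.helper95

section
variable {F : Type*} [Field F]

theorem ulag_mem_of_map_mem {ι : Type} [Fintype ι] [DecidableEq ι] (A : Submodule F (ι → F))
    (g : GL ι F) (h : ∀ a ∈ A, (g : Matrix ι ι F) *ᵥ a ∈ A) (b : ι → F)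
    (hb : (g : Matrix ι ι F) *ᵥ b ∈ A) : b ∈ A := by
  have h1 := lag_map_eq_of_forall A A g rfl h
  rw [← h1] at hb
  obtain ⟨a, ha, hab⟩ := hb
  rw [Matrix.toLin'_apply] at hab
  have h2 := congrArg (fun v => ((g⁻¹ : GL ι F) : Matrix ι ι F) *ᵥ v) hab
  simp only [gl_inv_mulVec_mulVec] at h2
  rw [← h2]
  exact ha

end

section
variable {F : Type*} [Field F] [Fintype F] {q : ℕ} (hF : Fintype.card F = q ^ 2)
include hF

theorem ulag_uE_mem_stab01 {n : ℕ} {D : Fin 2 → Submodule F (Fin n → F)}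
    (hL : ULagPair n q (D 0) (D 1)) (hdim : finrank F (D 0) = finrank F (D 1))
    (p y : Fin n → F) (hp : p ∈ D 0) (hy : y ∈ D 1) (hyp : hermForm n F q y p = 0) :
    uE n q p y 0 ∈ decompositionStabilizer D ⊓ (GU n F q ⊓ specialLinear (Fin n) F) := by
  have hq2 := two_le_of_card_eq_sq hF
  have hpp := hL.tsP p hp p hp
  refine ⟨(lag_mem_decomp_iff D hdim _).mpr (Or.inl ⟨fun a ha => ?_, fun b hb => ?_⟩),
    uE_mem hF n p y 0 hpp hyp (by rw [hL.tsQ y hy y hy, zero_pow (by omega)]; ring)⟩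
  · rw [uE_mulVec hF n p y 0 hpp hyp, hL.tsP a ha p hp, zero_smul, add_zero, mul_zero, zero_smul,
      add_zero]
    exact (D 0).sub_mem ha ((D 0).smul_mem _ hp)
  · rw [uE_mulVec hF n p y 0 hpp hyp, hL.tsQ b hb y hy, zero_smul, sub_zero, zero_mul, zero_smul,
      add_zero]
    exact (D 1).add_mem hb ((D 1).smul_mem _ hy)

theorem ulag_uE_mem_stab10 {n : ℕ} {D : Fin 2 → Submodule F (Fin n → F)}
    (hL : ULagPair n q (D 0) (D 1)) (hdim : finrank F (D 0) = finrank F (D 1))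
    (p y : Fin n → F) (hp : p ∈ D 1) (hy : y ∈ D 0) (hyp : hermForm n F q y p = 0) :
    uE n q p y 0 ∈ decompositionStabilizer D ⊓ (GU n F q ⊓ specialLinear (Fin n) F) := by
  have hq2 := two_le_of_card_eq_sq hF
  have hpp := hL.tsQ p hp p hp
  refine ⟨(lag_mem_decomp_iff D hdim _).mpr (Or.inl ⟨fun a ha => ?_, fun b hb => ?_⟩),
    uE_mem hF n p y 0 hpp hyp (by rw [hL.tsP y hy y hy, zero_pow (by omega)]; ring)⟩
  · rw [uE_mulVec hF n p y 0 hpp hyp, hL.tsP a ha y hy, zero_smul, sub_zero, zero_mul, zero_smul,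
      add_zero]
    exact (D 0).add_mem ha ((D 0).smul_mem _ hy)
  · rw [uE_mulVec hF n p y 0 hpp hyp, hL.tsQ b hb p hp, zero_smul, add_zero, mul_zero, zero_smul,
      add_zero]
    exact (D 1).sub_mem hb ((D 1).smul_mem _ hp)

/-- The key commutator argument. -/
theorem ulag_claim {n : ℕ} {P Q : Submodule F (Fin n → F)} (hL : ULagPair n q P Q)
    (M : Subgroup (GL (Fin n) F)) (hMG : M ≤ GU n F q ⊓ specialLinear (Fin n) F)
    (hE : ∀ p ∈ P, ∀ y ∈ Q, hermForm n F q y p = 0 → uE n q p y 0 ∈ M)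
    (hNT : ∀ v ∈ P, v ≠ 0 → ∀ c, c + c ^ q = 0 → uE n q v 0 c ∈ M → c = 0)
    (k : GL (Fin n) F) (hk : k ∈ M) (p₁ : Fin n → F) (hp₁ : p₁ ∈ P)
    (hkp : (k : Matrix (Fin n) (Fin n) F) *ᵥ p₁ ∈ P) (hp0 : p₁ ≠ 0)
    (q₁ : Fin n → F) (hq₁ : q₁ ∈ Q) (hpq : hermForm n F q q₁ p₁ = 0) :
    ∃ l : F, (k : Matrix (Fin n) (Fin n) F) *ᵥ q₁ - l • ((k : Matrix (Fin n) (Fin n) F) *ᵥ p₁) ∈ Q := by
  have hkGU : k ∈ GU n F q := (hMG hk).1
  obtain ⟨a, ha⟩ : ∃ a, a = (k : Matrix (Fin n) (Fin n) F) *ᵥ p₁ := ⟨_, rfl⟩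
  obtain ⟨w, hw⟩ : ∃ w, w = (k : Matrix (Fin n) (Fin n) F) *ᵥ q₁ := ⟨_, rfl⟩
  have ha0 : a ≠ 0 := by rw [ha]; exact ulag_mulVec_ne_zero k p₁ hp0
  have hwa : hermForm n F q w a = 0 := by
    rw [ha, hw, (mem_GU_iff n q k).mp hkGU]
    exact hpq
  have hEaw : uE n q a w 0 ∈ M := by
    rw [ha, hw, ← ulag_uE_conj hF n k hkGU p₁ q₁ 0 (hL.tsP p₁ hp₁ p₁ hp₁) hpq]
    exact M.mul_mem (M.mul_mem hk (hE p₁ hp₁ q₁ hq₁ hpq)) (M.inv_mem hk)
  rw [← ha, ← hw]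
  rw [← ha] at hkp
  have haa : hermForm n F q a a = 0 := hL.tsP a hkp a hkp
  apply hL.rel hF a w
  intro b hb hab
  have hba : hermForm n F q b a = 0 := hermForm_swap_zero hF n a b hab
  have key : ∀ b' ∈ Q, hermForm n F q b' a = 0 → hermForm n F q b' w = hermForm n F q w b' := by
    intro b' hb' hb'a
    have hEab := hE a hkp b' hb' hb'a
    have hT : uE n q a 0 (hermForm n F q b' w - hermForm n F q w b') ∈ M := by
      have e := ulag_comm_identity hF n a b' w haa hb'a hwa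
      have e' : uE n q a 0 (hermForm n F q b' w - hermForm n F q w b') =
          uE n q a b' 0 * uE n q a w 0 * (uE n q a b' 0)⁻¹ * (uE n q a w 0)⁻¹ := by
        rw [e]
        group
      rw [e']
      exact M.mul_mem (M.mul_mem (M.mul_mem hEab hEaw) (M.inv_mem hEab)) (M.inv_mem hEaw)
    have htr : (hermForm n F q b' w - hermForm n F q w b') +
        (hermForm n F q b' w - hermForm n F q w b') ^ q = 0 := by
      rw [sub_pow_q hF, hermForm_conj hF, hermForm_conj hF]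
      ring
    exact sub_eq_zero.mp (hNT a hkp ha0 _ htr hT)
  obtain ⟨t, ht⟩ := exists_pow_q_ne hF
  have h1 := key b hb hba
  have h2 := key (t • b) (Q.smul_mem _ hb) (by rw [hermForm_smul_left, hba, mul_zero])
  rw [hermForm_smul_left, hermForm_smul_right, ← h1] at h2
  have h3 : hermForm n F q b w = 0 := by
    have h4 : (t ^ q - t) * hermForm n F q b w = 0 := by linear_combination -h2
    exact (mul_eq_zero.mp h4).resolve_left (sub_ne_zero.mpr ht)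
  rw [← h1]
  exact h3

theorem ulag_star {n : ℕ} {P Q : Submodule F (Fin n → F)} (hL : ULagPair n q P Q)
    (z w : Fin n → F) (hz : z ∈ P) (hz0 : z ≠ 0)
    (h : ∀ x ∈ Q, hermForm n F q x z • w - hermForm n F q x w • z = 0) : ∃ μ : F, w = μ • z := by
  obtain ⟨x, hx, hzx⟩ := hL.exists_one hF z hz hz0
  have hxz : hermForm n F q x z = 1 := by rw [← hermForm_conj hF, hzx, one_pow]
  have h1 := h x hx
  rw [hxz, one_smul] at h1
  exact ⟨hermForm n F q x w, sub_eq_zero.mp h1⟩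

/-- An element of an overgroup (without suitable transvections) mapping a non-zero vector of `D 0`
into `D 0` stabilises the decomposition. -/
theorem ulag_lemmaA {n : ℕ} {D : Fin 2 → Submodule F (Fin n → F)}
    (hL : ULagPair n q (D 0) (D 1)) (hdim0 : 5 ≤ finrank F (D 0)) (hdim1 : 5 ≤ finrank F (D 1))
    (hdim : finrank F (D 0) = finrank F (D 1))
    (M : Subgroup (GL (Fin n) F)) (hMG : M ≤ GU n F q ⊓ specialLinear (Fin n) F)
    (hHM : decompositionStabilizer D ⊓ (GU n F q ⊓ specialLinear (Fin n) F) ≤ M)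
    (hNT : ∀ v, (v ∈ D 0 ∨ v ∈ D 1) → v ≠ 0 → ∀ c, c + c ^ q = 0 → uE n q v 0 c ∈ M → c = 0)
    (k : GL (Fin n) F) (hk : k ∈ M) (a₁ : Fin n → F) (ha₁ : a₁ ∈ D 0)
    (ha₁0 : a₁ ≠ 0) (hka₁ : (k : Matrix (Fin n) (Fin n) F) *ᵥ a₁ ∈ D 0) :
    k ∈ decompositionStabilizer D := by
  have hkGU : k ∈ GU n F q := (hMG hk).1
  have hE01 : ∀ p ∈ D 0, ∀ y ∈ D 1, hermForm n F q y p = 0 → uE n q p y 0 ∈ M :=
    fun p hp y hy hyp => hHM (ulag_uE_mem_stab01 hF hL hdim p y hp hy hyp)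
  have hE10 : ∀ p ∈ D 1, ∀ y ∈ D 0, hermForm n F q y p = 0 → uE n q p y 0 ∈ M :=
    fun p hp y hy hyp => hHM (ulag_uE_mem_stab10 hF hL hdim p y hp hy hyp)
  have hNT0 : ∀ v ∈ D 0, v ≠ 0 → ∀ c, c + c ^ q = 0 → uE n q v 0 c ∈ M → c = 0 :=
    fun v hv => hNT v (Or.inl hv)
  have hNT1 : ∀ v ∈ D 1, v ≠ 0 → ∀ c, c + c ^ q = 0 → uE n q v 0 c ∈ M → c = 0 :=
    fun v hv => hNT v (Or.inr hv)
  obtain ⟨bs, hbs, habs⟩ := hL.exists_one hF _ hka₁ (ulag_mulVec_ne_zero k a₁ ha₁0)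
  obtain ⟨kb, hkb⟩ : ∃ kb, kb = ((k⁻¹ : GL (Fin n) F) : Matrix (Fin n) (Fin n) F) *ᵥ bs := ⟨_, rfl⟩
  have hB : ∀ q₁ ∈ D 1, hermForm n F q q₁ a₁ = 0 → hermForm n F q q₁ kb = 0 →
      (k : Matrix (Fin n) (Fin n) F) *ᵥ q₁ ∈ D 1 := by
    intro q₁ hq₁ h1 h2'
    obtain ⟨l, hl⟩ := ulag_claim hF hL M hMG hE01 hNT0 k hk a₁ ha₁ hka₁ ha₁0 q₁ hq₁ h1
    have h3 := hL.tsQ _ hl bs hbs
    rw [hermForm_sub_left, hermForm_smul_left, habs, mul_one] at h3
    have h4 : hermForm n F q ((k : Matrix (Fin n) (Fin n) F) *ᵥ q₁) bs = 0 := by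
      have h5 := (mem_GU_iff n q k).mp hkGU q₁ kb
      rw [hkb, gl_mulVec_inv_mulVec] at h5
      rw [h5, ← hkb]
      exact h2'
    have hl0 : l = 0 := by
      rw [h4, zero_sub, neg_eq_zero] at h3
      exact h3
    rw [hl0, zero_smul, sub_zero] at hl
    exact hl
  have hfin : ∀ (P Q : Submodule F (Fin n → F)), ULagPair n q P Q →
      ∀ (x q₁ q₂ y : Fin n → F) (l l' : F),
      (k : Matrix (Fin n) (Fin n) F) *ᵥ q₁ ∈ Q →
      (k : Matrix (Fin n) (Fin n) F) *ᵥ q₂ ∈ Q →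
      hermForm n F q q₁ y ≠ 0 → hermForm n F q q₂ y = 0 →
      (k : Matrix (Fin n) (Fin n) F) *ᵥ x - l • ((k : Matrix (Fin n) (Fin n) F) *ᵥ q₁) ∈ P →
      (k : Matrix (Fin n) (Fin n) F) *ᵥ x - l' • ((k : Matrix (Fin n) (Fin n) F) *ᵥ q₂) ∈ P →
      (k : Matrix (Fin n) (Fin n) F) *ᵥ x ∈ P := by
    intro P Q hPQ x q₁ q₂ y l l' g1 g2 hy1 hy2 hl hl'
    have hd : l • ((k : Matrix (Fin n) (Fin n) F) *ᵥ q₁) -
        l' • ((k : Matrix (Fin n) (Fin n) F) *ᵥ q₂) = 0 := by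
      apply hPQ.disj
      · have h3 := P.sub_mem hl' hl
        have e : (k : Matrix (Fin n) (Fin n) F) *ᵥ x - l' • ((k : Matrix (Fin n) (Fin n) F) *ᵥ q₂) -
            ((k : Matrix (Fin n) (Fin n) F) *ᵥ x - l • ((k : Matrix (Fin n) (Fin n) F) *ᵥ q₁)) =
            l • ((k : Matrix (Fin n) (Fin n) F) *ᵥ q₁) -
            l' • ((k : Matrix (Fin n) (Fin n) F) *ᵥ q₂) := by abel
        rw [e] at h3
        exact h3
      · exact Q.sub_mem (Q.smul_mem _ g1) (Q.smul_mem _ g2)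
    have hd' : l • q₁ - l' • q₂ = 0 := by
      have h3 := congrArg (fun v => ((k⁻¹ : GL (Fin n) F) : Matrix (Fin n) (Fin n) F) *ᵥ v) hd
      simp only [Matrix.mulVec_sub, Matrix.mulVec_smul, gl_inv_mulVec_mulVec, Matrix.mulVec_zero] at h3
      exact h3
    have hl0 : l = 0 := by
      have h3 := congrArg (fun v => hermForm n F q v y) hd'
      simp only [hermForm_sub_left, hermForm_smul_left, hy2, hermForm_zero_left, mul_zero,
        sub_zero] at h3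
      exact (mul_eq_zero.mp h3).resolve_right hy1
    rw [hl0, zero_smul, sub_zero] at hl
    exact hl
  have h00 : ∀ x ∈ D 0, (k : Matrix (Fin n) (Fin n) F) *ᵥ x ∈ D 0 := by
    intro x hx
    obtain ⟨q₁, hq₁, hq₁0, e1, e2, e3, -⟩ := ulag_exists_perp4 n q (D 1) a₁ kb x x hdim1
    obtain ⟨y, hy⟩ := ulag_nondeg hF n q₁ hq₁0
    obtain ⟨q₂, hq₂, hq₂0, e1', e2', e3', e4'⟩ := ulag_exists_perp4 n q (D 1) a₁ kb x y hdim1
    have g1 := hB q₁ hq₁ e1 e2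
    have g2 := hB q₂ hq₂ e1' e2'
    obtain ⟨l, hl⟩ := ulag_claim hF hL.symm M hMG hE10 hNT1 k hk q₁ hq₁ g1 hq₁0 x hx
      (hermForm_swap_zero hF n q₁ x e3)
    obtain ⟨l', hl'⟩ := ulag_claim hF hL.symm M hMG hE10 hNT1 k hk q₂ hq₂ g2 hq₂0 x hx
      (hermForm_swap_zero hF n q₂ x e3')
    exact hfin (D 0) (D 1) hL x q₁ q₂ y l l' g1 g2 hy e4' hl hl'
  have h11 : ∀ b ∈ D 1, (k : Matrix (Fin n) (Fin n) F) *ᵥ b ∈ D 1 := by
    intro b hb
    obtain ⟨p₁, hp₁, hp₁0, e1, -, -, -⟩ := ulag_exists_perp4 n q (D 0) b b b b hdim0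
    obtain ⟨y, hy⟩ := ulag_nondeg hF n p₁ hp₁0
    obtain ⟨p₂, hp₂, hp₂0, e1', e2', -, -⟩ := ulag_exists_perp4 n q (D 0) b y y y hdim0
    obtain ⟨l, hl⟩ := ulag_claim hF hL M hMG hE01 hNT0 k hk p₁ hp₁ (h00 p₁ hp₁) hp₁0 b hb
      (hermForm_swap_zero hF n p₁ b e1)
    obtain ⟨l', hl'⟩ := ulag_claim hF hL M hMG hE01 hNT0 k hk p₂ hp₂ (h00 p₂ hp₂) hp₂0 b hb
      (hermForm_swap_zero hF n p₂ b e1')
    exact hfin (D 1) (D 0) hL.symm b p₁ p₂ y l l' (h00 p₁ hp₁) (h00 p₂ hp₂) hy e2' hl hl'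
  exact (lag_mem_decomp_iff D hdim k).mpr (Or.inl ⟨h00, h11⟩)

/-- A proper overgroup of the stabiliser of the pair contains a unitary transvection centred in
`D 0 ∪ D 1`. -/
theorem ulag_exists_transv {n : ℕ} {D : Fin 2 → Submodule F (Fin n → F)}
    (hL : ULagPair n q (D 0) (D 1)) (hdim0 : 5 ≤ finrank F (D 0)) (hdim1 : 5 ≤ finrank F (D 1))
    (hdim : finrank F (D 0) = finrank F (D 1))
    (M : Subgroup (GL (Fin n) F)) (hMG : M ≤ GU n F q ⊓ specialLinear (Fin n) F)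
    (hHM : decompositionStabilizer D ⊓ (GU n F q ⊓ specialLinear (Fin n) F) ≤ M)
    (g : GL (Fin n) F) (hgM : g ∈ M) (hgH : g ∉ decompositionStabilizer D) :
    ∃ v, (v ∈ D 0 ∨ v ∈ D 1) ∧ v ≠ 0 ∧ ∃ c, c ≠ 0 ∧ c + c ^ q = 0 ∧ uE n q v 0 c ∈ M := by
  by_contra hcon
  have hNT : ∀ v, (v ∈ D 0 ∨ v ∈ D 1) → v ≠ 0 → ∀ c, c + c ^ q = 0 → uE n q v 0 c ∈ M → c = 0 := by
    intro v hv hv0 c hctr hc
    by_contra hc0
    exact hcon ⟨v, hv, hv0, c, hc0, hctr, hc⟩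
  apply hgH
  have hgGU : g ∈ GU n F q := (hMG hgM).1
  have hgpres := (mem_GU_iff n q g).mp hgGU
  have hα : ∀ a ∈ D 0, a ≠ 0 → ∀ b ∈ D 1, b ≠ 0 → hermForm n F q b a = 0 →
      ∀ z0 ∈ D 0, ∀ z1 ∈ D 1, ∀ w0 ∈ D 0, ∀ w1 ∈ D 1,
      (g : Matrix (Fin n) (Fin n) F) *ᵥ a = z0 + z1 →
      (g : Matrix (Fin n) (Fin n) F) *ᵥ b = w0 + w1 →
      (z1 ≠ 0 → ∃ μ : F, w1 = μ • z1) ∧ (z0 ≠ 0 → ∃ μ : F, w0 = μ • z0) ∧
      (w1 ≠ 0 → ∃ ν : F, z1 = ν • w1) ∧ (w0 ≠ 0 → ∃ ν : F, z0 = ν • w0) := by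
    intro a ha ha0 b hb hb0 hba z0 hz0 z1 hz1 w0 hw0 w1 hw1 hzd hwd
    obtain ⟨z, hz⟩ : ∃ z, z = (g : Matrix (Fin n) (Fin n) F) *ᵥ a := ⟨_, rfl⟩
    obtain ⟨w, hw⟩ : ∃ w, w = (g : Matrix (Fin n) (Fin n) F) *ᵥ b := ⟨_, rfl⟩
    rw [← hz] at hzd
    rw [← hw] at hwd
    have hzz : hermForm n F q z z = 0 := by rw [hz, hgpres]; exact hL.tsP a ha a ha
    have hwz : hermForm n F q w z = 0 := by rw [hz, hw, hgpres]; exact hba
    have hkM : uE n q z w 0 ∈ M := by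
      rw [hz, hw, ← ulag_uE_conj hF n g hgGU a b 0 (hL.tsP a ha a ha) hba]
      exact M.mul_mem (M.mul_mem hgM (hHM (ulag_uE_mem_stab01 hF hL hdim a b ha hb hba)))
        (M.inv_mem hgM)
    obtain ⟨a₁, ha₁, ha₁0, h1, h2', -, -⟩ := ulag_exists_perp4 n q (D 0) z w w w hdim0
    have hfix : ((uE n q z w 0 : GL (Fin n) F) : Matrix (Fin n) (Fin n) F) *ᵥ a₁ = a₁ := by
      rw [uE_mulVec hF n z w 0 hzz hwz, h1, h2', zero_smul, zero_smul, mul_zero, zero_smul, add_zero,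
        sub_zero, add_zero]
    have hkH : uE n q z w 0 ∈ decompositionStabilizer D :=
      ulag_lemmaA hF hL hdim0 hdim1 hdim M hMG hHM hNT (uE n q z w 0) hkM a₁ ha₁ ha₁0
        (by rw [hfix]; exact ha₁)
    rcases (lag_mem_decomp_iff D hdim _).mp hkH with ⟨e0, e1⟩ | ⟨e0, e1⟩
    swap
    · exfalso
      have h3 := e0 a₁ ha₁
      rw [hfix] at h3
      exact ha₁0 (hL.disj a₁ ha₁ h3)
    have d0 : ∀ x ∈ D 0, hermForm n F q x z • w - hermForm n F q x w • z ∈ D 0 := by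
      intro x hx
      have h3 := (D 0).sub_mem (e0 x hx) hx
      rw [uE_mulVec hF n z w 0 hzz hwz] at h3
      have e : x + hermForm n F q x z • w - hermForm n F q x w • z +
          ((0 : F) * hermForm n F q x z) • z - x =
          hermForm n F q x z • w - hermForm n F q x w • z := by
        rw [zero_mul, zero_smul]
        abel
      rw [e] at h3
      exact h3
    have d1 : ∀ x ∈ D 1, hermForm n F q x z • w - hermForm n F q x w • z ∈ D 1 := by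
      intro x hx
      have h3 := (D 1).sub_mem (e1 x hx) hx
      rw [uE_mulVec hF n z w 0 hzz hwz] at h3
      have e : x + hermForm n F q x z • w - hermForm n F q x w • z +
          ((0 : F) * hermForm n F q x z) • z - x =
          hermForm n F q x z • w - hermForm n F q x w • z := by
        rw [zero_mul, zero_smul]
        abel
      rw [e] at h3
      exact h3
    have s0 : ∀ x ∈ D 0, hermForm n F q x z1 • w1 - hermForm n F q x w1 • z1 = 0 := by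
      intro x hx
      have h3 := d0 x hx
      rw [hzd, hwd, hermForm_add_right hF, hermForm_add_right hF, hL.tsP x hx z0 hz0,
        hL.tsP x hx w0 hw0, zero_add, zero_add] at h3
      apply hL.disj
      · have h4 : hermForm n F q x z1 • w1 - hermForm n F q x w1 • z1 =
            (hermForm n F q x z1 • (w0 + w1) - hermForm n F q x w1 • (z0 + z1)) -
            (hermForm n F q x z1 • w0 - hermForm n F q x w1 • z0) := by module
        rw [h4]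
        exact (D 0).sub_mem h3 ((D 0).sub_mem ((D 0).smul_mem _ hw0) ((D 0).smul_mem _ hz0))
      · exact (D 1).sub_mem ((D 1).smul_mem _ hw1) ((D 1).smul_mem _ hz1)
    have s1 : ∀ x ∈ D 1, hermForm n F q x z0 • w0 - hermForm n F q x w0 • z0 = 0 := by
      intro x hx
      have h3 := d1 x hx
      rw [hzd, hwd, hermForm_add_right hF, hermForm_add_right hF, hL.tsQ x hx z1 hz1,
        hL.tsQ x hx w1 hw1, add_zero, add_zero] at h3
      apply hL.disj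
      · exact (D 0).sub_mem ((D 0).smul_mem _ hw0) ((D 0).smul_mem _ hz0)
      · have h4 : hermForm n F q x z0 • w0 - hermForm n F q x w0 • z0 =
            (hermForm n F q x z0 • (w0 + w1) - hermForm n F q x w0 • (z0 + z1)) -
            (hermForm n F q x z0 • w1 - hermForm n F q x w0 • z1) := by module
        rw [h4]
        exact (D 1).sub_mem h3 ((D 1).sub_mem ((D 1).smul_mem _ hw1) ((D 1).smul_mem _ hz1))
    refine ⟨fun hne => ulag_star hF hL.symm z1 w1 hz1 hne s0,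
      fun hne => ulag_star hF hL z0 w0 hz0 hne s1,
      fun hne => ulag_star hF hL.symm w1 z1 hw1 hne (fun x hx => ?_),
      fun hne => ulag_star hF hL w0 z0 hw0 hne (fun x hx => ?_)⟩
    · rw [← neg_sub, s0 x hx, neg_zero]
    · rw [← neg_sub, s1 x hx, neg_zero]
  -- images of vectors of `D 0` lie in `D 0 ∪ D 1`
  have hA0 : ∀ a ∈ D 0, (g : Matrix (Fin n) (Fin n) F) *ᵥ a ∈ D 0 ∨
      (g : Matrix (Fin n) (Fin n) F) *ᵥ a ∈ D 1 := by
    intro a ha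
    by_cases ha0 : a = 0
    · left
      rw [ha0, Matrix.mulVec_zero]
      exact (D 0).zero_mem
    obtain ⟨z0, hz0, z1, hz1, hzd⟩ := hL.span ((g : Matrix (Fin n) (Fin n) F) *ᵥ a)
    by_cases hz00 : z0 = 0
    · right
      rw [hzd, hz00, zero_add]
      exact hz1
    by_cases hz10 : z1 = 0
    · left
      rw [hzd, hz10, add_zero]
      exact hz0
    exfalso
    obtain ⟨y0, hy0, hzy0⟩ := hL.exists_one hF z0 hz0 hz00
    obtain ⟨y1, hy1, hzy1⟩ := hL.symm.exists_one hF z1 hz1 hz10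
    obtain ⟨b, hb, hb0, e1, e2, e3, -⟩ := ulag_exists_perp4 n q (D 1) a
      (((g⁻¹ : GL (Fin n) F) : Matrix (Fin n) (Fin n) F) *ᵥ y0)
      (((g⁻¹ : GL (Fin n) F) : Matrix (Fin n) (Fin n) F) *ᵥ y1) a hdim1
    obtain ⟨w0, hw0, w1, hw1, hwd⟩ := hL.span ((g : Matrix (Fin n) (Fin n) F) *ᵥ b)
    obtain ⟨c1, -, -, -⟩ := hα a ha ha0 b hb hb0 e1 z0 hz0 z1 hz1 w0 hw0 w1 hw1 hzd hwd
    obtain ⟨-, c2, -, -⟩ := hα a ha ha0 b hb hb0 e1 z0 hz0 z1 hz1 w0 hw0 w1 hw1 hzd hwd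
    obtain ⟨μ, hμ⟩ := c1 hz10
    obtain ⟨μ', hμ'⟩ := c2 hz00
    have f0 : hermForm n F q ((g : Matrix (Fin n) (Fin n) F) *ᵥ b) y0 = 0 := by
      have h5 := hgpres b (((g⁻¹ : GL (Fin n) F) : Matrix (Fin n) (Fin n) F) *ᵥ y0)
      rw [gl_mulVec_inv_mulVec] at h5
      rw [h5]
      exact e2
    have f1 : hermForm n F q ((g : Matrix (Fin n) (Fin n) F) *ᵥ b) y1 = 0 := by
      have h5 := hgpres b (((g⁻¹ : GL (Fin n) F) : Matrix (Fin n) (Fin n) F) *ᵥ y1)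
      rw [gl_mulVec_inv_mulVec] at h5
      rw [h5]
      exact e3
    rw [hwd, hμ, hμ', hermForm_add_left, hermForm_smul_left, hermForm_smul_left] at f0 f1
    rw [hzy0, hL.tsQ z1 hz1 y0 hy0, mul_one, mul_zero, add_zero] at f0
    rw [hzy1, hL.tsP z0 hz0 y1 hy1, mul_one, mul_zero, zero_add] at f1
    apply hb0
    have h6 : (g : Matrix (Fin n) (Fin n) F) *ᵥ b = 0 := by
      rw [hwd, hμ, hμ', f0, f1, zero_smul, zero_smul, add_zero]
    by_contra hb0'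
    exact ulag_mulVec_ne_zero g b hb0' h6
  have hA1 : ∀ b ∈ D 1, (g : Matrix (Fin n) (Fin n) F) *ᵥ b ∈ D 1 ∨
      (g : Matrix (Fin n) (Fin n) F) *ᵥ b ∈ D 0 := by
    intro b hb
    by_cases hb0 : b = 0
    · left
      rw [hb0, Matrix.mulVec_zero]
      exact (D 1).zero_mem
    obtain ⟨w0, hw0, w1, hw1, hwd⟩ := hL.span ((g : Matrix (Fin n) (Fin n) F) *ᵥ b)
    by_cases hw00 : w0 = 0
    · left
      rw [hwd, hw00, zero_add]
      exact hw1
    by_cases hw10 : w1 = 0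
    · right
      rw [hwd, hw10, add_zero]
      exact hw0
    exfalso
    obtain ⟨y0, hy0, hwy0⟩ := hL.exists_one hF w0 hw0 hw00
    obtain ⟨y1, hy1, hwy1⟩ := hL.symm.exists_one hF w1 hw1 hw10
    obtain ⟨a, ha, ha0, e1, e2, e3, -⟩ := ulag_exists_perp4 n q (D 0) b
      (((g⁻¹ : GL (Fin n) F) : Matrix (Fin n) (Fin n) F) *ᵥ y0)
      (((g⁻¹ : GL (Fin n) F) : Matrix (Fin n) (Fin n) F) *ᵥ y1) b hdim0
    obtain ⟨z0, hz0, z1, hz1, hzd⟩ := hL.span ((g : Matrix (Fin n) (Fin n) F) *ᵥ a)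
    have hba : hermForm n F q b a = 0 := hermForm_swap_zero hF n a b e1
    obtain ⟨-, -, c3, -⟩ := hα a ha ha0 b hb hb0 hba z0 hz0 z1 hz1 w0 hw0 w1 hw1 hzd hwd
    obtain ⟨-, -, -, c4⟩ := hα a ha ha0 b hb hb0 hba z0 hz0 z1 hz1 w0 hw0 w1 hw1 hzd hwd
    obtain ⟨ν, hν⟩ := c3 hw10
    obtain ⟨ν', hν'⟩ := c4 hw00
    have f0 : hermForm n F q ((g : Matrix (Fin n) (Fin n) F) *ᵥ a) y0 = 0 := by
      have h5 := hgpres a (((g⁻¹ : GL (Fin n) F) : Matrix (Fin n) (Fin n) F) *ᵥ y0)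
      rw [gl_mulVec_inv_mulVec] at h5
      rw [h5]
      exact e2
    have f1 : hermForm n F q ((g : Matrix (Fin n) (Fin n) F) *ᵥ a) y1 = 0 := by
      have h5 := hgpres a (((g⁻¹ : GL (Fin n) F) : Matrix (Fin n) (Fin n) F) *ᵥ y1)
      rw [gl_mulVec_inv_mulVec] at h5
      rw [h5]
      exact e3
    rw [hzd, hν, hν', hermForm_add_left, hermForm_smul_left, hermForm_smul_left] at f0 f1
    rw [hwy0, hL.tsQ w1 hw1 y0 hy0, mul_one, mul_zero, add_zero] at f0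
    rw [hwy1, hL.tsP w0 hw0 y1 hy1, mul_one, mul_zero, zero_add] at f1
    have h6 : (g : Matrix (Fin n) (Fin n) F) *ᵥ a = 0 := by
      rw [hzd, hν, hν', f0, f1, zero_smul, zero_smul, add_zero]
    exact ulag_mulVec_ne_zero g a ha0 h6
  obtain ⟨a, ha, ha0, -⟩ := ulag_exists_perp4 n q (D 0) 0 0 0 0 hdim0
  obtain ⟨b, hb, hb0, -⟩ := ulag_exists_perp4 n q (D 1) 0 0 0 0 hdim1
  rcases lag_union (D 0) (D 0) (D 1) _ hA0 with u0 | u0 <;>
    rcases lag_union (D 1) (D 1) (D 0) _ hA1 with u1 | u1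
  · exact (lag_mem_decomp_iff D hdim g).mpr (Or.inl ⟨u0, u1⟩)
  · exfalso
    exact hb0 (hL.disj b (ulag_mem_of_map_mem (D 0) g u0 b (u1 b hb)) hb)
  · exfalso
    exact ha0 (hL.disj a ha (ulag_mem_of_map_mem (D 1) g u1 a (u0 a ha)))
  · exact (lag_mem_decomp_iff D hdim g).mpr (Or.inr ⟨u0, u1⟩)

end

end Cfsg.Agent.Lib.helper17
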