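import Cfsg.Agent.Lib.helper17.ULag2

/-!
The stabiliser of a pair of complementary totally isotropic subspaces is maximal in `SU_n(q)`.
-/

set_option autoImplicit false

namespace Cfsg.Agent.Lib.helper17

open Matrix Cfsg Cfsg.Geo Module Cfsg.Agent.Lib.helper95

section
variable {F : Type*} [Field F] [Fintype F] {q : ℕ} (hF : Fintype.card F = q ^ 2)
include hF

/-- From one transvection centred in `P`, all transvections centred in `P`. -/
theorem ulag_transv_P {n : ℕ} {P Q : Submodule F (Fin n → F)} (hL : ULagPair n q P Q)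
    (hdimP : 5 ≤ finrank F P)
    (M : Subgroup (GL (Fin n) F)) (hMG : M ≤ GU n F q ⊓ specialLinear (Fin n) F)
    (hE : ∀ p ∈ P, ∀ y ∈ Q, hermForm n F q p y = 0 → uE n q y p 0 ∈ M)
    (v : Fin n → F) (hv : v ∈ P) (hv0 : v ≠ 0) (c₀ : F) (hc₀ : c₀ ≠ 0) (hc₀tr : c₀ + c₀ ^ q = 0)
    (hT : uE n q v 0 c₀ ∈ M) : ∀ a ∈ P, ∀ c, c + c ^ q = 0 → uE n q a 0 c ∈ M := by
  have hvv : hermForm n F q v v = 0 := hL.tsP v hv v hv
  have hOS : ∀ u ∈ P, ∀ a ∈ P, ∀ c, uE n q u 0 c ∈ M → (¬ ∃ l : F, u = l • (a - u)) →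
      uE n q a 0 c ∈ M := by
    intro u hu a ha c hTu hnot
    have hex : ∃ b ∈ Q, hermForm n F q (a - u) b = 0 ∧ hermForm n F q u b ≠ 0 := by
      by_contra hcon
      push Not at hcon
      obtain ⟨l, hl⟩ := hL.rel hF (a - u) u hcon
      exact hnot ⟨l, sub_eq_zero.mp (hL.disj _ (P.sub_mem hu (P.smul_mem _ (P.sub_mem ha hu))) hl)⟩
    obtain ⟨b, hb, h1, h2'⟩ := hex
    obtain ⟨b', hb'def⟩ : ∃ b', b' = ((hermForm n F q u b)⁻¹ ^ q) • b := ⟨_, rfl⟩
    have hb'Q : b' ∈ Q := by rw [hb'def]; exact Q.smul_mem _ hb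
    have hb' : hermForm n F q u b' = 1 := by
      rw [hb'def, hermForm_smul_right, pow_q_pow_q hF, inv_mul_cancel₀ h2']
    have hb'2 : hermForm n F q (a - u) b' = 0 := by
      rw [hb'def, hermForm_smul_right, h1, mul_zero]
    have hEM : uE n q b' (a - u) 0 ∈ M := hE (a - u) (P.sub_mem ha hu) b' hb'Q hb'2
    have hmap : ((uE n q b' (a - u) 0 : GL (Fin n) F) : Matrix (Fin n) (Fin n) F) *ᵥ u = a := by
      rw [uE_mulVec hF n b' (a - u) 0 (hL.tsQ b' hb'Q b' hb'Q) hb'2, hb',
        hL.tsP u hu (a - u) (P.sub_mem ha hu), one_smul, zero_smul, zero_mul, zero_smul, sub_zero,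
        add_zero]
      abel
    rw [← hmap, ← uT_conj hF n _ (hMG hEM).1 u c (hL.tsP u hu u hu)]
    exact M.mul_mem (M.mul_mem hEM hTu) (M.inv_mem hEM)
  obtain ⟨y₀, hy₀, hvy⟩ := hL.exists_one hF v hv hv0
  obtain ⟨p, hp, hp0, hpy, -⟩ := ulag_exists_perp4 n q P y₀ y₀ y₀ y₀ hdimP
  have hTp : uE n q p 0 c₀ ∈ M := by
    apply hOS v hv p hp c₀ hT
    rintro ⟨l, hl⟩
    have h3 := congrArg (fun x => hermForm n F q x y₀) hl
    simp only [hermForm_smul_left, hermForm_sub_left, hvy, hpy] at h3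
    have hl1 : l = -1 := by linear_combination h3
    rw [hl1] at hl
    apply hp0
    have h4 : p = 0 := by linear_combination (norm := module) hl
    exact h4
  have hTv : ∀ μ : F, μ ≠ 0 → uE n q (μ • v) 0 c₀ ∈ M := by
    intro μ hμ
    apply hOS p hp (μ • v) (P.smul_mem _ hv) c₀ hTp
    rintro ⟨l, hl⟩
    have h3 := congrArg (fun x => hermForm n F q x y₀) hl
    simp only [hermForm_smul_left, hermForm_sub_left, hvy, hpy, mul_one, sub_zero] at h3
    have hl0 : l = 0 := (mul_eq_zero.mp h3.symm).resolve_right hμ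
    rw [hl0, zero_smul] at hl
    exact hp0 hl
  have hvS : ∀ c, c + c ^ q = 0 → uE n q v 0 c ∈ M := by
    intro c hc
    by_cases hc0 : c = 0
    · rw [hc0, ulag_uT_zero hF n v hvv]
      exact M.one_mem
    · have hcq : c ^ q = -c := by linear_combination hc
      have hc₀q : c₀ ^ q = -c₀ := by linear_combination hc₀tr
      obtain ⟨σ, hσ, hne, hinv⟩ := exists_frob' hF
      obtain ⟨μ, hμ⟩ := norm_surj σ hne hinv (c / c₀) (div_ne_zero hc0 hc₀) (by
        rw [hσ, div_pow, hcq, hc₀q, neg_div_neg_eq])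
      rw [hσ] at hμ
      have hμ0 : μ ≠ 0 := by
        rintro rfl
        rw [zero_mul] at hμ
        exact div_ne_zero hc0 hc₀ hμ.symm
      have e : c = μ * μ ^ q * c₀ := by
        rw [hμ, div_mul_cancel₀ _ hc₀]
      rw [e, ← uT_smul hF n μ v c₀ hvv]
      exact hTv μ hμ0
  intro a ha c hc
  by_cases h : ∃ l : F, v = l • (a - v)
  · obtain ⟨l, hl⟩ := h
    have hl0 : l ≠ 0 := by
      rintro rfl
      rw [zero_smul] at hl
      exact hv0 hl
    have ha' : a = (1 + l⁻¹) • v := by
      have h3 : l⁻¹ • v = a - v := by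
        have h4 := congrArg (fun x => l⁻¹ • x) hl
        simp only [smul_smul, inv_mul_cancel₀ hl0, one_smul] at h4
        exact h4
      rw [add_smul, one_smul, h3]
      abel
    rw [ha', uT_smul hF n _ v c hvv]
    apply hvS
    have hcq : c ^ q = -c := by linear_combination hc
    rw [mul_pow, mul_pow, pow_q_pow_q hF, hcq]
    ring
  · exact hOS v hv a ha c (hvS c hc) h

/-- The "Weyl element" of a hyperbolic pair as a product of three unitary transvections. -/
theorem ulag_weyl (n : ℕ) (u v : Fin n → F) (huu : hermForm n F q u u = 0)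
    (hvv : hermForm n F q v v = 0) (huv : hermForm n F q u v = 1) (γ : F) (hγ0 : γ ≠ 0)
    (hγ : γ + γ ^ q = 0) :
    ∃ W : GL (Fin n) F, W ∈ GU n F q ⊓ specialLinear (Fin n) F ∧
      (∀ x, hermForm n F q x u = 0 → hermForm n F q x v = 0 →
        (W : Matrix (Fin n) (Fin n) F) *ᵥ x = x) ∧
      (W : Matrix (Fin n) (Fin n) F) *ᵥ u = (-γ⁻¹) • v ∧
      (W : Matrix (Fin n) (Fin n) F) *ᵥ v = γ • u := by
  have hvu : hermForm n F q v u = 1 := by rw [← hermForm_conj hF, huv, one_pow]
  have hγq : γ ^ q = -γ := by linear_combination hγ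
  have hγ' : (-γ⁻¹) + (-γ⁻¹) ^ q = 0 := by
    rw [neg_pow_q hF, inv_pow, hγq]
    field_simp
    ring
  have hprod : γ * (-γ⁻¹) = -1 := by
    field_simp
  refine ⟨uE n q u 0 γ * uE n q v 0 (-γ⁻¹) * uE n q u 0 γ,
    mul_mem (mul_mem (uT_mem hF n u γ huu hγ) (uT_mem hF n v _ hvv hγ')) (uT_mem hF n u γ huu hγ),
    ?_, ?_, ?_⟩
  · intro x hxu hxv
    have e1 : ((uE n q u 0 γ : GL (Fin n) F) : Matrix (Fin n) (Fin n) F) *ᵥ x = x := by
      rw [uT_mulVec hF n u γ huu, hxu, mul_zero, zero_smul, add_zero]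
    have e2 : ((uE n q v 0 (-γ⁻¹) : GL (Fin n) F) : Matrix (Fin n) (Fin n) F) *ᵥ x = x := by
      rw [uT_mulVec hF n v _ hvv, hxv, mul_zero, zero_smul, add_zero]
    rw [Units.val_mul, Units.val_mul, ← Matrix.mulVec_mulVec, ← Matrix.mulVec_mulVec, e1, e2, e1]
  · have e1 : ((uE n q u 0 γ : GL (Fin n) F) : Matrix (Fin n) (Fin n) F) *ᵥ u = u := by
      rw [uT_mulVec hF n u γ huu, huu, mul_zero, zero_smul, add_zero]
    have e2 : ((uE n q v 0 (-γ⁻¹) : GL (Fin n) F) : Matrix (Fin n) (Fin n) F) *ᵥ u =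
        u + (-γ⁻¹) • v := by
      rw [uT_mulVec hF n v _ hvv, huv, mul_one]
    have e3 : ((uE n q u 0 γ : GL (Fin n) F) : Matrix (Fin n) (Fin n) F) *ᵥ (u + (-γ⁻¹) • v) =
        (-γ⁻¹) • v := by
      rw [uT_mulVec hF n u γ huu, hermForm_add_left, hermForm_smul_left, huu, hvu, mul_one,
        zero_add, hprod]
      module
    rw [Units.val_mul, Units.val_mul, ← Matrix.mulVec_mulVec, ← Matrix.mulVec_mulVec, e1, e2, e3]
  · have e1 : ((uE n q u 0 γ : GL (Fin n) F) : Matrix (Fin n) (Fin n) F) *ᵥ v = v + γ • u := by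
      rw [uT_mulVec hF n u γ huu, hvu, mul_one]
    have e2 : ((uE n q v 0 (-γ⁻¹) : GL (Fin n) F) : Matrix (Fin n) (Fin n) F) *ᵥ (v + γ • u) =
        γ • u := by
      rw [uT_mulVec hF n v _ hvv, hermForm_add_left, hermForm_smul_left, hvv, huv, mul_one,
        zero_add, mul_comm (-γ⁻¹) γ, hprod]
      module
    have e3 : ((uE n q u 0 γ : GL (Fin n) F) : Matrix (Fin n) (Fin n) F) *ᵥ (γ • u) = γ • u := by
      rw [uT_mulVec hF n u γ huu, hermForm_smul_left, huu, mul_zero, mul_zero, zero_smul,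
        add_zero]
    rw [Units.val_mul, Units.val_mul, ← Matrix.mulVec_mulVec, ← Matrix.mulVec_mulVec, e1, e2, e3]

/-- An element of `SU` interchanging the two members of a pair. -/
theorem ulag_exists_swap {n : ℕ} {P Q : Submodule F (Fin n → F)} (hL : ULagPair n q P Q) (k : ℕ)
    (hP : finrank F P = k) (hQ : finrank F Q = k) :
    ∃ s : GL (Fin n) F, s ∈ GU n F q ⊓ specialLinear (Fin n) F ∧
      (∀ a ∈ P, (s : Matrix (Fin n) (Fin n) F) *ᵥ a ∈ Q) ∧
      (∀ b ∈ Q, (s : Matrix (Fin n) (Fin n) F) *ᵥ b ∈ P) := by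
  classical
  have hq2 := two_le_of_card_eq_sq hF
  obtain ⟨a, -⟩ : ∃ a : Basis (Fin k) F P, a = a := ⟨Module.finBasisOfFinrankEq F P hP, rfl⟩
  have hrep : ∀ p ∈ P, ∃ c : Fin k → F, p = ∑ i, c i • (a i : Fin n → F) := by
    intro p hp
    refine ⟨fun i => a.repr ⟨p, hp⟩ i, ?_⟩
    have h3 := congrArg Subtype.val (a.sum_repr ⟨p, hp⟩)
    rw [Submodule.coe_sum] at h3
    exact h3.symm
  obtain ⟨Φ, hΦ⟩ : ∃ Φ : Q →ₗ[F] (Fin k → F), ∀ (b : Q) i,
      Φ b i = hermForm n F q (b : Fin n → F) (a i : Fin n → F) :=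
    ⟨LinearMap.pi (fun i =>
      ({ toFun := fun x : Q => hermForm n F q (x : Fin n → F) (a i : Fin n → F)
         map_add' := fun x y => hermForm_add_left n q _ _ _
         map_smul' := fun c x => by
          simp only [Submodule.coe_smul, hermForm_smul_left, RingHom.id_apply, smul_eq_mul] } :
        Q →ₗ[F] F)), fun b i => rfl⟩
  have hsumleft : ∀ (c : Fin k → F) (x : Fin k → (Fin n → F)) (y : Fin n → F),
      hermForm n F q (∑ i, c i • x i) y = ∑ i, c i * hermForm n F q (x i) y := by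
    intro c x y
    have hlin : ∀ (s : Finset (Fin k)), hermForm n F q (∑ i ∈ s, c i • x i) y =
        ∑ i ∈ s, c i * hermForm n F q (x i) y := by
      intro s
      induction s using Finset.induction_on with
      | empty => simp [hermForm_zero_left]
      | insert i s hi ih =>
        rw [Finset.sum_insert hi, Finset.sum_insert hi, hermForm_add_left, hermForm_smul_left, ih]
    exact hlin Finset.univ
  have hinj : Function.Injective Φ := by
    rw [← LinearMap.ker_eq_bot, LinearMap.ker_eq_bot']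
    intro b hb
    apply Subtype.ext
    apply hL.disj _ ?_ b.2
    apply hL.symm.perpQ hF
    intro p hp
    obtain ⟨c, rfl⟩ := hrep p hp
    apply hermForm_swap_zero hF
    rw [hsumleft]
    apply Finset.sum_eq_zero
    intro i _
    have h3 : hermForm n F q (b : Fin n → F) (a i : Fin n → F) = 0 := by
      rw [← hΦ, hb]
      rfl
    rw [hermForm_swap_zero hF n _ _ h3, mul_zero]
  have hsurj : Function.Surjective Φ :=
    (LinearMap.injective_iff_surjective_of_finrank_eq_finrank
      (by rw [hQ, Module.finrank_fin_fun])).mp hinj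
  choose b hb using fun j => hsurj (Pi.single j 1)
  have hba : ∀ i j, hermForm n F q (b j : Fin n → F) (a i : Fin n → F) = if i = j then 1 else 0 := by
    intro i j
    rw [← hΦ, hb j, Pi.single_apply]
  have hab : ∀ i j, hermForm n F q (a i : Fin n → F) (b j : Fin n → F) = if i = j then 1 else 0 := by
    intro i j
    rw [← hermForm_conj hF, hba]
    split_ifs
    · exact one_pow q
    · exact zero_pow (by omega)
  have haa : ∀ i j, hermForm n F q (a i : Fin n → F) (a j : Fin n → F) = 0 :=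
    fun i j => hL.tsP _ (a i).2 _ (a j).2
  have hbb : ∀ i j, hermForm n F q (b i : Fin n → F) (b j : Fin n → F) = 0 :=
    fun i j => hL.tsQ _ (b i).2 _ (b j).2
  obtain ⟨γ, hγ0, hγ⟩ := exists_trace_zero_ne hF
  have hprod : (-γ⁻¹) * γ = -1 := by
    field_simp
  have key : ∀ S : Finset (Fin k), ∃ s : GL (Fin n) F,
      s ∈ GU n F q ⊓ specialLinear (Fin n) F ∧
      ∀ j, (j ∈ S → (s : Matrix (Fin n) (Fin n) F) *ᵥ (a j : Fin n → F) = (-γ⁻¹) • (b j : Fin n → F) ∧
          (s : Matrix (Fin n) (Fin n) F) *ᵥ (b j : Fin n → F) = γ • (a j : Fin n → F)) ∧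
        (j ∉ S → (s : Matrix (Fin n) (Fin n) F) *ᵥ (a j : Fin n → F) = (a j : Fin n → F) ∧
          (s : Matrix (Fin n) (Fin n) F) *ᵥ (b j : Fin n → F) = (b j : Fin n → F)) := by
    intro S
    induction S using Finset.induction_on with
    | empty =>
      refine ⟨1, one_mem _, fun j => ⟨fun hj => absurd hj (Finset.notMem_empty j), fun _ => ?_⟩⟩
      rw [Units.val_one, Matrix.one_mulVec, Matrix.one_mulVec]
      exact ⟨rfl, rfl⟩
    | insert i S hi ih =>
      obtain ⟨s, hs, hsj⟩ := ih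
      obtain ⟨W, hW, hWfix, hWa, hWb⟩ := ulag_weyl hF n (a i : Fin n → F) (b i : Fin n → F)
        (haa i i) (hbb i i) (by rw [hab, if_pos rfl]) γ hγ0 hγ
      refine ⟨W * s, mul_mem hW hs, fun j => ?_⟩
      by_cases hji : j = i
      · subst hji
        refine ⟨fun _ => ?_, fun hj => absurd (Finset.mem_insert_self j S) hj⟩
        rw [Units.val_mul, ← Matrix.mulVec_mulVec, ← Matrix.mulVec_mulVec, ((hsj j).2 hi).1,
          ((hsj j).2 hi).2]
        exact ⟨hWa, hWb⟩
      · have hij : ¬ i = j := fun h => hji h.symm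
        have hfa : (W : Matrix (Fin n) (Fin n) F) *ᵥ (a j : Fin n → F) = (a j : Fin n → F) :=
          hWfix _ (haa j i) (by rw [hab, if_neg hji])
        have hfb : (W : Matrix (Fin n) (Fin n) F) *ᵥ (b j : Fin n → F) = (b j : Fin n → F) :=
          hWfix _ (by rw [hba, if_neg hij]) (hbb j i)
        refine ⟨fun hj => ?_, fun hj => ?_⟩
        · have hjS : j ∈ S := (Finset.mem_insert.mp hj).resolve_left hji
          rw [Units.val_mul, ← Matrix.mulVec_mulVec, ← Matrix.mulVec_mulVec, ((hsj j).1 hjS).1,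
            ((hsj j).1 hjS).2, Matrix.mulVec_smul, Matrix.mulVec_smul, hfa, hfb]
          exact ⟨rfl, rfl⟩
        · have hjS : j ∉ S := fun h => hj (Finset.mem_insert_of_mem h)
          rw [Units.val_mul, ← Matrix.mulVec_mulVec, ← Matrix.mulVec_mulVec, ((hsj j).2 hjS).1,
            ((hsj j).2 hjS).2, hfa, hfb]
          exact ⟨rfl, rfl⟩
  obtain ⟨s, hs, hsj⟩ := key Finset.univ
  have hsa : ∀ i, (s : Matrix (Fin n) (Fin n) F) *ᵥ (a i : Fin n → F) = (-γ⁻¹) • (b i : Fin n → F) :=
    fun i => ((hsj i).1 (Finset.mem_univ i)).1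
  have hsb : ∀ i, (s : Matrix (Fin n) (Fin n) F) *ᵥ (b i : Fin n → F) = γ • (a i : Fin n → F) :=
    fun i => ((hsj i).1 (Finset.mem_univ i)).2
  have hsP : ∀ p ∈ P, (s : Matrix (Fin n) (Fin n) F) *ᵥ p ∈ Q ∧
      (s : Matrix (Fin n) (Fin n) F) *ᵥ ((s : Matrix (Fin n) (Fin n) F) *ᵥ p) = -p := by
    intro p hp
    obtain ⟨c, rfl⟩ := hrep p hp
    have h3 : (s : Matrix (Fin n) (Fin n) F) *ᵥ (∑ i, c i • (a i : Fin n → F)) =
        ∑ i, c i • ((-γ⁻¹) • (b i : Fin n → F)) := by
      rw [Matrix.mulVec_sum]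
      refine Finset.sum_congr rfl (fun i _ => ?_)
      rw [Matrix.mulVec_smul, hsa]
    refine ⟨?_, ?_⟩
    · rw [h3]
      exact Q.sum_mem (fun i _ => Q.smul_mem _ (Q.smul_mem _ (b i).2))
    · rw [h3, Matrix.mulVec_sum, ← Finset.sum_neg_distrib]
      refine Finset.sum_congr rfl (fun i _ => ?_)
      rw [Matrix.mulVec_smul, Matrix.mulVec_smul, hsb, smul_smul, smul_smul, mul_assoc, hprod]
      module
  refine ⟨s, hs, fun p hp => (hsP p hp).1, fun y hy => ?_⟩
  apply hL.symm.perpQ hF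
  intro p hp
  have h3 : p = (s : Matrix (Fin n) (Fin n) F) *ᵥ (-((s : Matrix (Fin n) (Fin n) F) *ᵥ p)) := by
    rw [Matrix.mulVec_neg, (hsP p hp).2, neg_neg]
  rw [h3, (mem_GU_iff n q s).mp hs.1, hermForm_neg_right hF, hL.tsQ y hy _ (hsP p hp).1, neg_zero]

/-- The stabiliser of a pair of complementary totally isotropic subspaces of dimension at least 5
is a maximal subgroup of `SU_n(q)` (given that `SU` is generated by unitary transvections). -/
theorem su_lag_pair_maximal (n k : ℕ) (hk : 5 ≤ k)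
    (hgen : Subgroup.closure {A : ↥(Cfsg.SU n F q) | ∃ (v : Fin n → F) (c : F),
      Cfsg.hermForm n F q v v = 0 ∧
      ((A : Matrix.SpecialLinearGroup (Fin n) F) : Matrix (Fin n) (Fin n) F) =
        Cfsg.unitaryTransvection n q v c} = ⊤)
    (D : Fin 2 → Submodule F (Fin n → F)) (hD : IsMDecomposition k D)
    (hts : ∀ i, IsTotallySingularFor (hermForm n F q) (D i)) :
    IsMaximalIn (GU n F q ⊓ specialLinear (Fin n) F)
      (decompositionStabilizer D ⊓ (GU n F q ⊓ specialLinear (Fin n) F)) := by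
  have hq2 := two_le_of_card_eq_sq hF
  have hdisj : Disjoint (D 0) (D 1) := hD.indep.pairwiseDisjoint (by decide)
  have hL : ULagPair n q (D 0) (D 1) := by
    refine ⟨hts 0, hts 1, fun x hx hx' => Submodule.disjoint_def.mp hdisj x hx hx', fun x => ?_⟩
    have h3 : x ∈ D 0 ⊔ D 1 := by
      have h4 : iSup D ≤ D 0 ⊔ D 1 := by
        apply iSup_le
        intro i
        fin_cases i
        · exact le_sup_left
        · exact le_sup_right
      apply h4
      rw [hD.iSup_eq_top]
      trivial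
    obtain ⟨p, hp, y, hy, hpy⟩ := Submodule.mem_sup.mp h3
    exact ⟨p, hp, y, hy, hpy.symm⟩
  have hd0 : finrank F (D 0) = k := hD.finrank_eq 0
  have hd1 : finrank F (D 1) = k := hD.finrank_eq 1
  have hdim : finrank F (D 0) = finrank F (D 1) := by rw [hd0, hd1]
  have hdim0 : 5 ≤ finrank F (D 0) := by rw [hd0]; exact hk
  have hdim1 : 5 ≤ finrank F (D 1) := by rw [hd1]; exact hk
  obtain ⟨γ, hγ0, hγ⟩ := exists_trace_zero_ne hF
  have hγq : γ ^ q = -γ := by linear_combination hγ
  refine ⟨?_, ?_⟩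
  · refine lt_of_le_of_ne inf_le_right ?_
    intro heq
    obtain ⟨a, ha, ha0, -⟩ := ulag_exists_perp4 n q (D 0) 0 0 0 0 hdim0
    obtain ⟨b, hb, hab⟩ := hL.exists_one hF a ha ha0
    have hba : hermForm n F q b a = 1 := by rw [← hermForm_conj hF, hab, one_pow]
    have haa := hL.tsP a ha a ha
    have hT : uE n q a 0 γ ∈ decompositionStabilizer D ⊓ (GU n F q ⊓ specialLinear (Fin n) F) := by
      rw [heq]
      exact uT_mem hF n a γ haa hγ
    have hTb : ((uE n q a 0 γ : GL (Fin n) F) : Matrix (Fin n) (Fin n) F) *ᵥ b = b + γ • a := by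
      rw [uT_mulVec hF n a γ haa, hba, mul_one]
    rcases (lag_mem_decomp_iff D hdim _).mp hT.1 with ⟨-, e1⟩ | ⟨-, e1⟩
    · have h3 := e1 b hb
      rw [hTb] at h3
      have h4 : γ • a ∈ D 1 := by
        have := (D 1).sub_mem h3 hb
        rwa [add_sub_cancel_left] at this
      have h5 : a ∈ D 1 := by
        have := (D 1).smul_mem γ⁻¹ h4
        rwa [smul_smul, inv_mul_cancel₀ hγ0, one_smul] at this
      exact ha0 (hL.disj a ha h5)
    · have h3 := e1 b hb
      rw [hTb] at h3
      have h4 : b ∈ D 0 := by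
        have := (D 0).sub_mem h3 ((D 0).smul_mem γ ha)
        rwa [add_sub_cancel_right] at this
      have hb0 : b = 0 := hL.disj b h4 hb
      rw [hb0, hermForm_zero_right' hF] at hab
      exact zero_ne_one hab
  · intro M hHM hMG
    by_cases hMH : M = decompositionStabilizer D ⊓ (GU n F q ⊓ specialLinear (Fin n) F)
    · exact Or.inl hMH
    · right
      have hnle : ¬ M ≤ decompositionStabilizer D ⊓ (GU n F q ⊓ specialLinear (Fin n) F) :=
        fun h => hMH (le_antisymm h hHM)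
      obtain ⟨g, hgM, hgH⟩ := SetLike.not_le_iff_exists.mp hnle
      have hgD : g ∉ decompositionStabilizer D := fun h => hgH ⟨h, hMG hgM⟩
      obtain ⟨v, hv, hv0, c₀, hc₀, hc₀tr, hT⟩ :=
        ulag_exists_transv hF hL hdim0 hdim1 hdim M hMG hHM g hgM hgD
      obtain ⟨s, hsG, hs01, hs10⟩ := ulag_exists_swap hF hL k hd0 hd1
      have hsM : s ∈ M := hHM ⟨(lag_mem_decomp_iff D hdim s).mpr (Or.inr ⟨hs01, hs10⟩), hsG⟩
      have hE01 : ∀ p ∈ D 0, ∀ y ∈ D 1, hermForm n F q p y = 0 → uE n q y p 0 ∈ M :=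
        fun p hp y hy hpy => hHM (ulag_uE_mem_stab10 hF hL hdim y p hy hp hpy)
      have hE10 : ∀ p ∈ D 1, ∀ y ∈ D 0, hermForm n F q p y = 0 → uE n q y p 0 ∈ M :=
        fun p hp y hy hpy => hHM (ulag_uE_mem_stab01 hF hL hdim y p hy hp hpy)
      have hvv : hermForm n F q v v = 0 := by
        rcases hv with hv | hv
        · exact hL.tsP v hv v hv
        · exact hL.tsQ v hv v hv
      have hsT : uE n q ((s : Matrix (Fin n) (Fin n) F) *ᵥ v) 0 c₀ ∈ M := by
        rw [← uT_conj hF n s hsG.1 v c₀ hvv]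
        exact M.mul_mem (M.mul_mem hsM hT) (M.inv_mem hsM)
      have hsv0 : (s : Matrix (Fin n) (Fin n) F) *ᵥ v ≠ 0 := ulag_mulVec_ne_zero s v hv0
      have hS0 : ∀ a ∈ D 0, ∀ c, c + c ^ q = 0 → uE n q a 0 c ∈ M := by
        rcases hv with hv | hv
        · exact ulag_transv_P hF hL hdim0 M hMG hE01 v hv hv0 c₀ hc₀ hc₀tr hT
        · exact ulag_transv_P hF hL hdim0 M hMG hE01 _ (hs10 v hv) hsv0 c₀ hc₀ hc₀tr hsT
      have hS1 : ∀ b ∈ D 1, ∀ c, c + c ^ q = 0 → uE n q b 0 c ∈ M := by
        rcases hv with hv | hv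
        · exact ulag_transv_P hF hL.symm hdim1 M hMG hE10 _ (hs01 v hv) hsv0 c₀ hc₀ hc₀tr hsT
        · exact ulag_transv_P hF hL.symm hdim1 M hMG hE10 v hv hv0 c₀ hc₀ hc₀tr hT
      have hmove : ∀ u, hermForm n F q u u = 0 → (∀ c, c + c ^ q = 0 → uE n q u 0 c ∈ M) →
          ∀ w, hermForm n F q w w = 0 → (∀ c, c + c ^ q = 0 → uE n q w 0 c ∈ M) →
          hermForm n F q u w ≠ 0 → ∀ l : F, hermForm n F q (u + l • w) (u + l • w) = 0 →
          ∀ c, c + c ^ q = 0 → uE n q (u + l • w) 0 c ∈ M := by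
        intro u huu hu w hww hw huw l hiso c hc
        have htr : l / hermForm n F q u w + (l / hermForm n F q u w) ^ q = 0 := by
          have h5 : l ^ q * hermForm n F q u w + l * hermForm n F q w u = 0 := by
            rw [hermForm_add_left, hermForm_add_right hF, hermForm_add_right hF, hermForm_smul_left,
              hermForm_smul_left, hermForm_smul_right, hermForm_smul_right, huu, hww] at hiso
            linear_combination hiso
          have hwu : hermForm n F q w u ≠ 0 := hermForm_swap_ne hF n u w huw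
          rw [div_pow, hermForm_conj hF]
          field_simp
          linear_combination h5
        have hTw := hw _ htr
        have h1 : uE n q (((uE n q w 0 (l / hermForm n F q u w) : GL (Fin n) F) :
            Matrix (Fin n) (Fin n) F) *ᵥ u) 0 c ∈ M := by
          rw [← uT_conj hF n _ (uT_mem hF n w _ hww htr).1 u c huu]
          exact M.mul_mem (M.mul_mem hTw (hu c hc)) (M.inv_mem hTw)
        rw [uT_mulVec hF n w _ hww, div_mul_cancel₀ _ huw] at h1
        exact h1
      apply le_antisymm hMG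
      apply suGL_le_of_transv hF n hgen M
      intro x c hxx hc
      obtain ⟨p, hp, y, hy, rfl⟩ := hL.span x
      have hpp := hL.tsP p hp p hp
      have hyy := hL.tsQ y hy y hy
      by_cases hp0 : p = 0
      · rw [hp0, zero_add]
        exact hS1 y hy c hc
      · by_cases hpy : hermForm n F q p y = 0
        · obtain ⟨b', hb', hpb'⟩ := hL.exists_one hF p hp hp0
          have hb'p : hermForm n F q b' p = 1 := by rw [← hermForm_conj hF, hpb', one_pow]
          have hb'b' := hL.tsQ b' hb' b' hb'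
          have hiso1 : hermForm n F q (p + γ • b') (p + γ • b') = 0 := by
            rw [hermForm_add_left, hermForm_add_right hF, hermForm_add_right hF, hermForm_smul_left,
              hermForm_smul_left, hermForm_smul_right, hermForm_smul_right, hpp, hb'b', hpb', hb'p]
            linear_combination hγ
          have h1 := hmove p hpp (hS0 p hp) b' hb'b' (hS1 b' hb') (by rw [hpb']; exact one_ne_zero)
            γ hiso1
          have hw : y - γ • b' ∈ D 1 := (D 1).sub_mem hy ((D 1).smul_mem _ hb')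
          have hww := hL.tsQ _ hw _ hw
          have huw : hermForm n F q (p + γ • b') (y - γ • b') = γ := by
            rw [hermForm_add_left, hermForm_sub_right hF, hermForm_sub_right hF, hermForm_smul_left,
              hermForm_smul_left, hermForm_smul_right, hermForm_smul_right, hpy, hpb',
              hL.tsQ b' hb' y hy, hb'b', hγq]
            ring
          have e : p + γ • b' + (1 : F) • (y - γ • b') = p + y := by
            rw [one_smul]
            abel
          have h3 := hmove (p + γ • b') hiso1 h1 (y - γ • b') hww (hS1 _ hw)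
            (by rw [huw]; exact hγ0) 1 (by rw [e]; exact hxx) c hc
          rw [e] at h3
          exact h3
        · have e : p + (1 : F) • y = p + y := by rw [one_smul]
          have h3 := hmove p hpp (hS0 p hp) y hyy (hS1 y hy) hpy 1 (by rw [e]; exact hxx) c hc
          rw [e] at h3
          exact h3

end

end Cfsg.Agent.Lib.helper17
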