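import Cfsg.Agent.Lib.helper95.SuMax
import Cfsg.Agent.Lib.helper17.ULag1
import Cfsg.Agent.Lib.helper17.GUWitt
import Cfsg.Agent.Lib.helper17.HermForm
import Cfsg.Agent.Lib.helper17.UTransv
import Cfsg.Agent.Lib.helper17.GUdet

/-!
Orthogonal splittings `V = W ⊥ W'` of the unitary space `(F^n, hermForm)`: non-degeneracy of the
parts, non-isotropic vectors, and elements of `SU_n(q)` stabilising `W` with prescribed action on a
vector `a + b` (Witt's lemma in both parts, determinant corrected by a quasi-reflection).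
-/

set_option autoImplicit false

namespace Cfsg.Agent.Lib.helper17

open Matrix Cfsg Cfsg.Geo Module Cfsg.Agent.Lib.helper95

section
variable {F : Type*} [Field F]

/-- An orthogonal splitting of the unitary space. -/
structure UNSplit (n q : ℕ) (W Wp : Submodule F (Fin n → F)) : Prop where
  orth : ∀ a ∈ W, ∀ b ∈ Wp, hermForm n F q a b = 0
  dec : ∀ x, ∃ a ∈ W, ∃ b ∈ Wp, a + b = x

/-- The orthogonal complement: the vectors `x` with `h(x, w) = 0` for all `w ∈ W`. -/
def hermPerp (n q : ℕ) (W : Submodule F (Fin n → F)) : Submodule F (Fin n → F) where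
  carrier := {x | ∀ w ∈ W, hermForm n F q x w = 0}
  add_mem' := fun {x y} hx hy w hw => by rw [hermForm_add_left, hx w hw, hy w hw, add_zero]
  zero_mem' := fun w _ => hermForm_zero_left n q w
  smul_mem' := fun c x hx w hw => by rw [hermForm_smul_left, hx w hw, mul_zero]

end

section
variable {F : Type*} [Field F] [Fintype F] {q : ℕ} (hF : Fintype.card F = q ^ 2)
include hF

theorem UNSplit.orth' {n : ℕ} {W Wp : Submodule F (Fin n → F)} (h : UNSplit n q W Wp) :
    ∀ a ∈ W, ∀ b ∈ Wp, hermForm n F q b a = 0 :=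
  fun a ha b hb => hermForm_swap_zero hF n a b (h.orth a ha b hb)

theorem UNSplit.symm {n : ℕ} {W Wp : Submodule F (Fin n → F)} (h : UNSplit n q W Wp) :
    UNSplit n q Wp W where
  orth := fun b hb a ha => h.orth' hF a ha b hb
  dec := fun x => by
    obtain ⟨a, ha, b, hb, hab⟩ := h.dec x
    exact ⟨b, hb, a, ha, by rw [add_comm]; exact hab⟩

/-- A vector of `W` orthogonal to `W` is zero. -/
theorem UNSplit.eq_zero_of_orth {n : ℕ} {W Wp : Submodule F (Fin n → F)} (h : UNSplit n q W Wp)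
    (a : Fin n → F) (ha : a ∈ W) (h0 : ∀ a' ∈ W, hermForm n F q a a' = 0) : a = 0 := by
  by_contra hne
  obtain ⟨w, hw⟩ := ulag_nondeg hF n a hne
  obtain ⟨a', ha', b', hb', rfl⟩ := h.dec w
  rw [hermForm_add_right hF, h0 a' ha', h.orth a ha b' hb', add_zero] at hw
  exact hw rfl

theorem UNSplit.disj {n : ℕ} {W Wp : Submodule F (Fin n → F)} (h : UNSplit n q W Wp)
    (x : Fin n → F) (hx : x ∈ W) (hx' : x ∈ Wp) : x = 0 :=
  h.eq_zero_of_orth hF x hx (fun a' ha' => h.orth' hF a' ha' x hx')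

theorem UNSplit.nondeg {n : ℕ} {W Wp : Submodule F (Fin n → F)} (h : UNSplit n q W Wp)
    (y : Fin n → F) (hy : y ∈ W) (hy0 : y ≠ 0) : ∃ u ∈ W, hermForm n F q y u ≠ 0 := by
  by_contra hcon
  push Not at hcon
  exact hy0 (h.eq_zero_of_orth hF y hy hcon)

/-- A vector orthogonal to `W'` lies in `W`. -/
theorem UNSplit.mem_of_orth {n : ℕ} {W Wp : Submodule F (Fin n → F)} (h : UNSplit n q W Wp)
    (x : Fin n → F) (h0 : ∀ b ∈ Wp, hermForm n F q x b = 0) : x ∈ W := by
  obtain ⟨a, ha, b, hb, rfl⟩ := h.dec x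
  have hb0 : b = 0 := by
    apply (h.symm hF).eq_zero_of_orth hF b hb
    intro b' hb'
    have := h0 b' hb'
    rw [hermForm_add_left, h.orth a ha b' hb', zero_add] at this
    exact this
  rw [hb0, add_zero]
  exact ha

theorem UNSplit.norm_add {n : ℕ} {W Wp : Submodule F (Fin n → F)} (h : UNSplit n q W Wp)
    (a b : Fin n → F) (ha : a ∈ W) (hb : b ∈ Wp) :
    hermForm n F q (a + b) (a + b) = hermForm n F q a a + hermForm n F q b b := by
  rw [hermForm_add_left, hermForm_add_right hF, hermForm_add_right hF, h.orth a ha b hb,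
    h.orth' hF a ha b hb, add_zero, zero_add]

theorem UNSplit.finrank_add {n : ℕ} {W Wp : Submodule F (Fin n → F)} (h : UNSplit n q W Wp) :
    finrank F W + finrank F Wp = n := by
  have hc : IsCompl W Wp := by
    constructor
    · rw [Submodule.disjoint_def]
      exact fun x hx hx' => h.disj hF x hx hx'
    · rw [codisjoint_iff, eq_top_iff]
      intro x _
      obtain ⟨a, ha, b, hb, rfl⟩ := h.dec x
      exact Submodule.add_mem_sup ha hb
  have := Submodule.finrank_add_eq_of_isCompl hc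
  simpa using this

/-- If `h(y, u) ≠ 0` then some combination of `y` and `u` is non-isotropic. -/
theorem herm_exists_nonisotropic_comb (n : ℕ) (y u : Fin n → F) (hyu : hermForm n F q y u ≠ 0) :
    ∃ s t : F, hermForm n F q (s • y + t • u) (s • y + t • u) ≠ 0 := by
  by_contra hcon
  push Not at hcon
  have h1 := hcon 1 0
  have h2 := hcon 0 1
  have h3 := hcon 1 1
  obtain ⟨a, ha⟩ := exists_pow_q_ne hF
  have h4 := hcon 1 a
  rw [one_smul, zero_smul, add_zero] at h1
  rw [one_smul, zero_smul, zero_add] at h2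
  rw [one_smul, one_smul] at h3
  rw [one_smul] at h4
  simp only [hermForm_add_left, hermForm_add_right hF, hermForm_smul_left, hermForm_smul_right,
    h1, h2] at h3 h4
  apply hyu
  have h5 : (a ^ q - a) * hermForm n F q y u = 0 := by linear_combination h4 - a * h3
  rcases mul_eq_zero.mp h5 with h6 | h6
  · exact absurd (sub_eq_zero.mp h6) ha
  · exact h6

/-- Rescaling a non-isotropic vector to a prescribed non-zero norm in the fixed field. -/
theorem herm_exists_norm_eq (n : ℕ) (z : Fin n → F) (hz : hermForm n F q z z ≠ 0) (γ : F)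
    (hγ : γ ^ q = γ) (hγ0 : γ ≠ 0) :
    ∃ l : F, l ≠ 0 ∧ hermForm n F q (l • z) (l • z) = γ := by
  obtain ⟨σ, hσ, hne, hinv⟩ := exists_frob' hF
  have hδ : (hermForm n F q z z) ^ q = hermForm n F q z z := hermForm_conj hF n z z
  obtain ⟨l, hl⟩ := norm_surj σ hne hinv (γ / hermForm n F q z z) (div_ne_zero hγ0 hz)
    (by rw [hσ, div_pow, hγ, hδ])
  refine ⟨l, ?_, ?_⟩
  · rintro rfl
    rw [zero_mul] at hl
    exact (div_ne_zero hγ0 hz) hl.symm
  · rw [hermForm_smul_left, hermForm_smul_right, ← mul_assoc]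
    rw [hσ] at hl
    rw [hl, div_mul_cancel₀ _ hz]

/-- In `W'` (of dimension at least three) there is a non-isotropic vector orthogonal to a given
non-zero vector of `W'`. -/
theorem UNSplit.exists_orth_nonisotropic {n : ℕ} {W Wp : Submodule F (Fin n → F)}
    (h : UNSplit n q W Wp) (hd : 3 ≤ finrank F Wp) (b' : Fin n → F) (hb' : b' ∈ Wp)
    (hb'0 : b' ≠ 0) :
    ∃ z ∈ Wp, hermForm n F q z b' = 0 ∧ hermForm n F q z z ≠ 0 := by
  obtain ⟨σ, hσ, hne, hinv⟩ := exists_frob' hF
  obtain ⟨u₀, hu₀, hu₀b⟩ := (h.symm hF).nondeg hF b' hb' hb'0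
  have hu₀b' : hermForm n F q u₀ b' ≠ 0 := hermForm_swap_ne hF n b' u₀ hu₀b
  obtain ⟨b'', hb'', hb''1⟩ : ∃ b'' ∈ Wp, hermForm n F q b'' b' = 1 :=
    ⟨(hermForm n F q u₀ b')⁻¹ • u₀, Wp.smul_mem _ hu₀, by
      rw [hermForm_smul_left, inv_mul_cancel₀ hu₀b']⟩
  obtain ⟨Φ, hΦ⟩ : ∃ Φ : Wp →ₗ[F] F × F, ∀ y : Wp, Φ y =
      (hermForm n F q (y : Fin n → F) b', hermForm n F q (y : Fin n → F) b'') :=
    ⟨((hermSesq n σ b').prod (hermSesq n σ b'')).comp Wp.subtype, fun y => by
      rw [LinearMap.comp_apply, LinearMap.prod_apply, Submodule.subtype_apply]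
      show ((hermSesq n σ b') (y : Fin n → F), (hermSesq n σ b'') (y : Fin n → F)) = _
      rw [hermSesq_apply n q σ hσ, hermSesq_apply n q σ hσ]⟩
  have hker : LinearMap.ker Φ ≠ ⊥ := LinearMap.ker_ne_bot_of_finrank_lt (by
    rw [Module.finrank_prod, Module.finrank_self]; omega)
  obtain ⟨y, hyker, hy0⟩ := (Submodule.ne_bot_iff _).mp hker
  have hy12 := LinearMap.mem_ker.mp hyker
  rw [hΦ, Prod.mk_eq_zero] at hy12
  obtain ⟨hy1, hy2⟩ := hy12
  have hy0' : (y : Fin n → F) ≠ 0 := fun h0 => hy0 (Subtype.ext h0)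
  obtain ⟨u, hu, hyu⟩ := (h.symm hF).nondeg hF (y : Fin n → F) y.2 hy0'
  have hu' : u - hermForm n F q u b' • b'' ∈ Wp := Wp.sub_mem hu (Wp.smul_mem _ hb'')
  have hu'b : hermForm n F q (u - hermForm n F q u b' • b'') b' = 0 := by
    rw [hermForm_sub_left, hermForm_smul_left, hb''1, mul_one, sub_self]
  have hyu' : hermForm n F q (y : Fin n → F) (u - hermForm n F q u b' • b'') ≠ 0 := by
    rw [hermForm_sub_right hF, hermForm_smul_right, hy2, mul_zero, sub_zero]
    exact hyu
  obtain ⟨s, t, hst⟩ := herm_exists_nonisotropic_comb hF n _ _ hyu'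
  refine ⟨s • (y : Fin n → F) + t • (u - hermForm n F q u b' • b''),
    Wp.add_mem (Wp.smul_mem s y.2) (Wp.smul_mem t hu'), ?_, hst⟩
  rw [hermForm_add_left, hermForm_smul_left, hermForm_smul_left, hy1, hu'b, mul_zero, mul_zero,
    add_zero]

/-- A non-degenerate subspace together with its orthogonal complement is an orthogonal
splitting. -/
theorem unsplit_of_nondeg (n : ℕ) (W : Submodule F (Fin n → F))
    (hW : IsNondegenerateOn (hermForm n F q) W) : UNSplit n q W (hermPerp n q W) := by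
  classical
  have hq2 := two_le_of_card_eq_sq hF
  obtain ⟨σ, hσ, hne, hinv⟩ := exists_frob' hF
  have hBW : ∀ x y : W, ((hermSesq n σ).domRestrict₁₂ W W) x y =
      hermForm n F q (y : Fin n → F) (x : Fin n → F) := fun x y => by
    rw [LinearMap.domRestrict₁₂_apply, hermSesq_apply n q σ hσ]
  have hsymm : ((hermSesq n σ).domRestrict₁₂ W W).IsSymm :=
    ⟨fun x y => by rw [hBW, hBW, hσ, hermForm_conj hF]⟩
  have hnd : ((hermSesq n σ).domRestrict₁₂ W W).Nondegenerate := by
    constructor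
    · intro x hx
      by_contra hx0
      have hx0' : (x : Fin n → F) ≠ 0 := fun h => hx0 (Subtype.ext h)
      obtain ⟨⟨v, hv, hvx⟩, -⟩ := hW x.1 x.2 hx0'
      have := hx ⟨v, hv⟩
      rw [hBW] at this
      exact hvx this
    · intro y hy
      by_contra hy0
      have hy0' : (y : Fin n → F) ≠ 0 := fun h => hy0 (Subtype.ext h)
      obtain ⟨-, ⟨v, hv, hyv⟩⟩ := hW y.1 y.2 hy0'
      have := hy ⟨v, hv⟩
      rw [hBW] at this
      exact hyv this
  obtain ⟨b, hb⟩ := exists_orthonormal_basis_herm σ hne hinv _ hsymm hnd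
  have hb' : ∀ i j, hermForm n F q (b j : Fin n → F) (b i : Fin n → F) = if i = j then 1 else 0 :=
    fun i j => by rw [← hBW]; exact hb i j
  refine ⟨fun a ha x hx => hermForm_swap_zero hF n x a (hx a ha), fun x => ?_⟩
  obtain ⟨a, ha⟩ : ∃ a, a = ∑ i, hermForm n F q x (b i : Fin n → F) • (b i : Fin n → F) :=
    ⟨_, rfl⟩
  have haW : a ∈ W := by
    rw [ha]
    exact W.sum_mem (fun i _ => W.smul_mem _ (b i).2)
  refine ⟨a, haW, x - a, ?_, by abel⟩
  have key : ∀ j, hermForm n F q (b j : Fin n → F) (x - a) = 0 := by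
    intro j
    rw [ha, ← hermSesq_apply n q σ hσ, map_sub, map_sum, LinearMap.sub_apply,
      LinearMap.sum_apply]
    simp only [map_smulₛₗ, LinearMap.smul_apply, hermSesq_apply n q σ hσ, smul_eq_mul, hb',
      mul_ite, mul_one, mul_zero, Finset.sum_ite_eq', Finset.mem_univ, if_true]
    rw [hσ, hermForm_conj hF, sub_self]
  have hφ : (hermSesq n σ (x - a)).comp W.subtype = 0 := b.ext (fun j => by
    rw [LinearMap.comp_apply, Submodule.subtype_apply, hermSesq_apply n q σ hσ, key j,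
      LinearMap.zero_apply])
  intro w hw
  have h1 : hermForm n F q w (x - a) = 0 := by
    have := LinearMap.congr_fun hφ ⟨w, hw⟩
    rw [LinearMap.comp_apply, Submodule.subtype_apply, hermSesq_apply n q σ hσ,
      LinearMap.zero_apply] at this
    exact this
  exact hermForm_swap_zero hF n w _ h1

end

end Cfsg.Agent.Lib.helper17
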