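import Cfsg.Agent.Lib.helper17.UNondeg1

/-!
Elements of `GU_n(q)` and `SU_n(q)` adapted to an orthogonal splitting `V = W ⊥ W'`: Witt moves
inside one part fixing the other pointwise, and the determinant correction by a quasi-reflection.
-/

set_option autoImplicit false

namespace Cfsg.Agent.Lib.helper17

open Matrix Cfsg Cfsg.Geo Module Cfsg.Agent.Lib.helper95

section
variable {F : Type*} [Field F] [Fintype F] {q : ℕ} (hF : Fintype.card F = q ^ 2)
include hF

/-- An element of `GU` moving a vector of `W` to another one of the same norm, fixing `W'`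
pointwise and stabilising `W`. -/
theorem UNSplit.exists_move {n : ℕ} {W Wp : Submodule F (Fin n → F)} (h : UNSplit n q W Wp)
    (a a' : Fin n → F) (ha : a ∈ W) (ha' : a' ∈ W) (ha0 : a ≠ 0) (ha'0 : a' ≠ 0)
    (hnorm : hermForm n F q a a = hermForm n F q a' a') :
    ∃ g : GL (Fin n) F, g ∈ GU n F q ∧ (g : Matrix (Fin n) (Fin n) F) *ᵥ a = a' ∧
      (∀ b ∈ Wp, (g : Matrix (Fin n) (Fin n) F) *ᵥ b = b) ∧
      (∀ w ∈ W, (g : Matrix (Fin n) (Fin n) F) *ᵥ w ∈ W) := by
  classical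
  obtain ⟨β, -⟩ : ∃ β : Basis (Fin (finrank F Wp)) F Wp, β = β := ⟨Module.finBasis F Wp, rfl⟩
  have hrep : ∀ b ∈ Wp, ∃ c : Fin (finrank F Wp) → F, b = ∑ i, c i • (β i : Fin n → F) := by
    intro b hb
    refine ⟨fun i => β.repr ⟨b, hb⟩ i, ?_⟩
    have h3 := congrArg Subtype.val (β.sum_repr ⟨b, hb⟩)
    rw [Submodule.coe_sum] at h3
    exact h3.symm
  have hspan : ∀ x, x ∈ Submodule.span F (Set.range (fun i => (β i : Fin n → F))) → x ∈ Wp := by
    intro x hx
    exact (Submodule.span_le.mpr (by rintro _ ⟨i, rfl⟩; exact (β i).2)) hx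
  have hli : LinearIndependent F (fun i => (β i : Fin n → F)) :=
    β.linearIndependent.map' Wp.subtype (Submodule.ker_subtype Wp)
  have hx : LinearIndependent F
      (Fin.cons a (fun i => (β i : Fin n → F)) : Fin (finrank F Wp + 1) → (Fin n → F)) := by
    rw [linearIndependent_fin_cons]
    exact ⟨hli, fun hmem => ha0 (h.disj hF a ha (hspan a hmem))⟩
  have hy : LinearIndependent F
      (Fin.cons a' (fun i => (β i : Fin n → F)) : Fin (finrank F Wp + 1) → (Fin n → F)) := by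
    rw [linearIndependent_fin_cons]
    exact ⟨hli, fun hmem => ha'0 (h.disj hF a' ha' (hspan a' hmem))⟩
  have hG : ∀ i j, hermForm n F q
      ((Fin.cons a (fun i => (β i : Fin n → F)) : Fin (finrank F Wp + 1) → (Fin n → F)) i)
      ((Fin.cons a (fun i => (β i : Fin n → F)) : Fin (finrank F Wp + 1) → (Fin n → F)) j) =
      hermForm n F q
      ((Fin.cons a' (fun i => (β i : Fin n → F)) : Fin (finrank F Wp + 1) → (Fin n → F)) i)
      ((Fin.cons a' (fun i => (β i : Fin n → F)) : Fin (finrank F Wp + 1) → (Fin n → F)) j) := by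
    intro i j
    refine Fin.cases ?_ (fun i' => ?_) i <;> refine Fin.cases ?_ (fun j' => ?_) j
    · simp only [Fin.cons_zero]
      exact hnorm
    · simp only [Fin.cons_zero, Fin.cons_succ]
      rw [h.orth a ha _ (β j').2, h.orth a' ha' _ (β j').2]
    · simp only [Fin.cons_zero, Fin.cons_succ]
      rw [h.orth' hF a ha _ (β i').2, h.orth' hF a' ha' _ (β i').2]
    · simp only [Fin.cons_succ]
  obtain ⟨g, hg⟩ := gu_witt_family hF n _ _ hx hy hG
  have hg0 := hg 0
  have hgs : ∀ i, guToMat n F q g *ᵥ (β i : Fin n → F) = (β i : Fin n → F) := by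
    intro i
    have := hg (Fin.succ i)
    simp only [Fin.cons_succ] at this
    exact this
  simp only [Fin.cons_zero] at hg0
  have hfix : ∀ b ∈ Wp, guToMat n F q g *ᵥ b = b := by
    intro b hb
    obtain ⟨c, rfl⟩ := hrep b hb
    rw [Matrix.mulVec_sum]
    refine Finset.sum_congr rfl (fun i _ => ?_)
    rw [Matrix.mulVec_smul, hgs]
  refine ⟨(g : GL (Fin n) F), g.2, hg0, hfix, fun w hw => ?_⟩
  apply h.mem_of_orth hF
  intro b hb
  have h1 := guToMat_preserves n g w b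
  rw [hfix b hb] at h1
  rw [guToMat_apply] at h1
  rw [h1]
  exact h.orth w hw b hb

/-- An element of `SU` stabilising `W` and moving `a + b` to `a' + b'`, when the norms of the
components agree. -/
theorem UNSplit.exists_su_move {n : ℕ} {W Wp : Submodule F (Fin n → F)} (h : UNSplit n q W Wp)
    (hd : 3 ≤ finrank F Wp) (a a' b b' : Fin n → F) (ha : a ∈ W) (ha' : a' ∈ W) (hb : b ∈ Wp)
    (hb' : b' ∈ Wp) (ha0 : a ≠ 0) (ha'0 : a' ≠ 0) (hb0 : b ≠ 0) (hb'0 : b' ≠ 0)
    (hna : hermForm n F q a a = hermForm n F q a' a')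
    (hnb : hermForm n F q b b = hermForm n F q b' b') :
    ∃ g : GL (Fin n) F, g ∈ subspaceStabilizer W ⊓ (GU n F q ⊓ specialLinear (Fin n) F) ∧
      (g : Matrix (Fin n) (Fin n) F) *ᵥ (a + b) = a' + b' := by
  have hq2 := two_le_of_card_eq_sq hF
  obtain ⟨g₁, hg₁U, hg₁a, hg₁fix, hg₁W⟩ := h.exists_move hF a a' ha ha' ha0 ha'0 hna
  obtain ⟨g₂, hg₂U, hg₂b, hg₂fix, -⟩ := (h.symm hF).exists_move hF b b' hb hb' hb0 hb'0 hnb
  obtain ⟨z, hz, hzb', hzz⟩ := h.exists_orth_nonisotropic hF hd b' hb' hb'0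
  obtain ⟨δ, hδ⟩ : ∃ δ : F, δ = ((g₂ * g₁ : GL (Fin n) F) : Matrix (Fin n) (Fin n) F).det :=
    ⟨_, rfl⟩
  have hδ1 : δ ^ (q + 1) = 1 := by
    rw [hδ]
    exact det_pow_of_mem_GU hF n _ (mul_mem hg₂U hg₁U)
  have hδ0 : δ ≠ 0 := by
    rintro rfl
    rw [zero_pow (by omega)] at hδ1
    exact zero_ne_one hδ1
  obtain ⟨c, hc⟩ : ∃ c : F, c = (δ⁻¹ - 1) / hermForm n F q z z := ⟨_, rfl⟩
  have hzq : hermForm n F q z z ^ q = hermForm n F q z z := hermForm_conj hF n z z
  have hcdet : 1 + c * hermForm n F q z z = δ⁻¹ := by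
    rw [hc, div_mul_cancel₀ _ hzz]
    ring
  have hδq : δ ^ q = δ⁻¹ := by
    apply eq_inv_of_mul_eq_one_left
    rw [← pow_succ]
    exact hδ1
  have hcq' : c ^ q = (δ - 1) / hermForm n F q z z := by
    rw [hc, div_pow, sub_pow_q hF, one_pow, inv_pow, hδq, inv_inv, hzq]
  have hcq : c ^ q + c + c * c ^ q * hermForm n F q z z = 0 := by
    rw [hcq', hc]
    field_simp
    ring
  have hRdet : (unitaryTransvection n q z c).det = δ⁻¹ := by
    rw [unitaryTransvection_det, hcdet]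
  obtain ⟨d, hd'⟩ : ∃ d : GL (Fin n) F,
      (d : Matrix (Fin n) (Fin n) F) = unitaryTransvection n q z c :=
    ⟨Matrix.GeneralLinearGroup.mkOfDetNeZero (unitaryTransvection n q z c) (by
      rw [hRdet]; exact inv_ne_zero hδ0), rfl⟩
  have hdmul : ∀ x, (d : Matrix (Fin n) (Fin n) F) *ᵥ x = x + (c * hermForm n F q x z) • z := by
    intro x
    rw [hd', unitaryTransvection_mulVec]
  have hdU : d ∈ GU n F q := by
    rw [mem_GU_iff]
    intro u v
    rw [hd', hermForm_unitaryTransvection_gen hF, hcq, zero_mul, add_zero]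
  have hdW : ∀ w ∈ W, (d : Matrix (Fin n) (Fin n) F) *ᵥ w = w := by
    intro w hw
    rw [hdmul, h.orth w hw z hz, mul_zero, zero_smul, add_zero]
  refine ⟨d * (g₂ * g₁), Subgroup.mem_inf.mpr ⟨?_, Subgroup.mem_inf.mpr ⟨?_, ?_⟩⟩, ?_⟩
  · apply mem_subspaceStabilizer_of_forall
    intro w hw
    rw [Units.val_mul, Units.val_mul, ← Matrix.mulVec_mulVec, ← Matrix.mulVec_mulVec,
      hg₂fix _ (hg₁W w hw), hdW _ (hg₁W w hw)]
    exact hg₁W w hw
  · exact mul_mem hdU (mul_mem hg₂U hg₁U)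
  · rw [mem_specialLinear_iff, Units.val_mul, Matrix.det_mul, hd', hRdet, ← hδ,
      inv_mul_cancel₀ hδ0]
  · rw [Units.val_mul, Units.val_mul, ← Matrix.mulVec_mulVec, ← Matrix.mulVec_mulVec,
      Matrix.mulVec_add, hg₁a, hg₁fix b hb, Matrix.mulVec_add, hg₂fix a' ha', hg₂b, hdmul,
      hermForm_add_left, h.orth a' ha' z hz, hermForm_swap_zero hF n z b' hzb', add_zero,
      mul_zero, zero_smul, add_zero]

end

end Cfsg.Agent.Lib.helper17
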