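import Cfsg.Agent.Lib.helper17.UNondeg2

/-!
Maximality in `SU_n(q)` of the stabiliser of a non-degenerate subspace `W` with `2 dim W < n`:
the argument through the set of isotropic vectors all of whose unitary transvections lie in the
overgroup.
-/

set_option autoImplicit false

namespace Cfsg.Agent.Lib.helper17

open Matrix Cfsg Cfsg.Geo Module Cfsg.Agent.Lib.helper95

section
variable {F : Type*} [Field F]

/-- All unitary transvections with centre the isotropic vector `v` lie in `M`. -/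
def UTAll (n q : ℕ) (M : Subgroup (GL (Fin n) F)) (v : Fin n → F) : Prop :=
  hermForm n F q v v = 0 ∧ ∀ c : F, c + c ^ q = 0 → uE n q v 0 c ∈ M

end

section
variable {F : Type*} [Field F] [Fintype F] {q : ℕ} (hF : Fintype.card F = q ^ 2)
include hF

theorem UTAll.map {n : ℕ} {M : Subgroup (GL (Fin n) F)}
    (hMG : M ≤ GU n F q ⊓ specialLinear (Fin n) F) (g : GL (Fin n) F) (hg : g ∈ M)
    (v : Fin n → F) (hv : UTAll n q M v) :
    UTAll n q M ((g : Matrix (Fin n) (Fin n) F) *ᵥ v) := by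
  refine ⟨by rw [(mem_GU_iff n q g).mp (hMG hg).1, hv.1], fun c hc => ?_⟩
  rw [← uT_conj hF n g (hMG hg).1 v c hv.1]
  exact M.mul_mem (M.mul_mem hg (hv.2 c hc)) (M.inv_mem hg)

theorem UTAll.smul {n : ℕ} {M : Subgroup (GL (Fin n) F)} (a : F) (v : Fin n → F)
    (hv : UTAll n q M v) : UTAll n q M (a • v) := by
  refine ⟨by rw [hermForm_smul_left, hermForm_smul_right, hv.1, mul_zero, mul_zero],
    fun c hc => ?_⟩
  rw [uT_smul hF n a v c hv.1]
  apply hv.2
  have hcq : c ^ q = -c := by linear_combination hc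
  rw [mul_pow, mul_pow, pow_q_pow_q hF, hcq]
  ring

theorem UTAll.move {n : ℕ} {M : Subgroup (GL (Fin n) F)}
    (hMG : M ≤ GU n F q ⊓ specialLinear (Fin n) F) (u v : Fin n → F) (hu : UTAll n q M u)
    (hv : UTAll n q M v) (c : F) (hc : c + c ^ q = 0) :
    UTAll n q M (u + (c * hermForm n F q u v) • v) := by
  have := UTAll.map hF hMG (uE n q v 0 c) (hv.2 c hc) u hu
  rw [uT_mulVec hF n v c hv.1] at this
  exact this

/-- Transfer along the stabiliser: the property only depends on the norms of the components. -/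
theorem unondeg_transfer {n : ℕ} {W Wp : Submodule F (Fin n → F)} (h : UNSplit n q W Wp)
    (hd : 3 ≤ finrank F Wp) {M : Subgroup (GL (Fin n) F)}
    (hPM : subspaceStabilizer W ⊓ (GU n F q ⊓ specialLinear (Fin n) F) ≤ M)
    (hMG : M ≤ GU n F q ⊓ specialLinear (Fin n) F)
    (a a' b b' : Fin n → F) (ha : a ∈ W) (ha' : a' ∈ W) (hb : b ∈ Wp)
    (hb' : b' ∈ Wp) (ha0 : a ≠ 0) (ha'0 : a' ≠ 0) (hb0 : b ≠ 0) (hb'0 : b' ≠ 0)
    (hna : hermForm n F q a a = hermForm n F q a' a')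
    (hnb : hermForm n F q b b = hermForm n F q b' b') (hS : UTAll n q M (a + b)) :
    UTAll n q M (a' + b') := by
  obtain ⟨g, hg, hgx⟩ := h.exists_su_move hF hd a a' b b' ha ha' hb hb' ha0 ha'0 hb0 hb'0 hna hnb
  have := UTAll.map hF hMG g (hPM hg) _ hS
  rw [hgx] at this
  exact this

/-- From one vector with non-isotropic components to all of them. -/
theorem unondeg_typeI {n : ℕ} {W Wp : Submodule F (Fin n → F)} (h : UNSplit n q W Wp)
    (hd : 3 ≤ finrank F Wp) {M : Subgroup (GL (Fin n) F)}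
    (hPM : subspaceStabilizer W ⊓ (GU n F q ⊓ specialLinear (Fin n) F) ≤ M)
    (hMG : M ≤ GU n F q ⊓ specialLinear (Fin n) F)
    (a b : Fin n → F) (ha : a ∈ W) (hb : b ∈ Wp) (haa : hermForm n F q a a ≠ 0)
    (hS : UTAll n q M (a + b)) (a' b' : Fin n → F) (ha' : a' ∈ W) (hb' : b' ∈ Wp)
    (ha'a' : hermForm n F q a' a' ≠ 0)
    (hx : hermForm n F q (a' + b') (a' + b') = 0) : UTAll n q M (a' + b') := by
  have hα' : hermForm n F q a' a' ^ q = hermForm n F q a' a' := hermForm_conj hF n a' a'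
  obtain ⟨l, hl0, hl⟩ := herm_exists_norm_eq hF n a haa _ hα' ha'a'
  have hS' := UTAll.smul hF l _ hS
  rw [smul_add] at hS'
  have h1 := hS'.1
  rw [h.norm_add hF _ _ (W.smul_mem l ha) (Wp.smul_mem l hb), hl] at h1
  rw [h.norm_add hF a' b' ha' hb'] at hx
  have hnb : hermForm n F q (l • b) (l • b) = hermForm n F q b' b' := by
    linear_combination h1 - hx
  have hb'b' : hermForm n F q b' b' ≠ 0 := by
    intro h0
    apply ha'a'
    rw [h0, add_zero] at hx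
    exact hx
  have hla0 : l • a ≠ 0 := by
    intro h0
    rw [h0, hermForm_zero_left] at hl
    exact ha'a' hl.symm
  have hlb0 : l • b ≠ 0 := by
    intro h0
    rw [h0, hermForm_zero_left] at hnb
    exact hb'b' hnb.symm
  have ha'0 : a' ≠ 0 := by
    rintro rfl
    exact ha'a' (hermForm_zero_left n q 0)
  have hb'0 : b' ≠ 0 := by
    rintro rfl
    exact hb'b' (hermForm_zero_left n q 0)
  exact unondeg_transfer hF h hd hPM hMG (l • a) a' (l • b) b' (W.smul_mem l ha) ha'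
    (Wp.smul_mem l hb) hb' hla0 ha'0 hlb0 hb'0 hl hnb hS'

/-- From the vectors with non-isotropic components to those with isotropic components. -/
theorem unondeg_typeII {n : ℕ} {W Wp : Submodule F (Fin n → F)} (h : UNSplit n q W Wp)
    (hd : 3 ≤ finrank F Wp) {M : Subgroup (GL (Fin n) F)}
    (hMG : M ≤ GU n F q ⊓ specialLinear (Fin n) F)
    (hI : ∀ a' ∈ W, ∀ b' ∈ Wp, hermForm n F q a' a' ≠ 0 →
      hermForm n F q (a' + b') (a' + b') = 0 → UTAll n q M (a' + b'))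
    (a' b' : Fin n → F) (ha' : a' ∈ W) (hb' : b' ∈ Wp) (ha'0 : a' ≠ 0) (hb'0 : b' ≠ 0)
    (ha'a' : hermForm n F q a' a' = 0) (hb'b' : hermForm n F q b' b' = 0) :
    UTAll n q M (a' + b') := by
  have hq2 := two_le_of_card_eq_sq hF
  obtain ⟨b₂, hb₂, hb₂b', hb₂b₂⟩ := h.exists_orth_nonisotropic hF hd b' hb' hb'0
  have hb'b₂ : hermForm n F q b' b₂ = 0 := hermForm_swap_zero hF n b₂ b' hb₂b'
  obtain ⟨w, hw, ha'w⟩ := h.nondeg hF a' ha' ha'0
  have hwa' : hermForm n F q w a' ≠ 0 := hermForm_swap_ne hF n a' w ha'w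
  obtain ⟨s, hs⟩ := exists_trace_eq hF (-(hermForm n F q b₂ b₂) - hermForm n F q w w) (by
    rw [sub_pow_q hF, neg_pow_q hF, hermForm_conj hF, hermForm_conj hF])
  obtain ⟨a₂, ha₂⟩ : ∃ a₂, a₂ = w + (s / hermForm n F q a' w) • a' := ⟨_, rfl⟩
  have ha₂W : a₂ ∈ W := by
    rw [ha₂]
    exact W.add_mem hw (W.smul_mem _ ha')
  have ha'a₂ : hermForm n F q a' a₂ = hermForm n F q a' w := by
    rw [ha₂, hermForm_add_right hF, hermForm_smul_right, ha'a', mul_zero, add_zero]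
  have e1 : (s / hermForm n F q a' w) * hermForm n F q a' w = s := div_mul_cancel₀ _ ha'w
  have e2 : (s / hermForm n F q a' w) ^ q * hermForm n F q w a' = s ^ q := by
    rw [div_pow, hermForm_conj hF, div_mul_cancel₀ _ hwa']
  have ha₂a₂ : hermForm n F q a₂ a₂ = -(hermForm n F q b₂ b₂) := by
    rw [ha₂]
    simp only [hermForm_add_left, hermForm_add_right hF, hermForm_smul_left, hermForm_smul_right,
      ha'a', mul_zero, add_zero]
    linear_combination hs + e1 + e2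
  obtain ⟨v, hv⟩ : ∃ v, v = a₂ + b₂ := ⟨_, rfl⟩
  have hvv : hermForm n F q v v = 0 := by
    rw [hv, h.norm_add hF a₂ b₂ ha₂W hb₂, ha₂a₂]
    ring
  have ha₂0 : hermForm n F q a₂ a₂ ≠ 0 := by
    rw [ha₂a₂]
    exact neg_ne_zero.mpr hb₂b₂
  have hSv : UTAll n q M v := by
    rw [hv]
    exact hI a₂ ha₂W b₂ hb₂ ha₂0 (by rw [← hv]; exact hvv)
  obtain ⟨x, hx⟩ : ∃ x, x = a' + b' := ⟨_, rfl⟩
  have hxx : hermForm n F q x x = 0 := by
    rw [hx, h.norm_add hF a' b' ha' hb', ha'a', hb'b', add_zero]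
  have hxv : hermForm n F q x v = hermForm n F q a' w := by
    rw [hx, hv, hermForm_add_left, hermForm_add_right hF, hermForm_add_right hF, ha'a₂,
      h.orth a' ha' b₂ hb₂, h.orth' hF a₂ ha₂W b' hb', hb'b₂]
    ring
  obtain ⟨c₀, hc₀0, hc₀⟩ := exists_trace_zero_ne hF
  have hc₀' : -c₀ + (-c₀) ^ q = 0 := by
    rw [neg_pow_q hF]
    linear_combination -hc₀
  obtain ⟨κ, hκ⟩ : ∃ κ, κ = -c₀ * hermForm n F q a' w := ⟨_, rfl⟩
  have hκ0 : κ ≠ 0 := by
    rw [hκ]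
    exact mul_ne_zero (neg_ne_zero.mpr hc₀0) ha'w
  obtain ⟨u, hu⟩ : ∃ u, u = (a' + κ • a₂) + (b' + κ • b₂) := ⟨_, rfl⟩
  have hux : u = x + (-c₀ * hermForm n F q x v) • v := by
    rw [hu, hxv, ← hκ, hx, hv]
    module
  have huu : hermForm n F q u u = 0 := by
    have hT := uT_mem hF n v (-c₀) hvv hc₀'
    have := (mem_GU_iff n q _).mp hT.1 x x
    rw [uT_mulVec hF n v (-c₀) hvv, ← hux, hxx] at this
    exact this
  have hbpart : hermForm n F q (b' + κ • b₂) (b' + κ • b₂) =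
      κ * κ ^ q * hermForm n F q b₂ b₂ := by
    simp only [hermForm_add_left, hermForm_add_right hF, hermForm_smul_left, hermForm_smul_right,
      hb'b', hb'b₂, hb₂b', mul_zero, add_zero, zero_add]
    ring
  have hapart : hermForm n F q (a' + κ • a₂) (a' + κ • a₂) ≠ 0 := by
    have h1 := huu
    rw [hu, h.norm_add hF _ _ (W.add_mem ha' (W.smul_mem κ ha₂W))
      (Wp.add_mem hb' (Wp.smul_mem κ hb₂)), hbpart] at h1
    intro h0
    rw [h0, zero_add] at h1
    rcases mul_eq_zero.mp h1 with h2 | h2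
    · rcases mul_eq_zero.mp h2 with h3 | h3
      · exact hκ0 h3
      · exact hκ0 (pow_eq_zero_iff (by omega) |>.mp h3)
    · exact hb₂b₂ h2
  have hSu : UTAll n q M u := by
    rw [hu]
    exact hI _ (W.add_mem ha' (W.smul_mem κ ha₂W)) _ (Wp.add_mem hb' (Wp.smul_mem κ hb₂)) hapart
      (by rw [← hu]; exact huu)
  have huv : hermForm n F q u v = hermForm n F q x v := by
    rw [hux, hermForm_add_left, hermForm_smul_left, hvv, mul_zero, add_zero]
  have hfin := UTAll.move hF hMG u v hSu hSv c₀ hc₀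
  rw [huv] at hfin
  have e : u + (c₀ * hermForm n F q x v) • v = x := by
    rw [hux]
    module
  rw [e, hx] at hfin
  exact hfin

/-- From the vectors with isotropic components to a vector with non-isotropic components. -/
theorem unondeg_typeI_of_typeII {n : ℕ} {W Wp : Submodule F (Fin n → F)} (h : UNSplit n q W Wp)
    {M : Subgroup (GL (Fin n) F)} (hMG : M ≤ GU n F q ⊓ specialLinear (Fin n) F)
    (hII : ∀ a' ∈ W, ∀ b' ∈ Wp, a' ≠ 0 → b' ≠ 0 → hermForm n F q a' a' = 0 →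
      hermForm n F q b' b' = 0 → UTAll n q M (a' + b'))
    (a b : Fin n → F) (ha : a ∈ W) (hb : b ∈ Wp) (ha0 : a ≠ 0) (hb0 : b ≠ 0)
    (haa : hermForm n F q a a = 0) (hbb : hermForm n F q b b = 0) :
    ∃ a'' ∈ W, ∃ b'' ∈ Wp, hermForm n F q a'' a'' ≠ 0 ∧ UTAll n q M (a'' + b'') := by
  have hq2 := two_le_of_card_eq_sq hF
  obtain ⟨w, hw, haw⟩ := h.nondeg hF a ha ha0
  obtain ⟨t, ht⟩ := exists_isotropic_adjust hF n a w haa haw
  obtain ⟨a₁, ha₁⟩ : ∃ a₁, a₁ = w + t • a := ⟨_, rfl⟩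
  have ha₁W : a₁ ∈ W := by
    rw [ha₁]
    exact W.add_mem hw (W.smul_mem t ha)
  have ha₁a₁ : hermForm n F q a₁ a₁ = 0 := by
    rw [ha₁]
    exact ht
  obtain ⟨η₁, hη₁⟩ : ∃ η₁, η₁ = hermForm n F q a w := ⟨_, rfl⟩
  have hη₁0 : η₁ ≠ 0 := by
    rw [hη₁]
    exact haw
  have haa₁ : hermForm n F q a a₁ = η₁ := by
    rw [ha₁, hermForm_add_right hF, hermForm_smul_right, haa, mul_zero, add_zero, hη₁]
  have ha₁a : hermForm n F q a₁ a = η₁ ^ q := by
    rw [ha₁, hermForm_add_left, hermForm_smul_left, haa, mul_zero, add_zero, hη₁,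
      hermForm_conj hF]
  obtain ⟨w', hw', hbw'⟩ := (h.symm hF).nondeg hF b hb hb0
  obtain ⟨t', ht'⟩ := exists_isotropic_adjust hF n b w' hbb hbw'
  obtain ⟨b₀, hb₀⟩ : ∃ b₀, b₀ = w' + t' • b := ⟨_, rfl⟩
  have hb₀Wp : b₀ ∈ Wp := by
    rw [hb₀]
    exact Wp.add_mem hw' (Wp.smul_mem t' hb)
  have hb₀b₀ : hermForm n F q b₀ b₀ = 0 := by
    rw [hb₀]
    exact ht'
  have hbb₀ : hermForm n F q b b₀ = hermForm n F q b w' := by
    rw [hb₀, hermForm_add_right hF, hermForm_smul_right, hbb, mul_zero, add_zero]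
  obtain ⟨ε, hε⟩ := exists_pow_q_ne hF
  have hε0 : ε ≠ 0 := by
    rintro rfl
    exact hε (zero_pow (by omega))
  obtain ⟨ρ, hρ⟩ : ∃ ρ, ρ = hermForm n F q b w' * η₁ ^ q := ⟨_, rfl⟩
  have hρ0 : ρ ≠ 0 := by
    rw [hρ]
    exact mul_ne_zero hbw' (pow_ne_zero q hη₁0)
  obtain ⟨θ, hθ⟩ : ∃ θ, θ = (ε / ρ) ^ q := ⟨_, rfl⟩
  have hθq : θ ^ q = ε / ρ := by rw [hθ, pow_q_pow_q hF]
  have hθ0 : θ ≠ 0 := by
    rw [hθ]
    exact pow_ne_zero q (div_ne_zero hε0 hρ0)
  obtain ⟨b₁, hb₁⟩ : ∃ b₁, b₁ = θ • b₀ := ⟨_, rfl⟩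
  have hb₁Wp : b₁ ∈ Wp := by
    rw [hb₁]
    exact Wp.smul_mem θ hb₀Wp
  have hb₁b₁ : hermForm n F q b₁ b₁ = 0 := by
    rw [hb₁, hermForm_smul_left, hermForm_smul_right, hb₀b₀, mul_zero, mul_zero]
  obtain ⟨X, hX⟩ : ∃ X, X = hermForm n F q b b₁ := ⟨_, rfl⟩
  have hbb₁ : X = θ ^ q * hermForm n F q b w' := by
    rw [hX, hb₁, hermForm_smul_right, hbb₀]
  have hkey : X * η₁ ^ q = ε := by
    rw [hbb₁, hθq, mul_assoc, ← hρ, div_mul_cancel₀ _ hρ0]
  have hε' : X ^ q * η₁ = ε ^ q := by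
    rw [← hkey, mul_pow, pow_q_pow_q hF]
  have hX0 : X ≠ 0 := by
    rintro rfl
    rw [zero_mul] at hkey
    exact hε0 hkey.symm
  have ha₁0 : a₁ ≠ 0 := by
    intro h0
    rw [h0, hermForm_zero_right' hF] at haa₁
    exact hη₁0 haa₁.symm
  have hb₁0 : b₁ ≠ 0 := by
    intro h0
    rw [h0, hermForm_zero_right' hF] at hX
    exact hX0 hX
  have hSu : UTAll n q M (a + b) := hII a ha b hb ha0 hb0 haa hbb
  have hSv : UTAll n q M (a₁ + b₁) := hII a₁ ha₁W b₁ hb₁Wp ha₁0 hb₁0 ha₁a₁ hb₁b₁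
  obtain ⟨c₀, hc₀0, hc₀⟩ := exists_trace_zero_ne hF
  have hmv := UTAll.move hF hMG _ _ hSu hSv c₀ hc₀
  have huv : hermForm n F q (a + b) (a₁ + b₁) = η₁ + X := by
    rw [hermForm_add_left, hermForm_add_right hF, hermForm_add_right hF, haa₁, ← hX,
      h.orth a ha b₁ hb₁Wp, h.orth' hF a₁ ha₁W b hb]
    ring
  obtain ⟨κ, hκ⟩ : ∃ κ, κ = c₀ * (η₁ + X) := ⟨_, rfl⟩
  rw [huv, ← hκ] at hmv
  have e : a + b + κ • (a₁ + b₁) = (a + κ • a₁) + (b + κ • b₁) := by module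
  rw [e] at hmv
  refine ⟨a + κ • a₁, W.add_mem ha (W.smul_mem κ ha₁W), b + κ • b₁,
    Wp.add_mem hb (Wp.smul_mem κ hb₁Wp), ?_, hmv⟩
  have hκq : κ ^ q = -c₀ * (η₁ ^ q + X ^ q) := by
    have hc₀q : c₀ ^ q = -c₀ := by linear_combination hc₀
    rw [hκ, mul_pow, add_pow_q hF, hc₀q]
  have hnorm : hermForm n F q (a + κ • a₁) (a + κ • a₁) = c₀ * (ε - ε ^ q) := by
    simp only [hermForm_add_left, hermForm_add_right hF, hermForm_smul_left, hermForm_smul_right,
      haa, ha₁a₁, haa₁, ha₁a, mul_zero, add_zero, zero_add]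
    linear_combination η₁ * hκq + η₁ ^ q * hκ + c₀ * hkey - c₀ * hε'
  rw [hnorm]
  exact mul_ne_zero hc₀0 (sub_ne_zero.mpr (Ne.symm hε))

/-- Every vector of `W'` is a sum of two isotropic vectors of `W'`. -/
theorem UNSplit.exists_isotropic_sum {n : ℕ} {W Wp : Submodule F (Fin n → F)}
    (h : UNSplit n q W Wp) (hd : 3 ≤ finrank F Wp) (y : Fin n → F) (hy : y ∈ Wp) :
    ∃ y₁ ∈ Wp, ∃ y₂ ∈ Wp, hermForm n F q y₁ y₁ = 0 ∧ hermForm n F q y₂ y₂ = 0 ∧
      y = y₁ + y₂ := by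
  have hq2 := two_le_of_card_eq_sq hF
  by_cases hyy : hermForm n F q y y = 0
  · exact ⟨y, hy, 0, Wp.zero_mem, hyy, hermForm_zero_left n q 0, (add_zero y).symm⟩
  · have hy0 : y ≠ 0 := by
      rintro rfl
      exact hyy (hermForm_zero_left n q 0)
    obtain ⟨μ, hμ⟩ := exists_trace_eq hF 1 (one_pow q)
    obtain ⟨z₀, hz₀, hz₀y, hz₀z₀⟩ := h.exists_orth_nonisotropic hF hd y hy hy0
    have hγq : hermForm n F q y y ^ q = hermForm n F q y y := hermForm_conj hF n y y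
    have hμ0 : μ ≠ 0 := by
      rintro rfl
      rw [zero_pow (by omega), add_zero] at hμ
      exact zero_ne_one hμ
    obtain ⟨l, hl0, hl⟩ := herm_exists_norm_eq hF n z₀ hz₀z₀
      (-(μ * μ ^ q * hermForm n F q y y)) (by
        rw [neg_pow_q hF, mul_pow, mul_pow, pow_q_pow_q hF, hγq]
        ring)
      (neg_ne_zero.mpr (mul_ne_zero (mul_ne_zero hμ0 (pow_ne_zero q hμ0)) hyy))
    obtain ⟨z, hz⟩ : ∃ z, z = l • z₀ := ⟨_, rfl⟩
    rw [← hz] at hl
    have hzWp : z ∈ Wp := by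
      rw [hz]
      exact Wp.smul_mem l hz₀
    have hzy : hermForm n F q z y = 0 := by
      rw [hz, hermForm_smul_left, hz₀y, mul_zero]
    have hyz : hermForm n F q y z = 0 := hermForm_swap_zero hF n _ _ hzy
    refine ⟨μ • y + z, Wp.add_mem (Wp.smul_mem μ hy) hzWp, (1 - μ) • y - z,
      Wp.sub_mem (Wp.smul_mem _ hy) hzWp, ?_, ?_, by module⟩
    · simp only [hermForm_add_left, hermForm_add_right hF, hermForm_smul_left,
        hermForm_smul_right, hyz, hzy, hl, mul_zero, add_zero, zero_add]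
      ring
    · simp only [hermForm_sub_left, hermForm_sub_right hF, hermForm_smul_left,
        hermForm_smul_right, hyz, hzy, hl, mul_zero, sub_zero, zero_sub]
      rw [sub_pow_q hF, one_pow]
      linear_combination (-(hermForm n F q y y)) * hμ

end

end Cfsg.Agent.Lib.helper17
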