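import Cfsg.Agent.Lib.helper17.UNondeg3

/-!
The stabiliser in `SU_n(q)` of a non-zero non-degenerate subspace `W` with `2 dim W < n` is a
maximal subgroup (given the generation of `SU` by unitary transvections).
-/

set_option autoImplicit false

namespace Cfsg.Agent.Lib.helper17

open Matrix Cfsg Cfsg.Geo Module Cfsg.Agent.Lib.helper95

section
variable {F : Type*} [Field F] [Fintype F] {q : ℕ} (hF : Fintype.card F = q ^ 2)
include hF

/-- If `M ≤ SU` contains the stabiliser of `W` (for an orthogonal splitting `V = W ⊥ W'` with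
`dim W < dim W'`) and an element not stabilising `W`, then `M` contains every unitary
transvection. -/
theorem su_nondeg_transv_all (n : ℕ) (W Wp : Submodule F (Fin n → F)) (h : UNSplit n q W Wp)
    (hdim : finrank F W < finrank F Wp) (hd : 3 ≤ finrank F Wp)
    (M : Subgroup (GL (Fin n) F))
    (hPM : subspaceStabilizer W ⊓ (GU n F q ⊓ specialLinear (Fin n) F) ≤ M)
    (hMG : M ≤ GU n F q ⊓ specialLinear (Fin n) F)
    (g : GL (Fin n) F) (hgM : g ∈ M) (hgW : g ∉ subspaceStabilizer W)
    (v : Fin n → F) (c : F) (hvv : hermForm n F q v v = 0) (hc : c + c ^ q = 0) :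
    uE n q v 0 c ∈ M := by
  classical
  have hq2 := two_le_of_card_eq_sq hF
  have ha1 : ∀ u ∈ W, hermForm n F q u u = 0 → UTAll n q M u := by
    intro u hu huu
    refine ⟨huu, fun c hc => hPM ⟨mem_subspaceStabilizer_of_forall W _ (fun x hx => ?_),
      uT_mem hF n u c huu hc⟩⟩
    rw [uT_mulVec hF n u c huu]
    exact W.add_mem hx (W.smul_mem _ hu)
  have ha2 : ∀ u ∈ Wp, hermForm n F q u u = 0 → UTAll n q M u := by
    intro u hu huu
    refine ⟨huu, fun c hc => hPM ⟨mem_subspaceStabilizer_of_forall W _ (fun x hx => ?_),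
      uT_mem hF n u c huu hc⟩⟩
    rw [uT_mulVec hF n u c huu, h.orth x hx u hu, mul_zero, zero_smul, add_zero]
    exact hx
  by_cases hex : ∃ v₀, UTAll n q M v₀ ∧ v₀ ∉ W ∧ v₀ ∉ Wp
  · obtain ⟨v₀, hv₀, hv₀W, hv₀Wp⟩ := hex
    obtain ⟨a, ha, b, hb, rfl⟩ := h.dec v₀
    have ha0 : a ≠ 0 := by
      rintro rfl
      rw [zero_add] at hv₀Wp
      exact hv₀Wp hb
    have hb0 : b ≠ 0 := by
      rintro rfl
      rw [add_zero] at hv₀W
      exact hv₀W ha
    have hI : ∀ a' ∈ W, ∀ b' ∈ Wp, hermForm n F q a' a' ≠ 0 →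
        hermForm n F q (a' + b') (a' + b') = 0 → UTAll n q M (a' + b') := by
      by_cases haa : hermForm n F q a a = 0
      · have hbb : hermForm n F q b b = 0 := by
          have := hv₀.1
          rw [h.norm_add hF a b ha hb, haa, zero_add] at this
          exact this
        have hII : ∀ a' ∈ W, ∀ b' ∈ Wp, a' ≠ 0 → b' ≠ 0 → hermForm n F q a' a' = 0 →
            hermForm n F q b' b' = 0 → UTAll n q M (a' + b') := by
          intro a' ha' b' hb' ha'0 hb'0 ha'a' hb'b'
          exact unondeg_transfer hF h hd hPM hMG a a' b b' ha ha' hb hb' ha0 ha'0 hb0 hb'0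
            (by rw [haa, ha'a']) (by rw [hbb, hb'b']) hv₀
        obtain ⟨a'', ha'', b'', hb'', ha''n, hS''⟩ :=
          unondeg_typeI_of_typeII hF h hMG hII a b ha hb ha0 hb0 haa hbb
        intro a' ha' b' hb' ha'a' hx
        exact unondeg_typeI hF h hd hPM hMG a'' b'' ha'' hb'' ha''n hS'' a' b' ha' hb' ha'a' hx
      · intro a' ha' b' hb' ha'a' hx
        exact unondeg_typeI hF h hd hPM hMG a b ha hb haa hv₀ a' b' ha' hb' ha'a' hx
    obtain ⟨a', ha', b', hb', rfl⟩ := h.dec v
    by_cases ha'0 : a' = 0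
    · rw [ha'0, zero_add] at hvv ⊢
      exact (ha2 b' hb' hvv).2 c hc
    by_cases hb'0 : b' = 0
    · rw [hb'0, add_zero] at hvv ⊢
      exact (ha1 a' ha' hvv).2 c hc
    by_cases ha'a' : hermForm n F q a' a' = 0
    · have hb'b' : hermForm n F q b' b' = 0 := by
        have := hvv
        rw [h.norm_add hF a' b' ha' hb', ha'a', zero_add] at this
        exact this
      exact (unondeg_typeII hF h hd hMG hI a' b' ha' hb' ha'0 hb'0 ha'a' hb'b').2 c hc
    · exact (hI a' ha' b' hb' ha'a' hvv).2 c hc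
  · exfalso
    have hS : ∀ v₀, UTAll n q M v₀ → v₀ ∈ W ∨ v₀ ∈ Wp := by
      intro v₀ hv₀
      by_contra hcon
      push Not at hcon
      exact hex ⟨v₀, hv₀, hcon.1, hcon.2⟩
    have hgU : g ∈ GU n F q := (hMG hgM).1
    have hgy : ∀ y ∈ Wp, hermForm n F q y y = 0 →
        (g : Matrix (Fin n) (Fin n) F) *ᵥ y ∈ W ∨ (g : Matrix (Fin n) (Fin n) F) *ᵥ y ∈ Wp :=
      fun y hy hyy => hS _ (UTAll.map hF hMG g hgM y (ha2 y hy hyy))
    have hdich : (∀ y ∈ Wp, hermForm n F q y y = 0 →
          (g : Matrix (Fin n) (Fin n) F) *ᵥ y ∈ W) ∨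
        (∀ y ∈ Wp, hermForm n F q y y = 0 → (g : Matrix (Fin n) (Fin n) F) *ᵥ y ∈ Wp) := by
      by_contra hcon
      push Not at hcon
      obtain ⟨⟨y₁, hy₁, hy₁y₁, hgy₁⟩, ⟨y₂, hy₂, hy₂y₂, hgy₂⟩⟩ := hcon
      have hgy₁' := (hgy y₁ hy₁ hy₁y₁).resolve_left hgy₁
      have hgy₂' := (hgy y₂ hy₂ hy₂y₂).resolve_right hgy₂
      obtain ⟨μ, hμ0, hμ⟩ : ∃ μ : F, μ ≠ 0 ∧
          hermForm n F q (y₁ + μ • y₂) (y₁ + μ • y₂) = 0 := by
        by_cases hη : hermForm n F q y₁ y₂ = 0
        · refine ⟨1, one_ne_zero, ?_⟩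
          rw [one_smul, hermForm_add_left, hermForm_add_right hF, hermForm_add_right hF, hy₁y₁,
            hy₂y₂, hη, hermForm_swap_zero hF n y₁ y₂ hη]
          ring
        · obtain ⟨c₀, hc₀0, hc₀⟩ := exists_trace_zero_ne hF
          refine ⟨c₀ * hermForm n F q y₁ y₂, mul_ne_zero hc₀0 hη, ?_⟩
          simp only [hermForm_add_left, hermForm_add_right hF, hermForm_smul_left,
            hermForm_smul_right, hy₁y₁, hy₂y₂, mul_zero, add_zero, zero_add]
          rw [mul_pow, hermForm_conj hF]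
          linear_combination (hermForm n F q y₁ y₂ * hermForm n F q y₂ y₁) * hc₀
      rcases hgy _ (Wp.add_mem hy₁ (Wp.smul_mem μ hy₂)) hμ with h1 | h1
      · rw [Matrix.mulVec_add, Matrix.mulVec_smul] at h1
        apply hgy₁
        have := W.sub_mem h1 (W.smul_mem μ hgy₂')
        rwa [add_sub_cancel_right] at this
      · rw [Matrix.mulVec_add, Matrix.mulVec_smul] at h1
        apply hgy₂
        have h2 := Wp.sub_mem h1 hgy₁'
        rw [add_sub_cancel_left] at h2
        have h3 := Wp.smul_mem μ⁻¹ h2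
        rwa [smul_smul, inv_mul_cancel₀ hμ0, one_smul] at h3
    rcases hdich with hA | hB
    · have hall : ∀ y ∈ Wp, (g : Matrix (Fin n) (Fin n) F) *ᵥ y ∈ W := by
        intro y hy
        obtain ⟨y₁, hy₁, y₂, hy₂, h1, h2, rfl⟩ := h.exists_isotropic_sum hF hd y hy
        rw [Matrix.mulVec_add]
        exact W.add_mem (hA y₁ hy₁ h1) (hA y₂ hy₂ h2)
      let φ : Wp →ₗ[F] W :=
        { toFun := fun w => ⟨(g : Matrix (Fin n) (Fin n) F) *ᵥ (w : Fin n → F), hall w w.2⟩
          map_add' := fun a b => by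
            apply Subtype.ext
            show (g : Matrix (Fin n) (Fin n) F) *ᵥ ((a : Fin n → F) + (b : Fin n → F)) =
              (g : Matrix (Fin n) (Fin n) F) *ᵥ (a : Fin n → F) +
                (g : Matrix (Fin n) (Fin n) F) *ᵥ (b : Fin n → F)
            exact Matrix.mulVec_add _ _ _
          map_smul' := fun r a => by
            apply Subtype.ext
            show (g : Matrix (Fin n) (Fin n) F) *ᵥ (r • (a : Fin n → F)) =
              r • ((g : Matrix (Fin n) (Fin n) F) *ᵥ (a : Fin n → F))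
            exact Matrix.mulVec_smul _ _ _ }
      have hinj : Function.Injective φ := by
        intro a b hab
        have h3 : (g : Matrix (Fin n) (Fin n) F) *ᵥ (a : Fin n → F) =
            (g : Matrix (Fin n) (Fin n) F) *ᵥ (b : Fin n → F) := congrArg Subtype.val hab
        have h4 := congrArg (fun y =>
          ((g⁻¹ : GL (Fin n) F) : Matrix (Fin n) (Fin n) F) *ᵥ y) h3
        simp only [gl_inv_mulVec_mulVec] at h4
        exact Subtype.ext h4
      have h5 := LinearMap.finrank_le_finrank_of_injective hinj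
      omega
    · have hall : ∀ y ∈ Wp, (g : Matrix (Fin n) (Fin n) F) *ᵥ y ∈ Wp := by
        intro y hy
        obtain ⟨y₁, hy₁, y₂, hy₂, h1, h2, rfl⟩ := h.exists_isotropic_sum hF hd y hy
        rw [Matrix.mulVec_add]
        exact Wp.add_mem (hB y₁ hy₁ h1) (hB y₂ hy₂ h2)
      have hgst : g ∈ subspaceStabilizer Wp := mem_subspaceStabilizer_of_forall Wp g hall
      have hginv : g⁻¹ ∈ subspaceStabilizer Wp := (subspaceStabilizer Wp).inv_mem hgst
      apply hgW
      apply mem_subspaceStabilizer_of_forall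
      intro w hw
      apply h.mem_of_orth hF
      intro b hb
      have hb2 : ((g⁻¹ : GL (Fin n) F) : Matrix (Fin n) (Fin n) F) *ᵥ b ∈ Wp :=
        ((mem_subspaceStabilizer_iff Wp _).mp hginv b).mp hb
      have h1 := (mem_GU_iff n q g).mp hgU w
        (((g⁻¹ : GL (Fin n) F) : Matrix (Fin n) (Fin n) F) *ᵥ b)
      rw [gl_mulVec_inv_mulVec] at h1
      rw [h1]
      exact h.orth w hw _ hb2

/-- The stabiliser in the special unitary group (inside GL) of a non-zero non-degenerate subspace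
`W` with `2 dim W < n` is a maximal subgroup, given that `SU` is generated by the unitary
transvections. -/
theorem su_nondeg_maximal (n : ℕ) (hn : 5 ≤ n)
    (hgen : Subgroup.closure {A : ↥(Cfsg.SU n F q) | ∃ (v : Fin n → F) (c : F),
      Cfsg.hermForm n F q v v = 0 ∧
      ((A : Matrix.SpecialLinearGroup (Fin n) F) : Matrix (Fin n) (Fin n) F) =
        Cfsg.unitaryTransvection n q v c} = ⊤)
    (W : Submodule F (Fin n → F)) (hW0 : W ≠ ⊥)
    (hW : IsNondegenerateOn (hermForm n F q) W) (hdim : 2 * finrank F W < n) :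
    IsMaximalIn (GU n F q ⊓ specialLinear (Fin n) F)
      (subspaceStabilizer W ⊓ (GU n F q ⊓ specialLinear (Fin n) F)) := by
  have hq2 := two_le_of_card_eq_sq hF
  have h := unsplit_of_nondeg hF n W hW
  obtain ⟨Wp, hWp⟩ : ∃ Wp, Wp = hermPerp n q W := ⟨_, rfl⟩
  rw [← hWp] at h
  have hfr := h.finrank_add hF
  have hd : 3 ≤ finrank F Wp := by omega
  have hdim' : finrank F W < finrank F Wp := by omega
  refine ⟨?_, ?_⟩
  · refine lt_of_le_of_ne inf_le_right ?_
    intro heq
    obtain ⟨w, hwW, hw0⟩ := (Submodule.ne_bot_iff W).mp hW0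
    obtain ⟨u, hu, hwu⟩ := h.nondeg hF w hwW hw0
    obtain ⟨s, t, hst⟩ := herm_exists_nonisotropic_comb hF n w u hwu
    obtain ⟨a, ha⟩ : ∃ a, a = s • w + t • u := ⟨_, rfl⟩
    have haW : a ∈ W := by
      rw [ha]
      exact W.add_mem (W.smul_mem s hwW) (W.smul_mem t hu)
    rw [← ha] at hst
    obtain ⟨y, hy, hy0⟩ : ∃ y ∈ Wp, y ≠ 0 := by
      have hpos : 0 < finrank F Wp := by omega
      have : Nontrivial Wp := Module.nontrivial_of_finrank_pos (R := F) hpos
      obtain ⟨z, hz⟩ := exists_ne (0 : Wp)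
      exact ⟨z.1, z.2, fun h0 => hz (Subtype.ext h0)⟩
    obtain ⟨z, hz, -, hzz⟩ := h.exists_orth_nonisotropic hF hd y hy hy0
    have haq : (-(hermForm n F q a a)) ^ q = -(hermForm n F q a a) := by
      rw [neg_pow_q hF, hermForm_conj hF]
    obtain ⟨l, hl0, hl⟩ := herm_exists_norm_eq hF n z hzz (-(hermForm n F q a a)) haq
      (neg_ne_zero.mpr hst)
    obtain ⟨b, hb⟩ : ∃ b, b = l • z := ⟨_, rfl⟩
    rw [← hb] at hl
    have hbWp : b ∈ Wp := by
      rw [hb]
      exact Wp.smul_mem l hz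
    have hb0 : b ≠ 0 := by
      intro h0
      rw [h0, hermForm_zero_left] at hl
      exact hst (by linear_combination hl)
    have hvv : hermForm n F q (a + b) (a + b) = 0 := by
      rw [h.norm_add hF a b haW hbWp, hl]
      ring
    obtain ⟨c, hc0, hc⟩ := exists_trace_zero_ne hF
    have hgP : uE n q (a + b) 0 c ∈
        subspaceStabilizer W ⊓ (GU n F q ⊓ specialLinear (Fin n) F) := by
      rw [heq]
      exact uT_mem hF n _ c hvv hc
    have h1 := ((mem_subspaceStabilizer_iff W _).mp hgP.1 a).mp haW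
    rw [uT_mulVec hF n _ c hvv] at h1
    have hκ : hermForm n F q a (a + b) = hermForm n F q a a := by
      rw [hermForm_add_right hF, h.orth a haW b hbWp, add_zero]
    rw [hκ] at h1
    have h2 : (c * hermForm n F q a a) • b ∈ W := by
      have h3 := W.sub_mem h1 (W.add_mem haW (W.smul_mem (c * hermForm n F q a a) haW))
      have e : a + (c * hermForm n F q a a) • (a + b) - (a + (c * hermForm n F q a a) • a) =
          (c * hermForm n F q a a) • b := by module
      rwa [e] at h3
    have h4 : b ∈ W := by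
      have := W.smul_mem (c * hermForm n F q a a)⁻¹ h2
      rwa [smul_smul, inv_mul_cancel₀ (mul_ne_zero hc0 hst), one_smul] at this
    exact hb0 (h.disj hF b h4 hbWp)
  · intro M hPM hMG
    by_cases hM : M ≤ subspaceStabilizer W
    · left
      exact le_antisymm (le_inf hM hMG) hPM
    · right
      obtain ⟨g, hgM, hgW⟩ := SetLike.not_le_iff_exists.mp hM
      exact le_antisymm hMG (suGL_le_of_transv hF n hgen M (fun v c hvv hc =>
        su_nondeg_transv_all hF n W Wp h hdim' hd M hPM hMG g hgM hgW v c hvv hc))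

end

end Cfsg.Agent.Lib.helper17
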