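import Cfsg.Agent.Lib.helper81.WTDefs

/-!
# S4414 piece B3 (core): dichotomy for the image of the support

`h17_image_dichotomy_core` is the statement of the Skel piece `image_dichotomy` with the three
pieces it uses (PC = `proj_complete`, SUPP = `supp_smul`, B2 = `supp_comb`) passed in as hypotheses
`hPC`, `hSUPP`, `hB2` (instantiated at the vectors at hand).  Imports only the shared definitions.
-/

set_option autoImplicit false

namespace Cfsg.Agent.Lib.helper81.WT

open scoped TensorProduct

universe u v w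

/-- [B3, core] dichotomy for the image of the support, with PC, SUPP, B2 as hypotheses. -/
theorem h17_image_dichotomy_core {S : Type u} [Group S] [Finite S] {F : Type w} [Field F] [Finite F]
    {V : Type v} [AddCommGroup V] [Module F V]
    (R : Representation F S V) (Y : Subgroup S) [Y.Normal] [Fintype ↥Y]
    (hPC : ∀ v : V, (∀ μ : ↥Y →* Fˣ, proj R Y μ v = 0) → v = 0)
    (v₁ v₂ : V) (h₁ : v₁ ≠ 0) (h₂ : v₂ ≠ 0) (hd : Disjoint (supp R Y v₁) (supp R Y v₂))
    (g : S) (a b : F) (hg : R g v₁ = a • v₁ + b • v₂)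
    (hSUPP : supp R Y (R g v₁) = cj Y g '' supp R Y v₁)
    (hB2 : supp R Y (a • v₁ + b • v₂) =
      {ν | (a ≠ 0 ∧ ν ∈ supp R Y v₁) ∨ (b ≠ 0 ∧ ν ∈ supp R Y v₂)}) :
    cj Y g '' supp R Y v₁ = supp R Y v₁ ∨ cj Y g '' supp R Y v₁ = supp R Y v₂ := by
  classical
  have hS := hSUPP
  rw [hg, hB2] at hS
  have hne : ∀ v : V, v ≠ 0 → (supp R Y v).Nonempty := by
    intro v hv
    by_contra hcon
    rw [Set.not_nonempty_iff_eq_empty] at hcon
    apply hv
    apply hPC v
    intro μ
    by_contra hμ
    have hmem : μ ∈ supp R Y v := hμ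
    rw [hcon] at hmem
    exact hmem
  have hne1 := hne v₁ h₁
  have hne2 := hne v₂ h₂
  by_cases ha : a = 0
  · by_cases hb : b = 0
    · exfalso
      obtain ⟨ν, hν⟩ := hne1
      have hmem : cj Y g ν ∈ cj Y g '' supp R Y v₁ := Set.mem_image_of_mem _ hν
      rw [← hS] at hmem
      rcases hmem with ⟨h, _⟩ | ⟨h, _⟩
      · exact h ha
      · exact h hb
    · right
      rw [← hS]
      ext ν
      simp [ha, hb]
  · by_cases hb : b = 0
    · left
      rw [← hS]
      ext ν
      simp [ha, hb]
    · exfalso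
      have hU : cj Y g '' supp R Y v₁ = supp R Y v₁ ∪ supp R Y v₂ := by
        rw [← hS]
        ext ν
        simp [ha, hb]
      have hfin : Finite (↥Y →* Fˣ) :=
        Finite.of_injective (fun f : ↥Y →* Fˣ => (f : ↥Y → Fˣ)) DFunLike.coe_injective
      have hinj : Function.Injective (cj (F := F) Y g) := by
        intro μ ν h
        have h' := congrArg (cj Y g⁻¹) h
        rwa [← cj_mul, ← cj_mul, inv_mul_cancel, cj_one, cj_one] at h'
      have e1 : (cj Y g '' supp R Y v₁).ncard = (supp R Y v₁).ncard :=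
        Set.ncard_image_of_injective _ hinj
      have e2 : (supp R Y v₁ ∪ supp R Y v₂).ncard = (supp R Y v₁).ncard + (supp R Y v₂).ncard :=
        Set.ncard_union_eq hd (Set.toFinite _) (Set.toFinite _)
      have e3 : 0 < (supp R Y v₂).ncard := (Set.ncard_pos (Set.toFinite _)).mpr hne2
      rw [hU, e2] at e1
      omega

end Cfsg.Agent.Lib.helper81.WT
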