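import Cfsg.Agent.Lib.helper81.WTDefs
import Cfsg.Agent.Lib.helper17.WTB3core
import Cfsg.Agent.Lib.helper46.WTSUPPT
import Cfsg.Agent.Lib.helper32.WTPC
import Cfsg.Agent.Lib.helper11.WTB2

/-!
# S4414 piece B3: dichotomy for the image of the support (verbatim Skel statement)

Uses the landed pieces PC (`helper32_proj_complete`), SUPP (`helper46_supp_smul`), B2 (`supp_comb`)
and the core `h17_image_dichotomy_core`.
-/

set_option autoImplicit false

namespace Cfsg.Agent.Lib.helper81.WT

open scoped TensorProduct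

universe u v w

/-- [B3] dichotomy for the image of the support; uses SUPP, B2, PC (card argument) -/
theorem image_dichotomy {S : Type u} [Group S] [Finite S] {F : Type w} [Field F] [Finite F] [CharP F 2]
    {V : Type v} [AddCommGroup V] [Module F V]
    (R : Representation F S V) (Y : Subgroup S) [Y.Normal] [Fintype ↥Y]
    (hYc : ∀ a b : ↥Y, a * b = b * a) [HasEnoughRootsOfUnity F (Monoid.exponent ↥Y)]
    (hodd : Odd (Fintype.card ↥Y))
    (v₁ v₂ : V) (h₁ : v₁ ≠ 0) (h₂ : v₂ ≠ 0) (hd : Disjoint (supp R Y v₁) (supp R Y v₂))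
    (g : S) (a b : F) (hg : R g v₁ = a • v₁ + b • v₂) :
    cj Y g '' supp R Y v₁ = supp R Y v₁ ∨ cj Y g '' supp R Y v₁ = supp R Y v₂ :=
  h17_image_dichotomy_core R Y (fun v hv => helper32_proj_complete R Y hYc hodd v hv)
    v₁ v₂ h₁ h₂ hd g a b hg (helper46_supp_smul R Y g v₁) (supp_comb R Y v₁ v₂ hd a b)

end Cfsg.Agent.Lib.helper81.WT
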